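import Cfsg.Agent.Omega.NO1.TH.Stmt
import Cfsg.Agent.Omega.NO1.Comp.Main
import Cfsg.Agent.Omega.NO1.Field.Defs
import Cfsg.Agent.Omega.NO1.Alpha.Trick
import Cfsg.Agent.Omega.NO1.Alpha.Bridge
import Cfsg.Agent.Omega.NO1.FrPlusMain
import Cfsg.Agent.Omega.NOne.Flat.Kill

/-!
# N1, one component: from the frames `Fr S P M F` to `World`

`R : Rep S P (V1 S P) Y V T Mx`, `U = {y • R.im W_F}`.

* `world_of` : `World V U T Mx |V₁ : V₁ ∩ E_F|` (with `Field.NNOne`, `Field.K1All`);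
* `plusAt_of` : `Disj U Mx` gives `PlusAt`;
(`TH/Top.lean`: `world_of'`, `frOne_of`.)
-/

set_option autoImplicit false
set_option linter.unusedSectionVars false

namespace Cfsg.Agent.Omega.NO1.TH

open Subgroup Cfsg Cfsg.Agent.ZN Cfsg.Agent.Omega.MinPar Cfsg.Agent.Omega.Frame
open Cfsg.Agent.Omega.NO1.AB
open Cfsg.Agent.Omega.FFThm (OffM)
open Cfsg.Agent.Omega.NOne.Flat (Hyp NN)
open Cfsg.Agent.Omega.NO1.WRF.Irr
open Cfsg.Agent.Omega.NO1.Comp (FlatA)
open Cfsg.Agent.Omega.NO1.HE (dl dl_apply dl_mul dl_eq_zero exists_fn)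
open Cfsg.Agent.Omega.NOne.NearFF (c c_def)
open scoped Pointwise

universe u

/-! ### the trick -/

section trick

variable {Y : Type u} [Group Y] {V : Type u} [AddCommGroup V] [DistribMulAction Y V]

/-- **(TR)**, abstract form. -/
theorem tr_gen [Finite Y] [Finite V] (h2 : ∀ v : V, v + v = 0) {A₁ : Subgroup Y} {f : V}
    (hsq : ∀ s ∈ A₁, s * s = 1) (hf : ∀ s ∈ A₁, dl s f = 0) (h1 : ∀ s ∈ A₁, s ≠ 1 → ∃ w, dl s w = f)
    (hq : ∀ s ∈ A₁, ∀ t ∈ A₁, ∀ v : V, dl s (dl t v) = 0) {E' : AddSubgroup V}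
    (hE : ∀ s ∈ A₁, ∀ v ∈ E', s • v ∈ E') (hi : E'.index < 2 * Nat.card A₁) : f ∈ E' := by
  classical
  by_contra hfE
  obtain ⟨ψ, hψ, hψf⟩ := exists_fn h2 E' hfE
  have hQ : ∀ z : V ⧸ E', z + z = 0 := by
    intro z
    induction z using QuotientAddGroup.induction_on with
    | _ v => rw [← QuotientAddGroup.mk_add, h2, QuotientAddGroup.mk_zero]
  let D := (V ⧸ E') →+ ZMod 2
  have iD : Finite D := Finite.of_injective _ DFunLike.coe_injective
  -- evaluation at `f`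
  let ev : D →+ ZMod 2 := AddMonoidHom.mk' (fun g => g ((f : V) : V ⧸ E')) (fun g g' => rfl)
  let K : AddSubgroup D := ev.ker
  have hK : K ≠ ⊤ := by
    intro h
    let ψ' : D := QuotientAddGroup.lift E' ψ hψ
    have h3 : ψ' ∈ K := h ▸ AddSubgroup.mem_top _
    exact hψf h3
  -- the map
  have hlift : ∀ s : A₁, ∀ e ∈ E', (ψ.comp (dl (s : Y))) e = 0 := by
    intro s e he
    change ψ (dl (s : Y) e) = 0
    exact hψ _ (E'.add_mem (hE s s.2 e he) he)
  let η : A₁ → D := fun s => QuotientAddGroup.lift E' (ψ.comp (dl (s : Y))) (hlift s)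
  have hη : ∀ (s : A₁) (v : V), η s (v : V ⧸ E') = ψ (dl (s : Y) v) := fun _ _ => rfl
  have hηK : ∀ s : A₁, η s ∈ K := by
    intro s
    change η s (f : V ⧸ E') = 0
    rw [hη, hf s s.2, map_zero]
  have hinj : Function.Injective (fun s : A₁ => (⟨η s, hηK s⟩ : K)) := by
    intro s t hst
    have h3 : η s = η t := congrArg Subtype.val hst
    by_contra hne
    have h4 : (t : Y) * s ≠ 1 := by
      intro h5
      apply hne
      apply Subtype.ext
      have h6 := hsq t t.2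
      exact mul_left_cancel (h5.trans h6.symm)
    obtain ⟨w, hw⟩ := h1 _ (A₁.mul_mem t.2 s.2) h4
    have h6 : ψ f = 0 := by
      rw [← hw, dl_mul h2, hq t t.2 s s.2, add_zero, map_add, ← hη, ← hη, h3]
      exact CharTwo.add_self_eq_zero _
    exact hψf h6
  have c1 := Nat.card_le_card_of_injective _ hinj
  have c2 : K.index * Nat.card K = Nat.card D := AddSubgroup.index_mul_card K
  have c3 : Nat.card D = E'.index := Alpha.card_dual' hQ
  have c4 : 2 ≤ K.index := by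
    have h5 : K.index ≠ 0 := AddSubgroup.index_ne_zero_of_finite
    have h6 : K.index ≠ 1 := fun h => hK (AddSubgroup.index_eq_one.1 h)
    omega
  have c5 : 2 * Nat.card K ≤ K.index * Nat.card K := Nat.mul_le_mul_right _ c4
  omega

end trick

/-! ### conjugation -/

section conj

variable {Y : Type u} [Group Y] {V : Type u} [AddCommGroup V] [DistribMulAction Y V]

theorem mem_fx_conj {B : Subgroup Y} {g : Y} {v : V} : v ∈ fx V (MulAut.conj g • B) ↔ g⁻¹ • v ∈ fx V B := by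
  rw [fx_conj, AddSubgroup.mem_pointwise_smul_iff_inv_smul_mem]

theorem mem_Ee_conj {B : Subgroup Y} {g : Y} {v : V} : v ∈ Ee V (MulAut.conj g • B) ↔ g⁻¹ • v ∈ Ee V B := by
  rw [Ee_conj, AddSubgroup.mem_pointwise_smul_iff_inv_smul_mem]

theorem conj_dl (g b : Y) (v : V) : g⁻¹ • ((g * b * g⁻¹) • v + v) = b • (g⁻¹ • v) + g⁻¹ • v := by
  rw [smul_add, ← mul_smul, ← mul_smul]
  congr 2
  group

theorem index_smul_as [Finite V] (g : Y) (W : AddSubgroup V) : (g • W).index = W.index := by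
  have h1 := (g • W).card_mul_index
  rw [← W.card_mul_index, card_smul_as] at h1
  exact Nat.eq_of_mul_eq_mul_left Nat.card_pos h1

theorem Mem.smul' {B : Subgroup Y} (h : Mem B (Ee V B) (fx V B)) (g : Y) :
    Mem (MulAut.conj g • B) (Ee V (MulAut.conj g • B)) (fx V (MulAut.conj g • B)) where
  comm := by
    intro b hb c hc
    obtain ⟨b, hb', rfl⟩ := Alpha.mem_conj'.1 hb
    obtain ⟨c, hc', rfl⟩ := Alpha.mem_conj'.1 hc
    calc g * b * g⁻¹ * (g * c * g⁻¹) = g * (b * c) * g⁻¹ := by group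
      _ = g * (c * b) * g⁻¹ := by rw [h.comm b hb' c hc']
      _ = _ := by group
  sq := by
    intro b hb
    obtain ⟨b, hb', rfl⟩ := Alpha.mem_conj'.1 hb
    calc g * b * g⁻¹ * (g * b * g⁻¹) = g * (b * b) * g⁻¹ := by group
      _ = 1 := by rw [h.sq b hb']; group
  FE := by
    intro v hv
    rw [mem_Ee_conj]
    exact h.FE (mem_fx_conj.1 hv)
  VB := by
    intro b hb v
    obtain ⟨b, hb', rfl⟩ := Alpha.mem_conj'.1 hb
    rw [mem_Ee_conj, conj_dl]
    exact h.VB b hb' _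
  EB := by
    intro b hb v hv
    obtain ⟨b, hb', rfl⟩ := Alpha.mem_conj'.1 hb
    rw [mem_fx_conj, conj_dl]
    exact h.EB b hb' _ (mem_Ee_conj.1 hv)
  FB := fun b hb f hf => hf b hb
  CB := fun v hv => hv
  inj := by
    intro w hw b hb hd
    obtain ⟨b, hb', rfl⟩ := Alpha.mem_conj'.1 hb
    rw [mem_fx_conj, conj_dl] at hd
    rw [h.inj _ (fun h1 => hw (mem_Ee_conj.2 h1)) b hb' hd]
    group
  surj := by
    intro w hw e he
    obtain ⟨b, hb, h1⟩ := h.surj (g⁻¹ • w) (fun h1 => hw (mem_Ee_conj.2 h1)) _ (mem_Ee_conj.1 he)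
    refine ⟨g * b * g⁻¹, Alpha.mem_conj'.2 ⟨b, hb, rfl⟩, ?_⟩
    rw [mem_fx_conj, smul_add, conj_dl]
    exact h1
  ne := by
    obtain ⟨v, hv⟩ := h.ne
    refine ⟨g • v, fun h1 => hv ?_⟩
    rw [mem_Ee_conj, inv_smul_smul] at h1
    exact h1

/-- (MU) for the conjugates -/
theorem mu_smul [Finite V] {B : Subgroup Y}
    (h : ∀ A₀ ≤ B, Nat.card A₀ * Nat.card ↥(fx V A₀ ⊓ Ee V B) ≤ Nat.card (Ee V B)) (g : Y) :
    ∀ A₀ ≤ MulAut.conj g • B,
      Nat.card A₀ * Nat.card ↥(fx V A₀ ⊓ Ee V (MulAut.conj g • B)) ≤ Nat.card (Ee V (MulAut.conj g • B)) := by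
  intro A₀ hA
  have h1 : MulAut.conj g⁻¹ • A₀ ≤ B := by
    rw [conj_le_iff, inv_inv]
    exact hA
  have h2 := h _ h1
  have h3 : fx V A₀ ⊓ Ee V (MulAut.conj g • B) = g • (fx V (MulAut.conj g⁻¹ • A₀) ⊓ Ee V B) := by
    ext v
    rw [AddSubgroup.mem_pointwise_smul_iff_inv_smul_mem, AddSubgroup.mem_inf, AddSubgroup.mem_inf, mem_Ee_conj,
      mem_fx_conj, inv_inv, smul_inv_smul]
  rw [h3, card_smul_as, Ee_conj, card_smul_as, ← conj_card g⁻¹ A₀]
  exact h2

theorem Line.smul [Finite V] {B : Subgroup Y} {x : V} {A₁ : Subgroup Y} (h : Line V B x A₁) (g : Y) :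
    Line V (MulAut.conj g • B) (g • x) (MulAut.conj g • A₁) where
  le := conj_le_conj g h.le
  card := by
    rw [conj_card, Ee_conj, index_smul_as]
    exact h.card
  fix := by
    intro s hs
    obtain ⟨a, ha, rfl⟩ := Alpha.mem_conj'.1 hs
    rw [mul_smul, mul_smul, inv_smul_smul, h.fix a ha]
  quad := by
    intro s hs r hr v
    obtain ⟨a, ha, rfl⟩ := Alpha.mem_conj'.1 hs
    obtain ⟨b, hb, rfl⟩ := Alpha.mem_conj'.1 hr
    have h1 := congrArg (fun w => g • w) (h.quad a ha b hb (g⁻¹ • v))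
    simp only [smul_add, smul_zero, smul_inv_smul] at h1
    simp only [mul_smul, inv_smul_smul]
    exact h1
  tr := by
    intro E' hE hi b hb
    obtain ⟨b, hb', rfl⟩ := Alpha.mem_conj'.1 hb
    have h1 := h.tr (g⁻¹ • E') ?_ (by rw [index_smul_as, ← conj_card g A₁]; exact hi) b hb'
    · rw [AddSubgroup.mem_pointwise_smul_iff_inv_smul_mem, inv_inv, smul_add] at h1
      rw [mul_smul, mul_smul, inv_smul_smul]
      exact h1
    · intro s hs v hv
      rw [AddSubgroup.mem_pointwise_smul_iff_inv_smul_mem, inv_inv] at hv ⊢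
      have h2 := hE _ (conj_mem_conj (g := g) hs) _ hv
      rw [mul_smul, mul_smul, inv_smul_smul] at h2
      exact h2

/-- SOC for the conjugates -/
theorem soc_smul {B : Subgroup Y}
    (h : ∀ X : Subgroup Y, B ≤ X → (∃ v : V, v ≠ 0 ∧ ∀ x ∈ X, x • v = v) → B ⊓ ZN.o2 X ≠ ⊥) (g : Y) :
    ∀ X : Subgroup Y, MulAut.conj g • B ≤ X → (∃ v : V, v ≠ 0 ∧ ∀ x ∈ X, x • v = v) →
      MulAut.conj g • B ⊓ ZN.o2 X ≠ ⊥ := by
  rintro X hX ⟨v, hv, hfix⟩ h0
  have h1 : B ≤ MulAut.conj g⁻¹ • X := by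
    rw [← conj_le_iff]
    exact hX
  refine h _ h1 ⟨g⁻¹ • v, fun h2 => hv ?_, ?_⟩ ?_
  · rw [← smul_inv_smul g v, h2, smul_zero]
  · intro k hk
    rw [mem_conj, inv_inv] at hk
    have h3 := hfix _ hk
    rw [mul_smul, mul_smul, ← eq_inv_smul_iff] at h3
    exact h3
  · rw [eq_bot_iff]
    intro b hb
    have h3 : g * b * g⁻¹ ∈ MulAut.conj g • B ⊓ ZN.o2 X := by
      refine ⟨Alpha.mem_conj'.2 ⟨b, hb.1, rfl⟩, ?_⟩
      have h4 : MulAut.conj g • ZN.o2 (MulAut.conj g⁻¹ • X) = ZN.o2 X := by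
        rw [NOne.Flat.o2_conj, ← mul_smul, ← map_mul, mul_inv_cancel, map_one, one_smul]
      rw [← h4]
      exact Alpha.mem_conj'.2 ⟨b, hb.2, rfl⟩
    rw [h0, mem_bot] at h3
    rw [mem_bot]
    have e : b = g⁻¹ * (g * b * g⁻¹) * g := by group
    rw [e, h3]
    group

end conj

/-! ### the members on `V₁` -/

section fr

variable {G : Type u} [Group G] [Finite G] {S : Sylow 2 G} {P M F : Subgroup G} (h : Fr S P M F)
include h

local notation "VV" => zl (S : Subgroup G) M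
local notation "EF" => NOne.Flat.EE (zl (S : Subgroup G) M) F
local notation "WF" => NOne.Flat.WW (zl (S : Subgroup G) M) F

theorem V1_le_VV : V1 S P ≤ VV := h.fdat.V1_le.trans h.VP_le

theorem W_le_P : WF ≤ P := h.W_le_S.trans h.cfg.S_le

theorem W_norm_V1 : WF ≤ normalizer (V1 S P : Set G) := (W_le_P h).trans h.fdat.P_norm_V1

theorem V1_not : ¬ V1 S P ≤ EF := hyp_not_V1 h.hyp h.cfg h.VP_le h.W_le_S h.not_le

theorem exists_w1 : ∃ w ∈ V1 S P, w ∉ EF := SetLike.not_le_iff_exists.1 (V1_not h)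

variable {Y V : Type u} [Group Y] [AddCommGroup V] [DistribMulAction Y V] {T : Sylow 2 Y}
  {Mx : Subgroup Y} (R : Rep (S : Subgroup G) P (V1 S P) Y V T Mx)

theorem flatA : FlatA (R.im WF) (R.ag (V1 S P ⊓ EF)) (R.ag (V1 S P ⊓ F)) :=
  R.flatA (flat_of_hyp h.hyp (V1_le_VV h) (W_norm_V1 h) (V1_not h)) (W_le_P h)

theorem fx_im : fx V (R.im WF) = R.ag (V1 S P ⊓ F) := by
  ext v
  exact ((flatA h R).F_iff v).symm

omit h in
theorem el_dl {s : G} (hs : s ∈ P) (m : V) : R.el (dl (R.ac ⟨s, hs⟩) m) = c (R.el m) s := by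
  rw [dl_apply, add_comm, R.add, R.smul, c_def]
  have h1 : (R.el m)⁻¹ = R.el m := R.el_inv m
  rw [h1]
  group

theorem Ee_im : Ee V (R.im WF) = R.ag (V1 S P ⊓ EF) := by
  have hf := flatA h R
  ext v
  rw [mem_Ee, fx_im h R]
  constructor
  · intro hv
    by_contra hvE
    obtain ⟨e, he, heF⟩ := SetLike.not_le_iff_exists.1 hf.ne
    obtain ⟨u, hu, h1⟩ := hf.reg v hvE e he
    apply heF
    have h2 := (R.ag (V1 S P ⊓ F)).sub_mem h1 (hv u hu)
    rwa [add_sub_cancel_left] at h2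
  · intro hv b hb
    exact hf.EF b hb v hv

/-- the image of `W_F` is a member -/
theorem mem_im (hN : NN VV F ≤ centralizer (VV : Set G)) :
    Mem (R.im WF) (Ee V (R.im WF)) (fx V (R.im WF)) := by
  have hf := flatA h R
  have H := h.hyp
  refine ⟨?_, ?_, ?_, ?_, ?_, fun b hb f hf => hf b hb, fun v hv => hv, ?_, ?_, ?_⟩
  · intro b hb b' hb'
    refine inv_mul_eq_one.1 (R.faith _ fun m => ?_) |>.symm
    rw [mul_smul, mul_smul b b', hf.ab b hb b' hb', ← mul_smul b' b, inv_smul_smul]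
  · intro b hb
    refine R.faith _ fun m => ?_
    rw [mul_smul, hf.inv b hb]
  · rw [Ee_im h R, fx_im h R]
    intro v hv
    exact ⟨hv.1, H.F_le_E hv.2⟩
  · rw [Ee_im h R]
    exact hf.VE
  · exact fun b hb v hv => hv b hb
  · intro w hw b hb hd
    rw [Ee_im h R] at hw
    rw [fx_im h R] at hd
    obtain ⟨s, hs, hsW, rfl⟩ := R.mem_im.1 hb
    have h1 : c (R.el w) s ∈ F := by
      rw [← el_dl R hs]
      exact hd.2
    have h2 := (H.c_mem_F_iff (V1_le_VV h (R.mem w)) (fun h3 => hw ⟨R.mem w, h3⟩) hsW).1 h1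
    rw [R.ac_eq_one]
    exact centralizer_le (V1_le_VV h) (hN h2)
  · rw [Ee_im h R, fx_im h R]
    exact hf.reg
  · rw [Ee_im h R]
    exact hf.ne'

/-- `|V : E_B| = |V₁ : V₁ ∩ E|` -/
theorem index_im : (Ee V (R.im WF)).index = (V1 S P ⊓ EF).relIndex (V1 S P) := by
  have := R.finite
  rw [Ee_im h R]
  have h1 := (R.ag (V1 S P ⊓ EF)).card_mul_index
  rw [R.card_M, R.card_ag inf_le_left, ← NOne.Flat.card_mul_relIndex' (inf_le_left : V1 S P ⊓ EF ≤ V1 S P)] at h1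
  exact Nat.eq_of_mul_eq_mul_left Nat.card_pos h1

/-- the preimage of `A` in `X ≤ P` -/
theorem exists_pre {X : Subgroup G} (hX : X ≤ P) {A : Subgroup Y} (hA : A ≤ R.im X) :
    ∃ A' : Subgroup G, A' ≤ X ∧ R.im A' = A ∧ A' ⊓ centralizer (V1 S P : Set G) = X ⊓ centralizer (V1 S P : Set G) := by
  have hmem : ∀ (a : G) (ha : a ∈ P), a ∈ (A.comap R.ac).map P.subtype ↔ R.ac ⟨a, ha⟩ ∈ A := by
    intro a ha
    constructor
    · rintro ⟨b, hb, rfl⟩
      exact hb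
    · intro h1
      exact ⟨⟨a, ha⟩, h1, rfl⟩
  refine ⟨X ⊓ (A.comap R.ac).map P.subtype, inf_le_left, ?_, ?_⟩
  · ext y
    rw [R.mem_im]
    constructor
    · rintro ⟨a, hP, ha, rfl⟩
      exact (hmem a hP).1 ha.2
    · intro hy
      obtain ⟨a, hP, ha, rfl⟩ := R.mem_im.1 (hA hy)
      exact ⟨a, hP, ⟨ha, (hmem a hP).2 hy⟩, rfl⟩
  · apply le_antisymm (inf_le_inf_right _ inf_le_left)
    rintro x ⟨hx, hxc⟩
    refine ⟨⟨hx, (hmem x (hX hx)).2 ?_⟩, hxc⟩
    rw [(R.ac_eq_one (p := ⟨x, hX hx⟩)).2 hxc]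
    exact one_mem _

omit h in
theorem card_toG (D : AddSubgroup V) : Nat.card (Comp.RepOne.toG R D) = Nat.card D := by
  symm
  refine Nat.card_congr (Equiv.ofBijective (fun m : D => (⟨R.el m, ⟨m, m.2, rfl⟩⟩ : Comp.RepOne.toG R D)) ⟨?_, ?_⟩)
  · intro a b hab
    exact Subtype.ext (R.inj (congrArg Subtype.val hab))
  · rintro ⟨_, m, hm, rfl⟩
    exact ⟨⟨m, hm⟩, rfl⟩

/-- **(MU)** -/
theorem mu_im [Finite Y] (hN : NN VV F ≤ centralizer (VV : Set G)) (A₀ : Subgroup Y) (hA : A₀ ≤ R.im WF) :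
    Nat.card A₀ * Nat.card ↥(fx V A₀ ⊓ Ee V (R.im WF)) ≤ Nat.card (Ee V (R.im WF)) := by
  have := R.finite
  have H := h.hyp
  have hWP := W_le_P h
  set D : AddSubgroup V := fx V A₀ ⊓ Ee V (R.im WF) with hD
  set DG : Subgroup G := Comp.RepOne.toG R D with hDG
  have hDE : DG ≤ EF := by
    rintro _ ⟨m, hm, rfl⟩
    have h1 : m ∈ Ee V (R.im WF) := hm.2
    rw [Ee_im h R] at h1
    exact h1.2
  have h0 := H.off_all (E0 := DG ⊔ F) le_sup_right (sup_le hDE H.F_le_E)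
  -- `|E₀ : F|`
  have hn : DG ≤ normalizer (F : Set G) :=
    (hDE.trans (inf_le_left.trans (H.comm.trans (centralizer_le H.F_le_V)))).trans (centralizer_le_normalizer _)
  have h1 : F ⊓ DG = Comp.RepOne.toG R (fx V (R.im WF)) := by
    ext g
    constructor
    · rintro ⟨hg, m, hm, rfl⟩
      refine ⟨m, ?_, rfl⟩
      rw [fx_im h R]
      exact ⟨R.mem m, hg⟩
    · rintro ⟨m, hm, rfl⟩
      refine ⟨?_, m, ⟨fx_mono hA hm, (mem_im h R hN).FE hm⟩, rfl⟩
      rw [fx_im h R] at hm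
      exact hm.2
  have h2 : Nat.card D = Nat.card (fx V (R.im WF)) * F.relIndex (DG ⊔ F) := by
    have h3 := NOne.Flat.card_mul_relIndex' (inf_le_right : F ⊓ DG ≤ DG)
    rw [h1, card_toG, card_toG, ← h1, inf_relIndex_right] at h3
    rw [relIndex_sup_of_norm hn]
    exact h3.symm
  -- `|W : C_W(E₀)|`
  obtain ⟨A', hA'W, hA'1, hA'2⟩ := exists_pre h R hWP hA
  have h3 : A' ≤ centralizer ((DG ⊔ F : Subgroup G) : Set G) := by
    rw [Subgroup.le_centralizer_iff]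
    refine sup_le ?_ ?_
    · rintro _ ⟨m, hm, rfl⟩
      have h4 : ∀ a ∈ R.im A', a • m = m := by
        rw [hA'1]
        exact fun a ha => hm.1 a ha
      rw [mem_centralizer_iff]
      intro a ha
      exact (R.fx_im (hA'W.trans hWP)).1 h4 a ha
    · rw [← Subgroup.le_centralizer_iff]
      exact hA'W.trans NOne.Flat.Hyp.W_le_X
  have h4 : (centralizer ((DG ⊔ F : Subgroup G) : Set G)).relIndex WF ≤ A'.relIndex WF :=
    relIndex_le_of_le_left h3 Subgroup.index_ne_zero_of_finite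
  have h5 := NOne.Flat.card_mul_relIndex' hA'W
  have h6 := R.card_im hWP
  have h7 := R.card_im (hA'W.trans hWP)
  rw [hA'1, hA'2] at h7
  rw [← h7, ← h6] at h5
  have h8 : Nat.card A₀ * A'.relIndex WF = Nat.card (R.im WF) := by
    apply Nat.eq_of_mul_eq_mul_right (Nat.card_pos (α := ↥(WF ⊓ centralizer (V1 S P : Set G))))
    rw [← h5]
    ring
  have h9 := (mem_im h R hN).card_E R.two
  calc Nat.card A₀ * Nat.card D = Nat.card (fx V (R.im WF)) * (Nat.card A₀ * F.relIndex (DG ⊔ F)) := by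
        rw [h2]; ring
    _ ≤ Nat.card (fx V (R.im WF)) * (Nat.card A₀ * A'.relIndex WF) :=
        Nat.mul_le_mul_left _ (Nat.mul_le_mul_left _ (h0.trans h4))
    _ = Nat.card (Ee V (R.im WF)) := by rw [h8, h9]

/-- SOC -/
theorem soc_im1 (K : Subgroup Y) (hK : R.im WF ≤ K) (hv : ∃ v : V, v ≠ 0 ∧ ∀ k ∈ K, k • v = v) :
    R.im WF ⊓ o2 K ≠ ⊥ := by
  obtain ⟨v, hv, hfix⟩ := hv
  have H := h.hyp
  have hWP := W_le_P h
  set L : Subgroup G := (K.comap R.ac).map P.subtype with hL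
  have hWL : WF ≤ L := fun s hs => ⟨⟨s, hWP hs⟩, hK ⟨⟨s, hWP hs⟩, hs, rfl⟩, rfl⟩
  have hu1 : R.el v ≠ 1 := fun h1 => hv (R.el_eq_one.1 h1)
  have huL : R.el v ∈ centralizer (L : Set G) := by
    rw [mem_centralizer_iff]
    rintro _ ⟨p, hp, rfl⟩
    have h1 := R.smul p v
    rw [hfix _ hp] at h1
    change (p : G) * R.el v = R.el v * p
    calc (p : G) * R.el v = (p * R.el v * (p : G)⁻¹) * p := by group
      _ = R.el v * p := by rw [← h1]
  obtain ⟨-, U, hU, -, hUL⟩ := H.qc hWL (V1_le_VV h (R.mem v)) hu1 huL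
    (Alpha.hc_elem h _ (V1_le_VV h (R.mem v)) hu1)
  have h1 : ¬ U ≤ centralizer (V1 S P : Set G) := by
    intro h1
    apply V1_not h
    exact (le_inf (V1_le_VV h) (Subgroup.le_centralizer_iff.1 h1)).trans hU.cent_V
  obtain ⟨s, hs, hsV⟩ := SetLike.not_le_iff_exists.1 h1
  have hsW := hU.le_W hs
  intro h0
  have h2 : R.ac ⟨s, hWP hsW⟩ ∈ R.im WF ⊓ o2 K := by
    refine ⟨R.mem_im.2 ⟨s, hWP hsW, hsW, rfl⟩, ?_⟩
    have h3 : R.im (o2 L) ≤ o2 K := by
      refine ZN.le_o2 ?_ (R.im_isPGroup (MinSimple.VModule.o2_isPGroup L)) ?_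
      · intro y hy
        obtain ⟨p, hP, hp, rfl⟩ := R.mem_im.1 hy
        obtain ⟨p', hp', hpp⟩ := ZN.o2_le L hp
        have e : p' = ⟨p, hP⟩ := Subtype.ext hpp
        rw [← e]
        exact hp'
      · have key : ∀ k ∈ K, ∀ y ∈ R.im (o2 L), k * y * k⁻¹ ∈ R.im (o2 L) := by
          intro k hk y hy
          obtain ⟨p, rfl⟩ := R.acs k
          obtain ⟨x, hxP, hx, rfl⟩ := R.mem_im.1 hy
          have hpL : (p : G) ∈ L := ⟨p, hk, rfl⟩
          refine R.mem_im.2 ⟨p * x * (p : G)⁻¹, P.mul_mem (P.mul_mem p.2 hxP) (P.inv_mem p.2),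
            (mem_normalizer_iff.1 (ZN.le_normalizer_o2 L hpL) x).1 hx, ?_⟩
          rw [← map_inv, ← map_mul, ← map_mul]
          rfl
        intro k hk
        rw [mem_normalizer_iff]
        intro y
        refine ⟨key k hk y, fun h4 => ?_⟩
        have h5 := key k⁻¹ (K.inv_mem hk) _ h4
        have e : k⁻¹ * (k * y * k⁻¹) * k⁻¹⁻¹ = y := by group
        rwa [e] at h5
    exact h3 (R.mem_im.2 ⟨s, hWP hsW, hUL hs, rfl⟩)
  rw [h0, mem_bot, R.ac_eq_one] at h2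
  exact hsV h2

/-- the lines -/
theorem line_im [Finite Y] (hN : NN VV F ≤ centralizer (VV : Set G)) (hK : Field.K1All.{u}) (x : V)
    (hx : x ∈ Ee V (R.im WF)) (hxF : x ∉ fx V (R.im WF)) : ∃ A₁ : Subgroup Y, Line V (R.im WF) x A₁ := by
  have := R.finite
  have H := h.hyp
  have hWP := W_le_P h
  have hE : R.el x ∈ EF := by
    rw [Ee_im h R] at hx
    exact hx.2
  have hF : R.el x ∉ F := by
    intro h1
    apply hxF
    rw [fx_im h R]
    exact ⟨R.mem x, h1⟩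
  obtain ⟨A₁, hA⟩ := hK G VV F h.hypF (R.el x) hE hF
  have hAP : A₁ ≤ P := hA.AW.trans hWP
  have hm := mem_im h R hN
  -- `[x, s] = 1` for `s ∈ A₁`
  have hquad : ∀ s ∈ R.im A₁, ∀ t ∈ R.im A₁, ∀ v : V, dl s (dl t v) = 0 := by
    intro s hs t ht v
    obtain ⟨s, hsP, hsA, rfl⟩ := R.mem_im.1 hs
    obtain ⟨t, htP, htA, rfl⟩ := R.mem_im.1 ht
    apply R.inj
    rw [el_dl, el_dl, R.el_zero]
    exact hA.quad _ (V1_le_VV h (R.mem v)) t htA s hsA
  -- `[x, A₁] = 1`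
  have hfix : ∀ t ∈ A₁, c (R.el x) t = 1 := by
    have h1 : ∃ s ∈ A₁, s ∉ NN VV F := by
      by_contra hcon
      push Not at hcon
      have h2 := relIndex_eq_one.2 hcon
      rw [hA.card, relIndex_eq_one] at h2
      obtain ⟨w, hw, hwE⟩ := exists_w1 h
      exact hwE (h2 (V1_le_VV h hw))
    obtain ⟨s, hs, hsN⟩ := h1
    obtain ⟨w, hw, -, h2⟩ := hA.ex s hs hsN
    intro t ht
    have h3 : R.el x = c w s * ((c w s)⁻¹ * R.el x) := by group
    rw [h3, H.c_mul_left (H.c_memV hw (hA.AW hs)) (H.F_le_V h2) (hA.AW ht), hA.quad w hw s hs t ht, one_mul]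
    exact NOne.Flat.Hyp.c_F h2 (hA.AW ht)
  -- `C_{A₁}(V₁) = N`
  have hker : ∀ s ∈ A₁, s ∈ centralizer (V1 S P : Set G) ↔ s ∈ NN VV F := by
    intro s hs
    constructor
    · intro h1
      obtain ⟨w, hw, hwE⟩ := exists_w1 h
      rw [← H.c_mem_F_iff (V1_le_VV h hw) hwE (hA.AW hs), c_def, mem_centralizer_iff.1 h1 w hw]
      have e : s * w * w⁻¹ * s⁻¹ = 1 := by group
      rw [e]
      exact one_mem _
    · intro h1
      exact centralizer_le (V1_le_VV h) (hN h1)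
  have hle : R.im A₁ ≤ R.im WF := by
    intro y hy
    obtain ⟨s, hsP, hs, rfl⟩ := R.mem_im.1 hy
    exact R.mem_im.2 ⟨s, hsP, hA.AW hs, rfl⟩
  have hcard : Nat.card (R.im A₁) = (EF).relIndex VV := by
    have h1 := R.card_im hAP
    have h2 : A₁ ⊓ centralizer (V1 S P : Set G) = NN VV F := by
      ext s
      constructor
      · rintro ⟨hs, hs'⟩
        exact (hker s hs).1 hs'
      · intro hs
        exact ⟨hA.NA hs, (hker s (hA.NA hs)).2 hs⟩
    have h3 := NOne.Flat.card_mul_relIndex' hA.NA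
    rw [h2, ← h3, mul_comm, hA.card] at h1
    exact Nat.eq_of_mul_eq_mul_left Nat.card_pos h1
  refine ⟨R.im A₁, hle, ?_, ?_, ?_, ?_⟩
  · rw [hcard, index_im h R]
    exact hyp_index_le H (V1_le_VV h)
  · intro s hs
    obtain ⟨s, hsP, hsA, rfl⟩ := R.mem_im.1 hs
    rw [← dl_eq_zero R.two]
    apply R.inj
    rw [el_dl, R.el_zero]
    exact hfix s hsA
  · intro s hs r hr v
    have h1 := hquad s hs r hr v
    simp only [dl_apply, smul_add] at h1
    rw [← h1]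
    abel
  · intro E' hE' hi b hb
    change dl b x ∈ E'
    refine tr_gen R.two (A₁ := R.im A₁) (fun s hs => hm.sq s (hle hs)) ?_ ?_ hquad hE' hi
    · intro s hs
      rw [dl_eq_zero R.two]
      exact hm.EB b hb x hx s (hle hs)
    · intro s hs hs1
      obtain ⟨s, hsP, hsA, rfl⟩ := R.mem_im.1 hs
      obtain ⟨b, hbP, hbW, rfl⟩ := R.mem_im.1 hb
      have hsW := hA.AW hsA
      have hsN : s ∉ NN VV F := fun h1 => hs1 (R.ac_eq_one.2 ((hker s hsA).2 h1))
      obtain ⟨w, hw, hwE, h2⟩ := hA.ex s hsA hsN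
      obtain ⟨u, hu, huE⟩ := exists_w1 h
      have huV := V1_le_VV h hu
      obtain ⟨r, hr, h3⟩ := H.surj huV huE (H.c_memE hw hbW)
      have h4 : c u r ∈ V1 S P := by
        have h5 := (mem_normalizer_iff.mp (W_norm_V1 h hr) u⁻¹).mp (inv_mem hu)
        have e : c u r = u * (r * u⁻¹ * r⁻¹) := by rw [c_def]; group
        rw [e]
        exact mul_mem hu h5
      obtain ⟨m, hm1⟩ := R.surj _ h4
      refine ⟨m, R.inj ?_⟩
      rw [el_dl, el_dl, hm1]
      have e1 : c u r = c u r * (c w b)⁻¹ * c w b := by group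
      have e2 : R.el x = c w s * ((c w s)⁻¹ * R.el x) := by group
      have h5 := H.c_memV hw hbW
      have h6 := H.c_memV hw hsW
      rw [e1, H.c_mul_left (H.F_le_V h3) h5 hsW, NOne.Flat.Hyp.c_F h3 hsW, one_mul, e2,
        H.c_mul_left h6 (H.F_le_V h2) hbW, NOne.Flat.Hyp.c_F h2 hbW, mul_one]
      exact H.beta_comm hw hbW hsW

/-- (PF) -/
theorem pf_im [Finite Y] (hN : NN VV F ≤ centralizer (VV : Set G)) :
    (V1 S P ⊓ EF).relIndex (V1 S P) ^ 2 ≤ Nat.card (R.im WF) := by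
  have := R.finite
  have H := h.hyp
  refine (hyp_pf H (V1_le_VV h) (W_norm_V1 h) (V1_not h)).trans (le_of_eq ?_)
  have h1 := (mem_im h R hN).card_E R.two
  rw [Ee_im h R, fx_im h R, R.card_ag inf_le_left, R.card_ag inf_le_left] at h1
  have h2 := NOne.Flat.card_mul_relIndex' (inf_le_inf_left (V1 S P) H.F_le_E : V1 S P ⊓ F ≤ V1 S P ⊓ EF)
  rw [h1] at h2
  exact Nat.eq_of_mul_eq_mul_left Nat.card_pos h2

include R in
/-- no offender in `T` -/
theorem noff_T [Finite Y] {A : Subgroup Y} (hA : A ≤ (T : Subgroup Y)) (hc : ∀ x ∈ A, ∀ y ∈ A, x * y = y * x)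
    (hs : ∀ x ∈ A, x * x = 1) (hne : A ≠ ⊥) : Nat.card A < (fx V A).index := by
  have := R.finite
  have hd := h.fdat
  have hSP := h.cfg.S_le
  have hTS : (T : Subgroup Y) = R.im S := by
    ext y
    rw [R.mem_im]
    constructor
    · intro hy
      obtain ⟨t, ht, rfl⟩ := (R.mem_T y).1 hy
      exact ⟨t, t.2, ht, rfl⟩
    · rintro ⟨t, htP, ht, rfl⟩
      exact (R.mem_T _).2 ⟨⟨t, htP⟩, ht, rfl⟩
  obtain ⟨A', hA'S, hA'1, -⟩ := exists_pre h R hSP (hTS ▸ hA)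
  have hA'P := hA'S.trans hSP
  by_contra hcon
  rw [not_lt] at hcon
  have hZ : zc (S : Subgroup G) ≤ centralizer (A' : Set G) := by
    intro z hz
    rw [mem_centralizer_iff]
    intro s hs
    exact (ChoiceBase.mem_zc.1 hz).2.2 s (hA'S hs)
  -- centralizers of `V₁` and of `V_P`
  have hcen : ∀ x ∈ (S : Subgroup G), x ∈ centralizer (V1 S P : Set G) →
      x ∈ centralizer (zl (S : Subgroup G) P : Set G) := by
    intro x hx hx1
    have h1 : zpowers x ≤ centralizer (zl (S : Subgroup G) P : Set G) := by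
      rw [Subgroup.le_centralizer_iff, ← hd.sup_eq]
      refine sup_le ?_ ?_
      · rw [Subgroup.le_centralizer_iff, zpowers_le]
        exact hx1
      · rw [Subgroup.le_centralizer_iff, zpowers_le, mem_centralizer_iff]
        intro z hz
        exact ((ChoiceBase.mem_zc.1 hz).2.2 x hx).symm
    exact h1 (mem_zpowers x)
  have hcap : A' ⊓ centralizer (zl (S : Subgroup G) P : Set G) = A' ⊓ centralizer (V1 S P : Set G) := by
    apply le_antisymm (inf_le_inf_left _ (centralizer_le hd.V1_le))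
    rintro x ⟨hx, hx1⟩
    exact ⟨hx, hcen x (hA'S hx) hx1⟩
  have hcard := R.card_im hA'P
  rw [hA'1, ← hcap] at hcard
  -- `|V_P : C(A')|`
  set N : Subgroup G := zl (S : Subgroup G) P ⊓ centralizer (A' : Set G) with hN
  have hsup : V1 S P ⊔ N = zl (S : Subgroup G) P := by
    refine le_antisymm (sup_le hd.V1_le inf_le_left) ?_
    conv_lhs => rw [← hd.sup_eq]
    exact sup_le_sup_left (le_inf h.cfg.Z_le_V hZ) _
  have hn : V1 S P ≤ normalizer (N : Set G) :=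
    (hd.V1_le.trans (h.cfg.V_comm.trans (centralizer_le inf_le_left))).trans (centralizer_le_normalizer _)
  have h1 := relIndex_sup_of_norm hn
  rw [hsup] at h1
  have h2 : V1 S P ⊓ N = Comp.RepOne.toG R (fx V A) := by
    ext g
    constructor
    · rintro ⟨hg1, hg2⟩
      obtain ⟨m, rfl⟩ := R.surj g hg1
      refine ⟨m, ?_, rfl⟩
      rw [← hA'1]
      exact (R.fx_im hA'P).2 fun a ha => mem_centralizer_iff.1 hg2.2 a ha
    · rintro ⟨m, hm, rfl⟩
      rw [← hA'1] at hm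
      exact ⟨R.mem m, hd.V1_le (R.mem m), mem_centralizer_iff.2 fun a ha => (R.fx_im hA'P).1 hm a ha⟩
  have h3 := NOne.Flat.card_mul_relIndex' (inf_le_left : V1 S P ⊓ N ≤ V1 S P)
  rw [inf_relIndex_left, ← h1, h2, card_toG] at h3
  have h4 := (fx V A).card_mul_index
  rw [R.card_M, ← h3] at h4
  have h5 : (fx V A).index = N.relIndex (zl (S : Subgroup G) P) := Nat.eq_of_mul_eq_mul_left Nat.card_pos h4
  have h6 := NOne.Flat.card_mul_relIndex' (inf_le_left : N ≤ zl (S : Subgroup G) P)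
  refine h.noff A' hA'P ⟨⟨?_, ?_⟩, ?_, ?_⟩
  · intro a ha
    have haA : R.ac ⟨a, hA'P ha⟩ ∈ A := by
      rw [← hA'1]
      exact R.mem_im.2 ⟨a, hA'P ha, ha, rfl⟩
    have h7 := hs _ haA
    rw [← map_mul] at h7
    rw [pow_two]
    exact hcen _ (mul_mem (hA'S ha) (hA'S ha)) (R.ac_eq_one.1 h7)
  · intro a ha b hb
    have haA : R.ac ⟨a, hA'P ha⟩ ∈ A := by
      rw [← hA'1]
      exact R.mem_im.2 ⟨a, hA'P ha, ha, rfl⟩
    have hbA : R.ac ⟨b, hA'P hb⟩ ∈ A := by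
      rw [← hA'1]
      exact R.mem_im.2 ⟨b, hA'P hb, hb, rfl⟩
    have h7 := hc _ haA _ hbA
    have h8 : R.ac (⟨a, hA'P ha⟩ * ⟨b, hA'P hb⟩ * ⟨a, hA'P ha⟩⁻¹ * ⟨b, hA'P hb⟩⁻¹) = 1 := by
      rw [map_mul, map_mul, map_mul, h7, map_inv, map_inv]
      group
    exact hcen _ (mul_mem (mul_mem (mul_mem (hA'S ha) (hA'S hb)) (inv_mem (hA'S ha))) (inv_mem (hA'S hb)))
      (R.ac_eq_one.1 h8)
  · intro h7
    apply hne
    rw [eq_bot_iff, ← hA'1]
    intro y hy
    obtain ⟨a, haP, ha, rfl⟩ := R.mem_im.1 hy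
    rw [mem_bot, R.ac_eq_one]
    exact centralizer_le hd.V1_le (h7 ha)
  · rw [← h6, ← hcard, ← h5]
    calc Nat.card N * (fx V A).index * Nat.card ↥(A' ⊓ centralizer (zl (S : Subgroup G) P : Set G))
        ≤ Nat.card N * Nat.card A * Nat.card ↥(A' ⊓ centralizer (zl (S : Subgroup G) P : Set G)) :=
          Nat.mul_le_mul_right _ (Nat.mul_le_mul_left _ hcon)
      _ = _ := by ring

include R in
/-- no offender -/
theorem noff_im [Finite Y] (A : Subgroup Y) (hc : ∀ x ∈ A, ∀ y ∈ A, x * y = y * x)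
    (hs : ∀ x ∈ A, x * x = 1) (hne : A ≠ ⊥) : Nat.card A < (fx V A).index := by
  have := R.finite
  have h2 : IsPGroup 2 A := by
    rintro ⟨a, ha⟩
    exact ⟨1, Subtype.ext (by
      rw [pow_one]
      change a ^ 2 = 1
      rw [pow_two, hs a ha])⟩
  obtain ⟨k, -, hk⟩ := sylow_conj T (K := ⊤) le_top h2 le_top
  have h3 : MulAut.conj k⁻¹ • A ≤ (T : Subgroup Y) := by
    intro y hy
    obtain ⟨a, ha, rfl⟩ := Alpha.mem_conj'.1 hy
    rw [inv_inv]
    exact hk a ha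
  have h4 := noff_T h R h3 ?_ ?_ ?_
  · rw [conj_card, fx_conj, index_smul_as] at h4
    exact h4
  · intro x hx y hy
    obtain ⟨a, ha, rfl⟩ := Alpha.mem_conj'.1 hx
    obtain ⟨b, hb, rfl⟩ := Alpha.mem_conj'.1 hy
    calc k⁻¹ * a * k⁻¹⁻¹ * (k⁻¹ * b * k⁻¹⁻¹) = k⁻¹ * (a * b) * k := by group
      _ = k⁻¹ * (b * a) * k := by rw [hc a ha b hb]
      _ = _ := by group
  · intro x hx
    obtain ⟨a, ha, rfl⟩ := Alpha.mem_conj'.1 hx
    calc k⁻¹ * a * k⁻¹⁻¹ * (k⁻¹ * a * k⁻¹⁻¹) = k⁻¹ * (a * a) * k := by group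
      _ = 1 := by rw [hs a ha]; group
  · intro h5
    apply hne
    rw [eq_bot_iff]
    intro a ha
    have h6 := conj_mem_conj (g := k⁻¹) ha
    rw [h5, mem_bot] at h6
    rw [mem_bot]
    have e : a = k * (k⁻¹ * a * k⁻¹⁻¹) * k⁻¹ := by group
    rw [e, h6]
    group

/-- the members -/
def mb (M F : Subgroup G) (R : Rep (S : Subgroup G) P (V1 S P) Y V T Mx) : Set (Subgroup Y) :=
  {B | ∃ y : Y, B = MulAut.conj y • R.im (NOne.Flat.WW (zl (S : Subgroup G) M) F)}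

/-- **The world.** -/
theorem world_of [Finite Y] (hNN : Field.NNOne.{u}) (hK : Field.K1All.{u})
    (hsN : ∀ A ∈ mb M F R, ∀ B ∈ mb M F R, ∀ v : V, v ≠ 0 → v ∈ AB.fx V A → v ∈ AB.fx V B →
      ∃ S' ≤ B, (V1 S P ⊓ EF).relIndex (V1 S P) ≤ Nat.card S' ∧ S' ≤ normalizer (A : Set Y) ∧
        ∀ s ∈ S', ∀ x : V, s • x + x ∈ Ee V A) :
    World V (mb M F R) T Mx ((V1 S P ⊓ EF).relIndex (V1 S P)) := by
  have := R.finite
  have hN : NN VV F ≤ centralizer (VV : Set G) := by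
    apply h.hyp.NN_le_of_NNOne
    intro n hn h1 h2
    refine (hNN G VV F h.hypF).2 n hn h1 fun e he => ?_
    rw [c_def, h2 e he]
    group
  have hm := mem_im h R hN
  exact
    { cls :=
        { two := R.two
          mem := by
            rintro _ ⟨y, rfl⟩
            exact Mem.smul' hm y
          mu := by
            rintro _ ⟨y, rfl⟩
            exact mu_smul (mu_im h R hN) y
          conj := by
            rintro _ ⟨y, rfl⟩ g
            exact ⟨g * y, by rw [map_mul, mul_smul]⟩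
          eq := by
            rintro _ ⟨y, rfl⟩ _ ⟨z, rfl⟩
            refine ⟨z * y⁻¹, ?_⟩
            rw [← mul_smul, ← map_mul, inv_mul_cancel_right] }
      TM := R.TM
      Mne := R.Mne
      max := R.max
      core := R.core
      irr := fun W hW => (Comp.RepOne.irred h.fdat R W hW).imp_right fun ht B hB hle => by
        obtain ⟨y, rfl⟩ := hB
        obtain ⟨v, hv⟩ := (Mem.smul' hm y).ne
        exact hv (hle (ht ▸ AddSubgroup.mem_top v))
      faith := R.faith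
      two_le := by
        rw [inf_relIndex_left]
        have h1 : (EF).relIndex (V1 S P) ≠ 0 := Subgroup.index_ne_zero_of_finite
        have h2 : (EF).relIndex (V1 S P) ≠ 1 := fun h2 => V1_not h (relIndex_eq_one.1 h2)
        omega
      ind := by
        rintro _ ⟨y, rfl⟩
        rw [Ee_conj, index_smul_as, index_im h R]
      pf := by
        rintro _ ⟨y, rfl⟩
        rw [conj_card]
        exact pf_im h R hN
      noff := noff_im h R
      soc := by
        rintro _ ⟨y, rfl⟩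
        exact soc_smul (soc_im1 h R) y
      socN := hsN
      line := by
        rintro _ ⟨y, rfl⟩ x hx hxF
        rw [mem_Ee_conj] at hx
        rw [mem_fx_conj] at hxF
        obtain ⟨A₁, hA⟩ := line_im h R hN hK _ hx hxF
        have h1 := hA.smul y
        rw [smul_inv_smul] at h1
        exact ⟨_, h1⟩ }

/-- images of the proper subgroups over `S` are proper -/
theorem im_le_Mx {X : Subgroup G} (hX : X ≤ P) (hSX : (S : Subgroup G) ≤ X) (hne : X ≠ P) : R.im X ≤ Mx := by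
  obtain ⟨M₀, hM₀, hM₁⟩ := h.cfg.par.toIsMinPar.exists_max
  refine R.max _ ?_ ?_
  · intro t ht
    obtain ⟨⟨s, hsP⟩, hs, rfl⟩ := (R.mem_T t).1 ht
    exact R.mem_im.2 ⟨s, hsP, hSX hs, rfl⟩
  intro htop
  -- the kernel
  have h1 : (S : Subgroup G) ⊔ (P ⊓ centralizer (V1 S P : Set G)) ≤ M₀ := by
    refine hM₁ _ le_sup_left (lt_of_le_of_ne (sup_le h.cfg.S_le inf_le_left) fun h6 => R.Mne ?_)
    rw [eq_top_iff]
    intro y _
    obtain ⟨⟨x, hx⟩, rfl⟩ := R.acs y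
    apply R.TM
    have hx' := hx
    rw [← h6] at hx'
    have h7 : ((S : Subgroup G) ⊔ (P ⊓ centralizer (V1 S P : Set G))).subgroupOf P ≤
        (T : Subgroup Y).comap R.ac := by
      have e1 : ((S : Subgroup G) ⊔ (P ⊓ centralizer (V1 S P : Set G))).subgroupOf P =
          (S : Subgroup G).subgroupOf P ⊔ (P ⊓ centralizer (V1 S P : Set G)).subgroupOf P :=
        subgroupOf_sup h.cfg.S_le inf_le_left
      rw [e1]
      refine sup_le ?_ ?_
      · intro s hs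
        exact (R.mem_T _).2 ⟨s, hs, rfl⟩
      · intro s hs
        have h8 : R.ac s = 1 := R.ac_eq_one.2 hs.2
        change R.ac s ∈ (T : Subgroup Y)
        rw [h8]
        exact one_mem _
    exact h7 (show (⟨x, hx⟩ : P) ∈ _ from hx')
  have h2 : X ≤ M₀ := hM₁ _ hSX (lt_of_le_of_ne hX hne)
  apply hM₀.not_ge
  intro x hx
  have h3 : R.ac ⟨x, hx⟩ ∈ R.im X := by rw [htop]; exact mem_top _
  obtain ⟨a, haP, ha, hax⟩ := R.mem_im.1 h3
  have h6 : R.ac (⟨a, haP⟩⁻¹ * ⟨x, hx⟩) = 1 := by rw [map_mul, map_inv, hax, inv_mul_cancel]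
  have h7 := R.ac_eq_one.1 h6
  have h8 : x = a * (a⁻¹ * x) := by group
  rw [h8]
  exact mul_mem (h2 ha) (h1 (le_sup_right (a := (S : Subgroup G)) (mem_inf.2 ⟨P.mul_mem (P.inv_mem haP) hx, h7⟩)))

/-- **`Disj` is (+).** -/
theorem plusAt_of [Finite Y] (hd : Disj (mb M F R) Mx) : PlusAt (S : Subgroup G) P EF := by
  intro p hp z hz hz1 hzE htop
  have H := h.hyp
  have hWP := W_le_P h
  have hfd := h.fdat
  -- `s ∈ W` with `s ∈ C(z^p)`, `s ∉ C(V₁)`
  have hs : ∀ x ∈ EF, ∃ s ∈ WF, s ∉ centralizer (V1 S P : Set G) ∧ s * x = x * s := by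
    intro x hx
    by_cases hF : x ∈ F
    · obtain ⟨s, hs, hs1⟩ := SetLike.not_le_iff_exists.1 hfd.W_not_le1
      exact ⟨s, hs, hs1, (mem_centralizer_iff.1 (NOne.Flat.Hyp.W_le_X hs) _ hF).symm⟩
    · obtain ⟨u, hu, huE⟩ := exists_w1 h
      have huV := V1_le_VV h hu
      obtain ⟨s, hs, h1⟩ := H.surj huV huE hx
      refine ⟨s, hs, ?_, ?_⟩
      · intro h2
        apply hF
        have h3 : c u s = 1 := by
          rw [c_def, mem_centralizer_iff.1 h2 u hu]; group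
        rw [h3, one_mul] at h1
        simpa using F.inv_mem h1
      · obtain ⟨f, hf⟩ : ∃ f, f = (c u s * x⁻¹)⁻¹ := ⟨_, rfl⟩
        have hfF : f ∈ F := by rw [hf]; exact F.inv_mem h1
        have h2 : x = f * c u s := by rw [hf]; group
        have h4 := H.c_comm huV hs
        have h5 := mem_centralizer_iff.1 (NOne.Flat.Hyp.W_le_X hs) _ hfF
        rw [h2, ← mul_assoc, ← h5, mul_assoc, ← h4, mul_assoc]
  obtain ⟨s, hsW, hsC, hsz⟩ := hs _ hzE
  -- `C_P(z)`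
  have hX : R.im (P ⊓ centralizer ({z} : Set G)) ≤ Mx := by
    refine im_le_Mx h R inf_le_left (le_inf h.cfg.S_le fun t ht => ?_) ?_
    · rw [mem_centralizer_singleton_iff]
      exact ((ChoiceBase.mem_zc.1 hz).2.2 t ht)
    · intro h1
      apply hz1
      apply hfd.cv (h.cfg.Z_le_V hz)
      intro g hg
      rw [← h1] at hg
      rw [mem_centralizer_singleton_iff.1 hg.2, mul_inv_cancel_right]
  have h1 : R.im WF ⊓ MulAut.conj (R.ac ⟨p, hp⟩) • Mx ≠ ⊥ := by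
    intro h0
    have h2 : R.ac ⟨s, hWP hsW⟩ ∈ R.im WF ⊓ MulAut.conj (R.ac ⟨p, hp⟩) • Mx := by
      refine mem_inf.2 ⟨R.mem_im.2 ⟨s, hWP hsW, hsW, rfl⟩, ?_⟩
      rw [mem_conj]
      apply hX
      refine R.mem_im.2 ⟨p⁻¹ * s * p, P.mul_mem (P.mul_mem (P.inv_mem hp) (hWP hsW)) hp,
        mem_inf.2 ⟨P.mul_mem (P.mul_mem (P.inv_mem hp) (hWP hsW)) hp, ?_⟩, ?_⟩
      · rw [mem_centralizer_singleton_iff]
        calc p⁻¹ * s * p * z = p⁻¹ * (s * (p * z * p⁻¹)) * p := by group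
          _ = p⁻¹ * (p * z * p⁻¹ * s) * p := by rw [hsz]
          _ = z * (p⁻¹ * s * p) := by group
      · rw [← map_inv, ← map_mul, ← map_mul]
        rfl
    rw [h0, mem_bot] at h2
    exact hsC (R.ac_eq_one.1 h2)
  have hBT : R.im WF ≤ (T : Subgroup Y) := R.im_le_T h.W_le_S
  have h2 := hd (R.im WF) ⟨1, by rw [map_one, one_smul]⟩ (hBT.trans R.TM) _ h1
  have hyM : R.ac ⟨p, hp⟩ ∈ Mx := by
    -- Frattini
    have h3 : MulAut.conj (R.ac ⟨p, hp⟩) • (T : Subgroup Y) ≤ Mx :=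
      (conj_le_conj _ R.TM).trans h2.le
    obtain ⟨k, hk, hkT⟩ := sylow_conj T R.TM (conj_isPGroup (y := R.ac ⟨p, hp⟩) T.isPGroup') h3
    -- `k⁻¹ y ∈ N(T)`
    have h4 : MulAut.conj (k⁻¹ * R.ac ⟨p, hp⟩) • (T : Subgroup Y) = T := by
      refine eq_of_le_of_card_ge ?_ (by rw [conj_card])
      rw [← conj_smul_smul]
      intro x hx
      obtain ⟨a, ha, rfl⟩ := Alpha.mem_conj'.1 hx
      rw [inv_inv]
      exact hkT a ha
    have h5 : k⁻¹ * R.ac ⟨p, hp⟩ ∈ normalizer ((T : Subgroup Y) : Set Y) := by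
      rw [mem_normalizer_iff]
      intro x
      constructor
      · intro hx
        have h6 := conj_mem_conj (g := k⁻¹ * R.ac ⟨p, hp⟩) hx
        rwa [h4] at h6
      · intro hx
        rw [← h4, mem_conj] at hx
        have e : (k⁻¹ * R.ac ⟨p, hp⟩)⁻¹ * (k⁻¹ * R.ac ⟨p, hp⟩ * x * (k⁻¹ * R.ac ⟨p, hp⟩)⁻¹) * (k⁻¹ * R.ac ⟨p, hp⟩) = x := by
          group
        rwa [e] at hx
    have h6 : normalizer ((T : Subgroup Y) : Set Y) ≤ Mx := by
      refine R.max _ le_normalizer fun h7 => ?_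
      have h8 : (T : Subgroup Y).Normal := normalizer_eq_top_iff.1 h7
      have h9 := R.core T h8 T.isPGroup'
      apply hsC
      have h10 : R.ac ⟨s, hWP hsW⟩ ∈ (T : Subgroup Y) := hBT (R.mem_im.2 ⟨s, hWP hsW, hsW, rfl⟩)
      rw [h9, mem_bot] at h10
      exact R.ac_eq_one.1 h10
    have h7 := mul_mem hk (h6 h5)
    rwa [mul_inv_cancel_left] at h7
  apply R.Mne
  rw [eq_top_iff]
  intro y _
  obtain ⟨⟨x, hx⟩, rfl⟩ := R.acs y
  have h3 : (S : Subgroup G) ⊔ zpowers p ≤ (Mx.comap R.ac).map P.subtype := by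
    refine sup_le ?_ ?_
    · intro t ht
      exact ⟨⟨t, h.cfg.S_le ht⟩, R.TM ((R.mem_T _).2 ⟨⟨t, h.cfg.S_le ht⟩, ht, rfl⟩), rfl⟩
    · rw [zpowers_le]
      exact ⟨⟨p, hp⟩, hyM, rfl⟩
  have h4 : x ∈ (Mx.comap R.ac).map P.subtype := h3 (by rw [htop]; exact hx)
  obtain ⟨x', hx', e⟩ := h4
  have e' : x' = ⟨x, hx⟩ := Subtype.ext e
  rw [← e']
  exact hx'

end fr

end Cfsg.Agent.Omega.NO1.TH
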