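import Cfsg.Agent.Omega.NO1.TH.Basic
import Cfsg.Agent.ZN.ChoiceBase
import Cfsg.Prelude.Def_Local

/-!
# N1, one component: the module-level world (CARD N1-ONE #17954, road #19584)

`World V U T M a` : `Amb V U T M`, `|V : E_B| = a ≥ 2`, (PF) `|B| ≥ a²`, no offender, SOC, (SOC-N), (TR).
`Amb.irr` is the weak form (no invariant submodule `≠ 0` in `E_B`): `World` is inherited by the `H` with `W ≰ E_B`.
All fields hold for `V = V₁ = [V_P, O²(P)]`, `Y = P / C_P(V₁)`, `U` = the conjugates of the image of `W_F`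
(`TH/OfFr.lean`).
-/

set_option autoImplicit false
set_option linter.unusedSectionVars false

namespace Cfsg.Agent.Omega.NO1.TH

open Subgroup Cfsg.Agent.Omega.NO1.AB
open scoped Pointwise

universe u

variable {Y : Type u} [Group Y] {V : Type u} [AddCommGroup V] [DistribMulAction Y V]

/-- The line of `x` in the member `B` (`F_q s_x`): `A₁ ≤ C_B(x)`, `|A₁| ≥ |V : E_B|`, quadratic on `V`, and (TR):
`[x, B] ≤ E'` for every `A₁`-invariant subgroup `E'` of index `< 2 |A₁|`. -/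
structure Line (V : Type u) [AddCommGroup V] [DistribMulAction Y V] (B : Subgroup Y) (x : V) (A₁ : Subgroup Y) :
    Prop where
  le : A₁ ≤ B
  card : (Ee V B).index ≤ Nat.card A₁
  fix : ∀ s ∈ A₁, s • x = x
  quad : ∀ s ∈ A₁, ∀ r ∈ A₁, ∀ v : V, s • r • v + s • v + r • v + v = 0
  tr : ∀ E' : AddSubgroup V, (∀ s ∈ A₁, ∀ v ∈ E', s • v ∈ E') → E'.index < 2 * Nat.card A₁ →
    ∀ b ∈ B, b • x + x ∈ E'

/-- **The world of CARD N1-ONE on `V₁`.** -/
structure World (V : Type u) [AddCommGroup V] [DistribMulAction Y V] (U : Set (Subgroup Y)) (T : Sylow 2 Y)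
    (M : Subgroup Y) (a : ℕ) : Prop extends Amb V U T M where
  two_le : 2 ≤ a
  ind : ∀ B ∈ U, (Ee V B).index = a
  /-- (PF) -/
  pf : ∀ B ∈ U, a ^ 2 ≤ Nat.card B
  /-- no offender -/
  noff : ∀ A : Subgroup Y, (∀ x ∈ A, ∀ y ∈ A, x * y = y * x) → (∀ x ∈ A, x * x = 1) → A ≠ ⊥ →
    Nat.card A < (fx V A).index
  /-- SOC -/
  soc : ∀ B ∈ U, ∀ X : Subgroup Y, B ≤ X → (∃ v : V, v ≠ 0 ∧ ∀ x ∈ X, x • v = v) → B ⊓ ZN.o2 X ≠ ⊥
  /-- (SOC-N), helper301: two members with a common fixed vector -/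
  socN : ∀ A ∈ U, ∀ B ∈ U, ∀ v : V, v ≠ 0 → v ∈ fx V A → v ∈ fx V B →
    ∃ S ≤ B, a ≤ Nat.card S ∧ S ≤ normalizer (A : Set Y) ∧ ∀ s ∈ S, ∀ x : V, s • x + x ∈ Ee V A
  /-- (TR), #19134 -/
  line : ∀ B ∈ U, ∀ x ∈ Ee V B, x ∉ fx V B → ∃ A₁ : Subgroup Y, Line V B x A₁

/-- members meet the other points trivially: this is (+) -/
def Disj (U : Set (Subgroup Y)) (M : Subgroup Y) : Prop :=
  ∀ B ∈ U, B ≤ M → ∀ y : Y, B ⊓ MulAut.conj y • M ≠ ⊥ → MulAut.conj y • M = M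

/-- SOC (5) (helper301, helper183 #22088): for `0 ≠ w ∈ C_V(B)` the group `B ∩ O₂(C_Y(w))` contains a line of `B`:
`x = [v, s]` modulo `C_V(B)` for every `v ∉ E_B` (needed for `a = 4` only: `A₉`, spin module). -/
def Soc5 (V : Type u) [AddCommGroup V] [DistribMulAction Y V] (U : Set (Subgroup Y)) : Prop :=
  ∀ B ∈ U, ∀ w : V, w ≠ 0 → w ∈ fx V B → ∃ x : V, x ∉ fx V B ∧ ∀ v : V, v ∉ Ee V B →
    ∃ s ∈ B, s ∈ ZN.o2 (MulAction.stabilizer Y w) ∧ s • v + v + x ∈ fx V B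

/-- **The module theorem of CARD N1-ONE** (target of TH/*). -/
def ModStmt : Prop :=
  ∀ (Y V : Type u) [Group Y] [Finite Y] [AddCommGroup V] [Finite V] [DistribMulAction Y V] (U : Set (Subgroup Y))
    (T : Sylow 2 Y) (M : Subgroup Y) (a : ℕ), World V U T M a → 4 ≤ a →
      (∀ W : AddSubgroup V, (∀ y : Y, ∀ w ∈ W, y • w ∈ W) → W = ⊥ ∨ W = ⊤) →
      (∀ L L' : Subgroup Y, Cfsg.IsComponent L → Cfsg.IsComponent L' → L = L') → Soc5 V U → Disj U M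

end Cfsg.Agent.Omega.NO1.TH
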