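import Cfsg.Agent.Omega.NO1.TH.Star

/-!
# N1, the amalgam `(H, H^t)`, case `k = 1` (bb OMEGA 20297, helper503): the hypotheses

`R = T_H`, `W = WW V H R`, `Q = QQ H R = C_R(W)`, `D = C_W(O²(H))`, `W₁ / D` the fixed points of the root group in
the natural module `W / D`, `P = C_R(W₁ / D)` the preimage of the root group.  Field automorphisms in `R / Q` are
allowed.  `TwoK` : both sides `H`, `H' = H^t`.
-/

set_option autoImplicit false
set_option linter.unusedSectionVars false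

namespace Cfsg.Agent.Omega.NO1.TH

open Subgroup Cfsg.Agent.Omega.NO1.AB
open scoped Pointwise

universe u

variable {Y : Type u} [Group Y]

/-- an elementary abelian subgroup -/
def ElAb (A : Subgroup Y) : Prop := (∀ a ∈ A, ∀ b ∈ A, a * b = b * a) ∧ ∀ a ∈ A, a * a = 1

/-- `W / D` is a natural `SL₂(c)`-module for `H`, `R / Q` a root group with field automorphisms. -/
structure KOne (V : Type u) [AddCommGroup V] [DistribMulAction Y V] (U : Set (Subgroup Y)) (M H R P : Subgroup Y)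
    (D W₁ : AddSubgroup V) (c : ℕ) : Prop where
  two_le : 2 ≤ c
  DW : D ≤ W₁
  W₁W : W₁ ≤ WW V H R
  D_H : ∀ x ∈ H, ∀ w ∈ D, x • w ∈ D
  W₁_R : ∀ x ∈ R, ∀ w ∈ W₁, x • w ∈ W₁
  QP : QQ H R ≤ P
  PR : P ≤ R
  mem_P : ∀ x ∈ R, (∀ w ∈ W₁, x • w + w ∈ D) → x ∈ P
  P_fix : ∀ x ∈ P, ∀ w ∈ W₁, x • w = w
  P_comm : ∀ x ∈ P, ∀ w ∈ WW V H R, x • w + w ∈ W₁
  free : ∀ x ∈ P, ∀ w ∈ WW V H R, w ∉ W₁ → x • w + w ∈ D → x ∈ QQ H R
  onto : ∀ w ∈ WW V H R, w ∉ W₁ → ∀ v ∈ W₁, ∃ x ∈ P, x • w + w + v ∈ D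
  card_W : Nat.card ↥(WW V H R) = c * Nat.card W₁
  card_W₁ : Nat.card W₁ = c * Nat.card D
  card_P : Nat.card P = c * Nat.card ↥(QQ H R)
  /-- `C_D(R) = C_V(H)` -/
  D_fix : ∀ w ∈ D, (∀ r ∈ R, r • w = w) → ∀ x ∈ H, x • w = w
  /-- the points of `W / D` -/
  opp : ∀ x ∈ H, x ∉ M → ∀ w ∈ W₁, x • w ∈ W₁ → w ∈ D
  stab : ∀ x ∈ H, x ∈ M → ∀ w ∈ W₁, x • w ∈ W₁
  /-- members -/
  cover : ∀ B ∈ U, B ≤ R → ¬ B ≤ QQ H R → B ≤ P ∧ P ≤ B ⊔ QQ H R
  /-- no over-offender; exact offenders; elementary abelian subgroups of `R / Q` -/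
  noOver : ∀ A ≤ R, ElAb A → Nat.card A * Nat.card ↥(fx V A ⊓ WW V H R) ≤
    Nat.card ↥(A ⊓ QQ H R) * Nat.card ↥(WW V H R)
  exactOff : ∀ A ≤ R, ElAb A → ¬ A ≤ QQ H R → Nat.card ↥(A ⊓ QQ H R) * Nat.card ↥(WW V H R) ≤
    Nat.card A * Nat.card ↥(fx V A ⊓ WW V H R) → A ≤ P ∧ P ≤ A ⊔ QQ H R
  ea : ∀ A ≤ R, ElAb A → Nat.card A ≤ c * Nat.card ↥(A ⊓ QQ H R)
  fld : ∀ A ≤ R, ElAb A → ¬ A ≤ P → Nat.card A = c * Nat.card ↥(A ⊓ QQ H R) →
    c = 4 ∧ ¬ A ⊓ P ≤ QQ H R ∧ Nat.card R ≤ 2 * Nat.card P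

variable {V : Type u} [AddCommGroup V] [DistribMulAction Y V]

/-! ### Transport with `t` -/

theorem conj_t_mem_QQ {H H' R : Subgroup Y} {t : Y} (htR : ∀ r ∈ R, t * r * t⁻¹ ∈ R)
    (h1 : ∀ x ∈ H', t⁻¹ * x * t ∈ H) {q : Y} (hq : q ∈ QQ H R) : t * q * t⁻¹ ∈ QQ H' R := by
  intro x hx
  have h2 := htR _ (hq _ (h1 x hx))
  have e : t * (t⁻¹ * x * t * q * (t⁻¹ * x * t)⁻¹) * t⁻¹ = x * (t * q * t⁻¹) * x⁻¹ := by group
  rwa [e] at h2

theorem QQ_conj {H R : Subgroup Y} {t : Y} (h1 : ∀ r ∈ R, t * r * t⁻¹ ∈ R) (h2 : ∀ r ∈ R, t⁻¹ * r * t ∈ R) :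
    QQ (MulAut.conj t • H) R = MulAut.conj t • QQ H R := by
  ext y
  rw [mem_conj]
  constructor
  · intro h x hx
    have h3 := h2 _ (h _ (conj_mem_conj (g := t) hx))
    have e : t⁻¹ * (t * x * t⁻¹ * y * (t * x * t⁻¹)⁻¹) * t = x * (t⁻¹ * y * t) * x⁻¹ := by group
    rwa [e] at h3
  · intro h
    have h3 := conj_t_mem_QQ (H' := MulAut.conj t • H) h1 (fun x hx => by rwa [mem_conj] at hx) h
    have e : t * (t⁻¹ * y * t) * t⁻¹ = y := by group
    rwa [e] at h3

theorem WW_conj {H R : Subgroup Y} {t : Y} (h1 : ∀ v ∈ fx V R, t • v ∈ fx V R) (h2 : ∀ v ∈ fx V R, t⁻¹ • v ∈ fx V R) :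
    WW V (MulAut.conj t • H) R = t • WW V H R := by
  apply le_antisymm
  · apply WW_le
    intro x hx w hw
    rw [mem_conj] at hx
    rw [mem_smul_as]
    have e : t⁻¹ • x • w = (t⁻¹ * x * t) • (t⁻¹ • w) := by
      rw [← mul_smul, ← mul_smul]; congr 1; group
    rw [e]
    exact smul_mem_WW hx (fx_le_WW (h2 w hw))
  · intro v hv
    rw [mem_smul_as] at hv
    have key : ∀ w ∈ WW V H R, t • w ∈ WW V (MulAut.conj t • H) R := by
      intro w hw
      induction hw using AddSubgroup.closure_induction with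
      | mem v hv =>
        obtain ⟨x, hx, w, hw, rfl⟩ := hv
        have e : t • x • w = (t * x * t⁻¹) • (t • w) := by
          rw [← mul_smul, ← mul_smul]; congr 1; group
        rw [e]
        exact smul_mem_WW (conj_mem_conj hx) (fx_le_WW (h1 w hw))
      | zero => rw [smul_zero]; exact zero_mem _
      | add a b _ _ h3 h4 => rw [smul_add]; exact add_mem h3 h4
      | neg a _ h3 => rw [smul_neg]; exact neg_mem h3
    have := key _ hv
    rwa [smul_inv_smul] at this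

/-- `(H^t, R, t)` is again an amalgam -/
theorem Amal.conj_t {U : Set (Subgroup Y)} {T : Sylow 2 Y} {M H R : Subgroup Y} {t : Y} (hc : Cls V U)
    (hTM : (T : Subgroup Y) ≤ M) (a : Amal U T M H R t) : Amal U T M (MulAut.conj t • H) R t where
  bad := a.bad.conj hc t
  RH := fun r hr => by
    rw [mem_conj]
    exact a.RH (a.symm_smul hr)
  RT := a.RT
  memR := a.memR
  le_card := a.le_card
  one := a.one
  uniq := fun X hRX hXH => by
    have h1 : MulAut.conj t⁻¹ • X ≤ M := by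
      apply a.uniq
      · intro r hr
        rw [mem_conj, inv_inv]
        exact hRX (a.t_norm r hr)
      · refine lt_of_le_of_ne ?_ ?_
        · rw [conj_le_iff, inv_inv]
          exact hXH.le
        · intro h2
          apply hXH.ne
          rw [← h2, conj_inv_smul]
    have htM : t ∈ M := hTM a.t_T
    intro y hy
    have h2 := h1 (conj_mem_conj (g := t⁻¹) hy)
    have h3 := M.mul_mem (M.mul_mem htM h2) (M.inv_mem htM)
    have e : t * (t⁻¹ * y * t⁻¹⁻¹) * t⁻¹ = y := by group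
    rwa [e] at h3
  t_T := a.t_T
  t_not := a.t_not
  t_sq := a.t_sq
  t_norm := a.t_norm
  top := by
    rw [eq_top_iff, ← a.top]
    have ht : t ∈ MulAut.conj t • H ⊔ zpowers t := mem_sup_right (mem_zpowers t)
    refine sup_le ?_ le_sup_right
    intro x hx
    have h1 : t * x * t⁻¹ ∈ MulAut.conj t • H ⊔ zpowers t := mem_sup_left (conj_mem_conj hx)
    have h2 := mul_mem (mul_mem (inv_mem ht) h1) ht
    have e : t⁻¹ * (t * x * t⁻¹) * t = x := by group
    rwa [e] at h2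

/-! ### Transport of `KOne` -/

theorem mem_conj_of_smul {A : Subgroup Y} {t x : Y} (hx : t⁻¹ * x * t ∈ A) : x ∈ MulAut.conj t • A := mem_conj.2 hx

theorem ElAb.conj {A : Subgroup Y} (h : ElAb A) (g : Y) : ElAb (MulAut.conj g • A) := by
  refine ⟨fun a ha b hb => ?_, fun a ha => ?_⟩
  · rw [mem_conj] at ha hb
    have h1 := h.1 _ ha _ hb
    have e1 : g⁻¹ * a * g * (g⁻¹ * b * g) = g⁻¹ * (a * b) * g := by group
    have e2 : g⁻¹ * b * g * (g⁻¹ * a * g) = g⁻¹ * (b * a) * g := by group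
    rw [e1, e2] at h1
    exact mul_left_cancel (mul_right_cancel h1)
  · rw [mem_conj] at ha
    have h1 := h.2 _ ha
    have e1 : g⁻¹ * a * g * (g⁻¹ * a * g) = g⁻¹ * (a * a) * g := by group
    rw [e1] at h1
    have h2 : g * (g⁻¹ * (a * a) * g) * g⁻¹ = g * 1 * g⁻¹ := by rw [h1]
    have e2 : g * (g⁻¹ * (a * a) * g) * g⁻¹ = a * a := by group
    rw [e2] at h2
    rw [h2]; group

theorem ElAb.mono {A B : Subgroup Y} (h : ElAb A) (hBA : B ≤ A) : ElAb B :=
  ⟨fun a ha b hb => h.1 a (hBA ha) b (hBA hb), fun a ha => h.2 a (hBA ha)⟩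

theorem Mem.elAb {A : Subgroup Y} {E F : AddSubgroup V} (h : Mem A E F) : ElAb A := ⟨h.comm, h.sq⟩

theorem conj_inf (g : Y) (A B : Subgroup Y) : MulAut.conj g • (A ⊓ B) = MulAut.conj g • A ⊓ MulAut.conj g • B := by
  ext y
  simp only [mem_conj, mem_inf]

theorem smul_inf_as (g : Y) (A B : AddSubgroup V) : g • (A ⊓ B) = g • A ⊓ g • B := by
  ext y
  simp only [mem_smul_as, AddSubgroup.mem_inf]

/-- the orders in `noOver` etc. after conjugation with `t⁻¹` -/
theorem card_inf_conj (t : Y) (A Q : Subgroup Y) :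
    Nat.card ↥(MulAut.conj t⁻¹ • A ⊓ Q) = Nat.card ↥(A ⊓ MulAut.conj t • Q) := by
  rw [← conj_card t (MulAut.conj t⁻¹ • A ⊓ Q), conj_inf, conj_inv_smul]

theorem card_fx_conj (t : Y) (A : Subgroup Y) (W : AddSubgroup V) :
    Nat.card ↥(fx V (MulAut.conj t⁻¹ • A) ⊓ W) = Nat.card ↥(fx V A ⊓ t • W) := by
  rw [fx_conj, ← card_smul_as t (t⁻¹ • fx V A ⊓ W), smul_inf_as, smul_smul_as, mul_inv_cancel, one_smul]

theorem conj_le_conj_iff {H K : Subgroup Y} (g : Y) : MulAut.conj g • H ≤ MulAut.conj g • K ↔ H ≤ K := by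
  constructor
  · intro h y hy
    have := h (conj_mem_conj (g := g) hy)
    rw [mem_conj] at this
    have e : g⁻¹ * (g * y * g⁻¹) * g = y := by group
    rwa [e] at this
  · exact conj_le_conj g

theorem KOne.conj_t [Finite Y] {U : Set (Subgroup Y)} {T : Sylow 2 Y} {M H R P : Subgroup Y} {D W₁ : AddSubgroup V}
    {c : ℕ} {t : Y} (amb : Amb V U T M) (a : Amal U T M H R t) (k : KOne V U M H R P D W₁ c) :
    KOne V U M (MulAut.conj t • H) R (MulAut.conj t • P) (t • D) (t • W₁) c := by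
  have hQ : QQ (MulAut.conj t • H) R = MulAut.conj t • QQ H R := QQ_conj a.t_norm fun r hr => a.symm_smul hr
  have hW : WW V (MulAut.conj t • H) R = t • WW V H R := WW_conj (fun v => a.smul_V0) fun v => a.smul_V0'
  have htM : t ∈ M := amb.TM a.t_T
  have hsm : ∀ {x : Y} {v : V}, t⁻¹ • x • v = (t⁻¹ * x * t) • t⁻¹ • v := by
    intro x v
    rw [← mul_smul, ← mul_smul]; congr 1; group
  have hRR : MulAut.conj t⁻¹ • R ≤ R := by
    intro y hy
    rw [mem_conj, inv_inv] at hy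
    have h1 := a.symm_smul hy
    have e : t⁻¹ * (t * y * t⁻¹) * t = y := by group
    rwa [e] at h1
  have hRt : MulAut.conj t • R = R := by
    apply eq_of_le_of_card_ge
    · intro y hy
      rw [mem_conj] at hy
      have h1 := a.t_norm _ hy
      have e : t * (t⁻¹ * y * t) * t⁻¹ = y := by group
      rwa [e] at h1
    · rw [conj_card]
  have hA : ∀ A : Subgroup Y, A ≤ R → MulAut.conj t⁻¹ • A ≤ R := fun A hA => (conj_le_conj _ hA).trans hRR
  have hle : ∀ {A K : Subgroup Y}, MulAut.conj t⁻¹ • A ≤ K ↔ A ≤ MulAut.conj t • K := by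
    intro A K
    rw [conj_le_iff, inv_inv]
  refine
    { two_le := k.two_le
      DW := smul_le_smul_as k.DW
      W₁W := by rw [hW]; exact smul_le_smul_as k.W₁W
      D_H := fun x hx w hw => ?_
      W₁_R := fun x hx w hw => ?_
      QP := by rw [hQ]; exact conj_le_conj t k.QP
      PR := fun x hx => ?_
      mem_P := fun x hx hw => ?_
      P_fix := fun x hx w hw => ?_
      P_comm := fun x hx w hw => ?_
      free := fun x hx w hw hw1 h1 => ?_
      onto := fun w hw hw1 v hv => ?_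
      card_W := by rw [hW, card_smul_as, card_smul_as]; exact k.card_W
      card_W₁ := by rw [card_smul_as, card_smul_as]; exact k.card_W₁
      card_P := by rw [hQ, conj_card, conj_card]; exact k.card_P
      D_fix := fun w hw hR x hx => ?_
      opp := fun x hx hxM w hw h1 => ?_
      stab := fun x hx hxM w hw => ?_
      cover := fun B hB hBR hBQ => ?_
      noOver := fun A hAR hel => ?_
      exactOff := fun A hAR hel hAQ h1 => ?_
      ea := fun A hAR hel => ?_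
      fld := fun A hAR hel hAP hc => ?_ }
  · rw [mem_conj] at hx
    rw [mem_smul_as] at hw ⊢
    rw [hsm]
    exact k.D_H _ hx _ hw
  · rw [mem_smul_as] at hw ⊢
    rw [hsm]
    exact k.W₁_R _ (a.symm_smul hx) _ hw
  · rw [← hRt]
    exact conj_le_conj t k.PR hx
  · rw [mem_conj]
    apply k.mem_P _ (a.symm_smul hx)
    intro w hw1
    have h2 := hw _ (smul_mem_smul_as (g := t) hw1)
    rw [mem_smul_as, smul_add, hsm, inv_smul_smul] at h2
    exact h2
  · rw [mem_conj] at hx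
    rw [mem_smul_as] at hw
    have h2 := k.P_fix _ hx _ hw
    rw [← hsm, smul_left_cancel_iff] at h2
    exact h2
  · rw [mem_conj] at hx
    rw [hW, mem_smul_as] at hw
    rw [mem_smul_as, smul_add, hsm]
    exact k.P_comm _ hx _ hw
  · rw [mem_conj] at hx
    rw [hW, mem_smul_as] at hw
    rw [mem_smul_as] at hw1
    rw [mem_smul_as, smul_add, hsm] at h1
    rw [hQ, mem_conj]
    exact k.free _ hx _ hw hw1 h1
  · rw [hW, mem_smul_as] at hw
    rw [mem_smul_as] at hw1 hv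
    obtain ⟨x, hx, h1⟩ := k.onto _ hw hw1 _ hv
    refine ⟨t * x * t⁻¹, conj_mem_conj hx, ?_⟩
    rw [mem_smul_as, smul_add, smul_add, hsm]
    have e : t⁻¹ * (t * x * t⁻¹) * t = x := by group
    rw [e]
    exact h1
  · rw [mem_smul_as] at hw
    rw [mem_conj] at hx
    have h1 := k.D_fix _ hw (fun r hr => by
      have h2 := hR _ (a.t_norm r hr)
      have h3 : t⁻¹ • (t * r * t⁻¹) • w = t⁻¹ • w := by rw [h2]
      rw [hsm] at h3
      have e : t⁻¹ * (t * r * t⁻¹) * t = r := by group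
      rwa [e] at h3) _ hx
    rw [← hsm, smul_left_cancel_iff] at h1
    exact h1
  · rw [mem_conj] at hx
    rw [mem_smul_as] at hw h1 ⊢
    rw [hsm] at h1
    refine k.opp _ hx (fun h2 => hxM ?_) _ hw h1
    have h3 := M.mul_mem (M.mul_mem htM h2) (M.inv_mem htM)
    have e : t * (t⁻¹ * x * t) * t⁻¹ = x := by group
    rwa [e] at h3
  · rw [mem_conj] at hx
    rw [mem_smul_as] at hw ⊢
    rw [hsm]
    exact k.stab _ hx (M.mul_mem (M.mul_mem (M.inv_mem htM) hxM) htM) _ hw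
  · have h1 := k.cover _ (amb.cls.conj B hB t⁻¹) (hA B hBR) (fun h2 => hBQ (by rw [hQ, ← hle]; exact h2))
    refine ⟨hle.1 h1.1, ?_⟩
    rw [hQ]
    have h2 := conj_le_conj t h1.2
    rw [smul_sup, conj_inv_smul] at h2
    exact h2
  · have h1 := k.noOver _ (hA A hAR) (hel.conj t⁻¹)
    rw [conj_card, card_inf_conj, card_fx_conj] at h1
    rw [hQ, hW, card_smul_as]
    exact h1
  · have h2 := k.exactOff _ (hA A hAR) (hel.conj t⁻¹) (fun h2 => hAQ (by rw [hQ, ← hle]; exact h2)) (by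
      rw [conj_card, card_inf_conj, card_fx_conj]
      rw [hQ, hW, card_smul_as] at h1
      exact h1)
    refine ⟨hle.1 h2.1, ?_⟩
    rw [hQ]
    have h3 := conj_le_conj t h2.2
    rw [smul_sup, conj_inv_smul] at h3
    exact h3
  · have h1 := k.ea _ (hA A hAR) (hel.conj t⁻¹)
    rw [conj_card, card_inf_conj] at h1
    rw [hQ]
    exact h1
  · have h1 := k.fld _ (hA A hAR) (hel.conj t⁻¹) (fun h2 => hAP (hle.1 h2)) (by
      rw [conj_card, card_inf_conj]
      rw [hQ] at hc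
      exact hc)
    refine ⟨h1.1, fun h2 => h1.2.1 ?_, by rw [conj_card]; exact h1.2.2⟩
    rw [hQ] at h2
    have h3 := conj_le_conj t⁻¹ h2
    rw [conj_inf] at h3
    have e : MulAut.conj t⁻¹ • MulAut.conj t • QQ H R = QQ H R := conj_inv_smul' t _
    have e2 : MulAut.conj t⁻¹ • MulAut.conj t • P = P := conj_inv_smul' t _
    rwa [e, e2] at h3

/-- Both sides of the amalgam, `H' = H^t`; `WE` : no member in `R` of type ALPHA (#20114). -/
structure TwoK (V : Type u) [AddCommGroup V] [DistribMulAction Y V] (U : Set (Subgroup Y)) (T : Sylow 2 Y)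
    (M H H' R P P' : Subgroup Y) (D D' W₁ W₁' : AddSubgroup V) (c : ℕ) (t : Y) : Prop where
  amb : Amb V U T M
  a : Amal U T M H R t
  a' : Amal U T M H' R t
  k : KOne V U M H R P D W₁ c
  k' : KOne V U M H' R P' D' W₁' c
  H'_eq : H' = MulAut.conj t • H
  H_eq : H = MulAut.conj t • H'
  P'_eq : P' = MulAut.conj t • P
  P_eq : P = MulAut.conj t • P'
  W₁'_eq : W₁' = t • W₁
  W₁_eq : W₁ = t • W₁'
  D'_eq : D' = t • D
  D_eq : D = t • D'
  we : WE V U H R
  we' : WE V U H' R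

theorem TwoK.swap {U : Set (Subgroup Y)} {T : Sylow 2 Y} {M H H' R P P' : Subgroup Y} {D D' W₁ W₁' : AddSubgroup V}
    {c : ℕ} {t : Y} (h : TwoK V U T M H H' R P P' D D' W₁ W₁' c t) :
    TwoK V U T M H' H R P' P D' D W₁' W₁ c t where
  amb := h.amb
  a := h.a'
  a' := h.a
  k := h.k'
  k' := h.k
  H'_eq := h.H_eq
  H_eq := h.H'_eq
  P'_eq := h.P_eq
  P_eq := h.P'_eq
  W₁'_eq := h.W₁_eq
  W₁_eq := h.W₁'_eq
  D'_eq := h.D_eq
  D_eq := h.D'_eq
  we := h.we'
  we' := h.we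

theorem conj_of_mem [Finite Y] {K : Subgroup Y} {x : Y} (hx : ∀ k ∈ K, x * k * x⁻¹ ∈ K) : MulAut.conj x • K = K := by
  apply eq_of_le_of_card_ge
  · intro y hy
    rw [mem_conj] at hy
    have h1 := hx _ hy
    have e : x * (x⁻¹ * y * x) * x⁻¹ = y := by group
    rwa [e] at h1
  · rw [conj_card]

theorem smul_of_mem [Finite V] {W : AddSubgroup V} {x : Y} (hx : ∀ w ∈ W, x • w ∈ W) : x • W = W := by
  apply eq_of_le_as
  · intro v hv
    rw [mem_smul_as] at hv
    have := hx _ hv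
    rwa [smul_inv_smul] at this
  · rw [card_smul_as]

/-- `P ⊴ R` -/
theorem KOne.P_norm (h2 : ∀ v : V, v + v = 0) {U : Set (Subgroup Y)} {M H R P : Subgroup Y} {D W₁ : AddSubgroup V}
    {c : ℕ} (k : KOne V U M H R P D W₁ c) {x p : Y} (hx : x ∈ R) (hp : p ∈ P) : x * p * x⁻¹ ∈ P := by
  apply k.mem_P _ (mul_mem (mul_mem hx (k.PR hp)) (inv_mem hx))
  intro w hw
  have h1 := k.P_fix _ hp _ (k.W₁_R _ (R.inv_mem hx) _ hw)
  have e : (x * p * x⁻¹) • w = x • p • x⁻¹ • w := by rw [← mul_smul, ← mul_smul, mul_assoc]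
  rw [e, h1, smul_inv_smul, h2]
  exact zero_mem _

theorem KOne.twoK [Finite Y] [Finite V] {U : Set (Subgroup Y)} {T : Sylow 2 Y} {M H R P : Subgroup Y}
    {D W₁ : AddSubgroup V} {c : ℕ} {t : Y} (amb : Amb V U T M) (a : Amal U T M H R t)
    (k : KOne V U M H R P D W₁ c) (we : WE V U H R) :
    TwoK V U T M H (MulAut.conj t • H) R P (MulAut.conj t • P) D (t • D) W₁ (t • W₁) c t where
  amb := amb
  a := a
  a' := a.conj_t amb.cls amb.TM
  k := k
  k' := k.conj_t amb a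
  H'_eq := rfl
  H_eq := by
    rw [conj_smul_smul]
    exact (conj_of_mem fun x hx => H.mul_mem (H.mul_mem (a.RH a.t_sq) hx) (H.inv_mem (a.RH a.t_sq))).symm
  P'_eq := rfl
  P_eq := by
    rw [conj_smul_smul]
    exact (conj_of_mem fun x hx => k.P_norm amb.two a.t_sq hx).symm
  W₁'_eq := rfl
  W₁_eq := by
    rw [smul_smul_as]
    exact (smul_of_mem fun w hw => k.W₁_R _ a.t_sq w hw).symm
  D'_eq := rfl
  D_eq := by
    rw [smul_smul_as]
    exact (smul_of_mem fun w hw => k.D_H _ (a.RH a.t_sq) w hw).symm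
  we := we
  we' := fun B hB hBR => by
    rw [WW_conj (fun v => a.smul_V0) fun v => a.smul_V0']
    exact a.tW_le_Ee amb we hB hBR

namespace TwoK

variable [Finite Y] [Finite V] {U : Set (Subgroup Y)} {T : Sylow 2 Y} {M H H' R P P' : Subgroup Y}
  {D D' W₁ W₁' : AddSubgroup V} {c : ℕ} {t : Y} (h : TwoK V U T M H H' R P P' D D' W₁ W₁' c t)
include h

theorem W'_eq : WW V H' R = t • WW V H R := by
  rw [h.H'_eq]
  exact WW_conj (fun v => h.a.smul_V0) fun v => h.a.smul_V0'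

theorem Q'_eq : QQ H' R = MulAut.conj t • QQ H R := by
  rw [h.H'_eq]
  exact QQ_conj h.a.t_norm fun r hr => h.a.symm_smul hr

/-- **(*)** -/
theorem star {B : Subgroup Y} (hB : B ∈ U) (hBH : B ≤ H) (hBM : ¬ B ≤ M) :
    ∃ b ∈ B ⊓ QQ H R, b ∉ QQ H' R := by
  rw [h.Q'_eq]
  exact h.a.star h.amb h.we hB hBH hBM

end TwoK

end Cfsg.Agent.Omega.NO1.TH
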