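import Cfsg.Agent.Omega.NO1.TH.CaseC
import Cfsg.Agent.Omega.NO1.TH.KOneDef
import Cfsg.Agent.Lib.NormalAbelian

/-!
# N1, BETA, `a = 2` (FrTwo): the END of the amalgam `(H, H^t)` for `k = 1` (bb OMEGA 20939, helper817)

`|V : E_U| = 2`, `k = 1`, so `c = 2`.  `ET.false_of` : contradiction (any `C = C_V(H)`).
-/

set_option autoImplicit false
set_option linter.unusedSectionVars false

namespace Cfsg.Agent.Omega.NO1.TH.ET

open Subgroup Cfsg.Agent.Omega.NO1.AB
open scoped Pointwise

universe u

variable {Y : Type u} [Group Y] {V : Type u} [AddCommGroup V] [DistribMulAction Y V]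

/-! ### generalities -/

theorem add_swap (h2 : ∀ v : V, v + v = 0) {x y z : V} (h : x + y = z) : x = y + z := by
  rw [← h, add_comm x y, ← add_assoc, h2, zero_add]

theorem add_mem_of [Finite V] {A B : AddSubgroup V} (hAB : A ≤ B) (hc : Nat.card B = 2 * Nat.card A) {x y : V}
    (hx : x ∈ B) (hy : y ∈ B) (hxA : x ∉ A) (hyA : y ∉ A) : x + y ∈ A := by
  have h1 : (A.addSubgroupOf B).index = 2 := by
    have h3 := (A.addSubgroupOf B).card_mul_index
    rw [Nat.card_congr (AddSubgroup.addSubgroupOfEquivOfLe hAB).toEquiv, hc, mul_comm 2] at h3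
    exact Nat.eq_of_mul_eq_mul_left Nat.card_pos h3
  have h2 := (AddSubgroup.add_mem_iff_of_index_two h1 (a := ⟨x, hx⟩) (b := ⟨y, hy⟩)).2
    ⟨fun h => absurd (AddSubgroup.mem_addSubgroupOf.1 h) hxA, fun h => absurd (AddSubgroup.mem_addSubgroupOf.1 h) hyA⟩
  exact AddSubgroup.mem_addSubgroupOf.1 h2

theorem mul_mem_of [Finite Y] {A B : Subgroup Y} (hAB : A ≤ B) (hc : Nat.card B = 2 * Nat.card A) {x y : Y}
    (hx : x ∈ B) (hy : y ∈ B) (hxA : x ∉ A) (hyA : y ∉ A) : x * y ∈ A := by
  have h1 : (A.subgroupOf B).index = 2 := by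
    have h3 := (A.subgroupOf B).card_mul_index
    rw [Nat.card_congr (subgroupOfEquivOfLe hAB).toEquiv, hc, mul_comm 2] at h3
    exact Nat.eq_of_mul_eq_mul_left Nat.card_pos h3
  have h2 := (mul_mem_iff_of_index_two h1 (a := ⟨x, hx⟩) (b := ⟨y, hy⟩)).2
    ⟨fun h => absurd (mem_subgroupOf.1 h) hxA, fun h => absurd (mem_subgroupOf.1 h) hyA⟩
  exact mem_subgroupOf.1 h2

/-- `{0, z}` -/
def tw (h2 : ∀ v : V, v + v = 0) (z : V) : AddSubgroup V where
  carrier := {v | v = 0 ∨ v = z}
  add_mem' := by
    rintro a b (rfl | rfl) (rfl | rfl)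
    · left; simp
    · right; simp
    · right; simp
    · left; exact h2 _
  zero_mem' := Or.inl rfl
  neg_mem' := by
    rintro a (rfl | rfl)
    · left; simp
    · right; exact neg_eq_of_add_eq_zero_left (h2 _)

theorem mem_tw {h2 : ∀ v : V, v + v = 0} {z v : V} : v ∈ tw h2 z ↔ v = 0 ∨ v = z := Iff.rfl

theorem card_tw {h2 : ∀ v : V, v + v = 0} {z : V} : Nat.card (tw h2 z) ≤ 2 := by
  have h3 : ((tw h2 z : AddSubgroup V) : Set V) = {0, z} := by
    ext v
    exact mem_tw
  change Nat.card ((tw h2 z : AddSubgroup V) : Set V) ≤ 2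
  rw [h3]
  exact (Set.ncard_insert_le _ _).trans (by rw [Set.ncard_singleton])

theorem card_sup_le [Finite V] (A B : AddSubgroup V) : Nat.card ↥(A ⊔ B) ≤ Nat.card A * Nat.card B := by
  have h1 := card_sup_as A B
  have h2 : 0 < Nat.card ↥(A ⊓ B) := Nat.card_pos
  nlinarith

/-- no transvections -/
theorem eq_one_of [Finite V] (h2 : ∀ v : V, v + v = 0) (faith : ∀ y : Y, (∀ v : V, y • v = v) → y = 1)
    (noff : ∀ A : Subgroup Y, (∀ x ∈ A, ∀ y ∈ A, x * y = y * x) → (∀ x ∈ A, x * x = 1) → A ≠ ⊥ →
      Nat.card A < (fx V A).index) {s : Y} {z : V} (hs : ∀ v : V, s • v + v = 0 ∨ s • v + v = z) : s = 1 := by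
  by_contra hs1
  -- `s² = 1`
  have hz : s • z = z := by
    rcases hs z with h3 | h3
    · exact (HE.add_eq_zero' h2).1 h3
    · -- `s z = 0`
      have h4 := add_swap h2 h3
      rw [h2] at h4
      rw [smul_eq_zero_iff_eq] at h4
      rw [h4, smul_zero]
  have hss : s * s = 1 := by
    apply faith
    intro v
    rw [mul_smul]
    rcases hs v with h3 | h3
    · rw [(HE.add_eq_zero' h2).1 h3, (HE.add_eq_zero' h2).1 h3]
    · have h4 := add_swap h2 h3
      rw [h4, smul_add, hz, h4, add_assoc, h2, add_zero]
  have hA : ∀ x ∈ zpowers s, x = 1 ∨ x = s := by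
    rintro x ⟨n, rfl⟩
    have h4 : s ^ (2 : ℤ) = 1 := by rw [zpow_two, hss]
    rcases Int.even_or_odd' n with ⟨k, rfl | rfl⟩
    · left
      change s ^ (2 * k) = 1
      rw [zpow_mul, h4, one_zpow]
    · right
      change s ^ (2 * k + 1) = s
      rw [zpow_add, zpow_mul, h4, one_zpow, one_mul, zpow_one]
  have h3 := noff (zpowers s) (by
    rintro x hx y hy
    rcases hA x hx with rfl | rfl <;> rcases hA y hy with rfl | rfl <;> simp) (by
    intro x hx
    rcases hA x hx with rfl | rfl
    · simp
    · exact hss) (by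
    rw [Ne, zpowers_eq_bot]; exact hs1)
  have h4 : Nat.card (zpowers s) = 2 := by
    rw [Nat.card_zpowers]
    exact orderOf_eq_prime (by rw [pow_two, hss]) hs1
  rw [h4] at h3
  let φ : V →+ V :=
    { toFun := fun v => s • v + v
      map_zero' := by rw [smul_zero, add_zero]
      map_add' := fun a b => by rw [smul_add]; abel }
  have h5 : φ.ker ≤ fx V (zpowers s) := by
    intro v hv x hx
    have h6 : s • v + v = 0 := hv
    rcases hA x hx with rfl | rfl
    · exact one_smul Y v
    · exact (HE.add_eq_zero' h2).1 h6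
  have h6 : φ.range ≤ tw h2 z := by
    rintro _ ⟨v, rfl⟩
    exact hs v
  have h7 : φ.ker.index ≤ 2 := by
    rw [AddSubgroup.index_ker]
    exact (Nat.card_le_card_of_injective _ (AddSubgroup.inclusion_injective h6)).trans card_tw
  have h8 : (fx V (zpowers s)).index ≤ φ.ker.index :=
    Nat.le_of_dvd (Nat.pos_of_ne_zero AddSubgroup.index_ne_zero_of_finite) (AddSubgroup.index_dvd_of_le h5)
  omega

/-- the four-group of two commuting involutions -/
def four (s t : Y) (hs : s * s = 1) (ht : t * t = 1) (hst : s * t = t * s) : Subgroup Y where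
  carrier := {x | x = 1 ∨ x = s ∨ x = t ∨ x = s * t}
  one_mem' := Or.inl rfl
  mul_mem' := by
    have e1 : s * (s * t) = t := by rw [← mul_assoc, hs, one_mul]
    have e2 : t * (s * t) = s := by rw [hst, ← mul_assoc, ht, one_mul]
    have e3 : s * t * s = t := by rw [hst, mul_assoc, hs, mul_one]
    have e4 : s * t * t = s := by rw [mul_assoc, ht, mul_one]
    have e5 : s * t * (s * t) = 1 := by rw [← mul_assoc, e3, ht]
    rintro a b (rfl | rfl | rfl | rfl) (rfl | rfl | rfl | rfl)
    · left; rw [one_mul]
    · right; left; rw [one_mul]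
    · right; right; left; rw [one_mul]
    · right; right; right; rw [one_mul]
    · right; left; rw [mul_one]
    · left; exact hs
    · right; right; right; rfl
    · right; right; left; exact e1
    · right; right; left; rw [mul_one]
    · right; right; right; exact hst.symm
    · left; exact ht
    · right; left; exact e2
    · right; right; right; rw [mul_one]
    · right; right; left; exact e3
    · right; left; exact e4
    · left; exact e5
  inv_mem' := by
    have e5 : s * t * (s * t) = 1 := by
      have e3 : s * t * s = t := by rw [hst, mul_assoc, hs, mul_one]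
      rw [← mul_assoc, e3, ht]
    rintro a (rfl | rfl | rfl | rfl)
    · left; simp
    · right; left; exact inv_eq_of_mul_eq_one_left hs
    · right; right; left; exact inv_eq_of_mul_eq_one_left ht
    · right; right; right; exact inv_eq_of_mul_eq_one_left e5

theorem mem_four {s t : Y} {hs : s * s = 1} {ht : t * t = 1} {hst : s * t = t * s} {x : Y} :
    x ∈ four s t hs ht hst ↔ x = 1 ∨ x = s ∨ x = t ∨ x = s * t := Iff.rfl

theorem comm_four {s t : Y} {hs : s * s = 1} {ht : t * t = 1} {hst : s * t = t * s} {x y : Y}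
    (hx : x ∈ four s t hs ht hst) (hy : y ∈ four s t hs ht hst) : x * y = y * x := by
  have hc : Commute s t := hst
  have h1 : Commute x s := by
    rcases hx with rfl | rfl | rfl | rfl
    · exact Commute.one_left _
    · exact Commute.refl _
    · exact hc.symm
    · exact (Commute.refl s).mul_left hc.symm
  have h2 : Commute x t := by
    rcases hx with rfl | rfl | rfl | rfl
    · exact Commute.one_left _
    · exact hc
    · exact Commute.refl _
    · exact hc.mul_left (Commute.refl t)
  rcases hy with rfl | rfl | rfl | rfl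
  · rw [one_mul, mul_one]
  · exact h1
  · exact h2
  · exact h1.mul_right h2

theorem sq_four {s t : Y} {hs : s * s = 1} {ht : t * t = 1} {hst : s * t = t * s} {x : Y}
    (hx : x ∈ four s t hs ht hst) : x * x = 1 := by
  rcases hx with rfl | rfl | rfl | rfl
  · rw [one_mul]
  · exact hs
  · exact ht
  · have e3 : s * t * s = t := by rw [hst, mul_assoc, hs, mul_one]
    rw [← mul_assoc, e3, ht]

theorem card_four {s t : Y} {hs : s * s = 1} {ht : t * t = 1} {hst : s * t = t * s} (h1 : s ≠ 1) (h2 : t ≠ 1)
    (h3 : s ≠ t) : Nat.card (four s t hs ht hst) = 4 := by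
  have h4 : ((four s t hs ht hst : Subgroup Y) : Set Y) = {1, s, t, s * t} := by
    ext x
    exact mem_four
  change Nat.card ((four s t hs ht hst : Subgroup Y) : Set Y) = 4
  rw [h4, Nat.card_coe_set_eq]
  have h5 : s * t ≠ 1 := by
    intro h6
    apply h3
    have := congrArg (s * ·) h6
    change s * (s * t) = s * 1 at this
    rw [← mul_assoc, hs, one_mul, mul_one] at this
    exact this.symm
  have h6 : s ≠ s * t := fun h7 => h2 (by
    have := congrArg (s * ·) h7
    change s * s = s * (s * t) at this
    rw [← mul_assoc, hs, one_mul] at this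
    exact this.symm)
  have h7 : t ≠ s * t := fun h7 => h1 (by
    have := congrArg (· * t) h7
    change t * t = s * t * t at this
    rw [mul_assoc, ht, mul_one] at this
    exact this.symm)
  rw [Set.ncard_insert_of_notMem, Set.ncard_insert_of_notMem, Set.ncard_pair h7]
  · simp only [Set.mem_insert_iff, Set.mem_singleton_iff]
    rintro (h8 | h8)
    · exact h3 h8
    · exact h6 h8
  · simp only [Set.mem_insert_iff, Set.mem_singleton_iff]
    rintro (h8 | h8 | h8)
    · exact h1 h8.symm
    · exact h2 h8.symm
    · exact h5 h8.symm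

/-! ### the final configuration -/

/-- the last contradiction: `V = ⟨z, n, n', v⟩` -/
theorem last [Finite V] (h2 : ∀ v : V, v + v = 0) (faith : ∀ y : Y, (∀ v : V, y • v = v) → y = 1)
    (noff : ∀ A : Subgroup Y, (∀ x ∈ A, ∀ y ∈ A, x * y = y * x) → (∀ x ∈ A, x * x = 1) → A ≠ ⊥ →
      Nat.card A < (fx V A).index) {b c t : Y} (hb : b * b = 1) (hc : c * c = 1) (hbc : b * c = c * b)
    (ht : t * t = 1) (htb : t * b = c * t) (htc : t * c = b * t) (ht1 : t ≠ 1) (hbc1 : b * c ≠ 1)
    (hbct : b * c ≠ t) {z n n' v : V}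
    (bz : b • z = z) (cz : c • z = z) (tz : t • z = z) (bn : b • n = n) (cn : c • n = n + z) (tn : t • n = n')
    (bn' : b • n' = n' + z) (cn' : c • n' = n')
    (bv : b • v + v = n ∨ b • v + v = n + z) (cv : c • v + v = n' ∨ c • v + v = n' + z)
    (tv : t • v = v ∨ t • v = v + z)
    (z0 : z ≠ 0) (nn0 : n + n' ≠ 0) (nnz : n + n' ≠ z)
    (top : ∀ x : V, x ∈ tw h2 z ⊔ tw h2 n ⊔ tw h2 n' ⊔ tw h2 v) : False := by
  have tn' : t • n' = n := by rw [← tn, ← mul_smul, ht, one_smul]
  rcases tv with tv | tv
  · -- transvection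
    apply ht1
    apply eq_one_of h2 faith noff (z := n + n')
    intro x
    let φ : V →+ V :=
      { toFun := fun v => t • v + v
        map_zero' := by rw [smul_zero, add_zero]
        map_add' := fun a b => by rw [smul_add]; abel }
    have h3 : tw h2 z ⊔ tw h2 n ⊔ tw h2 n' ⊔ tw h2 v ≤ (tw h2 (n + n')).comap φ := by
      refine sup_le (sup_le (sup_le ?_ ?_) ?_) ?_
      · rintro y (rfl | rfl)
        · exact zero_mem _
        · left
          change t • y + y = 0
          rw [tz, h2]
      · rintro y (rfl | rfl)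
        · exact zero_mem _
        · right
          change t • y + y = y + n'
          rw [tn, add_comm]
      · rintro y (rfl | rfl)
        · exact zero_mem _
        · right
          change t • y + y = n + y
          rw [tn']
      · rintro y (rfl | rfl)
        · exact zero_mem _
        · left
          change t • y + y = 0
          rw [tv, h2]
    exact h3 (top x)
  · -- the four-group `<bc, t>`
    have hs : b * c * (b * c) = 1 := by
      have e1 : b * c * b = c := by rw [hbc, mul_assoc, hb, mul_one]
      rw [← mul_assoc, e1, hc]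
    have hst : b * c * t = t * (b * c) := by
      rw [← mul_assoc, htb, mul_assoc c t c, htc, ← mul_assoc, hbc]
    have h3 := noff (four (b * c) t hs ht hst) (fun x hx y hy => comm_four hx hy) (fun x hx => sq_four hx) (by
      intro h4
      have h5 : t ∈ (⊥ : Subgroup Y) := by
        rw [← h4]
        exact Or.inr (Or.inr (Or.inl rfl))
      rw [mem_bot] at h5
      exact ht1 h5)
    rw [card_four hbc1 ht1 hbct] at h3
    have h4 : Nat.card V ≤ 16 := by
      have h5 : tw h2 z ⊔ tw h2 n ⊔ tw h2 n' ⊔ tw h2 v = ⊤ := by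
        rw [eq_top_iff]; exact fun x _ => top x
      rw [← AddSubgroup.card_top (G := V), ← h5]
      have e1 := card_tw (h2 := h2) (z := z)
      have e2 := card_tw (h2 := h2) (z := n)
      have e3 := card_tw (h2 := h2) (z := n')
      have e4 := card_tw (h2 := h2) (z := v)
      calc _ ≤ Nat.card ↥(tw h2 z ⊔ tw h2 n ⊔ tw h2 n') * Nat.card (tw h2 v) := card_sup_le _ _
        _ ≤ (Nat.card ↥(tw h2 z ⊔ tw h2 n) * Nat.card (tw h2 n')) * 2 :=
            Nat.mul_le_mul (card_sup_le _ _) e4
        _ ≤ ((Nat.card (tw h2 z) * Nat.card (tw h2 n)) * 2) * 2 :=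
            Nat.mul_le_mul_right _ (Nat.mul_le_mul (card_sup_le _ _) e3)
        _ ≤ ((2 * 2) * 2) * 2 :=
            Nat.mul_le_mul_right _ (Nat.mul_le_mul_right _ (Nat.mul_le_mul e1 e2))
        _ = 16 := by norm_num
    have h5 := (fx V (four (b * c) t hs ht hst)).card_mul_index
    have h6 : 4 ≤ Nat.card ↥(fx V (four (b * c) t hs ht hst)) := by
      have hz : z ∈ fx V (four (b * c) t hs ht hst) := by
        rintro x (rfl | rfl | rfl | rfl)
        · exact one_smul Y z
        · rw [mul_smul, cz, bz]
        · exact tz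
        · rw [mul_smul, mul_smul, tz, cz, bz]
      have hn : n + n' ∈ fx V (four (b * c) t hs ht hst) := by
        have e1 : t • (n + n') = n + n' := by rw [smul_add, tn, tn', add_comm]
        have e2 : (b * c) • (n + n') = n + n' := by
          rw [mul_smul, smul_add, cn, cn', smul_add, smul_add, bn, bz, bn']
          have : n + z + (n' + z) = n + n' + (z + z) := by abel
          rw [this, h2, add_zero]
        rintro x (rfl | rfl | rfl | rfl)
        · exact one_smul Y _
        · exact e2
        · exact e1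
        · rw [mul_smul, e1, e2]
      have h7 : ({0, z, n + n', z + (n + n')} : Set V) ⊆ (fx V (four (b * c) t hs ht hst) : AddSubgroup V) := by
        rintro x (rfl | rfl | rfl | rfl)
        · exact zero_mem _
        · exact hz
        · exact hn
        · exact add_mem hz hn
      have h8 : Nat.card ({0, z, n + n', z + (n + n')} : Set V) = 4 := by
        rw [Nat.card_coe_set_eq, Set.ncard_insert_of_notMem, Set.ncard_insert_of_notMem, Set.ncard_pair]
        · intro h9
          apply z0
          have : n + n' + 0 = n + n' + z := by rw [add_zero]; rw [add_comm (n + n') z]; exact h9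
          exact (add_left_cancel this).symm
        · simp only [Set.mem_insert_iff, Set.mem_singleton_iff]
          rintro (h8 | h8)
          · exact nnz h8.symm
          · apply nn0
            have : z + 0 = z + (n + n') := by rw [add_zero]; exact h8
            exact (add_left_cancel this).symm
        · simp only [Set.mem_insert_iff, Set.mem_singleton_iff]
          rintro (h8 | h8 | h8)
          · exact z0 h8.symm
          · exact nn0 h8.symm
          · exact nnz ((HE.add_eq_zero' h2).1 h8.symm).symm
      rw [← h8]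
      exact Nat.card_mono (Set.toFinite _) h7
    nlinarith

/-! ### members of order four -/

theorem four_elts {A : Subgroup Y} [Finite Y] (hc : Nat.card A = 4) {s u : Y} (hs : s ∈ A) (hu : u ∈ A) (hs1 : s ≠ 1)
    (hu1 : u ≠ 1) (hsu : s ≠ u) (hss : s * s = 1) {x : Y} (hx : x ∈ A) : x = 1 ∨ x = s ∨ x = u ∨ x = s * u := by
  have h6 : s ≠ s * u := fun h7 => hu1 (mul_left_cancel (a := s) (by rw [← h7, mul_one]))
  have h7 : u ≠ s * u := fun h7 => hs1 (mul_right_cancel (b := u) (by rw [← h7, one_mul]))
  have h5 : s * u ≠ 1 := by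
    intro h6
    apply hsu
    apply mul_left_cancel (a := s)
    rw [h6, hss]
  have h8 : ({1, s, u, s * u} : Set Y).ncard = 4 := by
    rw [Set.ncard_insert_of_notMem, Set.ncard_insert_of_notMem, Set.ncard_pair h7]
    · simp only [Set.mem_insert_iff, Set.mem_singleton_iff]
      rintro (h8 | h8)
      · exact hsu h8
      · exact h6 h8
    · simp only [Set.mem_insert_iff, Set.mem_singleton_iff]
      rintro (h8 | h8 | h8)
      · exact hs1 h8.symm
      · exact hu1 h8.symm
      · exact h5 h8.symm
  have h9 : ({1, s, u, s * u} : Set Y) = A := by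
    apply Set.eq_of_subset_of_ncard_le _ _ (Set.toFinite _)
    · rintro y (rfl | rfl | rfl | rfl)
      · exact one_mem _
      · exact hs
      · exact hu
      · exact mul_mem hs hu
    · rw [h8]
      exact hc.le
  have h10 : x ∈ (A : Set Y) := hx
  rw [← h9] at h10
  exact h10

/-- `|[E, A]| = 2` for `|A| = 4` -/
theorem beta2 [Finite Y] {A : Subgroup Y} {E F : AddSubgroup V} (hm : Mem A E F) (h2 : ∀ v : V, v + v = 0)
    (hc : Nat.card A = 4) {x : V} {b : Y} (hx : x ∈ E) (hu : b ∈ A) (hne : b • x + x ≠ 0)
    {e : V} {s : Y} (he : e ∈ E) (hs : s ∈ A) : s • e + e = 0 ∨ s • e + e = b • x + x := by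
  obtain ⟨w, hw⟩ := hm.ne
  -- the norm form
  have key : ∀ p ∈ A, ∀ q ∈ A, ∀ y : V, p • w + w + y ∈ F →
      q • y + y = w + p • w + q • w + (p * q) • w := by
    intro p hp q hq y hy
    have h3 := hm.FB q hq _ hy
    rw [smul_add, smul_add, ← mul_smul, hm.comm q hq p hp] at h3
    have h4 : q • y + y + (w + p • w + q • w + (p * q) • w) =
        ((p * q) • w + q • w + q • y) + (p • w + w + y) := by abel
    rw [h3, h2] at h4
    exact (HE.add_eq_zero' h2).1 h4
  obtain ⟨a, ha, hax⟩ := hm.surj w hw x hx
  obtain ⟨p, hp, hpe⟩ := hm.surj w hw e he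
  rw [key a ha _ hu _ hax] at hne ⊢
  rw [key p hp s hs _ hpe]
  have hcom := hm.comm a ha b hu
  have haa := hm.sq a ha
  have hbb := hm.sq b hu
  have ha1 : a ≠ 1 := by
    rintro rfl
    apply hne
    rw [one_smul, one_mul, h2, zero_add, h2]
  have hb1 : b ≠ 1 := by
    intro h3
    apply hne
    rw [h3, one_smul, mul_one]
    have : w + a • w + w + a • w = (w + w) + (a • w + a • w) := by abel
    rw [this, h2, h2, add_zero]
  have hab : a ≠ b := by
    intro h3
    apply hne
    rw [← h3, haa, one_smul]
    have : w + a • w + a • w + w = (w + w) + (a • w + a • w) := by abel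
    rw [this, h2, h2, add_zero]
  have e1 : a * (a * b) = b := by rw [← mul_assoc, haa, one_mul]
  have e2 : b * a = a * b := hcom.symm
  have e3 : b * (a * b) = a := by rw [← mul_assoc, e2, mul_assoc, hbb, mul_one]
  have e4 : a * b * a = b := by rw [hcom, mul_assoc, haa, mul_one]
  have e5 : a * b * b = a := by rw [mul_assoc, hbb, mul_one]
  have e6 : a * b * (a * b) = 1 := by rw [← mul_assoc, e4, hbb]
  have z0 : ∀ r : V, w + w + r + r = 0 := fun r => by rw [h2, zero_add, h2]
  have z1 : ∀ r : V, w + r + w + r = 0 := fun r => by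
    have : w + r + w + r = (w + w) + (r + r) := by abel
    rw [this, h2, h2, add_zero]
  have z2 : ∀ r : V, w + r + r + w = 0 := fun r => by
    have : w + r + r + w = (w + w) + (r + r) := by abel
    rw [this, h2, h2, add_zero]
  rcases four_elts hc ha hu ha1 hb1 hab haa hp with rfl | rfl | rfl | rfl <;>
    rcases four_elts hc ha hu ha1 hb1 hab haa hs with rfl | rfl | rfl | rfl
  · left; rw [one_smul, one_mul, one_smul]; exact z0 w
  · left; rw [one_smul, one_mul]; exact z0 _
  · left; rw [one_smul, one_mul]; exact z0 _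
  · left; rw [one_smul, one_mul]; exact z0 _
  · left; rw [one_smul, mul_one]; exact z1 _
  · left; rw [haa, one_smul]; exact z2 _
  · right; rfl
  · right; rw [e1]; abel
  · left; rw [one_smul, mul_one]; exact z1 _
  · right; rw [e2]; abel
  · left; rw [hbb, one_smul]; exact z2 _
  · right; rw [e3]; abel
  · left; rw [one_smul, mul_one]; exact z1 _
  · right; rw [e4]; abel
  · right; rw [e5]; abel
  · left; rw [e6, one_smul]; exact z2 _

end Cfsg.Agent.Omega.NO1.TH.ET
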