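import Cfsg.Agent.Omega.NO1.TH.Choice

/-!
# N1, BETA: the amalgam `(H, H^t)`, first facts (bb OMEGA 19584 (1) (b)-(d), helper874)

`R = T_H`, `V₀ = C_V(R)`, `W = ⟨V₀^H⟩ = WW H R`, `Q = O₂(H) = QQ H R := ⋂ R^h`, `C = C_V(H)`.
-/

set_option autoImplicit false
set_option linter.unusedSectionVars false

namespace Cfsg.Agent.Omega.NO1.TH

open Subgroup Cfsg.Agent.Omega.NO1.AB
open scoped Pointwise

universe u

variable {Y : Type u} [Group Y] {V : Type u} [AddCommGroup V] [DistribMulAction Y V]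

/-- `⟨C_V(R)^H⟩` -/
def WW (V : Type u) [AddCommGroup V] [DistribMulAction Y V] (H R : Subgroup Y) : AddSubgroup V :=
  AddSubgroup.closure {v | ∃ x ∈ H, ∃ w ∈ fx V R, v = x • w}

theorem smul_mem_WW {H R : Subgroup Y} {x : Y} (hx : x ∈ H) {v : V} (hv : v ∈ WW V H R) : x • v ∈ WW V H R := by
  induction hv using AddSubgroup.closure_induction with
  | mem v hv =>
    obtain ⟨y, hy, w, hw, rfl⟩ := hv
    exact AddSubgroup.subset_closure ⟨x * y, H.mul_mem hx hy, w, hw, by rw [mul_smul]⟩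
  | zero => rw [smul_zero]; exact zero_mem _
  | add a b _ _ h1 h2 => rw [smul_add]; exact add_mem h1 h2
  | neg a _ h1 => rw [smul_neg]; exact neg_mem h1

theorem fx_le_WW {H R : Subgroup Y} : fx V R ≤ WW V H R := fun v hv =>
  AddSubgroup.subset_closure ⟨1, H.one_mem, v, hv, (one_smul Y v).symm⟩

theorem WW_le {H R : Subgroup Y} {W : AddSubgroup V} (h : ∀ x ∈ H, ∀ w ∈ fx V R, x • w ∈ W) :
    WW V H R ≤ W := by
  refine (AddSubgroup.closure_le _).2 ?_
  rintro _ ⟨x, hx, w, hw, rfl⟩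
  exact h x hx w hw

/-- `O₂(H)`, the intersection of the `H`-conjugates of `R` -/
def QQ (H R : Subgroup Y) : Subgroup Y where
  carrier := {y | ∀ x ∈ H, x * y * x⁻¹ ∈ R}
  one_mem' := fun x _ => by rw [mul_one, mul_inv_cancel]; exact one_mem _
  mul_mem' := fun {a b} ha hb x hx => by
    have := R.mul_mem (ha x hx) (hb x hx)
    have e : x * a * x⁻¹ * (x * b * x⁻¹) = x * (a * b) * x⁻¹ := by group
    rwa [e] at this
  inv_mem' := fun {a} ha x hx => by
    have := R.inv_mem (ha x hx)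
    have e : (x * a * x⁻¹)⁻¹ = x * a⁻¹ * x⁻¹ := by group
    rwa [e] at this

theorem QQ_le {H R : Subgroup Y} : QQ H R ≤ R := fun y hy => by
  have := hy 1 H.one_mem
  simpa using this

theorem conj_mem_QQ {H R : Subgroup Y} {x y : Y} (hx : x ∈ H) (hy : y ∈ QQ H R) : x * y * x⁻¹ ∈ QQ H R := by
  intro z hz
  have := hy (z * x) (H.mul_mem hz hx)
  have e : z * x * y * (z * x)⁻¹ = z * (x * y * x⁻¹) * z⁻¹ := by group
  rwa [e] at this

theorem le_QQ {H R N : Subgroup Y} (h1 : N ≤ R) (h2 : ∀ x ∈ H, ∀ y ∈ N, x * y * x⁻¹ ∈ N) : N ≤ QQ H R :=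
  fun y hy x hx => h1 (h2 x hx y hy)

namespace Amal

variable {U : Set (Subgroup Y)} {T : Sylow 2 Y} {M H R : Subgroup Y} {t : Y}

section one

variable (a : Amal U T M H R t)
include a

theorem R2 : IsPGroup 2 R := T.2.to_le a.RT

theorem symm_smul {r : Y} (hr : r ∈ R) : t⁻¹ * r * t ∈ R := by
  have h1 := a.t_norm _ hr
  have h2 := R.mul_mem (R.mul_mem (R.inv_mem a.t_sq) h1) a.t_sq
  have e : (t * t)⁻¹ * (t * r * t⁻¹) * (t * t) = t⁻¹ * r * t := by group
  rwa [e] at h2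

/-- `R` lies in the point `M` only -/
theorem point {y : Y} (hTM : (T : Subgroup Y) ≤ M) (hy : R ≤ MulAut.conj y • M) : MulAut.conj y • M = M := by
  have h1 := a.one R a.R2 a.memR le_rfl y 1 hy (by rw [map_one, one_smul]; exact a.RT.trans hTM)
  rwa [map_one, one_smul] at h1

/-- **(b)**: every `X` with `R ≤ X < Y` is in `M` or `Bad` -/
theorem le_or_bad {X : Subgroup Y} (hTM : (T : Subgroup Y) ≤ M) (hX : X ≠ ⊤) (hRX : R ≤ X) :
    X ≤ M ∨ Bad U M X := by
  by_cases h1 : X ≤ M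
  · exact Or.inl h1
  · refine Or.inr ⟨hX, ?_, fun y hy => h1 ?_⟩
    · obtain ⟨B, hB, hBR⟩ := a.memR
      exact ⟨B, hB, hBR.trans hRX⟩
    · rw [← a.point hTM (hRX.trans hy)]
      exact hy

/-- **(b)**: `R ≤ X < Y` and a larger 2-group in `X`: `X ≤ M` -/
theorem le_of_card {X S : Subgroup Y} (hTM : (T : Subgroup Y) ≤ M) (hX : X ≠ ⊤) (hRX : R ≤ X) (hSX : S ≤ X)
    (hS : IsPGroup 2 S) (hc : Nat.card R < Nat.card S) : X ≤ M := by
  rcases a.le_or_bad hTM hX hRX with h1 | h1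
  · exact h1
  · have := a.le_card X h1 S hSX hS
    omega

/-- **(b)**: `H ≤ X < Y`: `R` is Sylow in `X` -/
theorem card_le {X S : Subgroup Y} (hX : X ≠ ⊤) (hHX : H ≤ X) (hSX : S ≤ X) (hS : IsPGroup 2 S) :
    Nat.card S ≤ Nat.card R :=
  a.le_card X
    { ne := hX
      mem := by
        obtain ⟨B, hB, hBR⟩ := a.memR
        exact ⟨B, hB, hBR.trans (a.RH.trans hHX)⟩
      not_le := fun y hy => a.bad.not_le y (hHX.trans hy) } S hSX hS

/-- `⟨R, t⟩` is a 2-group larger than `R` -/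
theorem card_lt [Finite Y] : Nat.card R < Nat.card ↥(R ⊔ zpowers t) := by
  apply Amb.card_lt'
  refine lt_of_le_of_ne le_sup_left fun h5 => a.t_not ?_
  rw [h5]
  exact mem_sup_right (mem_zpowers t)

theorem Rt2 : IsPGroup 2 ↥(R ⊔ zpowers t) := T.2.to_le (sup_le a.RT (zpowers_le.2 a.t_T))

/-- nothing is normalised by `H` and `t` -/
theorem no_inv (hcore : ∀ N : Subgroup Y, N.Normal → IsPGroup 2 N → N = ⊥) {N : Subgroup Y}
    (hN : IsPGroup 2 N) (h1 : ∀ x ∈ H, ∀ y ∈ N, x * y * x⁻¹ ∈ N) (h2 : ∀ y ∈ N, t * y * t⁻¹ ∈ N)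
    (h3 : ∀ y ∈ N, t⁻¹ * y * t ∈ N) : N = ⊥ := by
  apply hcore N _ hN
  rw [← normalizer_eq_top_iff, eq_top_iff, ← a.top]
  refine sup_le ?_ ?_
  · intro x hx
    rw [mem_normalizer_iff]
    intro y
    refine ⟨fun hy => h1 x hx y hy, fun hy => ?_⟩
    have := h1 x⁻¹ (H.inv_mem hx) _ hy
    have e : x⁻¹ * (x * y * x⁻¹) * x⁻¹⁻¹ = y := by group
    rwa [e] at this
  · rw [zpowers_le, mem_normalizer_iff]
    intro y
    refine ⟨fun hy => h2 y hy, fun hy => ?_⟩
    have := h3 _ hy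
    have e : t⁻¹ * (t * y * t⁻¹) * t = y := by group
    rwa [e] at this

/-- `t V₀ = V₀` -/
theorem smul_V0 {v : V} (hv : v ∈ fx V R) : t • v ∈ fx V R := by
  intro r hr
  have h1 := hv _ (a.symm_smul hr)
  rw [mul_smul, mul_smul, inv_smul_eq_iff] at h1
  exact h1

theorem smul_V0' {v : V} (hv : v ∈ fx V R) : t⁻¹ • v ∈ fx V R := by
  intro r hr
  have h1 := hv _ (a.t_norm _ hr)
  rw [mul_smul, mul_smul] at h1
  rw [eq_inv_smul_iff]
  exact h1

/-- `t² = 1` on `V₀` -/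
theorem smul_smul_V0 {v : V} (hv : v ∈ fx V R) : t • t • v = v := by
  rw [← mul_smul]
  exact hv _ a.t_sq

theorem inv_smul_V0 {v : V} (hv : v ∈ fx V R) : t⁻¹ • v = t • v := by
  rw [inv_smul_eq_iff, a.smul_smul_V0 hv]

/-- `C ≤ V₀` -/
theorem C_le : fx V H ≤ fx V R := fx_mono a.RH

/-- `<H, U₁>`: a member in `H` outside `M` generates `H` with `R` -/
theorem gen {X : Subgroup Y} (hXH : X ≤ H) (hXM : ¬ X ≤ M) : R ⊔ X = H := by
  by_contra h1
  exact hXM (le_sup_right.trans (a.uniq _ le_sup_left (lt_of_le_of_ne (sup_le a.RH hXH) h1)))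

/-- **(c)**: `F_{U₁} ∩ V₀ = C` -/
theorem fx_inf {X : Subgroup Y} (hXH : X ≤ H) (hXM : ¬ X ≤ M) : fx V X ⊓ fx V R = fx V H := by
  apply le_antisymm
  · rintro v ⟨h1, h2⟩
    have h3 : H ≤ MulAction.stabilizer Y v := by
      rw [← a.gen hXH hXM]
      exact sup_le (fun r hr => h2 r hr) (fun x hx => h1 x hx)
    exact fun y hy => h3 hy
  · exact le_inf (fx_mono hXH) (fx_mono a.RH)

end one

section amb

variable (a : Amal U T M H R t) (h : Amb V U T M)
include a h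

theorem H_not_le : ¬ H ≤ M := fun h1 => a.bad.not_le 1 (by rw [map_one, one_smul]; exact h1)

theorem H_ne : H ≠ ⊤ := a.bad.ne

/-- a subgroup invariant under `H` and `t` -/
theorem no_sub {W : AddSubgroup V} (h1 : ∀ x ∈ H, ∀ w ∈ W, x • w ∈ W) (h2 : ∀ w ∈ W, t • w ∈ W) :
    W = ⊥ ∨ ∀ B ∈ U, ¬ W ≤ Ee V B := by
  apply h.irr
  have key : ∀ y ∈ (H ⊔ zpowers t : Subgroup Y), ∀ w ∈ W, y • w ∈ W ∧ y⁻¹ • w ∈ W := by
    intro y hy
    have ht : ∀ w ∈ W, t⁻¹ • w ∈ W := by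
      intro w hw
      have h3 := h2 w hw
      have h4 : t⁻¹ • w = (t * t)⁻¹ • t • w := by
        rw [← mul_smul]; congr 1; group
      rw [h4]
      exact h1 _ (H.inv_mem (a.RH a.t_sq)) _ h3
    rw [← closure_eq H, zpowers_eq_closure, ← Subgroup.closure_union] at hy
    induction hy using closure_induction with
    | mem x hx =>
      rcases hx with hx | hx
      · exact fun w hw => ⟨h1 x hx w hw, h1 _ (H.inv_mem hx) w hw⟩
      · rw [Set.mem_singleton_iff] at hx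
        subst hx
        exact fun w hw => ⟨h2 w hw, ht w hw⟩
    | one => intro w hw; rw [inv_one, one_smul]; exact ⟨hw, hw⟩
    | mul x y _ _ hx hy =>
      intro w hw
      rw [mul_inv_rev, mul_smul, mul_smul]
      exact ⟨(hx _ (hy w hw).1).1, (hy _ (hx w hw).2).2⟩
    | inv x _ hx =>
      intro w hw
      rw [inv_inv]
      exact ⟨(hx w hw).2, (hx w hw).1⟩
  intro y w hw
  exact (key y (by rw [a.top]; exact mem_top y) w hw).1

/-- `C_V(Y) = 0` -/
theorem fx_top : fx V (⊤ : Subgroup Y) = ⊥ := by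
  obtain ⟨B, hB, _⟩ := a.memR
  exact h.fx_top_of hB

theorem stab_ne {v : V} (hv : v ≠ 0) : MulAction.stabilizer Y v ≠ ⊤ := by
  intro h1
  apply hv
  have : v ∈ fx V (⊤ : Subgroup Y) := fun y hy => by
    rw [← h1] at hy; exact hy
  rw [fx_top a h] at this
  exact this

/-- **(c)**: `C ∩ C^t = 0` -/
theorem C_inf {v : V} (h1 : v ∈ fx V H) (h2 : t • v ∈ fx V H) : v = 0 := by
  have h3 : v + t • v = 0 ∨ v + t • v ≠ 0 := em _
  have key : ∀ w : V, w ∈ fx V H → t • w = w → w = 0 := by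
    intro w hw1 hw2
    by_contra hw
    apply stab_ne a h hw
    rw [eq_top_iff, ← a.top]
    exact sup_le (fun x hx => hw1 x hx) (zpowers_le.2 hw2)
  have h4 := key (v + t • v) ((fx V H).add_mem h1 h2) (by
    rw [smul_add, a.smul_smul_V0 (a.C_le h1), add_comm])
  apply key v h1
  have h5 : t • v = v := by
    have := (HE.add_eq_zero' h.two).1 h4
    exact this.symm
  exact h5

/-- **(c)**: `w ∈ V₀`, `w^t ≠ w` ⟹ `C_Y(w) ∩ C_Y(w^t) ≤ M` -/
theorem stab_inf_le [Finite Y] {w : V} (hw : w ∈ fx V R) (hne : t • w ≠ w) :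
    MulAction.stabilizer Y w ⊓ MulAction.stabilizer Y (t • w) ≤ M := by
  have h0 : w + t • w ≠ 0 := fun h1 => hne ((HE.add_eq_zero' h.two).1 h1).symm
  have hR : R ≤ MulAction.stabilizer Y (w + t • w) := by
    intro r hr
    rw [MulAction.mem_stabilizer_iff, smul_add, hw r hr, a.smul_V0 hw r hr]
  have ht : t ∈ MulAction.stabilizer Y (w + t • w) := by
    rw [MulAction.mem_stabilizer_iff, smul_add, a.smul_smul_V0 hw, add_comm]
  refine le_trans ?_ (a.le_of_card h.TM (stab_ne a h h0) hR (sup_le hR (zpowers_le.2 ht)) a.Rt2 a.card_lt)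
  rintro y ⟨h1, h2⟩
  rw [MulAction.mem_stabilizer_iff] at *
  rw [smul_add]
  exact congrArg₂ (· + ·) h1 h2

/-- **(c)**: `0 ≠ w = w^t ∈ V₀` ⟹ `C_Y(w) ≤ M` -/
theorem stab_le [Finite Y] {w : V} (hw : w ∈ fx V R) (hw0 : w ≠ 0) (ht : t • w = w) :
    MulAction.stabilizer Y w ≤ M :=
  a.le_of_card h.TM (stab_ne a h hw0) (fun r hr => hw r hr)
    (sup_le (fun r hr => hw r hr) (zpowers_le.2 ht)) a.Rt2 a.card_lt

/-- `C_V(T) ≠ 0`, `C_Y(C_V(T)) ≤ M` -/
theorem exists_z [Finite V] : ∃ z : V, z ≠ 0 ∧ z ∈ fx V (T : Subgroup Y) := by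
  have hne : ∃ w ∈ (⊤ : AddSubgroup V), w ≠ 0 := by
    obtain ⟨B, hB, _⟩ := a.memR
    obtain ⟨v, hv⟩ := (h.cls.mem B hB).ne
    exact ⟨v, AddSubgroup.mem_top v, fun h1 => hv (by rw [h1]; exact zero_mem _)⟩
  obtain ⟨w, _, hw0, hw⟩ := HE.exists_fixed h.two (R := (T : Subgroup Y)) T.2 ⊤ (fun _ _ _ _ => AddSubgroup.mem_top _) hne
  exact ⟨w, hw0, hw⟩

/-- the kernel of `H` on `W` lies in `M` -/
theorem ker_le_M [Finite V] {X : Subgroup Y} (hX : ∀ x ∈ X, ∀ v ∈ fx V R, x • v = v) : X ≤ M := by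
  obtain ⟨z, hz0, hz⟩ := exists_z a h
  have h1 : (T : Subgroup Y) ≤ MulAction.stabilizer Y z := fun x hx => hz x hx
  exact le_trans (fun x hx => hX x hx z (fx_mono a.RT hz)) (h.max _ h1 (stab_ne a h hz0))

/-- `Q` is trivial on `W` -/
theorem QQ_fix {q : Y} (hq : q ∈ QQ H R) {w : V} (hw : w ∈ WW V H R) : q • w = w := by
  induction hw using AddSubgroup.closure_induction with
  | mem v hv =>
    obtain ⟨x, hx, w, hw, rfl⟩ := hv
    have h1 := hw _ (QQ_le (conj_mem_QQ (H.inv_mem hx) hq))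
    rw [mul_smul, mul_smul, inv_smul_eq_iff, inv_inv] at h1
    exact h1
  | zero => exact smul_zero q
  | add b c _ _ h1 h2 => rw [smul_add, h1, h2]
  | neg b _ h1 => rw [smul_neg, h1]

/-- **(c)**: `C_R(W) = Q` (Frattini) -/
theorem mem_QQ_iff [Finite Y] [Finite V] {r : Y} (hr : r ∈ R) : r ∈ QQ H R ↔ ∀ w ∈ WW V H R, r • w = w := by
  have : Fact (Nat.Prime 2) := ⟨Nat.prime_two⟩
  refine ⟨fun h1 w hw => QQ_fix a h h1 hw, fun h1 => ?_⟩
  -- the kernel
  let K : Subgroup H :=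
    { carrier := {x | ∀ w ∈ WW V H R, (x : Y) • w = w}
      one_mem' := fun w _ => one_smul Y w
      mul_mem' := fun {x y} hx hy w hw => by
        change ((x : Y) * (y : Y)) • w = w
        rw [mul_smul, hy w hw, hx w hw]
      inv_mem' := fun {x} hx w hw => by
        change (x : Y)⁻¹ • w = w
        rw [inv_smul_eq_iff, hx w hw] }
  have hK : ∀ x : H, x ∈ K ↔ ∀ w ∈ WW V H R, (x : Y) • w = w := fun x => Iff.rfl
  have hKn : K.Normal := by
    refine ⟨fun x hx g w hw => ?_⟩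
    change ((g : Y) * x * (g : Y)⁻¹) • w = w
    rw [mul_smul, mul_smul, hx _ (smul_mem_WW (H.inv_mem g.2) hw), smul_inv_smul]
  -- `R` as a Sylow subgroup of `H`
  have hRp : IsPGroup 2 (R.subgroupOf H) := a.R2.comap_of_injective H.subtype H.subtype_injective
  obtain ⟨P, hP⟩ := hRp.exists_le_sylow
  have hPR : (P : Subgroup H) = R.subgroupOf H := by
    symm
    apply eq_of_le_of_card_ge hP
    have h2 := a.card_le a.bad.ne le_rfl (map_subtype_le (P : Subgroup H)) (P.2.map H.subtype)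
    rw [Nat.card_congr ((P : Subgroup H).equivMapOfInjective _ H.subtype_injective).symm.toEquiv] at h2
    rwa [Nat.card_congr (subgroupOfEquivOfLe a.RH).toEquiv]
  have h2 := frattini_inf P K
  have h3 : normalizer (((P : Subgroup H) ⊓ K : Subgroup H) : Set H) = ⊤ := by
    by_contra h4
    set N := normalizer (((P : Subgroup H) ⊓ K : Subgroup H) : Set H) with hN
    have hle : R ≤ N.map H.subtype := by
      intro r hr
      refine ⟨⟨r, a.RH hr⟩, ?_, rfl⟩
      have hrP : (⟨r, a.RH hr⟩ : H) ∈ P := by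
        change (⟨r, a.RH hr⟩ : H) ∈ (P : Subgroup H)
        rw [hPR]; exact hr
      rw [hN, SetLike.mem_coe, mem_normalizer_iff]
      intro y
      constructor
      · rintro ⟨hy1, hy2⟩
        exact ⟨(P : Subgroup H).mul_mem ((P : Subgroup H).mul_mem hrP hy1) ((P : Subgroup H).inv_mem hrP),
          hKn.conj_mem y hy2 _⟩
      · rintro ⟨hy1, hy2⟩
        refine ⟨?_, ?_⟩
        · have := (P : Subgroup H).mul_mem ((P : Subgroup H).mul_mem ((P : Subgroup H).inv_mem hrP) hy1) hrP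
          have e : (⟨r, a.RH hr⟩ : H)⁻¹ * (⟨r, a.RH hr⟩ * y * (⟨r, a.RH hr⟩ : H)⁻¹) * ⟨r, a.RH hr⟩ = y := by group
          rwa [e] at this
        · have := hKn.conj_mem _ hy2 (⟨r, a.RH hr⟩ : H)⁻¹
          have e : (⟨r, a.RH hr⟩ : H)⁻¹ * (⟨r, a.RH hr⟩ * y * (⟨r, a.RH hr⟩ : H)⁻¹) * (⟨r, a.RH hr⟩ : H)⁻¹⁻¹ = y := by
            group
          rwa [e] at this
    have hlt : N.map H.subtype < H := by
      refine lt_of_le_of_ne (map_subtype_le _) fun h5 => h4 ?_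
      rw [eq_top_iff]
      intro x _
      have h6 : (x : Y) ∈ N.map H.subtype := by rw [h5]; exact x.2
      obtain ⟨n, hn, hnx⟩ := h6
      have : n = x := Subtype.ext hnx
      rwa [← this]
    have h5 := a.uniq _ hle hlt
    have h6 : K.map H.subtype ≤ M := ker_le_M a h (by
      rintro _ ⟨x, hx, rfl⟩ v hv
      exact hx v (fx_le_WW hv))
    apply H_not_le a h
    intro x hx
    have h7 : (⟨x, hx⟩ : H) ∈ N ⊔ K := by rw [h2]; exact mem_top _
    have h8 : (N ⊔ K).map H.subtype ≤ M := by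
      rw [Subgroup.map_sup]; exact sup_le h5 h6
    exact h8 ⟨_, h7, rfl⟩
  have h4 : ((P : Subgroup H) ⊓ K).Normal := normalizer_eq_top_iff.1 h3
  have hrP : (⟨r, a.RH hr⟩ : H) ∈ (P : Subgroup H) := by rw [hPR]; exact hr
  intro x hx
  have h5 := h4.conj_mem (⟨r, a.RH hr⟩ : H) ⟨hrP, h1⟩ ⟨x, hx⟩
  have h6 := h5.1
  rw [hPR] at h6
  exact h6

/-- `QQ` is a 2-group -/
theorem QQ2 : IsPGroup 2 (QQ H R) := a.R2.to_le QQ_le

/-- `Q^t ≠ Q` unless `Q = 1` -/
theorem QQ_ne (hQ : QQ H R ≠ ⊥) : ∃ q ∈ QQ H R, t * q * t⁻¹ ∉ QQ H R ∨ t⁻¹ * q * t ∉ QQ H R := by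
  by_contra hcon
  push Not at hcon
  exact hQ (a.no_inv h.core (QQ2 a h) (fun x hx y hy => conj_mem_QQ hx hy) (fun y hy => (hcon y hy).1)
    fun y hy => (hcon y hy).2)

/-- **(d)**: some member in `R` is not in `Q` -/
theorem exists_not_QQ : ∃ B ∈ U, B ≤ R ∧ ¬ B ≤ QQ H R := by
  by_contra hcon
  push Not at hcon
  -- the group generated by the members in `R`
  let J : Subgroup Y := ⨆ B : {B : Subgroup Y // B ∈ U ∧ B ≤ R}, (B : Subgroup Y)
  have hJ : ∀ B ∈ U, B ≤ R → B ≤ J := fun B h1 h2 => le_iSup (fun B : {B : Subgroup Y // B ∈ U ∧ B ≤ R} => (B : Subgroup Y)) ⟨B, h1, h2⟩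
  have hJR : J ≤ R := iSup_le fun B => B.2.2
  have key : ∀ y : Y, (∀ B ∈ U, B ≤ R → MulAut.conj y • B ≤ R) → ∀ x ∈ J, y * x * y⁻¹ ∈ J := by
    intro y hy
    have h1 : J ≤ MulAut.conj y⁻¹ • J := by
      apply iSup_le
      rintro ⟨B, hB, hBR⟩
      rw [← conj_le_iff]
      exact hJ _ (h.cls.conj B hB y) (hy B hB hBR)
    intro x hx
    have h2 := h1 hx
    rw [mem_conj] at h2
    have e : (y⁻¹)⁻¹ * x * y⁻¹ = y * x * y⁻¹ := by group
    rwa [e] at h2
  have hJ1 : J = ⊥ := by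
    apply a.no_inv h.core (a.R2.to_le hJR)
    · intro x hx
      apply key
      intro B hB hBR y hy
      rw [mem_conj] at hy
      have h1 := QQ_le (conj_mem_QQ hx (hcon B hB hBR hy))
      have e : x * (x⁻¹ * y * x) * x⁻¹ = y := by group
      rwa [e] at h1
    · apply key
      intro B hB hBR y hy
      rw [mem_conj] at hy
      have h1 := a.t_norm _ (hBR hy)
      have e : t * (t⁻¹ * y * t) * t⁻¹ = y := by group
      rwa [e] at h1
    · have h1 := key t⁻¹ (by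
        intro B hB hBR y hy
        rw [mem_conj] at hy
        have h1 := a.symm_smul (hBR hy)
        have e : t⁻¹ * (t⁻¹⁻¹ * y * t⁻¹) * t = y := by group
        rwa [e] at h1)
      intro y hy
      have := h1 y hy
      rwa [inv_inv] at this
  obtain ⟨B, hB, hBR⟩ := a.memR
  apply Mem.ne_bot (h.cls.mem B hB)
  rw [eq_bot_iff, ← hJ1]
  exact hJ B hB hBR

end amb

end Amal

end Cfsg.Agent.Omega.NO1.TH
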