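import Cfsg.Agent.Omega.NO1.TH.NoOvV
import Cfsg.Agent.Omega.NO1.TH.Basic

/-!
# N1, LEMMA Q (bb OMEGA 20114, helper620): `W ≰ E_U` implies `O₂(H) = 1`

Abstract form: `L` acts faithfully on `V`, `T ∈ Syl₂(L)` lies in a unique maximal subgroup, `C_V(L) = 0`, `U ≤ T` a member
with `|V : E| < |U|`, no offender, `W = ⟨C_V(T)^L⟩ ≰ E`. Then `O₂(L) = 1`, and `V' = [V, O²(L)]` is contained in every
nonzero `L`-submodule (`LQ.le_of_ne`).
Amalgam form: `Amal.lemQ`.
-/

set_option autoImplicit false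
set_option linter.unusedSectionVars false

namespace Cfsg.Agent.Omega.NO1.TH

open Subgroup Cfsg.Agent.Omega.NO1.AB
open Cfsg.Agent.MinSimple.MinParabolic (IsMin IsMinPar)
open Cfsg.Agent.Omega.NO1.TH.MF (Inv)
open scoped Pointwise

universe u

variable {L : Type u} [Group L] {V : Type u} [AddCommGroup V] [DistribMulAction L V]

/-- The hypotheses of LEMMA Q, without `W ≰ E`. -/
structure LQ (T : Sylow 2 L) (M U : Subgroup L) (E F : AddSubgroup V) : Prop where
  two : ∀ v : V, v + v = 0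
  faith : ∀ l : L, (∀ v : V, l • v = v) → l = 1
  min : IsMin (T : Subgroup L) M
  fix : ∀ v : V, (∀ l : L, l • v = v) → v = 0
  mem : Mem U E F
  UT : U ≤ (T : Subgroup L)
  lt : E.index < Nat.card U

/-- no offender -/
def NoOff (L : Type u) [Group L] (V : Type u) [AddCommGroup V] [DistribMulAction L V] : Prop :=
  ∀ B : Subgroup L, (∀ a ∈ B, ∀ b ∈ B, a * b = b * a) → (∀ a ∈ B, a * a = 1) → B ≠ ⊥ →
    Nat.card B < (fx V B).index

/-- `[V, O²(L)]` -/
def VO (L : Type u) [Group L] (V : Type u) [AddCommGroup V] [DistribMulAction L V] : AddSubgroup V :=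
  AddSubgroup.closure {w | ∃ x ∈ od L, ∃ v : V, w = x • v + v}

theorem mem_VO {x : L} (hx : x ∈ od L) (v : V) : x • v + v ∈ VO L V := AddSubgroup.subset_closure ⟨x, hx, v, rfl⟩

theorem VO_inv : Inv (⊤ : Subgroup L) (VO L V) := by
  intro l _ w hw
  induction hw using AddSubgroup.closure_induction with
  | mem w hw =>
    obtain ⟨x, hx, v, rfl⟩ := hw
    have h1 : l • (x • v + v) = (l * x * l⁻¹) • (l • v) + l • v := by
      rw [smul_add, ← mul_smul, ← mul_smul, inv_mul_cancel_right]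
    rw [h1]
    exact mem_VO (od_normal.conj_mem x hx l) _
  | zero => rw [smul_zero]; exact zero_mem _
  | add a b _ _ h1 h2 => rw [smul_add]; exact add_mem h1 h2
  | neg a _ h1 => rw [smul_neg]; exact neg_mem h1

/-- `V' ≤ A` or the section `V/A` is noncentral -/
theorem VO_le_or (A : AddSubgroup V) : VO L V ≤ A ∨ ∃ c ∈ (⊤ : AddSubgroup V), ∃ x ∈ od L, x • c + c ∉ A := by
  by_cases h : ∃ c ∈ (⊤ : AddSubgroup V), ∃ x ∈ od L, x • c + c ∉ A
  · exact Or.inr h
  · left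
    push Not at h
    rw [VO, AddSubgroup.closure_le]
    rintro _ ⟨x, hx, v, rfl⟩
    exact h v (AddSubgroup.mem_top v) x hx

theorem inv_sup_F {U : Subgroup L} {E F A : AddSubgroup V} (hm : Mem U E F) (hA : Inv (⊤ : Subgroup L) A)
    (h : ¬ A ≤ E) (two : ∀ v : V, v + v = 0) : E ≤ A ⊔ F := by
  obtain ⟨w, hw, hwE⟩ := SetLike.not_le_iff_exists.1 h
  intro e he
  obtain ⟨b, _, hb⟩ := hm.surj w hwE e he
  have h1 : e = (b • w + w) + (b • w + w + e) := by
    rw [← add_assoc, two, zero_add]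
  rw [h1]
  exact AddSubgroup.add_mem_sup (A.add_mem (hA b (mem_top b) w hw) hw) hb

theorem card_index (A : AddSubgroup V) : A.index * Nat.card A = Nat.card V := by
  rw [mul_comm]; exact A.card_mul_index

namespace LQ

variable {T : Sylow 2 L} {M U : Subgroup L} {E F : AddSubgroup V}

section a

variable [Finite L] [Finite V] (h : LQ T M U E F)
include h

/-- `C_V(O²(L)) = 0` -/
theorem fx_od : fx V (od L) = ⊥ := by
  by_contra hne
  have hn : ∃ w ∈ fx V (od L), w ≠ 0 := by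
    by_contra hcon
    push Not at hcon
    apply hne
    rw [eq_bot_iff]
    exact hcon
  obtain ⟨w, hw, hw0, hwT⟩ := HE.exists_fixed h.two (R := (T : Subgroup L)) T.2 (fx V (od L))
    (fun r _ w hw => fx_inv od_normal r hw) hn
  apply hw0
  apply h.fix
  intro l
  have h1 : od L ⊔ (T : Subgroup L) ≤ MulAction.stabilizer L w :=
    sup_le (fun x hx => hw x hx) (fun x hx => hwT x hx)
  rw [od_sup] at h1
  exact h1 (mem_top l)

/-- no over-offender in the noncentral sections -/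
theorem noOv (hUQ : U ⊓ pCore 2 L = ⊥) {A K C : AddSubgroup V} (hAK : A ≤ K) (hKC : K ≤ C)
    (hA : Inv (⊤ : Subgroup L) A) (hC : Inv (⊤ : Subgroup L) C) (hnt : ∃ c ∈ C, ∃ x ∈ od L, x • c + c ∉ A)
    (hKU : ∀ b ∈ K, ∀ e ∈ U, e • b + b ∈ A) : Nat.card U * Nat.card K ≤ Nat.card C :=
  noOvV h.two T h.min hAK hKC hA hC hnt h.mem.isPGroup h.mem.comm h.mem.sq hUQ hKU

/-- a submodule which is not in `E` contains `V'` -/
theorem le_of_not_le (hUQ : U ⊓ pCore 2 L = ⊥) {A : AddSubgroup V} (hA : Inv (⊤ : Subgroup L) A)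
    (hAE : ¬ A ≤ E) : VO L V ≤ A := by
  rcases VO_le_or (L := L) A with h1 | h1
  · exact h1
  exfalso
  have hE := inv_sup_F h.mem hA hAE h.two
  have h2 := h.noOv hUQ (K := A ⊔ F) le_sup_left le_top hA (fun _ _ _ _ => AddSubgroup.mem_top _) h1 (by
    intro b hb e he
    obtain ⟨a, ha, f, hf, rfl⟩ := AddSubgroup.mem_sup.1 hb
    rw [smul_add, h.mem.FB e he f hf]
    have e1 : e • a + f + (a + f) = (e • a + a) + (f + f) := by abel
    rw [e1, h.two, add_zero]
    exact A.add_mem (hA e (mem_top e) a ha) ha)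
  rw [AddSubgroup.card_top, ← card_index E] at h2
  have h3 : Nat.card E ≤ Nat.card ↥(A ⊔ F) := Nat.card_le_card_of_injective _ (AddSubgroup.inclusion_injective hE)
  have h4 := h.lt
  have h5 : 0 < Nat.card E := Nat.card_pos
  have h6 : Nat.card U * Nat.card E ≤ Nat.card U * Nat.card ↥(A ⊔ F) := Nat.mul_le_mul_left _ h3
  have h7 := lt_of_lt_of_le ((Nat.mul_lt_mul_right h5).2 h4) h6
  omega

/-- **(q3)** every nonzero submodule contains `V'` -/
theorem le_of_ne (hUQ : U ⊓ pCore 2 L = ⊥) {A : AddSubgroup V} (hA : Inv (⊤ : Subgroup L) A) (hne : A ≠ ⊥) :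
    VO L V ≤ A := by
  by_cases hAE : A ≤ E
  swap
  · exact h.le_of_not_le hUQ hA hAE
  rcases VO_le_or (L := L) A with h1 | h1
  · exact h1
  exfalso
  -- `A` is noncentral
  have hnt : ∃ c ∈ A, ∃ x ∈ od L, x • c + c ∉ (⊥ : AddSubgroup V) := by
    by_contra hcon
    push Not at hcon
    apply hne
    rw [eq_bot_iff, ← h.fx_od]
    intro c hc x hx
    exact (HE.add_eq_zero' h.two).1 (hcon c hc x hx)
  have h2 := h.noOv hUQ (A := ⊥) (K := A ⊓ F) bot_le inf_le_left MF.Inv.bot hA hnt (by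
    intro b hb e he
    rw [h.mem.FB e he b hb.2, h.two]
    exact zero_mem _)
  have h3 := card_sup_as A F
  have h4 := h.mem.card_E h.two
  have h5 : A ⊔ F = E := by
    apply eq_of_le_as (sup_le hAE h.mem.FE)
    have hp : 0 < Nat.card ↥(A ⊓ F) := Nat.card_pos
    have h6 : Nat.card E * Nat.card ↥(A ⊓ F) ≤ Nat.card ↥(A ⊔ F) * Nat.card ↥(A ⊓ F) := by
      rw [h3, h4]
      calc Nat.card F * Nat.card U * Nat.card ↥(A ⊓ F) = Nat.card U * Nat.card ↥(A ⊓ F) * Nat.card F := by ring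
        _ ≤ Nat.card A * Nat.card F := Nat.mul_le_mul_right _ h2
    exact Nat.le_of_mul_le_mul_right h6 hp
  have h6 := h.noOv hUQ (K := E) hAE le_top hA (fun _ _ _ _ => AddSubgroup.mem_top _) h1 (by
    intro b hb e he
    rw [← h5] at hb
    obtain ⟨a, ha, f, hf, rfl⟩ := AddSubgroup.mem_sup.1 hb
    rw [smul_add, h.mem.FB e he f hf]
    have e1 : e • a + f + (a + f) = (e • a + a) + (f + f) := by abel
    rw [e1, h.two, add_zero]
    exact A.add_mem (hA e (mem_top e) a ha) ha)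
  rw [AddSubgroup.card_top, ← card_index E] at h6
  have h7 : 0 < Nat.card E := Nat.card_pos
  have h8 := (Nat.mul_lt_mul_right h7).2 h.lt
  omega

/-- `O₂(L)` is trivial on `W` -/
theorem core_fix {q : L} (hq : q ∈ pCore 2 L) {w : V} (hw : w ∈ WW V ⊤ (T : Subgroup L)) : q • w = w := by
  have f2 : Fact (Nat.Prime 2) := ⟨Nat.prime_two⟩
  have hn : (pCore 2 L).Normal := Lib.Cores.pCore_normal 2
  have hT : pCore 2 L ≤ (T : Subgroup L) := by
    obtain ⟨P, hP⟩ := (Lib.Cores.pCore_isPGroup (G := L) 2).exists_le_sylow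
    obtain ⟨g, hg⟩ := MulAction.exists_smul_eq L P T
    intro x hx
    rw [← hg, Sylow.coe_subgroup_smul, mem_pointwise_smul_iff_inv_smul_mem, MulAut.smul_def, ← map_inv,
      MulAut.conj_apply, inv_inv]
    apply hP
    have := hn.conj_mem x hx g⁻¹
    rwa [inv_inv] at this
  induction hw using AddSubgroup.closure_induction with
  | mem v hv =>
    obtain ⟨x, _, w, hw, rfl⟩ := hv
    have h1 := hn.conj_mem q hq x⁻¹
    rw [inv_inv] at h1
    have h2 := hw _ (hT h1)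
    rw [mul_smul, mul_smul, inv_smul_eq_iff] at h2
    exact h2
  | zero => exact smul_zero q
  | add b c _ _ h1 h2 => rw [smul_add, h1, h2]
  | neg b _ h1 => rw [smul_neg, h1]

/-- **(q1)** `U ∩ O₂(L) = 1` -/
theorem inf_core (hW : ¬ WW V ⊤ (T : Subgroup L) ≤ E) : U ⊓ pCore 2 L = ⊥ := by
  obtain ⟨w, hw, hwE⟩ := SetLike.not_le_iff_exists.1 hW
  rw [eq_bot_iff]
  rintro b ⟨hb, hbQ⟩
  rw [mem_bot]
  apply h.mem.inj w hwE b hb
  rw [h.core_fix hbQ hw, h.two]
  exact zero_mem _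

/-- `W ≤ V₀ + V'` -/
theorem WW_le_sup : WW V ⊤ (T : Subgroup L) ≤ fx V (T : Subgroup L) ⊔ VO L V := by
  apply WW_le
  intro x _ w hw
  have h1 : x ∈ od L ⊔ (T : Subgroup L) := by rw [od_sup]; exact mem_top x
  obtain ⟨o, ho, t, ht, rfl⟩ := mem_sup_of_normal_left.1 h1
  rw [mul_smul, hw t ht]
  have h2 : o • w = w + (o • w + w) := by
    rw [add_comm (o • w) w, ← add_assoc, h.two, zero_add]
  rw [h2]
  exact AddSubgroup.add_mem_sup hw (mem_VO ho w)

/-- `V' ≰ E` -/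
theorem VO_not_le (hW : ¬ WW V ⊤ (T : Subgroup L) ≤ E) : ¬ VO L V ≤ E := by
  intro h1
  apply hW
  refine h.WW_le_sup.trans (sup_le ?_ h1)
  intro v hv
  apply h.mem.FE
  apply h.mem.CB
  intro b hb
  exact hv b (h.UT hb)

/-- `V' ≤ W` -/
theorem VO_le_WW (hW : ¬ WW V ⊤ (T : Subgroup L) ≤ E) : VO L V ≤ WW V ⊤ (T : Subgroup L) :=
  h.le_of_not_le (h.inf_core hW) (fun _ hl _ hw => smul_mem_WW hl hw) hW

/-- **LEMMA Q**, abstract form: `W ≰ E` implies `O₂(L) = 1`. -/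
theorem core_eq_bot (hoff : NoOff L V) (hW : ¬ WW V ⊤ (T : Subgroup L) ≤ E) : pCore 2 L = ⊥ := by
  have f2 : Fact (Nat.Prime 2) := ⟨Nat.prime_two⟩
  have hn : (pCore 2 L).Normal := Lib.Cores.pCore_normal 2
  have hUQ := h.inf_core hW
  have hQV : ∀ q ∈ pCore 2 L, ∀ m ∈ VO L V, q • m = m := fun q hq m hm => h.core_fix hq (h.VO_le_WW hW hm)
  have hirr : ∀ A ≤ VO L V, Inv (⊤ : Subgroup L) A → A = ⊥ ∨ A = VO L V := by
    intro A hA hAi
    by_cases h1 : A = ⊥
    · exact Or.inl h1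
    · exact Or.inr (le_antisymm hA (h.le_of_ne hUQ hAi h1))
  have hxm : ∀ x ∈ od L, ∀ v : V, ∃ m ∈ VO L V, x • v = v + m := by
    intro x hx v
    refine ⟨x • v + v, mem_VO hx v, ?_⟩
    rw [add_comm (x • v) v, ← add_assoc, h.two, zero_add]
  by_contra hQ
  obtain ⟨q, hq, hq1⟩ : ∃ q ∈ pCore 2 L, q ≠ 1 := by
    by_contra hcon
    push Not at hcon
    apply hQ
    rw [eq_bot_iff]
    exact hcon
  -- `Q₀`
  let Q₀ : Subgroup L :=
    { carrier := {y | y ∈ pCore 2 L ∧ ∀ v : V, y • v + v ∈ VO L V}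
      one_mem' := ⟨one_mem _, fun v => by rw [one_smul, h.two]; exact zero_mem _⟩
      mul_mem' := by
        rintro a b ⟨ha, ha2⟩ ⟨hb, hb2⟩
        refine ⟨mul_mem ha hb, fun v => ?_⟩
        have e : (a * b) • v + v = (a • (b • v) + b • v) + (b • v + v) := by
          rw [mul_smul]
          have : a • b • v + b • v + (b • v + v) = a • b • v + (b • v + b • v) + v := by abel
          rw [this, h.two, add_zero]
        rw [e]
        exact add_mem (ha2 _) (hb2 v)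
      inv_mem' := by
        rintro a ⟨ha, ha2⟩
        refine ⟨inv_mem ha, fun v => ?_⟩
        have h1 := ha2 (a⁻¹ • v)
        rw [smul_inv_smul, add_comm] at h1
        exact h1 }
  have hQ₀ : ∀ y, y ∈ Q₀ ↔ y ∈ pCore 2 L ∧ ∀ v : V, y • v + v ∈ VO L V := fun y => Iff.rfl
  have hQ₀n : ∀ x : L, ∀ y ∈ Q₀, x * y * x⁻¹ ∈ Q₀ := by
    rintro x y ⟨hy, hy2⟩
    refine ⟨hn.conj_mem y hy x, fun v => ?_⟩
    have h1 := VO_inv x (mem_top x) _ (hy2 (x⁻¹ • v))
    rw [smul_add, smul_inv_smul, ← mul_smul, ← mul_smul] at h1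
    exact h1
  -- `Q₀ ≠ 1`
  have hQ₀ne : Q₀ ≠ ⊥ := by
    -- some `x ∈ O²(L)` does not commute with `q`
    obtain ⟨x, hx, hxq⟩ : ∃ x ∈ od L, x * q ≠ q * x := by
      by_contra hcon
      push Not at hcon
      apply hq1
      apply h.faith
      intro v
      have h1 : q • v + v ∈ fx V (od L) := by
        intro x hx
        obtain ⟨m, hm, hxv⟩ := hxm x hx v
        rw [smul_add, ← mul_smul, hcon x hx, mul_smul, hxv, smul_add, hQV q hq m hm]
        have e1 : q • v + m + (v + m) = q • v + v + (m + m) := by abel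
        rw [e1, h.two, add_zero]
      rw [h.fx_od, AddSubgroup.mem_bot] at h1
      exact (HE.add_eq_zero' h.two).1 h1
    intro h1
    have h2 : x * q * x⁻¹ * q⁻¹ ∈ Q₀ := by
      refine ⟨mul_mem (hn.conj_mem q hq x) (inv_mem hq), fun v => ?_⟩
      -- modulo `V'`
      have key : ∀ w : V, x • w + w ∈ VO L V := fun w => mem_VO hx w
      have key' : ∀ w : V, x⁻¹ • w + w ∈ VO L V := fun w => mem_VO (inv_mem hx) w
      have h3 : (x * q * x⁻¹ * q⁻¹) • v + v =
          (x • (q • x⁻¹ • q⁻¹ • v) + q • x⁻¹ • q⁻¹ • v) + q • (x⁻¹ • q⁻¹ • v + q⁻¹ • v) := by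
        rw [smul_add, smul_inv_smul, mul_smul, mul_smul, mul_smul]
        have : x • q • x⁻¹ • q⁻¹ • v + q • x⁻¹ • q⁻¹ • v + (q • x⁻¹ • q⁻¹ • v + v) =
          x • q • x⁻¹ • q⁻¹ • v + (q • x⁻¹ • q⁻¹ • v + q • x⁻¹ • q⁻¹ • v) + v := by abel
        rw [this, h.two, add_zero]
      rw [h3]
      exact add_mem (key _) (VO_inv q (mem_top q) _ (key' _))
    rw [h1, mem_bot, mul_inv_eq_one, mul_inv_eq_iff_eq_mul] at h2
    exact hxq h2
  -- a minimal `O²(L)`-invariant subgroup of `Q₀`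
  obtain ⟨N, ⟨hNQ, hNne, hNO⟩, hNmin⟩ := Set.exists_min_image
    {N : Subgroup L | N ≤ Q₀ ∧ N ≠ ⊥ ∧ ∀ o ∈ od L, ∀ n ∈ N, o * n * o⁻¹ ∈ N} (fun N => Nat.card N)
    (Set.toFinite _) ⟨Q₀, le_rfl, hQ₀ne, fun o _ n hn => hQ₀n o n hn⟩
  have hVN : ∀ n ∈ N, ∀ v : V, n • v + v ∈ VO L V := fun n hn v => ((hQ₀ n).1 (hNQ hn)).2 v
  have hMN : ∀ n ∈ N, ∀ m ∈ VO L V, n • m = m := fun n hn m hm => hQV n ((hQ₀ n).1 (hNQ hn)).1 m hm
  have h1 := MF.index_le (O := od L) (T := (T : Subgroup L)) (M := VO L V) (N := N) h.two T.2 (od_sup T) VO_inv hirr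
    hNne hNO (by
      intro N' hN' hN'O
      by_cases h2 : N' = ⊥
      · exact Or.inl h2
      · right
        exact eq_of_le_of_card_ge hN' (hNmin N' ⟨hN'.trans hNQ, h2, hN'O⟩)) hVN hMN fun o ho v => mem_VO ho v
  have h2 := hoff N (by
    intro a ha b hb
    have h3 : ∀ v : V, (a * b)  • v = (b * a) • v := by
      intro v
      have h4 := MF.comp hVN hMN h.two ha hb v
      have h5 := MF.comp hVN hMN h.two hb ha v
      rw [add_comm (b • v + v)] at h5
      exact add_right_cancel (h4.trans h5.symm)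
    have h4 : (b * a)⁻¹ * (a * b) = 1 := by
      apply h.faith
      intro v
      rw [mul_smul, h3, inv_smul_smul]
    exact (inv_mul_eq_one.1 h4).symm) (by
    intro a ha
    apply h.faith
    intro v
    have h4 := MF.comp hVN hMN h.two ha ha v
    rw [h.two] at h4
    exact (HE.add_eq_zero' h.two).1 h4) hNne
  omega

end a

end LQ

/-! ### the amalgam form -/

section sub

variable {Y : Type u} [Group Y] [DistribMulAction Y V]

theorem fx_map {H : Subgroup Y} (B : Subgroup H) : fx V (B.map H.subtype) = fx V B := by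
  ext v
  constructor
  · intro hv b hb
    exact hv b ⟨b, hb, rfl⟩
  · rintro hv _ ⟨b, hb, rfl⟩
    exact hv b hb

theorem Mem.subgroupOf {B H : Subgroup Y} {E F : AddSubgroup V} (hm : Mem B E F) (hBH : B ≤ H) :
    Mem (B.subgroupOf H) E F where
  comm := fun b hb c hc => Subtype.ext (hm.comm b hb c hc)
  sq := fun b hb => Subtype.ext (hm.sq b hb)
  FE := hm.FE
  VB := fun b hb v => hm.VB b hb v
  EB := fun b hb e he => hm.EB b hb e he
  FB := fun b hb f hf => hm.FB b hb f hf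
  CB := fun v hv => hm.CB v fun b hb => hv ⟨b, hBH hb⟩ hb
  inj := fun w hw b hb h => Subtype.ext (hm.inj w hw b hb h)
  surj := fun w hw e he => by
    obtain ⟨b, hb, h⟩ := hm.surj w hw e he
    exact ⟨⟨b, hBH hb⟩, hb, h⟩
  ne := hm.ne

theorem NoOff.sub (h : NoOff Y V) (H : Subgroup Y) : NoOff H V := by
  intro B hc hs hne
  rw [← fx_map, Nat.card_congr (B.equivMapOfInjective _ H.subtype_injective).toEquiv]
  apply h
  · rintro _ ⟨x, hx, rfl⟩ _ ⟨y, hy, rfl⟩
    exact congrArg Subtype.val (hc x hx y hy)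
  · rintro _ ⟨x, hx, rfl⟩
    exact congrArg Subtype.val (hs x hx)
  · rwa [Ne, Subgroup.map_eq_bot_iff_of_injective _ H.subtype_injective]

end sub

namespace Amal

variable {Y : Type u} [Group Y] [DistribMulAction Y V] {U : Set (Subgroup Y)} {T : Sylow 2 Y}
  {M H R : Subgroup Y} {t : Y}

/-- `R` as a Sylow 2-subgroup of `H` -/
theorem exists_sylH [Finite Y] (a : Amal U T M H R t) : ∃ P : Sylow 2 H, (P : Subgroup H) = R.subgroupOf H := by
  have hRp : IsPGroup 2 (R.subgroupOf H) := a.R2.comap_of_injective H.subtype H.subtype_injective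
  obtain ⟨P, hP⟩ := hRp.exists_le_sylow
  refine ⟨P, ?_⟩
  symm
  apply eq_of_le_of_card_ge hP
  have h2 := a.card_le a.bad.ne le_rfl (map_subtype_le (P : Subgroup H)) (P.2.map H.subtype)
  rw [Nat.card_congr ((P : Subgroup H).equivMapOfInjective _ H.subtype_injective).symm.toEquiv] at h2
  rwa [Nat.card_congr (subgroupOfEquivOfLe a.RH).toEquiv]

theorem isMinH [Finite Y] (a : Amal U T M H R t) : IsMin (R.subgroupOf H) (M.subgroupOf H) where
  ne_top := fun h => a.bad.not_le 1 (by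
    rw [map_one, one_smul]
    exact subgroupOf_eq_top.1 h)
  le_of := fun K hK hne => by
    have h1 : R ≤ K.map H.subtype := by
      intro r hr
      exact ⟨⟨r, a.RH hr⟩, hK hr, rfl⟩
    have h2 : K.map H.subtype < H := by
      refine lt_of_le_of_ne (map_subtype_le _) fun h5 => hne ?_
      rw [eq_top_iff]
      intro x _
      have h6 : (x : Y) ∈ K.map H.subtype := by rw [h5]; exact x.2
      obtain ⟨n, hn, hnx⟩ := h6
      have : n = x := Subtype.ext hnx
      rwa [← this]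
    intro x hx
    exact a.uniq _ h1 h2 ⟨x, hx, rfl⟩

/-- `O₂(H) ≤ QQ H R` -/
theorem core_le [Finite Y] (a : Amal U T M H R t) : (pCore 2 H).map H.subtype ≤ QQ H R := by
  have f2 : Fact (Nat.Prime 2) := ⟨Nat.prime_two⟩
  have hn : (pCore 2 H).Normal := Lib.Cores.pCore_normal 2
  obtain ⟨P, hP⟩ := a.exists_sylH
  apply le_QQ
  · rintro _ ⟨x, hx, rfl⟩
    have h1 : x ∈ (P : Subgroup H) := by
      obtain ⟨P', hP'⟩ := (Lib.Cores.pCore_isPGroup (G := H) 2).exists_le_sylow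
      obtain ⟨g, hg⟩ := MulAction.exists_smul_eq H P' P
      rw [← hg, Sylow.coe_subgroup_smul, mem_pointwise_smul_iff_inv_smul_mem, MulAut.smul_def, ← map_inv,
        MulAut.conj_apply, inv_inv]
      apply hP'
      have := hn.conj_mem x hx g⁻¹
      rwa [inv_inv] at this
    rw [hP] at h1
    exact h1
  · rintro x hx _ ⟨y, hy, rfl⟩
    exact ⟨⟨x, hx⟩ * y * ⟨x, hx⟩⁻¹, hn.conj_mem y hy _, rfl⟩

theorem QQ_le_core [Finite Y] (a : Amal U T M H R t) : (QQ H R).subgroupOf H ≤ pCore 2 H := by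
  have f2 : Fact (Nat.Prime 2) := ⟨Nat.prime_two⟩
  apply Lib.Cores.le_pCore
  · refine ⟨fun n hn g => ?_⟩
    exact conj_mem_QQ g.2 hn
  · exact (a.R2.to_le QQ_le).comap_of_injective H.subtype H.subtype_injective

/-- the hypotheses of LEMMA Q for `H` -/
theorem exists_lq [Finite Y] [Finite V] (a : Amal U T M H R t) (h : Amb V U T M)
    (soc : ∀ B ∈ U, ∀ X : Subgroup Y, B ≤ X → (∃ v : V, v ≠ 0 ∧ ∀ x ∈ X, x • v = v) → B ⊓ ZN.o2 X ≠ ⊥)
    {B : Subgroup Y} (hB : B ∈ U) (hBR : B ≤ R) (hlt : (Ee V B).index < Nat.card B)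
    (hW : ¬ WW V H R ≤ Ee V B) : ∃ P : Sylow 2 H, (P : Subgroup H) = R.subgroupOf H ∧
      LQ P (M.subgroupOf H) (B.subgroupOf H) (Ee V B) (fx V B) ∧ ¬ WW V ⊤ (P : Subgroup H) ≤ Ee V B := by
  obtain ⟨P, hP⟩ := a.exists_sylH
  have hBm := h.cls.mem B hB
  have hBH := hBR.trans a.RH
  refine ⟨P, hP, ⟨h.two, fun l hl => Subtype.ext (h.faith l hl), ?_, ?_, Mem.subgroupOf hBm hBH, ?_, ?_⟩, ?_⟩
  · rw [hP]; exact a.isMinH
  · intro v hv
    by_contra hv0
    apply soc B hB H hBH ⟨v, hv0, fun x hx => hv ⟨x, hx⟩⟩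
    rw [eq_bot_iff]
    rintro b ⟨hb, hb2⟩
    obtain ⟨w, hw, hwE⟩ := SetLike.not_le_iff_exists.1 hW
    rw [mem_bot]
    apply hBm.inj w hwE b hb
    rw [QQ_fix a h (a.core_le hb2) hw, h.two]
    exact zero_mem _
  · rw [hP]
    exact fun b hb => hBR hb
  · rwa [Nat.card_congr (subgroupOfEquivOfLe hBH).toEquiv]
  · intro hle
    apply hW
    refine le_trans ?_ hle
    apply WW_le
    intro x hx w hw
    refine AddSubgroup.subset_closure ⟨⟨x, hx⟩, mem_top _, w, ?_, rfl⟩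
    intro p hp
    rw [hP] at hp
    exact hw _ hp

/-- **LEMMA Q** (#20114): `W ≰ E_B` for a member `B ≤ R` implies `O₂(H) = 1`. -/
theorem lemQ [Finite Y] [Finite V] (a : Amal U T M H R t) (h : Amb V U T M) (hoff : NoOff Y V)
    (soc : ∀ B ∈ U, ∀ X : Subgroup Y, B ≤ X → (∃ v : V, v ≠ 0 ∧ ∀ x ∈ X, x • v = v) → B ⊓ ZN.o2 X ≠ ⊥)
    {B : Subgroup Y} (hB : B ∈ U) (hBR : B ≤ R) (hlt : (Ee V B).index < Nat.card B)
    (hW : ¬ WW V H R ≤ Ee V B) : QQ H R = ⊥ := by
  obtain ⟨P, _, hl, hW'⟩ := a.exists_lq h soc hB hBR hlt hW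
  have h1 := hl.core_eq_bot (hoff.sub H) hW'
  rw [eq_bot_iff]
  intro q hq
  have hqH : q ∈ H := a.RH (QQ_le hq)
  have h2 : (⟨q, hqH⟩ : H) ∈ pCore 2 H := a.QQ_le_core (show (q : Y) ∈ QQ H R from hq)
  rw [h1, mem_bot] at h2
  rw [mem_bot]
  exact congrArg Subtype.val h2

end Amal

end Cfsg.Agent.Omega.NO1.TH
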