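import Cfsg.Agent.Omega.NO1.TH.HOne
import Cfsg.Agent.Omega.NO1.TH.Stmt
import Cfsg.Agent.Omega.NO1.TH.Fin
import Cfsg.Agent.Omega.NO1.TH.LemQ

/-!
# N1, one component: no `Bad` subgroup and (+) give `Fin` (bb OMEGA 21423 (D3)(E))

`World.fin_of_disj` : `L = Y`, `Q = 1`: the second alternative (ALPHA+) of `Fin`.
-/

set_option autoImplicit false
set_option linter.unusedSectionVars false

namespace Cfsg.Agent.Omega.NO1.TH

open Subgroup Cfsg.Agent.Omega.NO1.AB
open scoped Pointwise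

universe u

variable {Y : Type u} [Group Y] {V : Type u} [AddCommGroup V] [DistribMulAction Y V] {U : Set (Subgroup Y)}
  {T : Sylow 2 Y} {M : Subgroup Y} {q : ℕ}

/-- `N_Y(M) = M` -/
theorem Amb.mem_of_conj_eq [Finite Y] (h : Amb V U T M) (hU : ∃ B, B ∈ U) {x : Y}
    (hx : MulAut.conj x • M = M) : x ∈ M := by
  obtain ⟨B, hB, hBT⟩ := h.exists_member_le hU
  have h3 : MulAut.conj x • (T : Subgroup Y) ≤ M := (conj_le_conj _ h.TM).trans hx.le
  obtain ⟨k, hk, hkT⟩ := sylow_conj T h.TM (conj_isPGroup (y := x) T.isPGroup') h3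
  have h4 : MulAut.conj (k⁻¹ * x) • (T : Subgroup Y) = T := by
    refine eq_of_le_of_card_ge ?_ (by rw [conj_card])
    rw [← conj_smul_smul]
    intro y hy
    rw [mem_conj] at hy
    have := hkT _ hy
    have e : k⁻¹ * (k⁻¹⁻¹ * y * k⁻¹) * k = y := by group
    rwa [e] at this
  have h5 : k⁻¹ * x ∈ normalizer ((T : Subgroup Y) : Set Y) := by
    rw [mem_normalizer_iff]
    intro y
    constructor
    · intro hy
      have h6 := conj_mem_conj (g := k⁻¹ * x) hy
      rwa [h4] at h6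
    · intro hy
      rw [← h4, mem_conj] at hy
      have e : (k⁻¹ * x)⁻¹ * (k⁻¹ * x * y * (k⁻¹ * x)⁻¹) * (k⁻¹ * x) = y := by group
      rwa [e] at hy
  have h6 : normalizer ((T : Subgroup Y) : Set Y) ≤ M := by
    refine h.max _ le_normalizer fun h7 => ?_
    have h8 : (T : Subgroup Y).Normal := normalizer_eq_top_iff.1 h7
    have h9 := h.core T h8 T.isPGroup'
    rw [h9, le_bot_iff] at hBT
    exact Mem.ne_bot (h.cls.mem B hB) hBT
  have h7 := mul_mem hk (h6 h5)
  rwa [mul_inv_cancel_left] at h7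

/-- a Sylow 2-subgroup of a proper subgroup: the point -/
theorem Amb.le_point_of (h : Amb V U T M) {X : Subgroup Y} (hX : X ≠ ⊤) {x : Y}
    (hTX : MulAut.conj x • (T : Subgroup Y) ≤ X) : X ≤ MulAut.conj x • M := by
  have h1 : (T : Subgroup Y) ≤ MulAut.conj x⁻¹ • X := by
    rwa [conj_le_iff] at hTX
  have h2 := h.max _ h1 fun h3 => hX (conj_eq_top h3)
  rw [conj_le_iff, inv_inv] at h2
  exact h2

/-- `C_B(v) ≠ 1` for `v ∈ E_B` -/
theorem World.exists_fix [Finite Y] (w : World V U T M q) {B : Subgroup Y} (hB : B ∈ U) {v : V}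
    (hv : v ∈ Ee V B) : ∃ s ∈ B, s ≠ 1 ∧ s • v = v := by
  by_cases hvF : v ∈ fx V B
  · have h1 := Mem.ne_bot (w.cls.mem B hB)
    obtain ⟨s, hs, hs1⟩ := (B.ne_bot_iff_exists_ne_one).1 h1 |> fun ⟨s, hs⟩ => (⟨s, s.2, fun h => hs (Subtype.ext h)⟩ : ∃ s : Y, s ∈ B ∧ s ≠ 1)
    exact ⟨s, hs, hs1, hvF s hs⟩
  · obtain ⟨A₁, hA₁⟩ := w.line B hB v hv hvF
    have h1 : 1 < Nat.card A₁ := by
      have h2 := hA₁.card
      rw [w.ind B hB] at h2
      have := w.two_le
      omega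
    have : Nontrivial A₁ := Finite.one_lt_card_iff_nontrivial.1 h1
    obtain ⟨s, hs⟩ := exists_ne (1 : A₁)
    exact ⟨s, hA₁.le s.2, fun h => hs (Subtype.ext h), hA₁.fix s s.2⟩

/-- `Loc0` for `Y` itself, when there is no `Bad` subgroup -/
theorem World.loc0 [Finite Y] (w : World V U T M q) (he : ∀ X : Subgroup Y, ¬ Bad U M X) {A : Subgroup Y}
    (hA : A ∈ U) (hAT : A ≤ (T : Subgroup Y)) : Loc0 A (Ee V A) (fx V A) ⊥ M T where
  two := w.cls.two
  mem := w.cls.mem A hA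
  mu := w.cls.mu A hA
  Qn := inferInstance
  Q2 := IsPGroup.of_bot
  core := fun N hN hN2 => (w.core N hN hN2).le
  AR := hAT
  R_ne := fun h => w.Mne (top_le_iff.1 (h ▸ w.TM))
  ne := w.Mne
  uniq := fun H hAH hH => by
    have h1 : A ≤ MulAut.conj (1 : Y) • M := by
      rw [map_one, one_smul]; exact hAT.trans w.TM
    have h2 := w.toAmb.le_of_member he hH hA hAH h1
    rwa [map_one, one_smul] at h2
  gen := by
    obtain ⟨y, hy⟩ : ∃ y : Y, y ∉ M := by
      by_contra hcon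
      push Not at hcon
      exact w.Mne (eq_top_iff.2 fun y _ => hcon y)
    have h1 : A ≤ MulAut.conj (1 : Y) • M := by
      rw [map_one, one_smul]; exact hAT.trans w.TM
    refine ⟨y, ?_⟩
    rw [sup_comm]
    apply w.toAmb.gen_top he hA h1
    intro h2
    apply hy
    apply w.toAmb.mem_of_conj_eq ⟨A, hA⟩
    have h3 := w.toAmb.member_point he (w.cls.conj A hA y) (x := y) (y := 1)
      (conj_le_conj y (hAT.trans w.TM)) h2
    rw [h3, map_one, one_smul]

/-- **No `Bad` subgroup and (+) give `Fin`.** -/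
theorem World.fin_of_disj [Finite Y] [Finite V] (w : World V U T M q) (hU : ∃ B, B ∈ U)
    (he : ∀ X : Subgroup Y, ¬ Bad U M X) (hd : Disj U M) : Fin V U T M := by
  obtain ⟨A, hA, hAT⟩ := w.toAmb.exists_member_le hU
  have h0 := w.loc0 he hA hAT
  let e : Y ≃* (⊤ : Subgroup Y) := topEquiv.symm
  have he' : ∀ (l : Y) (v : V), e l • v = l • v := fun l v => rfl
  have hmap : ∀ B : Subgroup Y, B.map e.toMonoidHom = B.subgroupOf ⊤ := by
    intro B
    ext x
    constructor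
    · rintro ⟨b, hb, rfl⟩
      exact hb
    · intro hx
      exact ⟨x, hx, Subtype.ext rfl⟩
  have hR : ((T.subtype (le_top : (T : Subgroup Y) ≤ ⊤) : Sylow 2 (⊤ : Subgroup Y)) : Subgroup (⊤ : Subgroup Y)) =
      (T : Subgroup Y).map e.toMonoidHom := by
    rw [hmap]; rfl
  have h1 := Loc0.congr e he' h0 hR
  rw [hmap, Subgroup.map_bot, hmap] at h1
  refine ⟨⊤, A, ⊥, T.subtype le_top, hA, le_top, hAT, fun h => w.Mne (top_le_iff.1 h), ?_, h1,
    w.toAmb.fx_top hU, Or.inr ⟨rfl, ?_⟩⟩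
  · rintro _ ⟨x, hx, rfl⟩
    exact hx
  · intro x v hv hv0 hfix
    apply w.toAmb.mem_of_conj_eq hU
    obtain ⟨s, hs, hs1, hsv⟩ := w.exists_fix hA hv
    have hX : MulAction.stabilizer Y v ≠ ⊤ := by
      intro h2
      apply hv0
      have h3 : v ∈ fx V (⊤ : Subgroup Y) := fun y hy => by
        rw [← h2] at hy; exact hy
      rw [w.toAmb.fx_top hU] at h3
      exact h3
    have h2 : MulAut.conj (x : Y) • (T : Subgroup Y) ≤ MulAction.stabilizer Y v := by
      intro y hy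
      rw [mem_conj] at hy
      have h3 := hfix ⟨(x : Y)⁻¹ * y * x, mem_top _⟩ hy
      rw [MulAction.mem_stabilizer_iff]
      have e1 : ((x * ⟨(x : Y)⁻¹ * y * x, mem_top _⟩ * x⁻¹ : (⊤ : Subgroup Y)) : Y) = y := by
        change (x : Y) * ((x : Y)⁻¹ * y * x) * (x : Y)⁻¹ = y
        group
      change ((x * ⟨(x : Y)⁻¹ * y * x, mem_top _⟩ * x⁻¹ : (⊤ : Subgroup Y)) : Y) • v = v at h3
      rwa [e1] at h3
    have h3 := w.toAmb.le_point_of hX h2
    apply hd A hA (hAT.trans w.TM)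
    intro h4
    have h5 : s ∈ A ⊓ MulAut.conj (x : Y) • M := ⟨hs, h3 hsv⟩
    rw [h4, mem_bot] at h5
    exact hs1 h5

end Cfsg.Agent.Omega.NO1.TH
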