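import Cfsg.Agent.Omega.NO1.TH.HHSoc
import Cfsg.Agent.Omega.NO1.TH.PlusFin

/-!
# N1, one component: no `Bad` subgroup gives `Fin` (bb OMEGA 21423, socket (E))

`World.disj_of_none` : (+).  `World.fin_of_none` : `Fin`.
-/

set_option autoImplicit false

namespace Cfsg.Agent.Omega.NO1.TH

open Subgroup Cfsg.Agent.Omega.NO1.AB
open scoped Pointwise

universe u

variable {Y : Type u} [Group Y] {V : Type u} [AddCommGroup V] [DistribMulAction Y V] {U : Set (Subgroup Y)}
  {T : Sylow 2 Y} {M : Subgroup Y} {a : ℕ}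

/-- the field `socN` as `SocN` -/
theorem World.socN' (w : World V U T M a) : SocN V U := by
  intro A hA B hB v hv0 hvA hvB
  obtain ⟨S, hSB, hS, hSn, hSV⟩ := w.socN A hA B hB v hv0 hvA hvB
  exact ⟨S, hSB, by rw [w.ind A hA]; exact hS, hSn, hSV⟩

/-- **(+), if there is no `Bad` subgroup.** -/
theorem World.disj_of_none [Finite Y] [Finite V] (w : World V U T M a) (he : ∀ X : Subgroup Y, ¬ Bad U M X) :
    Disj U M := by
  intro B hB hBM y hne
  have hU : ∃ B, B ∈ U := ⟨B, hB⟩
  have h := w.emp he hU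
  by_contra hcon
  apply hne
  rw [eq_bot_iff]
  rintro b ⟨hb, hby⟩
  rw [mem_bot]
  refine h.inf_eq (h.sy_socN w.socN') (x := 1) (y := y) ?_ hB ?_ hb hby
  · rw [map_one, one_smul]
    exact fun h1 => hcon h1.symm
  · rw [map_one, one_smul]
    exact hBM

/-- **Socket (E).** -/
theorem World.fin_of_none [Finite Y] [Finite V] (w : World V U T M a) (hU : ∃ B, B ∈ U)
    (he : ∀ X : Subgroup Y, ¬ Bad U M X) : Fin V U T M :=
  w.fin_of_disj hU he (w.disj_of_none he)

end Cfsg.Agent.Omega.NO1.TH
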