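import Cfsg.Agent.Omega.NO1.TH.Stmt
import Cfsg.Agent.Omega.NO1.AB.LemE
import Cfsg.Agent.ZN.Block
import Cfsg.Agent.Omega.NO1.AB.Beta

/-!
# N1, `a = 2`, `k = 1`, `C ≠ 0` (bb OMEGA 21267, helper85)

`StarTwo V U T M H B b t w Φ` : a member `B` of order 4, `H = ⟨b⟩ × S₃`, `C_V(H) = ⟨w⟩`, `V = Φ ⊕ ⟨w⟩`, `t` a
2-element normalising `B`, moving `b` and `w`.  Output: `N_Y(B) = ⟨B, t⟩` of order 8 is the Sylow 2-subgroup `T` of `Y`,
and `Φ` is invariant under `⟨H, T⟩`.
-/

set_option autoImplicit false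
set_option linter.unusedSectionVars false

namespace Cfsg.Agent.Omega.NO1.TH

open Subgroup Cfsg.Agent.Omega.NO1.AB
open scoped Pointwise

universe u

variable {Y : Type u} [Group Y] {V : Type u} [AddCommGroup V] [DistribMulAction Y V]

namespace S2

section four

variable (h2 : ∀ v : V, v + v = 0) {b c : Y} (hb : b * b = 1) (hc : c * c = 1) (hbc : b * c = c * b)

/-- the norm of the four-group `⟨b, c⟩` -/
def nn (b c : Y) (v : V) : V := v + b • v + c • v + (b * c) • v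

/-- membership in the four-group -/
def In4 (b c x : Y) : Prop := x = 1 ∨ x = b ∨ x = c ∨ x = b * c

include hb hc hbc

theorem a1 (v : V) : b • b • v = v := by rw [← mul_smul, hb, one_smul]
theorem a2 (v : V) : b • c • v = (b * c) • v := by rw [← mul_smul]
theorem a3 (v : V) : b • (b * c) • v = c • v := by rw [← mul_smul, ← mul_assoc, hb, one_mul]
theorem a4 (v : V) : c • b • v = (b * c) • v := by rw [← mul_smul, hbc]
theorem a5 (v : V) : c • c • v = v := by rw [← mul_smul, hc, one_smul]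
theorem a6 (v : V) : c • (b * c) • v = b • v := by
  rw [← mul_smul, hbc, ← mul_assoc, hc, one_mul]
theorem a7 (v : V) : (b * c) • b • v = c • v := by
  rw [← mul_smul, hbc, mul_assoc, hb, mul_one]
theorem a8 (v : V) : (b * c) • c • v = b • v := by
  rw [← mul_smul, mul_assoc, hc, mul_one]
theorem a9 (v : V) : (b * c) • (b * c) • v = v := by
  have e : b * c * (b * c) = 1 := by
    rw [hbc, mul_assoc, ← mul_assoc b c b, hbc, mul_assoc c b b, hb, mul_one, hc]
  rw [← mul_smul, e, one_smul]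

include h2

theorem fld (x g : Y) (hx : In4 b c x) (hg : In4 b c g) (v : V) :
    x • (g • v + v) + (g • v + v) = 0 ∨ x • (g • v + v) + (g • v + v) = nn b c v := by
  have hz : ∀ u : V, (2 : ℤ) • u = 0 := fun u => by rw [two_zsmul, h2]
  rcases hx with rfl | rfl | rfl | rfl <;> rcases hg with rfl | rfl | rfl | rfl
  all_goals
    simp only [nn, smul_add, one_smul, a1 hb hc hbc, a2 hb hc hbc, a3 hb hc hbc, a4 hb hc hbc, a5 hb hc hbc,
      a6 hb hc hbc, a7 hb hc hbc, a8 hb hc hbc, a9 hb hc hbc]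
  all_goals first
    | (left; simp only [h2])
    | (left; abel_nf; simp only [hz, add_zero])
    | (right; abel)

end four

/-- a set with four elements -/
theorem eq_of_four {α : Type*} {s : Set α} (hs : Nat.card s = 4) {a b c d x : α} (ha : a ∈ s) (hb : b ∈ s)
    (hc : c ∈ s) (hd : d ∈ s) (hab : a ≠ b) (hac : a ≠ c) (had : a ≠ d) (hbc : b ≠ c) (hbd : b ≠ d) (hcd : c ≠ d)
    (hx : x ∈ s) : x = a ∨ x = b ∨ x = c ∨ x = d := by
  classical
  by_contra hcon
  push Not at hcon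
  obtain ⟨h1, h2, h3, h4⟩ := hcon
  have hfin : s.Finite := Set.finite_of_ncard_ne_zero (by rw [← Nat.card_coe_set_eq, hs]; norm_num)
  have h5 : ({x, a, b, c, d} : Set α) ⊆ s := by
    intro y hy
    simp only [Set.mem_insert_iff, Set.mem_singleton_iff] at hy
    rcases hy with rfl | rfl | rfl | rfl | rfl <;> assumption
  have h6 := Set.ncard_le_ncard h5 hfin
  rw [← Nat.card_coe_set_eq s, hs] at h6
  have h7 : ({x, a, b, c, d} : Set α).ncard = 5 := by
    rw [Set.ncard_insert_of_notMem (by simp [h1, h2, h3, h4]), Set.ncard_insert_of_notMem (by simp [hab, hac, had]),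
      Set.ncard_insert_of_notMem (by simp [hbc, hbd]), Set.ncard_insert_of_notMem (by simp [hcd]),
      Set.ncard_singleton]
  omega

end S2

/-- The configuration `(*)` of bb OMEGA 21267. -/
structure StarTwo (V : Type u) [AddCommGroup V] [DistribMulAction Y V] (U : Set (Subgroup Y)) (T : Sylow 2 Y)
    (M H B : Subgroup Y) (b t : Y) (w : V) (Φ : AddSubgroup V) : Prop where
  mem : B ∈ U
  card : Nat.card B = 4
  ind : (Ee V B).index = 2
  cardF : Nat.card (fx V B) = 4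
  BT : B ≤ (T : Subgroup Y)
  BH : B ≤ H
  bB : b ∈ B
  /-- `B ∩ O₂(H) ≤ ⟨b⟩` -/
  core : ∀ N : Subgroup Y, N ≤ H → IsPGroup 2 N → (∀ x ∈ H, ∀ n ∈ N, x * n * x⁻¹ ∈ N) →
    ∀ n ∈ N, n ∈ B → n = 1 ∨ n = b
  w0 : w ≠ 0
  wH : ∀ x ∈ H, x • w = w
  tT : t ∈ T
  tB : ∀ x ∈ B, t * x * t⁻¹ ∈ B
  tb : t * b * t⁻¹ ≠ b
  tw : t • w ≠ w
  ΦH : ∀ x ∈ H, ∀ p ∈ Φ, x • p ∈ Φ
  Φw : w ∉ Φ
  ΦE : ¬ Φ ≤ Ee V B
  HM : ¬ H ≤ M

/-- the distinguished vector of `F_B` -/
structure Zd (V : Type u) [AddCommGroup V] [DistribMulAction Y V] (B : Subgroup Y) (b c : Y) (z : V) : Prop where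
  ne : z ≠ 0
  mem : z ∈ fx V B
  dich : ∀ x ∈ B, ∀ e ∈ Ee V B, x • e + e = 0 ∨ x • e + e = z
  ex : ∃ x ∈ B, ∃ e ∈ Ee V B, x • e + e = z
  nn : ∀ v, v ∉ Ee V B → S2.nn b c v = z

theorem sw (h2 : ∀ v : V, v + v = 0) {p q r s : V} (h : p + q = r + s) : q + s = p + r := by
  have e : q + s = p + (p + q) + s := by rw [← add_assoc p p, h2, zero_add]
  rw [e, h, add_assoc p, add_assoc r, h2, add_zero]

theorem smulF_of_norm {B : Subgroup Y} {y : Y} (hy : y ∈ normalizer (B : Set Y)) {f : V} (hf : f ∈ fx V B) :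
    y • f ∈ fx V B := by
  intro x hx
  have h1 : y⁻¹ * x * y ∈ B := by
    have := (mem_normalizer_iff.1 (inv_mem hy) x).1 hx
    rwa [inv_inv] at this
  have h2 := hf _ h1
  rw [mul_smul, mul_smul, inv_smul_eq_iff] at h2
  exact h2

theorem smulE_of_norm {B : Subgroup Y} {y : Y} (hy : y ∈ normalizer (B : Set Y)) {e : V} (he : e ∈ Ee V B) :
    y • e ∈ Ee V B := by
  intro x hx
  have h1 : y⁻¹ * x * y ∈ B := by
    have := (mem_normalizer_iff.1 (inv_mem hy) x).1 hx
    rwa [inv_inv] at this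
  have h2 := smulF_of_norm hy (he _ h1)
  rw [smul_add, ← mul_smul, ← mul_assoc, ← mul_assoc, mul_inv_cancel, one_mul, mul_smul] at h2
  exact h2

theorem smulE_iff {B : Subgroup Y} {y : Y} (hy : y ∈ normalizer (B : Set Y)) {e : V} :
    y • e ∈ Ee V B ↔ e ∈ Ee V B := by
  refine ⟨fun h => ?_, smulE_of_norm hy⟩
  have := smulE_of_norm (inv_mem hy) h
  rwa [inv_smul_smul] at this

theorem add_mem_of_index {E : AddSubgroup V} (h : E.index = 2) {x y : V} (hx : x ∉ E) (hy : y ∉ E) : x + y ∈ E :=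
  (AddSubgroup.add_mem_iff_of_index_two h).2 (by simp [hx, hy])

/-- the standing hypotheses on the top world -/
structure Hyp2 (V : Type u) [AddCommGroup V] [DistribMulAction Y V] (U : Set (Subgroup Y)) : Prop where
  faith : ∀ y : Y, (∀ v : V, y • v = v) → y = 1
  noff : ∀ A : Subgroup Y, (∀ x ∈ A, ∀ y ∈ A, x * y = y * x) → (∀ x ∈ A, x * x = 1) → A ≠ ⊥ →
    Nat.card A < (fx V A).index
  soc : ∀ B ∈ U, ∀ X : Subgroup Y, B ≤ X → (∃ v : V, v ≠ 0 ∧ ∀ x ∈ X, x • v = v) → B ⊓ ZN.o2 X ≠ ⊥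

namespace StarTwo

variable [Finite Y] [Finite V] {U : Set (Subgroup Y)} {T : Sylow 2 Y} {M H B : Subgroup Y} {b t : Y} {w : V}
  {Φ : AddSubgroup V} (s : StarTwo V U T M H B b t w Φ) (hc : Cls V U)
include s hc

theorem hm : Mem B (Ee V B) (fx V B) := hc.mem B s.mem

theorem b1 : b ≠ 1 := by
  rintro rfl
  apply s.tb
  rw [mul_one, mul_inv_cancel]

theorem c1 : t * b * t⁻¹ ≠ 1 := by
  intro h1
  apply s.b1 hc
  have e : b = t⁻¹ * (t * b * t⁻¹) * t := by group
  rw [e, h1, mul_one, inv_mul_cancel]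

theorem cB : t * b * t⁻¹ ∈ B := s.tB b s.bB

theorem bb : b * b = 1 := (s.hm hc).sq b s.bB

theorem cc : (t * b * t⁻¹) * (t * b * t⁻¹) = 1 := (s.hm hc).sq _ (s.cB hc)

theorem bc : b * (t * b * t⁻¹) = (t * b * t⁻¹) * b := (s.hm hc).comm _ s.bB _ (s.cB hc)

theorem in4 {x : Y} (hx : x ∈ B) : S2.In4 b (t * b * t⁻¹) x := by
  have h1 : b * (t * b * t⁻¹) ∈ B := B.mul_mem s.bB (s.cB hc)
  refine S2.eq_of_four (s := (B : Set Y)) s.card B.one_mem s.bB (s.cB hc) h1 (Ne.symm (s.b1 hc)) (Ne.symm (s.c1 hc))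
    ?_ (Ne.symm s.tb) ?_ ?_ hx
  · intro h2
    apply s.tb
    have h3 := congrArg (b * ·) h2
    simp only [mul_one] at h3
    rw [← mul_assoc, s.bb hc, one_mul] at h3
    exact h3.symm
  · intro h2
    exact s.c1 hc (left_eq_mul.1 h2)
  · intro h2
    exact s.b1 hc (right_eq_mul.1 h2)

theorem exists_z : ∃ z : V, Zd V B b (t * b * t⁻¹) z := by
  have hm := s.hm hc
  have h2 := hc.two
  obtain ⟨v0, hv0⟩ := hm.ne
  set c := t * b * t⁻¹ with hcdef
  have hbb := s.bb hc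
  have hcc := s.cc hc
  have hbc := s.bc hc
  rw [← hcdef] at hcc hbc
  have fixF : ∀ f : V, b • f = f → c • f = f → f ∈ fx V B := by
    intro f h3 h4 x hx
    rcases s.in4 hc hx with rfl | rfl | rfl | rfl
    · exact one_smul _ _
    · exact h3
    · exact h4
    · rw [mul_smul, h4, h3]
  have hnn : ∀ v : V, S2.nn b c v = (c • v + v) + b • (c • v + v) := by
    intro v
    rw [S2.nn, smul_add, S2.a2 hbb hcc hbc]
    abel
  have hE0 : ∀ e ∈ Ee V B, S2.nn b c e = 0 := by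
    intro e he
    rw [hnn, hm.FB b s.bB _ (hm.EB c (s.cB hc) e he), h2]
  refine ⟨S2.nn b c v0, ?_, ?_, ?_, ?_, ?_⟩
  · intro h3
    rw [hnn] at h3
    have h4 : b • (c • v0 + v0) = c • v0 + v0 := ((HE.add_eq_zero' h2).1 h3).symm
    have h5 : c • (c • v0 + v0) = c • v0 + v0 := by
      rw [smul_add, S2.a5 hbb hcc hbc, add_comm]
    exact s.c1 hc (hm.inj v0 hv0 c (s.cB hc) (fixF _ h4 h5))
  · apply fixF
    · simp only [S2.nn, smul_add, S2.a1 hbb hcc hbc, S2.a2 hbb hcc hbc, S2.a3 hbb hcc hbc]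
      abel
    · simp only [S2.nn, smul_add, S2.a4 hbb hcc hbc, S2.a5 hbb hcc hbc, S2.a6 hbb hcc hbc]
      abel
  · intro x hx e he
    obtain ⟨g, hg, hf⟩ := hm.surj v0 hv0 e he
    have h3 := hm.FB x hx _ hf
    rw [smul_add] at h3
    have h4 := sw h2 h3
    rw [h4]
    exact S2.fld h2 hbb hcc hbc x g (s.in4 hc hx) (s.in4 hc hg) v0
  · refine ⟨b, s.bB, c • v0 + v0, hm.VB c (s.cB hc) v0, ?_⟩
    rw [hnn, add_comm]
  · intro v hv
    have h3 := hE0 _ (add_mem_of_index s.ind hv hv0)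
    have h4 : S2.nn b c (v + v0) = S2.nn b c v + S2.nn b c v0 := by
      simp only [S2.nn, smul_add]
      abel
    rw [h4] at h3
    exact (HE.add_eq_zero' h2).1 h3

theorem t_norm : t ∈ normalizer (B : Set Y) := mem_normalizer_fintype (fun n hn => s.tB n hn)

theorem smul_z {z : V} (hz : Zd V B b (t * b * t⁻¹) z) {y : Y} (hy : y ∈ normalizer (B : Set Y)) : y • z = z := by
  obtain ⟨x, hx, e, he, h3⟩ := hz.ex
  have h4 : y • z = (y * x * y⁻¹) • (y • e) + y • e := by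
    rw [← h3, smul_add, ← mul_smul (y * x * y⁻¹), mul_assoc (y * x), inv_mul_cancel, mul_one, mul_smul]
  rcases hz.dich _ ((mem_normalizer_iff.1 hy x).1 hx) _ (smulE_of_norm hy he) with h5 | h5
  · exfalso
    rw [← h4] at h5
    exact hz.ne ((smul_eq_zero_iff_eq y).1 h5)
  · rw [h4, h5]

theorem wF : w ∈ fx V B := fun x hx => s.wH x (s.BH hx)

theorem cases {z : V} (hz : Zd V B b (t * b * t⁻¹) z) {f : V} (hf : f ∈ fx V B) :
    f = 0 ∨ f = z ∨ f = w ∨ f = w + z := by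
  have h1 : w ≠ z := by
    rintro rfl
    exact s.tw (s.smul_z hc hz (s.t_norm hc))
  refine S2.eq_of_four (s := (fx V B : Set V)) s.cardF (zero_mem _) hz.mem (s.wF hc)
    (add_mem (s.wF hc) hz.mem) (Ne.symm hz.ne) (Ne.symm s.w0) ?_ (Ne.symm h1) ?_ ?_ hf
  · intro h3
    exact h1 ((HE.add_eq_zero' hc.two).1 h3.symm)
  · intro h3
    exact s.w0 (right_eq_add.1 h3)
  · intro h3
    exact hz.ne (left_eq_add.1 h3)

theorem tw' {z : V} (hz : Zd V B b (t * b * t⁻¹) z) : t • w = w + z := by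
  rcases s.cases hc hz (smulF_of_norm (s.t_norm hc) (s.wF hc)) with h1 | h1 | h1 | h1
  · exact absurd ((smul_eq_zero_iff_eq t).1 h1) s.w0
  · exfalso
    have h2 := s.smul_z hc hz (s.t_norm hc)
    have h3 : w = z := smul_left_cancel t (h1.trans h2.symm)
    rw [h3] at h1
    exact s.tw (by rw [h3, h1])
  · exact absurd h1 s.tw
  · exact h1

/-! ### (2), (3): `N_Y(B) ∩ C_Y(w) = B` -/

section soc

variable (hsoc : ∀ B ∈ U, ∀ X : Subgroup Y, B ≤ X → (∃ v : V, v ≠ 0 ∧ ∀ x ∈ X, x • v = v) → B ⊓ ZN.o2 X ≠ ⊥)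
include hsoc

theorem comm_b {y : Y} (hy : y ∈ normalizer (B : Set Y)) (hw : y • w = w) : y * b = b * y := by
  have hHX : H ≤ MulAction.stabilizer Y w := fun x hx => s.wH x hx
  have hN : ∀ n ∈ B ⊓ ZN.o2 (MulAction.stabilizer Y w), n = 1 ∨ n = b := by
    intro n hn
    exact s.core (ZN.o2 (MulAction.stabilizer Y w) ⊓ H) inf_le_right ((ZN.Block.o2_isPGroup _).to_le inf_le_left)
      (fun x hx n hn => ⟨ZN.Block.o2_conj (hHX hx) hn.1, H.mul_mem (H.mul_mem hx hn.2) (H.inv_mem hx)⟩)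
      n ⟨hn.2, s.BH hn.1⟩ hn.1
  have hb : b ∈ ZN.o2 (MulAction.stabilizer Y w) := by
    by_contra hcon
    apply hsoc B s.mem _ (s.BH.trans hHX) ⟨w, s.w0, fun x hx => hx⟩
    rw [eq_bot_iff]
    intro n hn
    rcases hN n hn with rfl | rfl
    · exact one_mem _
    · exact absurd hn.2 hcon
  have h1 : y * b * y⁻¹ ∈ B ⊓ ZN.o2 (MulAction.stabilizer Y w) :=
    ⟨(mem_normalizer_iff.1 hy b).1 s.bB, ZN.Block.o2_conj hw hb⟩
  rcases hN _ h1 with h2 | h2
  · exfalso
    apply s.b1 hc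
    have e : b = y⁻¹ * (y * b * y⁻¹) * y := by group
    rw [e, h2, mul_one, inv_mul_cancel]
  · exact mul_inv_eq_iff_eq_mul.1 h2

theorem comm_c {z : V} (hz : Zd V B b (t * b * t⁻¹) z) {y : Y} (hy : y ∈ normalizer (B : Set Y)) (hw : y • w = w) :
    y * (t * b * t⁻¹) = (t * b * t⁻¹) * y := by
  have ht := s.t_norm hc
  have h1 : t⁻¹ * y * t ∈ normalizer (B : Set Y) := mul_mem (mul_mem (inv_mem ht) hy) ht
  have h2 : (t⁻¹ * y * t) • w = w := by
    rw [mul_smul, mul_smul, s.tw' hc hz, smul_add, hw, s.smul_z hc hz hy, inv_smul_eq_iff, s.tw' hc hz]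
  have h3 := s.comm_b hc hsoc h1 h2
  have e1 : y * (t * b * t⁻¹) = t * (t⁻¹ * y * t * b) * t⁻¹ := by group
  have e2 : (t * b * t⁻¹) * y = t * (b * (t⁻¹ * y * t)) * t⁻¹ := by group
  rw [e1, e2, h3]

theorem comm_all {z : V} (hz : Zd V B b (t * b * t⁻¹) z) {y : Y} (hy : y ∈ normalizer (B : Set Y)) (hw : y • w = w)
    {x : Y} (hx : x ∈ B) : y * x = x * y := by
  have h1 := s.comm_b hc hsoc hy hw
  have h2 := s.comm_c hc hsoc hz hy hw
  rcases s.in4 hc hx with rfl | rfl | rfl | rfl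
  · rw [mul_one, one_mul]
  · exact h1
  · exact h2
  · rw [← mul_assoc, h1, mul_assoc, h2, ← mul_assoc]

omit hsoc in
theorem fixF {z : V} (hz : Zd V B b (t * b * t⁻¹) z) {y : Y} (hy : y ∈ normalizer (B : Set Y)) (hw : y • w = w)
    {f : V} (hf : f ∈ fx V B) : y • f = f := by
  rcases s.cases hc hz hf with rfl | rfl | rfl | rfl
  · exact smul_zero _
  · exact s.smul_z hc hz hy
  · exact hw
  · rw [smul_add, hw, s.smul_z hc hz hy]

theorem sq_of {z : V} (hz : Zd V B b (t * b * t⁻¹) z) (hfaith : ∀ y : Y, (∀ v : V, y • v = v) → y = 1)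
    {y : Y} (hy : y ∈ normalizer (B : Set Y)) (hw : y • w = w) : y * y = 1 := by
  have hm := s.hm hc
  have h2 := hc.two
  have key : ∀ v : V, v ∉ Ee V B → y • y • v = v := by
    intro v hv
    have h3 : y • v ∉ Ee V B := fun h => hv ((smulE_iff hy).1 h)
    obtain ⟨g, hg, hf⟩ := hm.surj v hv _ (add_mem_of_index s.ind h3 hv)
    set f := g • v + v + (y • v + v) with hfdef
    have e1 : y • v = f + g • v := by
      have e : f + g • v = (g • v + g • v) + (v + v) + y • v := by rw [hfdef]; abel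
      rw [e, h2, h2, zero_add, zero_add]
    have e2 : y • g • v = g • y • v := by
      rw [← mul_smul, ← mul_smul, s.comm_all hc hsoc hz hy hw hg]
    rw [e1, smul_add, s.fixF hc hz hy hw hf, e2, e1, smul_add, hm.FB g hg f hf, ← mul_smul, hm.sq g hg, one_smul,
      ← add_assoc, h2, zero_add]
  apply hfaith
  intro v
  rw [mul_smul]
  by_cases hv : v ∈ Ee V B
  · obtain ⟨v0, hv0⟩ := hm.ne
    have h3 : v + v0 ∉ Ee V B := fun h => hv0 (by
      have := (Ee V B).sub_mem h hv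
      rwa [add_sub_cancel_left] at this)
    have h4 := key _ h3
    rw [smul_add, smul_add, key v0 hv0] at h4
    exact add_right_cancel h4
  · exact key v hv

theorem mem_of {z : V} (hz : Zd V B b (t * b * t⁻¹) z) (hfaith : ∀ y : Y, (∀ v : V, y • v = v) → y = 1)
    (hnoff : ∀ A : Subgroup Y, (∀ x ∈ A, ∀ y ∈ A, x * y = y * x) → (∀ x ∈ A, x * x = 1) → A ≠ ⊥ →
      Nat.card A < (fx V A).index)
    {y : Y} (hy : y ∈ normalizer (B : Set Y)) (hw : y • w = w) : y ∈ B := by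
  set R : Subgroup Y := normalizer (B : Set Y) ⊓ MulAction.stabilizer Y w with hR
  have hsq : ∀ x ∈ R, x * x = 1 := fun x hx => s.sq_of hc hsoc hz hfaith hx.1 hx.2
  have hBR : B ≤ R := le_inf le_normalizer fun x hx => s.wF hc x hx
  have hcomm : ∀ x ∈ R, ∀ y ∈ R, x * y = y * x := by
    intro x hx y hy
    have h1 := hsq _ (R.mul_mem hx hy)
    have h3 : x * y = (x * y)⁻¹ := eq_inv_of_mul_eq_one_left h1
    rw [h3, mul_inv_rev, inv_eq_of_mul_eq_one_left (hsq x hx), inv_eq_of_mul_eq_one_left (hsq y hy)]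
  have h1 := hnoff R hcomm hsq (fun h => by
    have := hBR s.bB
    rw [h, mem_bot] at this
    exact s.b1 hc this)
  have hE : Nat.card (Ee V B) = Nat.card (fx V B) * Nat.card B := (s.hm hc).card_E hc.two
  have h3 := (Ee V B).card_mul_index
  have h4 := (fx V R).card_mul_index
  rw [hE, s.cardF, s.card, s.ind] at h3
  have h5 : 4 ≤ Nat.card (fx V R) := by
    rw [← s.cardF]
    apply Nat.card_le_card_of_injective (AddSubgroup.inclusion (fun f hf x hx => s.fixF hc hz hx.1 hx.2 hf : fx V B ≤ fx V R))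
    exact AddSubgroup.inclusion_injective _
  have h6 : Nat.card R < 8 := by
    refine lt_of_lt_of_le h1 ?_
    by_contra h7
    have h8 : 4 * 9 ≤ Nat.card (fx V R) * (fx V R).index := Nat.mul_le_mul h5 (by omega)
    omega
  have h7 : Nat.card B ∣ Nat.card R := Subgroup.card_dvd_of_le hBR
  rw [s.card] at h7
  have h8 : Nat.card R ≤ Nat.card B := by
    rw [s.card]
    omega
  rw [eq_of_le_of_card_ge hBR h8]
  exact ⟨hy, hw⟩

theorem norm_cases {z : V} (hz : Zd V B b (t * b * t⁻¹) z) (hfaith : ∀ y : Y, (∀ v : V, y • v = v) → y = 1)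
    (hnoff : ∀ A : Subgroup Y, (∀ x ∈ A, ∀ y ∈ A, x * y = y * x) → (∀ x ∈ A, x * x = 1) → A ≠ ⊥ →
      Nat.card A < (fx V A).index)
    {y : Y} (hy : y ∈ normalizer (B : Set Y)) : y ∈ B ∨ t⁻¹ * y ∈ B := by
  rcases s.cases hc hz (smulF_of_norm hy (s.wF hc)) with h1 | h1 | h1 | h1
  · exact absurd ((smul_eq_zero_iff_eq y).1 h1) s.w0
  · exfalso
    have h2 := s.smul_z hc hz hy
    have h3 : w = z := smul_left_cancel y (h1.trans h2.symm)
    have h4 := s.smul_z hc hz (s.t_norm hc)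
    rw [← h3] at h4
    exact s.tw h4
  · exact Or.inl (s.mem_of hc hsoc hz hfaith hnoff hy h1)
  · right
    apply s.mem_of hc hsoc hz hfaith hnoff (mul_mem (inv_mem (s.t_norm hc)) hy)
    rw [mul_smul, h1, inv_smul_eq_iff, s.tw' hc hz]

end soc

/-! ### the involutions of `tB` -/

/-- an involution of `tB` moves a vector outside `E_B` in a controlled way -/
theorem inv_act {z : V} (hz : Zd V B b (t * b * t⁻¹) z) {x : Y} (hx : t⁻¹ * x ∈ B) (hxx : x * x = 1) {v : V}
    (hv : v ∉ Ee V B) : ∃ f : V, (f = 0 ∨ f = z) ∧ (x • v = v + f ∨ x • v = (b * (t * b * t⁻¹)) • v + f) := by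
  have hm := s.hm hc
  have h2 := hc.two
  have hcB := s.cB hc
  have hbb := s.bb hc
  have hcc := s.cc hc
  have hbc := s.bc hc
  have hxN : x ∈ normalizer (B : Set Y) := by
    have e : x = t * (t⁻¹ * x) := by group
    rw [e]
    exact mul_mem (s.t_norm hc) (le_normalizer hx)
  have h3 : x • v ∉ Ee V B := fun h => hv ((smulE_iff hxN).1 h)
  obtain ⟨g, hg, hf⟩ := hm.surj v hv _ (add_mem_of_index s.ind h3 hv)
  set f := g • v + v + (x • v + v) with hfdef
  have e1 : x • v = g • v + f := by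
    have e : g • v + f = (g • v + g • v) + (v + v) + x • v := by rw [hfdef]; abel
    rw [e, h2, h2, zero_add, zero_add]
  have hxg : x * g * x⁻¹ ∈ B := (mem_normalizer_iff.1 hxN g).1 hg
  have hxf : x • f ∈ fx V B := smulF_of_norm hxN hf
  -- `x² v = v`
  have e2 : v = (x * g * x⁻¹ * g) • v + (f + x • f) := by
    have e3 : x • x • v = v := by rw [← mul_smul, hxx, one_smul]
    have e4 : x • g • v = (x * g * x⁻¹) • x • v := by rw [← mul_smul, ← mul_smul, inv_mul_cancel_right]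
    have e5 : x • x • v = (x * g * x⁻¹ * g) • v + (f + x • f) := by
      conv_lhs => rw [e1]
      rw [smul_add, e4, e1, smul_add, hm.FB _ hxg f hf, mul_smul _ g v]
      abel
    rw [e3] at e5
    exact e5
  have h4 : (x * g * x⁻¹ * g) • v + v = f + x • f := by
    have h5 : (x * g * x⁻¹ * g) • v + v = (x * g * x⁻¹ * g) • v + ((x * g * x⁻¹ * g) • v + (f + x • f)) :=
      congrArg (fun u => (x * g * x⁻¹ * g) • v + u) e2
    rw [h5, ← add_assoc, h2, zero_add]
  have h5 : x * g * x⁻¹ * g = 1 := by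
    apply hm.inj v hv _ (B.mul_mem hxg hg)
    rw [h4]
    exact add_mem hf hxf
  have h6 : f + x • f = 0 := by rw [← h4, h5, one_smul, h2]
  have h7 : x • f = f := ((HE.add_eq_zero' h2).1 h6).symm
  -- `x • w = w + z`
  have hxw : x • w = w + z := by
    have e : x = t * (t⁻¹ * x) := by group
    rw [e, mul_smul, s.wF hc _ hx, s.tw' hc hz]
  have hxz : x • z = z := s.smul_z hc hz hxN
  have hxb : x * b * x⁻¹ = t * b * t⁻¹ := by
    have h8 := hm.comm _ hx b s.bB
    have e : x * b * x⁻¹ = t * ((t⁻¹ * x) * b) * x⁻¹ := by group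
    rw [e, h8]
    group
  have hxi : x⁻¹ = x := inv_eq_of_mul_eq_one_left hxx
  have hxc : x * (t * b * t⁻¹) * x⁻¹ = b := by
    rw [← hxb]
    have e : x * (x * b * x⁻¹) * x⁻¹ = (x * x) * b * (x * x)⁻¹ := by group
    rw [e, hxx, inv_one, one_mul, mul_one]
  have hff : f = 0 ∨ f = z := by
    rcases s.cases hc hz hf with h8 | h8 | h8 | h8
    · exact Or.inl h8
    · exact Or.inr h8
    · exfalso
      rw [h8, hxw] at h7
      exact hz.ne (add_eq_left.1 h7)
    · exfalso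
      rw [h8, smul_add, hxw, hxz] at h7
      have h9 := add_right_cancel h7
      exact hz.ne (add_eq_left.1 h9)
  refine ⟨f, hff, ?_⟩
  rcases s.in4 hc hg with rfl | rfl | rfl | rfl
  · left
    rw [e1, one_smul]
  · exfalso
    rw [hxb] at h5
    -- `c b = 1`
    apply s.tb
    exact mul_right_cancel (h5.trans hbb.symm)
  · exfalso
    rw [hxc] at h5
    apply s.tb
    exact (mul_right_cancel (h5.trans hcc.symm)).symm
  · right
    exact e1

/-- there is an involution in `tB` -/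
theorem exists_inv (htt : t * t ∈ B) : ∃ x : Y, t⁻¹ * x ∈ B ∧ x * x = 1 := by
  have hbb := s.bb hc
  have hcc := s.cc hc
  have hbc := s.bc hc
  have e0 : t * (t * t) * t⁻¹ = t * t := by group
  rcases s.in4 hc htt with h | h | h | h
  · exact ⟨t, by rw [inv_mul_cancel]; exact one_mem _, h⟩
  · exfalso
    rw [h] at e0
    exact s.tb e0
  · exfalso
    apply s.tb
    have e : b = t⁻¹ * (t * t) * t := by rw [h]; group
    rw [← h]
    conv_rhs => rw [e]
    group
  · refine ⟨t * b, by rw [inv_mul_cancel_left]; exact s.bB, ?_⟩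
    have e : t * b * (t * b) = (t * b * t⁻¹) * (t * t) * b := by group
    rw [e, h, ← mul_assoc, ← hbc, mul_assoc b, hcc, mul_one, hbb]

theorem out_fix {z : V} (hz : Zd V B b (t * b * t⁻¹) z) {x : Y} (hx : t⁻¹ * x ∈ B) (hxx : x * x = 1) :
    ∃ v : V, v ∉ Ee V B ∧ x • v = v := by
  have hm := s.hm hc
  have h2 := hc.two
  have hbb := s.bb hc
  have hcc := s.cc hc
  have hbc := s.bc hc
  have hxN : x ∈ normalizer (B : Set Y) := by
    have e : x = t * (t⁻¹ * x) := by group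
    rw [e]
    exact mul_mem (s.t_norm hc) (le_normalizer hx)
  have hxw : x • w = w + z := by
    have e : x = t * (t⁻¹ * x) := by group
    rw [e, mul_smul, s.wF hc _ hx, s.tw' hc hz]
  have hxb : x * b = (t * b * t⁻¹) * x := by
    have h8 := hm.comm _ hx b s.bB
    have e : x * b = t * ((t⁻¹ * x) * b) := by group
    rw [e, h8]
    group
  obtain ⟨v0, hv0⟩ := hm.ne
  have hwE : w ∈ Ee V B := hm.FE (s.wF hc)
  have hbv : b • v0 ∉ Ee V B := fun h => hv0 ((smulE_iff (le_normalizer s.bB)).1 h)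
  have hadd : ∀ v : V, v ∉ Ee V B → v + w ∉ Ee V B := fun v hv h => hv (by
    have := (Ee V B).sub_mem h hwE
    rwa [add_sub_cancel_right] at this)
  have hzz : z + (w + z) = w := by
    have e : z + (w + z) = w + (z + z) := by abel
    rw [e, h2, add_zero]
  obtain ⟨f, hf, h1 | h1⟩ := s.inv_act hc hz hx hxx hv0
  · rcases hf with rfl | rfl
    · exact ⟨v0, hv0, by rw [h1, add_zero]⟩
    · exact ⟨v0 + w, hadd _ hv0, by rw [smul_add, h1, hxw, add_assoc, hzz]⟩
  · have h3 : x • b • v0 = b • v0 + (t * b * t⁻¹) • f := by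
      rw [← mul_smul, hxb, mul_smul, h1, smul_add, S2.a6 hbb hcc hbc]
    rcases hf with rfl | rfl
    · exact ⟨b • v0, hbv, by rw [h3, smul_zero, add_zero]⟩
    · refine ⟨b • v0 + w, hadd _ hbv, ?_⟩
      rw [smul_add, h3, hxw, hz.mem _ (s.cB hc), add_assoc, hzz]

/-! ### (5), (6): `T = N_Y(B)` -/

/-- **(5)** `B` is the only member in `N_Y(B)`. -/
theorem only (ht : Hyp2 V U) {A : Subgroup Y} (hA : A ∈ U) (hAN : A ≤ normalizer (B : Set Y)) : A = B := by
  obtain ⟨z, hz⟩ := s.exists_z hc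
  have hm := s.hm hc
  have hmA : Mem A (Ee V A) (fx V A) := hc.mem A hA
  have h2 := hc.two
  have hbb := s.bb hc
  have hcc := s.cc hc
  have hbc := s.bc hc
  have hNc := fun y hy => s.norm_cases hc ht.soc hz ht.faith ht.noff (y := y) hy
  have hcard : Nat.card A = 4 := by
    obtain ⟨y, hy⟩ := hc.eq A hA B s.mem
    rw [← s.card, hy]
    exact (conj_card y A).symm
  by_contra hne
  have hnle : ¬ A ≤ B := fun h => hne (eq_of_le_of_card_ge h (by rw [hcard, s.card]))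
  obtain ⟨x, hxA, hxB⟩ := SetLike.not_le_iff_exists.1 hnle
  have hx : t⁻¹ * x ∈ B := (hNc x (hAN hxA)).resolve_left hxB
  have hxx : x * x = 1 := hmA.sq x hxA
  have hxN := hAN hxA
  have hx1 : x ≠ 1 := by
    rintro rfl
    exact hxB (one_mem _)
  -- `A ∩ B ≠ 1`
  obtain ⟨a, haA, haB, ha1⟩ : ∃ a ∈ A, a ∈ B ∧ a ≠ 1 := by
    obtain ⟨y, hyA, hy1, hyx⟩ : ∃ y ∈ A, y ≠ 1 ∧ y ≠ x := by
      by_contra hcon
      push Not at hcon
      have h3 : (A : Set Y) ⊆ {1, x} := by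
        intro y hy
        by_cases h : y = 1
        · exact Or.inl h
        · exact Or.inr (hcon y hy h)
      have h4 := Set.ncard_le_ncard h3 (Set.toFinite _)
      have h5 : (A : Set Y).ncard = 4 := by rw [← Nat.card_coe_set_eq]; exact hcard
      have h6 := Set.ncard_insert_le (1 : Y) {x}
      rw [Set.ncard_singleton] at h6
      omega
    rcases hNc y (hAN hyA) with h3 | h3
    · exact ⟨y, hyA, h3, hy1⟩
    · refine ⟨x⁻¹ * y, A.mul_mem (A.inv_mem hxA) hyA, ?_, ?_⟩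
      · have e : x⁻¹ * y = (t⁻¹ * x)⁻¹ * (t⁻¹ * y) := by group
        rw [e]
        exact B.mul_mem (B.inv_mem hx) h3
      · intro h4
        exact hyx (inv_mul_eq_one.1 h4).symm
  have hxb : x * b * x⁻¹ = t * b * t⁻¹ := by
    have h8 := hm.comm _ hx b s.bB
    have e : x * b * x⁻¹ = t * ((t⁻¹ * x) * b) * x⁻¹ := by group
    rw [e, h8]
    group
  have hxi : x⁻¹ = x := inv_eq_of_mul_eq_one_left hxx
  have hxc : x * (t * b * t⁻¹) * x⁻¹ = b := by
    rw [← hxb]
    have e : x * (x * b * x⁻¹) * x⁻¹ = (x * x) * b * (x * x)⁻¹ := by group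
    rw [e, hxx, inv_one, one_mul, mul_one]
  have hxa : x * a * x⁻¹ = a := by
    rw [hmA.comm x hxA a haA, mul_inv_cancel_right]
  have hab : a = b * (t * b * t⁻¹) := by
    rcases s.in4 hc haB with h | h | h | h
    · exact absurd h ha1
    · exfalso
      rw [h, hxb] at hxa
      exact s.tb hxa
    · exfalso
      rw [h, hxc] at hxa
      exact s.tb hxa.symm
    · exact h
  -- `b` normalises `A`
  have hbA : b ∈ normalizer (A : Set Y) := by
    apply mem_normalizer_fintype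
    intro y hy
    have hbi : b⁻¹ = b := inv_eq_of_mul_eq_one_left hbb
    rcases hNc y (hAN hy) with h3 | h3
    · rw [hm.comm b s.bB y h3, mul_inv_cancel_right]
      exact hy
    · have h4 : x⁻¹ * y ∈ B := by
        have e : x⁻¹ * y = (t⁻¹ * x)⁻¹ * (t⁻¹ * y) := by group
        rw [e]
        exact B.mul_mem (B.inv_mem hx) h3
      have h5 : b * x = x * (t * b * t⁻¹) := by
        rw [← hxb, hxi, ← mul_assoc, ← mul_assoc, hxx, one_mul]
      have e : b * y * b⁻¹ = x * a * (x⁻¹ * y) := by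
        rw [hbi, hab]
        have e1 : b * y * b = (b * x) * ((x⁻¹ * y) * b) := by group
        rw [e1, h5, hm.comm _ h4 b s.bB, hbc]
        group
      rw [e]
      exact A.mul_mem (A.mul_mem hxA haA) (A.mul_mem (A.inv_mem hxA) hy)
  have hbE : ∀ v ∈ Ee V A, b • v ∈ Ee V A := fun v hv => smulE_of_norm hbA hv
  have haE : ∀ v ∈ Ee V A, (b * (t * b * t⁻¹)) • v ∈ Ee V A := fun v hv => by
    rw [← hab]
    exact hmA.nm a haA v hv
  have hcE : ∀ v ∈ Ee V A, (t * b * t⁻¹) • v ∈ Ee V A := fun v hv => by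
    have h3 := haE _ (hbE v hv)
    rwa [S2.a7 hbb hcc hbc] at h3
  have hwA : w ∈ Ee V A := hmA.mem_of_fix h2 haA ha1 (s.wF hc a haB)
  obtain ⟨v1, hv1, hxv⟩ := s.out_fix hc hz hx hxx
  have hvA : v1 ∈ Ee V A := hmA.mem_of_fix h2 hxA hx1 hxv
  have hzA : z ∈ Ee V A := by
    rw [← hz.nn v1 hv1, S2.nn]
    exact add_mem (add_mem (add_mem hvA (hbE _ hvA)) (hcE _ hvA)) (haE _ hvA)
  have hFA : ∀ f ∈ fx V B, f ∈ Ee V A := by
    intro f hf
    rcases s.cases hc hz hf with rfl | rfl | rfl | rfl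
    · exact zero_mem _
    · exact hzA
    · exact hwA
    · exact add_mem hwA hzA
  have hgA : ∀ g ∈ B, g • v1 ∈ Ee V A := by
    intro g hg
    rcases s.in4 hc hg with rfl | rfl | rfl | rfl
    · rwa [one_smul]
    · exact hbE _ hvA
    · exact hcE _ hvA
    · exact haE _ hvA
  have hEA : ∀ e ∈ Ee V B, e ∈ Ee V A := by
    intro e he
    obtain ⟨g, hg, hf⟩ := hm.surj v1 hv1 e he
    have h3 := (Ee V A).sub_mem (hFA _ hf) (add_mem (hgA g hg) hvA)
    rwa [add_sub_cancel_left] at h3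
  obtain ⟨v, hv⟩ := hmA.ne
  apply hv
  by_cases hvE : v ∈ Ee V B
  · exact hEA v hvE
  · have h3 := (Ee V A).sub_mem (hEA _ (add_mem_of_index s.ind hvE hv1)) hvA
    rwa [add_sub_cancel_right] at h3

/-- **(6)** `T = N_Y(B)` -/
theorem T_eq (ht : Hyp2 V U) : (T : Subgroup Y) = normalizer (B : Set Y) := by
  obtain ⟨z, hz⟩ := s.exists_z hc
  have hle : normalizer (B : Set Y) ≤ (T : Subgroup Y) := by
    intro y hy
    rcases s.norm_cases hc ht.soc hz ht.faith ht.noff hy with h | h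
    · exact s.BT h
    · have e : y = t * (t⁻¹ * y) := by group
      rw [e]
      exact mul_mem s.tT (s.BT h)
  by_contra hne
  have hlt : normalizer (B : Set Y) < (T : Subgroup Y) := lt_of_le_of_ne hle (Ne.symm hne)
  obtain ⟨y, hy, hyN⟩ := SetLike.exists_of_lt (Amb.lt_norm T.2 hlt)
  apply hyN
  have h1 : MulAut.conj y • B ∈ U := hc.conj B s.mem y
  have h3 : MulAut.conj y • B ≤ normalizer (B : Set Y) := by
    intro x hx
    rw [mem_conj] at hx
    have h4 := (mem_normalizer_iff.1 hy.2 (y⁻¹ * x * y)).1 (le_normalizer hx)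
    have e : y * (y⁻¹ * x * y) * y⁻¹ = x := by group
    rwa [e] at h4
  have h4 := s.only hc ht h1 h3
  apply mem_normalizer_fintype
  intro n hn
  have h5 : y * n * y⁻¹ ∈ MulAut.conj y • B := conj_mem_conj hn
  rw [h4] at h5
  exact h5

/-- a subgroup containing `B` and `t` contains `T` -/
theorem T_le (ht : Hyp2 V U) {R : Subgroup Y} (hB : B ≤ R) (htR : t ∈ R) : (T : Subgroup Y) ≤ R := by
  obtain ⟨z, hz⟩ := s.exists_z hc
  rw [s.T_eq hc ht]
  intro y hy
  rcases s.norm_cases hc ht.soc hz ht.faith ht.noff hy with h | h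
  · exact hB h
  · have e : y = t * (t⁻¹ * y) := by group
    rw [e]
    exact mul_mem htR (hB h)

/-! ### (7) -/

/-- `Φ` is `T`-invariant -/
theorem Φ_T (ht : Hyp2 V U) {y : Y} (hy : y ∈ T) {p : V} (hp : p ∈ Φ) : y • p ∈ Φ := by
  obtain ⟨z, hz⟩ := s.exists_z hc
  have hm := s.hm hc
  have hBΦ : ∀ g ∈ B, ∀ p ∈ Φ, g • p ∈ Φ := fun g hg => s.ΦH g (s.BH hg)
  obtain ⟨v0, hv0, hv0E⟩ := SetLike.not_le_iff_exists.1 s.ΦE
  have hzΦ : z ∈ Φ := by
    rw [← hz.nn v0 hv0E, S2.nn]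
    exact add_mem (add_mem (add_mem hv0 (hBΦ _ s.bB _ hv0)) (hBΦ _ (s.cB hc) _ hv0))
      (hBΦ _ (B.mul_mem s.bB (s.cB hc)) _ hv0)
  have htN := s.t_norm hc
  have htt : t * t ∈ B := by
    apply s.mem_of hc ht.soc hz ht.faith ht.noff (mul_mem htN htN)
    rw [mul_smul, s.tw' hc hz, smul_add, s.tw' hc hz, s.smul_z hc hz htN, add_assoc, hc.two, add_zero]
  obtain ⟨x, hx, hxx⟩ := s.exists_inv hc htt
  have h1 : ∀ p ∈ Φ, p ∉ Ee V B → x • p ∈ Φ := by
    intro p hp hpE
    obtain ⟨f, hf, h3 | h3⟩ := s.inv_act hc hz hx hxx hpE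
    · rw [h3]
      rcases hf with rfl | rfl
      · exact add_mem hp (zero_mem _)
      · exact add_mem hp hzΦ
    · rw [h3]
      have h4 := hBΦ _ (B.mul_mem s.bB (s.cB hc)) _ hp
      rcases hf with rfl | rfl
      · exact add_mem h4 (zero_mem _)
      · exact add_mem h4 hzΦ
  have h2 : ∀ p ∈ Φ, x • p ∈ Φ := by
    intro p hp
    by_cases hpE : p ∈ Ee V B
    · have h3 : p + v0 ∉ Ee V B := fun h => hv0E (by
        have := (Ee V B).sub_mem h hpE
        rwa [add_sub_cancel_left] at this)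
      have h4 := Φ.sub_mem (h1 _ (add_mem hp hv0) h3) (h1 _ hv0 hv0E)
      rwa [← smul_sub, add_sub_cancel_right] at h4
    · exact h1 p hp hpE
  have hy' : y ∈ (T : Subgroup Y) := hy
  rw [s.T_eq hc ht] at hy'
  rcases s.norm_cases hc ht.soc hz ht.faith ht.noff hy' with h | h
  · exact hBΦ y h p hp
  · have e : y = x * ((t⁻¹ * x)⁻¹ * (t⁻¹ * y)) := by group
    rw [e, mul_smul]
    exact h2 _ (hBΦ _ (B.mul_mem (B.inv_mem hx) h) _ hp)

/-- **(7)** The configuration is impossible at the top: `V` irreducible, `T` in the unique maximal subgroup `M`. -/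
theorem false_of (ht : Hyp2 V U) (hmax : ∀ K : Subgroup Y, (T : Subgroup Y) ≤ K → K ≠ ⊤ → K ≤ M)
    (hirr : ∀ W : AddSubgroup V, (∀ y : Y, ∀ w ∈ W, y • w ∈ W) → W = ⊥ ∨ W = ⊤) : False := by
  have htop : H ⊔ (T : Subgroup Y) = ⊤ := by
    by_contra h
    exact s.HM (le_sup_left.trans (hmax _ le_sup_right h))
  have hinv : ∀ y : Y, ∀ p ∈ Φ, y • p ∈ Φ := by
    have h1 : H ≤ stb Φ := nm_iff.1 fun x hx p hp => s.ΦH x hx p hp
    have h2 : (T : Subgroup Y) ≤ stb Φ := nm_iff.1 fun x hx p hp => s.Φ_T hc ht hx hp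
    have h3 : (⊤ : Subgroup Y) ≤ stb Φ := by
      rw [← htop]
      exact sup_le h1 h2
    exact fun y p hp => (h3 (mem_top y) p).2 hp
  rcases hirr Φ hinv with h | h
  · apply s.ΦE
    rw [h]
    exact bot_le
  · apply s.Φw
    rw [h]
    exact AddSubgroup.mem_top w

end StarTwo

/-- The second alternative of the module theorem for `a = 2`. -/
def Star2 (V : Type u) [AddCommGroup V] [DistribMulAction Y V] (U : Set (Subgroup Y)) (T : Sylow 2 Y)
    (M : Subgroup Y) : Prop :=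
  ∃ (H B : Subgroup Y) (b t : Y) (w : V) (Φ : AddSubgroup V), StarTwo V U T M H B b t w Φ

/-! ### passage from a subgroup -/

theorem fx_map_subtype {X : Subgroup Y} (B : Subgroup X) : fx V (B.map X.subtype) = fx V B := by
  ext v
  constructor
  · intro h b hb
    exact h _ ⟨b, hb, rfl⟩
  · rintro h _ ⟨b, hb, rfl⟩
    exact h b hb

theorem Ee_map_subtype {X : Subgroup Y} (B : Subgroup X) : Ee V (B.map X.subtype) = Ee V B := by
  ext v
  constructor
  · intro h b hb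
    rw [← fx_map_subtype]
    exact h _ ⟨b, hb, rfl⟩
  · rintro h _ ⟨b, hb, rfl⟩
    rw [fx_map_subtype]
    exact h b hb

theorem StarTwo.map {U : Set (Subgroup Y)} {T : Sylow 2 Y} {M : Subgroup Y} {X : Subgroup Y} {U' : Set (Subgroup X)}
    {T' : Sylow 2 X} {M' H' B' : Subgroup X} {b t : X} {w : V} {Φ : AddSubgroup V}
    (s : StarTwo V U' T' M' H' B' b t w Φ) (hU : ∀ C ∈ U', C.map X.subtype ∈ U)
    (hT : (T' : Subgroup X).map X.subtype ≤ (T : Subgroup Y)) (hM : M.subgroupOf X ≤ M') :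
    StarTwo V U T M (H'.map X.subtype) (B'.map X.subtype) (b : Y) (t : Y) w Φ where
  mem := hU _ s.mem
  card := by
    rw [← s.card]
    exact (Nat.card_congr (B'.equivMapOfInjective _ X.subtype_injective).toEquiv).symm
  ind := by rw [Ee_map_subtype]; exact s.ind
  cardF := by rw [fx_map_subtype]; exact s.cardF
  BT := (map_mono s.BT).trans hT
  BH := map_mono s.BH
  bB := ⟨b, s.bB, rfl⟩
  core := by
    intro N hN h2 hn n hnN hnB
    obtain ⟨n', hn', rfl⟩ := hnB
    have h3 := s.core (N.subgroupOf X) (fun x hx => by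
      obtain ⟨y, hy, hyx⟩ := hN hx
      have : y = x := Subtype.ext hyx
      rwa [← this]) (h2.comap_of_injective X.subtype X.subtype_injective)
      (fun x hx m hm => hn _ ⟨x, hx, rfl⟩ _ hm) n' hnN hn'
    rcases h3 with rfl | rfl
    · exact Or.inl rfl
    · exact Or.inr rfl
  w0 := s.w0
  wH := by
    rintro _ ⟨x, hx, rfl⟩
    exact s.wH x hx
  tT := hT ⟨t, s.tT, rfl⟩
  tB := by
    rintro _ ⟨x, hx, rfl⟩
    exact ⟨_, s.tB x hx, rfl⟩
  tb := fun h => s.tb (Subtype.ext h)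
  tw := s.tw
  ΦH := by
    rintro _ ⟨x, hx, rfl⟩
    exact s.ΦH x hx
  Φw := s.Φw
  ΦE := by rw [Ee_map_subtype]; exact s.ΦE
  HM := fun h => s.HM fun x hx => hM (h ⟨x, hx, rfl⟩)

/-- `Star2` passes from the world of a subgroup `X` to the world of `Y`. -/
theorem Star2.of_sub {U : Set (Subgroup Y)} {T : Sylow 2 Y} {M : Subgroup Y} {X : Subgroup Y}
    {U' : Set (Subgroup X)} {T' : Sylow 2 X} {M' : Subgroup X} (h : Star2 V U' T' M')
    (hU : ∀ C ∈ U', C.map X.subtype ∈ U) (hT : (T' : Subgroup X).map X.subtype ≤ (T : Subgroup Y))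
    (hM : M.subgroupOf X ≤ M') : Star2 V U T M := by
  obtain ⟨H, B, b, t, w, Φ, s⟩ := h
  exact ⟨_, _, _, _, _, _, s.map hU hT hM⟩

/-- `Star2` never comes from a proper sub-world: `T` lies in every subgroup over `B`, `t`. -/
theorem Star2.sylow_le [Finite Y] [Finite V] {U : Set (Subgroup Y)} {T : Sylow 2 Y} {M : Subgroup Y}
    (hc : Cls V U) (ht : Hyp2 V U) {X : Subgroup Y} {U' : Set (Subgroup X)} {T' : Sylow 2 X} {M' : Subgroup X}
    (h : Star2 V U' T' M') (hU : ∀ C ∈ U', C.map X.subtype ∈ U)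
    (hT : (T' : Subgroup X).map X.subtype ≤ (T : Subgroup Y)) (hM : M.subgroupOf X ≤ M') :
    (T : Subgroup Y) ≤ X := by
  obtain ⟨H, B, b, t, w, Φ, s⟩ := h
  exact (s.map hU hT hM).T_le hc ht (map_subtype_le _) t.2

/-- `Star2` is impossible at the top (`V` irreducible). -/
theorem Star2.false [Finite Y] [Finite V] {U : Set (Subgroup Y)} {T : Sylow 2 Y} {M : Subgroup Y}
    (h : Star2 V U T M) (hc : Cls V U) (ht : Hyp2 V U)
    (hmax : ∀ K : Subgroup Y, (T : Subgroup Y) ≤ K → K ≠ ⊤ → K ≤ M)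
    (hirr : ∀ W : AddSubgroup V, (∀ y : Y, ∀ w ∈ W, y • w ∈ W) → W = ⊥ ∨ W = ⊤) : False := by
  obtain ⟨H, B, b, t, w, Φ, s⟩ := h
  exact s.false_of hc ht hmax hirr

end Cfsg.Agent.Omega.NO1.TH
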