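import Cfsg.Agent.Omega.NO1.TH.Chain
import Cfsg.Agent.Omega.NO1.TH.SockE
import Cfsg.Agent.Omega.NO1.TH.StarTwo

/-!
# N1, one component: the conclusion of the chain

`OutF` : `Fin ∨ Star2`; `sockE`.
-/

set_option autoImplicit false
set_option linter.unusedSectionVars false

namespace Cfsg.Agent.Omega.NO1.TH

open Subgroup Cfsg.Agent.Omega.NO1.AB
open scoped Pointwise

universe u

/-- **The conclusion of the chain.** -/
def OutF : OutT.{u} := fun _ V _ _ _ U T M => Fin V U T M ∨ Star2 V U T M

/-- **no bad subgroup** -/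
theorem sockE : SockE OutF.{u} := fun _ _ _ _ _ _ _ _ _ _ _ w hU he => Or.inl (w.fin_of_none hU he)

end Cfsg.Agent.Omega.NO1.TH
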