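import Cfsg.Agent.Omega.NO1.TH.Descent
import Cfsg.Agent.Omega.NO1.TH.Fin

/-!
# N1, one component, case (A): the world for `H` (bb OMEGA 20114, 20994, 21423)

`World.sub` : a member `B ≤ R` with `W ≰ E_B`: `World` for `H`, the `H`-class of `B`, `R ∈ Syl₂(H)`, `H ∩ M`.
`World.descent` : with `Fin.of_sub`.
-/

set_option autoImplicit false
set_option linter.unusedSectionVars false

namespace Cfsg.Agent.Omega.NO1.TH

open Subgroup Cfsg.Agent.Omega.NO1.AB
open scoped Pointwise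

universe u

variable {Y : Type u} [Group Y] {V : Type u} [AddCommGroup V] [DistribMulAction Y V] {U : Set (Subgroup Y)}
  {T : Sylow 2 Y} {M H R : Subgroup Y} {t : Y} {q : ℕ}

/-- (SOC-N) is inherited -/
theorem socN_sub (hc : Cls V U) (hs : ∀ A ∈ U, ∀ B ∈ U, ∀ v : V, v ≠ 0 → v ∈ fx V A → v ∈ fx V B →
    ∃ S ≤ B, q ≤ Nat.card S ∧ S ≤ normalizer (A : Set Y) ∧ ∀ s ∈ S, ∀ x : V, s • x + x ∈ Ee V A)
    {B : Subgroup H} (hB : B.map H.subtype ∈ U) {A C : Subgroup H} (hA : A ∈ cl B) (hC : C ∈ cl B) {v : V}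
    (hv0 : v ≠ 0) (hvA : v ∈ fx V A) (hvC : v ∈ fx V C) :
    ∃ S ≤ C, q ≤ Nat.card S ∧ S ≤ normalizer (A : Set H) ∧ ∀ s ∈ S, ∀ x : V, s • x + x ∈ Ee V A := by
  obtain ⟨S, hSC, hS, hSn, hSV⟩ := hs _ (cl_map hc hB hA) _ (cl_map hc hB hC) v hv0
    (by rw [fx_map]; exact hvA) (by rw [fx_map]; exact hvC)
  have hSH : S ≤ H := hSC.trans (map_subtype_le C)
  refine ⟨S.subgroupOf H, ?_, ?_, ?_, ?_⟩
  · intro s hs
    obtain ⟨c, hc', hcs⟩ := hSC (show (s : Y) ∈ S from hs)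
    have : c = s := Subtype.ext hcs
    rwa [← this]
  · rw [Nat.card_congr (subgroupOfEquivOfLe hSH).toEquiv]
    exact hS
  · intro s hs
    have h1 : ∀ y : H, (y : Y) ∈ A.map H.subtype ↔ y ∈ A := by
      intro y
      constructor
      · rintro ⟨c, hc', hcs⟩
        have : c = y := Subtype.ext hcs
        rwa [← this]
      · intro hy
        exact ⟨y, hy, rfl⟩
    have h2 := mem_normalizer_iff.1 (hSn (show (s : Y) ∈ S from hs))
    rw [mem_normalizer_iff]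
    intro y
    have h3 := h2 (y : Y)
    rw [← h1 y, h3, ← h1 (s * y * s⁻¹)]
    rfl
  · intro s hs x
    have h1 := hSV s hs x
    rwa [Ee_map] at h1

/-- **Case (A): the world for `H`.** -/
theorem World.sub [Finite Y] [Finite V] (w : World V U T M q) (a : Amal U T M H R t) {B : Subgroup Y}
    (hB : B ∈ U) (hBR : B ≤ R) (hW : ¬ WW V H R ≤ Ee V B) : ∃ P : Sylow 2 H, (P : Subgroup H) = R.subgroupOf H ∧
      World V (cl (B.subgroupOf H)) P (M.subgroupOf H) q := by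
  obtain ⟨P, hP, hl, hW'⟩ := a.exists_lq w.toAmb w.soc hB hBR (w.lt hB) hW
  have hBH : B ≤ H := hBR.trans a.RH
  have hmap : (B.subgroupOf H).map H.subtype = B := map_subgroupOf_eq_of_le hBH
  have hBm : (B.subgroupOf H).map H.subtype ∈ U := by rw [hmap]; exact hB
  have hcore := hl.core_eq_bot (NoOff.sub w.noff H) hW'
  have hmin := a.isMinH
  refine ⟨P, hP, ⟨⟨cls_sub w.cls hBm, ?_, hmin.ne_top, ?_, ?_, ?_, ?_⟩, w.two_le, ?_, ?_, NoOff.sub w.noff H, ?_, ?_,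
    ?_⟩⟩
  · rw [hP]
    exact fun x hx => w.TM (a.RT hx)
  · intro K hK hne
    rw [hP] at hK
    exact hmin.le_of K hK hne
  · intro N hN hN2
    have f2 : Fact (Nat.Prime 2) := ⟨Nat.prime_two⟩
    rw [eq_bot_iff, ← hcore]
    exact Lib.Cores.le_pCore hN hN2
  · intro W hWi
    by_cases h1 : W = ⊥
    · exact Or.inl h1
    · exact Or.inr fun C hC hWC => h1 (a.irr_sub w.toAmb w.soc hB hBR (w.lt hB) hW hWi hC hWC)
  · exact fun y hy => Subtype.ext (w.faith y hy)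
  · intro C hC
    have h1 := w.ind _ (cl_map w.cls hBm hC)
    rwa [Ee_map] at h1
  · intro C hC
    have h1 := w.pf _ (cl_map w.cls hBm hC)
    rwa [card_map_sub] at h1
  · intro C hC X hCX hX
    exact soc_sub w.cls w.soc hBm hC X hCX hX
  · intro A hA C hC v hv0 hvA hvC
    exact socN_sub w.cls w.socN hBm hA hC hv0 hvA hvC
  · intro C hC x hx hxF
    obtain ⟨A₁, hA₁⟩ := w.line _ (cl_map w.cls hBm hC) x (by rw [Ee_map]; exact hx) (by rw [fx_map]; exact hxF)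
    exact ⟨_, hA₁.sub⟩

/-- **Case (A): descent.** -/
theorem World.descent [Finite Y] [Finite V] (w : World V U T M q) (a : Amal U T M H R t) {B : Subgroup Y}
    (hB : B ∈ U) (hBR : B ≤ R) (hW : ¬ WW V H R ≤ Ee V B) :
    ∃ (UH : Set (Subgroup H)) (P : Sylow 2 H), World V UH P (M.subgroupOf H) q ∧ (∃ C, C ∈ UH) ∧
      (∀ C ∈ UH, C.map H.subtype ∈ U) ∧ (P : Subgroup H).map H.subtype ≤ R ∧
        (P : Subgroup H).map H.subtype ≤ (T : Subgroup Y) ∧ (Fin V UH P (M.subgroupOf H) → Fin V U T M) := by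
  obtain ⟨P, hP, hw⟩ := w.sub a hB hBR hW
  have hmap : (B.subgroupOf H).map H.subtype = B := map_subgroupOf_eq_of_le (hBR.trans a.RH)
  have hBm : (B.subgroupOf H).map H.subtype ∈ U := by rw [hmap]; exact hB
  have h1 : ∀ C ∈ cl (B.subgroupOf H), C.map H.subtype ∈ U := fun C hC => cl_map w.cls hBm hC
  have h2 : (P : Subgroup H).map H.subtype ≤ R := by
    rintro _ ⟨x, hx, rfl⟩
    rw [SetLike.mem_coe, hP] at hx
    exact hx
  exact ⟨_, P, hw, ⟨_, self_mem_cl _⟩, h1, h2, h2.trans a.RT, fun h => Fin.of_sub h1 (h2.trans a.RT) h⟩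

end Cfsg.Agent.Omega.NO1.TH
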