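import Cfsg.Agent.Omega.NO1.TH.OutF
import Cfsg.Agent.Omega.NO1.TH.SockA

/-!
# N1, one component: socket (A) of `Chain.lean` for `OutF`
-/

set_option autoImplicit false

namespace Cfsg.Agent.Omega.NO1.TH

open Subgroup Cfsg.Agent.Omega.NO1.AB
open scoped Pointwise

universe u

/-- **case (A)** -/
theorem sockA : SockA OutF.{u} := by
  intro Y V _ _ _ _ _ U T M a w H R t am B hB hBR hW
  obtain ⟨UH, P, hw, hex, h1, _, h2, h3⟩ := w.descent am hB hBR hW
  refine ⟨UH, P, hw, hex, ?_⟩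
  rintro (h | h)
  · exact Or.inl (h3 h)
  · exact Or.inr (Star2.of_sub h h1 h2 le_rfl)

end Cfsg.Agent.Omega.NO1.TH
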