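import Cfsg.Agent.Omega.NO1.TH.EndFin
import Cfsg.Agent.Omega.NO1.TH.SockAF

/-!
# `sockOne' : SockOne OutF`, the chain with `SockNat`, `SockSym` open
-/

set_option autoImplicit false
set_option linter.unusedSectionVars false

namespace Cfsg.Agent.Omega.NO1.TH

open Subgroup Cfsg.Agent.Omega.NO1.AB
open scoped Pointwise

universe u

/-- **socket (1)** -/
theorem sockOneF : SockOne OutF.{u} :=
  sockOne (fun _ _ _ _ _ _ _ _ _ _ h => Or.inr h) (endFour fun _ _ _ _ _ _ _ _ _ _ h => Or.inl h)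

end Cfsg.Agent.Omega.NO1.TH
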