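import Cfsg.Agent.Omega.NO1.TH.FrOut
import Cfsg.Agent.Omega.NO1.TH.SockOneF
import Cfsg.Agent.Omega.NO1.TH.K.SockNat

/-!
# `FrOne` from `SockSym`, `SockBeta`
-/

set_option autoImplicit false
set_option linter.unusedSectionVars false

namespace Cfsg.Agent.Omega.NO1.TH

universe u

/-- the chain, `SockNat` and `SockSym` open -/
theorem allOut_of (hN : SockNat OutF.{u}) (hS : SockSym OutF.{u}) : AllOut.{u} :=
  allOut_of_socks sockA sockOneF hN hS

/-- the chain, `SockSym` open -/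
theorem allOut_of_sym (hS : SockSym OutF.{u}) : AllOut.{u} := allOut_of sockNat hS

/-- CARD N1-ONE -/
theorem frOne_of_two (h1 : Field.SL2Spr.{u}) (h5 : Field.NoSz.{u}) (hS : SockSym OutF.{u}) (hβ : SockBeta.{u}) :
    Comp.FrOne.{u} := frOne_of_out h1 h5 (allOut_of_sym hS) hβ

end Cfsg.Agent.Omega.NO1.TH
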