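import Cfsg.Agent.Omega.NO1.TH.LOneA

/-!
# N1, BETA, the amalgam `(H, H^t)`: (L1) (bb OMEGA 21480, helper411), part 2: the theorem
-/

set_option autoImplicit false
set_option linter.unusedSectionVars false

namespace Cfsg.Agent.Omega.NO1.TH

open Subgroup Cfsg.Agent.Omega.NO1.AB
open scoped Pointwise

universe u

variable {Y : Type u} [Group Y] {V : Type u} [AddCommGroup V] [DistribMulAction Y V]

namespace LOne

variable {U : Set (Subgroup Y)} {T : Sylow 2 Y} {M H R : Subgroup Y} {t : Y} {ι : Type} {P : ι → Subgroup Y}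
  {Ψ : ι → AddSubgroup V} {ι' : Type} {P' : ι' → Subgroup Y} {Ψ' : ι' → AddSubgroup V} {A : Subgroup Y}
  (a : Amal U T M H R t) (h : Amb V U T M) (i : LIn V U M H R t P Ψ P' Ψ' A)
include a h i

/-! ### (1) -/

/-- `B₁` centralises `C_{W'}(J)` -/
theorem B_fix {b : Y} (hb : b ∈ A) (hbQ : b ∈ QQ H R) {x : V} (hx : x ∈ WJ V U (MulAut.conj t • H) R) :
    b • x = x := by
  obtain ⟨Δ, _, h1, _⟩ := i.exact
  refine i.fac'.fix ?_ hx
  exact (iSup₂_le fun p _ => le_iSup P' p) (h1 b hb hbQ)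

/-- `A`-invariance from `v = w + f`, `w` centralised by the normal subgroup -/
theorem A_inv_aux {v : V} (hv : v ∈ WW V H R ⊔ fx V A) {u : Y} (hu : u ∈ A) : u • v + v ∈ WW V H R := by
  obtain ⟨w, hw, f, hf, rfl⟩ := AddSubgroup.mem_sup.1 hv
  have e : u • (w + f) + (w + f) = (u • w + w) + (f + f) := by rw [smul_add, hf u hu]; abel
  rw [e, h.two, add_zero]
  exact add_mem (smul_mem_WW (i.AH hu) hw) hw

/-- **(1)**: `W + C_{W'}(J)` is `H`-invariant -/
theorem Wp_inv : Nm H (WW V H R ⊔ WJ V U (MulAut.conj t • H) R) := by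
  apply a.Hinv h i.AH i.AM
  · intro r hr v hv
    obtain ⟨w, hw, x, hx, rfl⟩ := AddSubgroup.mem_sup.1 hv
    rw [smul_add]
    exact add_mem (AddSubgroup.mem_sup_left (smul_mem_WW (a.RH hr) hw))
      (AddSubgroup.mem_sup_right (a.WJ_inv' h hr hx))
  · intro u hu v hv
    obtain ⟨w, hw, x, hx, rfl⟩ := AddSubgroup.mem_sup.1 hv
    rw [smul_add]
    refine add_mem (AddSubgroup.mem_sup_left (smul_mem_WW (i.AH hu) hw)) ?_
    have h1 := A_inv_aux a h i (i.CB x fun b hb hbQ => B_fix a h i hb hbQ hx) hu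
    have e : u • x = (u • x + x) + x := by rw [add_assoc, h.two, add_zero]
    rw [e]
    exact add_mem (AddSubgroup.mem_sup_left h1) (AddSubgroup.mem_sup_right hx)

theorem conj_QS {x q : Y} (hx : x ∈ H) (hq : q ∈ QS V U H (MulAut.conj t • H) R) :
    x * q * x⁻¹ ∈ QS V U H (MulAut.conj t • H) R := by
  have h1 : ∀ v ∈ WW V H R ⊔ WJ V U (MulAut.conj t • H) R, q • v = v := by
    intro v hv
    obtain ⟨w, hw, y, hy, rfl⟩ := AddSubgroup.mem_sup.1 hv
    rw [smul_add, hq.2.1 w hw, hq.2.2 y hy]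
  have h2 : ∀ v ∈ WW V H R ⊔ WJ V U (MulAut.conj t • H) R, (x * q * x⁻¹) • v = v := by
    intro v hv
    rw [mul_smul, mul_smul, h1 _ (Wp_inv a h i x⁻¹ (inv_mem hx) v hv), smul_inv_smul]
  exact ⟨conj_mem_QQ hx hq.1, fun v hv => h2 v (AddSubgroup.mem_sup_left hv),
    fun v hv => h2 v (AddSubgroup.mem_sup_right hv)⟩

theorem conj_QS' {x q : Y} (hx : x ∈ MulAut.conj t • H) (hq : q ∈ QS V U (MulAut.conj t • H) H R) :
    x * q * x⁻¹ ∈ QS V U (MulAut.conj t • H) H R := by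
  have h1 := a.t_QS h (conj_QS a h i (Amal.t_mem' hx) (a.ti_QS' h hq))
  have e : t * (t⁻¹ * x * t * (t⁻¹ * q * t) * (t⁻¹ * x * t)⁻¹) * t⁻¹ = x * q * x⁻¹ := by group
  rwa [e] at h1

theorem B_QS {b : Y} (hb : b ∈ A) (hbQ : b ∈ QQ H R) : b ∈ QS V U H (MulAut.conj t • H) R :=
  ⟨hbQ, fun _ hw => Amal.QQ_fix a h hbQ hw, fun _ hx => B_fix a h i hb hbQ hx⟩

theorem QS_le {q : Y} (hq : q ∈ QS V U H (MulAut.conj t • H) R) : q ∈ ⨆ p, P' p :=
  i.fac'.ofJ q (QQ_le hq.1) hq.2.2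

theorem QS_le' {q : Y} (hq : q ∈ QS V U (MulAut.conj t • H) H R) : q ∈ ⨆ p, P p :=
  i.fac.ofJ q (QQ_le hq.1) hq.2.2

/-! ### (2) -/

/-- the decomposition of `W'` -/
theorem dec {w : V} (hw : w ∈ WW V (MulAut.conj t • H) R) :
    ∃ y ∈ WW V (MulAut.conj t • H) R, (∀ b ∈ A, b ∈ QQ H R → b • y = y) ∧
      ∀ q ∈ ⨆ p, P' p, (q • w + w) + (q • y + y) ∈ fx V A := by
  obtain ⟨Δ, _, h1, h2⟩ := i.exact
  let D : AddSubgroup V :=
    { carrier := {w | ∃ y ∈ WW V (MulAut.conj t • H) R, (∀ b ∈ A, b ∈ QQ H R → b • y = y) ∧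
        ∀ q ∈ ⨆ p, P' p, (q • w + w) + (q • y + y) ∈ fx V A}
      zero_mem' := ⟨0, zero_mem _, fun b _ _ => smul_zero b, fun q _ => by
        rw [smul_zero, add_zero, add_zero]; exact zero_mem _⟩
      add_mem' := by
        rintro v w ⟨y, hy1, hy2, hy3⟩ ⟨z, hz1, hz2, hz3⟩
        refine ⟨y + z, add_mem hy1 hz1, fun b hb hbQ => by rw [smul_add, hy2 b hb hbQ, hz2 b hb hbQ],
          fun q hq => ?_⟩
        have e : q • (v + w) + (v + w) + (q • (y + z) + (y + z)) =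
            ((q • v + v) + (q • y + y)) + ((q • w + w) + (q • z + z)) := by
          rw [smul_add, smul_add]; abel
        rw [e]
        exact add_mem (hy3 q hq) (hz3 q hq)
      neg_mem' := by
        rintro v ⟨y, hy1, hy2, hy3⟩
        refine ⟨-y, neg_mem hy1, fun b hb hbQ => by rw [smul_neg, hy2 b hb hbQ], fun q hq => ?_⟩
        have e : q • (-v) + (-v) + (q • (-y) + (-y)) = -((q • v + v) + (q • y + y)) := by
          rw [smul_neg, smul_neg]; abel
        rw [e]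
        exact neg_mem (hy3 q hq) }
  have h3 : WJ V U (MulAut.conj t • H) R ⊔ ⨆ p, Ψ' p ≤ D := by
    refine sup_le (fun x hx => ?_) (iSup_le fun p x hx => ?_)
    · refine ⟨x, hx.1, fun b hb hbQ => B_fix a h i hb hbQ hx, fun q hq => ?_⟩
      rw [h.two]; exact zero_mem _
    · by_cases hp : p ∈ Δ
      · refine ⟨0, zero_mem _, fun b _ _ => smul_zero b, fun q hq => ?_⟩
        rw [smul_zero, add_zero, add_zero]
        obtain ⟨r, hr, h4⟩ := i.fac'.proj h.two hq p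
        obtain ⟨b, hb, hbQ, h5⟩ := h2 p hp r hr
        have h6 : r • x = b • x := by
          have h7 := a.QQ_fix' h h5 (i.fac'.Ψle p hx)
          rw [mul_smul, inv_smul_eq_iff] at h7
          exact h7
        rw [h4 x hx, h6]
        have h8 := i.le₁ 1 (one_mem _) x (i.fac'.Ψle p hx)
        rw [one_smul] at h8
        exact h8 b hb
      · refine ⟨x, i.fac'.Ψle p hx, fun b hb hbQ => ?_, fun q hq => ?_⟩
        · have h4 : (⨆ p' ∈ Δ, P' p') ≤ fxr (Ψ' p) := iSup₂_le fun p' hp' r hr =>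
            i.fac'.orth p' p (fun e => hp (e ▸ hp')) r hr
          exact h4 (h1 b hb hbQ) x hx
        · rw [h.two]; exact zero_mem _
  exact h3 (i.fac'.sup hw)

/-- **(2)**: `I' = [W', Q_*]` is `H`-invariant -/
theorem I_inv : Nm H (brk (WW V (MulAut.conj t • H) R) (QS V U H (MulAut.conj t • H) R)) := by
  apply a.Hinv h i.AH i.AM
  · intro r hr v hv
    exact smul_brk (fun w hw => smul_mem_WW (a.RH' hr) hw) (fun q hq => conj_QS a h i (a.RH hr) hq) hv
  · intro u hu v hv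
    have key : ∀ v, v ∈ brk (WW V (MulAut.conj t • H) R) (QS V U H (MulAut.conj t • H) R) →
        u • v ∈ brk (WW V (MulAut.conj t • H) R) (QS V U H (MulAut.conj t • H) R) := by
      intro v hv
      induction hv using AddSubgroup.closure_induction with
      | mem v hv =>
        obtain ⟨w, hw, q, hq, rfl⟩ := hv
        obtain ⟨y, hy, h1, h2⟩ := dec a h i hw
        have h3 := h2 q (QS_le a h i hq) u hu
        obtain ⟨w₁, hw₁, f, hf, hyf⟩ := AddSubgroup.mem_sup.1 (i.CB y h1)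
        -- `q y + y = q f + f`
        have h4 : ∀ q' : Y, q' ∈ QS V U H (MulAut.conj t • H) R → q' • y + y = q' • f + f := by
          intro q' hq'
          rw [← hyf, smul_add, hq'.2.1 w₁ hw₁]
          have e : w₁ + q' • f + (w₁ + f) = (w₁ + w₁) + (q' • f + f) := by abel
          rw [e, h.two, zero_add]
        have h5 : u • (q • y + y) = (u * q * u⁻¹) • y + y := by
          rw [h4 q hq, h4 _ (conj_QS a h i (i.AH hu) hq), smul_add, mul_smul, mul_smul]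
          have h6 : u⁻¹ • f = f := by rw [inv_smul_eq_iff, hf u hu]
          rw [h6, hf u hu]
        rw [smul_add, h5] at h3
        have h7 : u • (q • w + w) = ((q • w + w) + (q • y + y)) + ((u * q * u⁻¹) • y + y) := by
          rw [← h3, add_assoc, h.two, add_zero]
        rw [h7]
        exact add_mem (add_mem (mem_brk hw hq) (mem_brk hy hq))
          (mem_brk hy (conj_QS a h i (i.AH hu) hq))
      | zero => rw [smul_zero]; exact zero_mem _
      | add b c _ _ h1 h2 => rw [smul_add]; exact add_mem h1 h2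
      | neg b _ h1 => rw [smul_neg]; exact neg_mem h1
    exact key v hv

theorem I_le : brk (WW V (MulAut.conj t • H) R) (QS V U H (MulAut.conj t • H) R) ≤ WJ V U (MulAut.conj t • H) R :=
  brk_le fun _ hw _ hq => i.fac'.comm h.two (QS_le a h i hq) hw

/-- **(2)**: the members `≤ H` centralise `I'` -/
theorem I_fix [Finite Y] {z : V} (hz : z ∈ brk (WW V (MulAut.conj t • H) R) (QS V U H (MulAut.conj t • H) R)) :
    ∀ B ∈ U, B ≤ H → ∀ b ∈ B, b • z = z := by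
  intro B hB hBH b hb
  obtain ⟨x, hx, hxB⟩ := conj_into a.RH a.R2 (fun R' h1 h2 => a.le_card H a.bad R' h1 h2) hBH
    (h.cls.mem B hB).isPGroup
  have h1 := (I_le a h i (I_inv a h i x hx z hz)).2 _ (h.cls.conj B hB x) hxB _ (conj_mem_conj hb)
  rw [mul_smul, mul_smul, inv_smul_smul] at h1
  exact smul_left_cancel x h1

/-! ### `I = t I'` -/

theorem t_I {z : V} (hz : z ∈ brk (WW V H R) (QS V U (MulAut.conj t • H) H R)) :
    t⁻¹ • z ∈ brk (WW V (MulAut.conj t • H) R) (QS V U H (MulAut.conj t • H) R) :=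
  smul_brk (fun _ hw => a.inv_smul_W hw) (fun _ hq => by rw [inv_inv]; exact a.ti_QS' h hq) hz

theorem t_I' {z : V} (hz : z ∈ brk (WW V (MulAut.conj t • H) R) (QS V U H (MulAut.conj t • H) R)) :
    t • z ∈ brk (WW V H R) (QS V U (MulAut.conj t • H) H R) :=
  smul_brk (fun _ hw => a.smul_W' hw) (fun q hq => a.t_QS h hq) hz

theorem J_inv : Nm (MulAut.conj t • H) (brk (WW V H R) (QS V U (MulAut.conj t • H) H R)) := by
  intro x hx z hz
  have h1 := t_I' a h i (I_inv a h i _ (Amal.t_mem' hx) _ (t_I a h i hz))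
  rw [← mul_smul, ← mul_smul] at h1
  have e : t * (t⁻¹ * x * t) * t⁻¹ = x := by group
  rwa [e] at h1

theorem J_fix [Finite Y] {z : V} (hz : z ∈ brk (WW V H R) (QS V U (MulAut.conj t • H) H R)) :
    ∀ B ∈ U, B ≤ MulAut.conj t • H → ∀ b ∈ B, b • z = z := by
  have h1 := fix_of_conj h.cls (x := t) (R := MulAut.conj t • H) (R' := H) (fun r hr => Amal.t_mem' hr)
    (I_fix a h i (t_I a h i hz))
  rwa [smul_inv_smul] at h1

/-- `JQ'` is induced by `Q_*` -/
theorem full {r : Y} (hr : r ∈ R) (hJ : ∀ x ∈ WJ V U (MulAut.conj t • H) R, r • x = x) :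
    ∃ q ∈ QS V U H (MulAut.conj t • H) R, q⁻¹ * r ∈ QQ (MulAut.conj t • H) R := by
  obtain ⟨Δ, ⟨p0, hp0⟩, h1, h2⟩ := i.exact
  let N : Subgroup Y :=
    { carrier := {r | r ∈ R ∧ ∃ q ∈ QS V U H (MulAut.conj t • H) R, q⁻¹ * r ∈ QQ (MulAut.conj t • H) R}
      one_mem' := ⟨one_mem _, 1, one_mem _, by rw [inv_one, one_mul]; exact one_mem _⟩
      mul_mem' := by
        rintro r s ⟨hr, q, hq, hqr⟩ ⟨hs, q', hq', hqs⟩
        refine ⟨mul_mem hr hs, q * q', mul_mem hq hq', ?_⟩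
        have h3 := mul_mem (conj_mem_QQ (inv_mem (a.RH' (QQ_le hq'.1))) hqr) hqs
        have e : q'⁻¹ * (q⁻¹ * r) * (q'⁻¹)⁻¹ * (q'⁻¹ * s) = (q * q')⁻¹ * (r * s) := by group
        rwa [e] at h3
      inv_mem' := by
        rintro r ⟨hr, q, hq, hqr⟩
        refine ⟨inv_mem hr, q⁻¹, inv_mem hq, ?_⟩
        have h3 := conj_mem_QQ (a.RH' (QQ_le hq.1)) (inv_mem hqr)
        have e : q * (q⁻¹ * r)⁻¹ * q⁻¹ = q⁻¹⁻¹ * r⁻¹ := by group
        rwa [e] at h3 }
  have hN0 : P' p0 ≤ N := by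
    intro r hr
    obtain ⟨b, hb, hbQ, h5⟩ := h2 p0 hp0 r hr
    exact ⟨i.fac'.le p0 hr, b, B_QS a h i hb hbQ, h5⟩
  have hN : (⨆ p, P' p) ≤ N := by
    apply iSup_le
    intro p r hr
    obtain ⟨s, hs, hP, _⟩ := i.fac'.trans p0 p
    have hrR := i.fac'.le p hr
    rw [hP, mem_conj] at hr
    obtain ⟨_, q, hq, hqr⟩ := hN0 hr
    refine ⟨hrR, s * q * s⁻¹, conj_QS a h i (a.RH hs) hq, ?_⟩
    have h3 := conj_mem_QQ (a.RH' hs) hqr
    have e : s * (q⁻¹ * (s⁻¹ * r * s)) * s⁻¹ = (s * q * s⁻¹)⁻¹ * r := by group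
    rwa [e] at h3
  exact (hN (i.fac'.ofJ r hr hJ)).2

theorem full' {r : Y} (hr : r ∈ R) (hJ : ∀ x ∈ WJ V U H R, r • x = x) :
    ∃ q ∈ QS V U (MulAut.conj t • H) H R, q⁻¹ * r ∈ QQ H R := by
  obtain ⟨q, hq, h1⟩ := full a h i (a.symm_smul hr) (fun x hx => by
    rw [mul_smul, mul_smul, hJ _ (a.t_WJ' h hx), inv_smul_smul])
  refine ⟨_, a.t_QS h hq, ?_⟩
  have h2 := a.t_QQ2 h1
  have e : t * (q⁻¹ * (t⁻¹ * r * t)) * t⁻¹ = (t * q * t⁻¹)⁻¹ * r := by group
  rwa [e] at h2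

/-- `I_p ≤ I` -/
theorem Ip_le (p : ι) : brk (Ψ p) (P p) ≤ brk (WW V H R) (QS V U (MulAut.conj t • H) H R) := by
  apply brk_le
  intro x hx r hr
  obtain ⟨q, hq, h1⟩ := full' a h i (i.fac.le p hr) (i.fac.fixJ p r hr)
  have h2 := a.QQ_fix h h1 (i.fac.Ψle p hx)
  rw [mul_smul, inv_smul_eq_iff] at h2
  rw [h2]
  exact mem_brk (i.fac.Ψle p hx) hq

/-! ### (3) -/

theorem J_inf [Finite Y] [Finite V] {z : V} (hz : z ∈ brk (WW V H R) (QS V U (MulAut.conj t • H) H R))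
    (hz0 : z ∈ D0 V U H R) : z = 0 := by
  by_contra hne
  obtain ⟨w, ⟨hw1, hw2⟩, hw0, hw⟩ := HE.exists_fixed h.two (R := R) a.R2
    (brk (WW V H R) (QS V U (MulAut.conj t • H) H R) ⊓ D0 V U H R)
    (fun r hr v hv => ⟨J_inv a h i r (a.RH' hr) v hv.1, a.D0_inv h (a.RH hr) hv.2⟩) ⟨z, ⟨hz, hz0⟩, hne⟩
  have h1 : ∀ {X : Subgroup Y}, (∀ x ∈ X, x • w = w) → X ≤ MulAction.stabilizer Y w := fun hX x hx => hX x hx
  have h2 : H ≤ MulAction.stabilizer Y w := by
    rw [← a.gen i.AH i.AM]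
    exact sup_le (h1 hw) (h1 (hw2.2 A i.mA i.AH))
  have h3 : MulAut.conj t • H ≤ MulAction.stabilizer Y w := by
    rw [← a.gen i.AH i.AM, smul_sup]
    refine sup_le (fun x hx => ?_) (h1 (J_fix a h i hw1 _ (h.cls.conj A i.mA t) (conj_le_conj t i.AH)))
    rw [mem_conj] at hx
    have := a.t_norm _ hx
    have e : t * (t⁻¹ * x * t) * t⁻¹ = x := by group
    rw [e] at this
    exact hw x this
  have h4 : t⁻¹ • w = 0 := by
    apply a.C_inf h
    · intro x hx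
      rw [smul_conj]
      have h5 : ((t⁻¹)⁻¹ * x * t⁻¹) • w = w := h3 (by
        rw [inv_inv]; exact Amal.t_mem hx)
      rw [h5]
    · rw [smul_inv_smul]
      exact fun x hx => h2 hx
  apply hw0
  rw [inv_smul_eq_iff, smul_zero] at h4
  exact h4

/-! ### (4) -/

/-- `S₁ ≤ B₁` -/
theorem S_le {w₀ x : V} (hw₀ : w₀ ∉ Ee V A) (hx : x ∈ WW V H R) {s : Y} (hs : s ∈ A)
    (he : s • w₀ + w₀ + x ∈ fx V A) : s ∈ QQ H R := by
  refine i.pre w₀ hw₀ s hs ?_
  have e : s • w₀ + w₀ = x + (s • w₀ + w₀ + x) := by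
    have : x + (s • w₀ + w₀ + x) = (s • w₀ + w₀) + (x + x) := by abel
    rw [this, h.two, add_zero]
  rw [e]
  exact add_mem (AddSubgroup.mem_sup_left hx) (AddSubgroup.mem_sup_right he)

/-- `S₁ ≤ Q_**` -/
theorem S_QSS [Finite Y] {w₀ x : V} (hw₀ : w₀ ∉ Ee V A) (hx : x ∈ WW V H R) {s : Y} (hs : s ∈ A)
    (he : s • w₀ + w₀ + x ∈ fx V A) : s ∈ QSS V H (MulAut.conj t • H) R := by
  have hm := h.cls.mem A i.mA
  have hsQ := S_le a h i hw₀ hx hs he
  refine ⟨hsQ, fun g hg w hw => ?_⟩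
  obtain ⟨s', hs', he'⟩ := hm.surj w₀ hw₀ (g • w) (i.le₁ g hg w hw)
  -- `s'` is trivial on `W / D₀`
  have key : s' ∈ QQ H R := by
    apply i.faith s' hs'
    intro x₁ hx₁
    obtain ⟨s₁, hs₁, he₁⟩ := hm.surj w₀ hw₀ x₁ (i.WE hx₁)
    have h1 := mem_sym hm h.two hs₁ hs' he₁ he'
    have h2 : s₁ • (g • w) + g • w ∈ brk (WW V (MulAut.conj t • H) R) (QS V U H (MulAut.conj t • H) R) := by
      have h3 := conj_QS a h i (inv_mem hg) (B_QS a h i hs₁ (S_le a h i hw₀ hx₁ hs₁ he₁))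
      rw [inv_inv] at h3
      rw [smul_conj, ← smul_add]
      exact I_inv a h i g hg _ (mem_brk hw h3)
    exact ⟨add_mem (smul_mem_WW (i.AH hs') hx₁) hx₁, I_fix a h i (h1 ▸ h2)⟩
  have h1 := mem_sym hm h.two hs hs' he he'
  rw [a.QQ_fix h key hx, h.two] at h1
  exact (HE.add_eq_zero' h.two).1 h1.symm

/-- a non-trivial element of `Q_**` -/
theorem exists_S [Finite Y] [Finite V] : ∃ s ∈ QSS V H (MulAut.conj t • H) R, s ≠ 1 := by
  have hm := h.cls.mem A i.mA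
  obtain ⟨w₀, hw₀⟩ := hm.ne
  obtain ⟨x, hx, hxF⟩ : ∃ x ∈ WW V H R, x ∉ fx V A := by
    by_contra hcon
    push Not at hcon
    apply i.AQ
    obtain ⟨y, hy, hyA⟩ := conj_into a.RH a.R2 (fun R' h1 h2 => a.le_card H a.bad R' h1 h2) i.AH hm.isPGroup
    intro u hu
    have h1 : y * u * y⁻¹ ∈ QQ H R := by
      rw [a.mem_QQ_iff h (hyA (conj_mem_conj hu))]
      intro w hw
      rw [mul_smul, mul_smul, hcon _ (smul_mem_WW (inv_mem hy) hw) u hu, smul_inv_smul]
    have h2 := conj_mem_QQ (inv_mem hy) h1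
    have e : y⁻¹ * (y * u * y⁻¹) * y⁻¹⁻¹ = u := by group
    rwa [e] at h2
  obtain ⟨s, hs, he⟩ := hm.surj w₀ hw₀ x (i.WE hx)
  refine ⟨s, S_QSS a h i hw₀ hx hs he, ?_⟩
  rintro rfl
  rw [one_smul, h.two, zero_add] at he
  exact hxF he

/-! ### (5) -/

theorem QSS_fix' {q : Y} (hq : q ∈ QSS V H (MulAut.conj t • H) R) {w : V}
    (hw : w ∈ WW V (MulAut.conj t • H) R) : q • w = w := by
  have h1 := hq.2 1 (one_mem _) w hw
  rwa [one_smul] at h1

theorem QSS_fix {q : Y} (hq : q ∈ QSS V H (MulAut.conj t • H) R) {w : V}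
    (hw : w ∈ WW V H R) : q • w = w := a.QQ_fix h hq.1 hw

theorem QSS_QS [Finite Y] [Finite V] {q : Y} (hq : q ∈ QSS V H (MulAut.conj t • H) R) :
    q ∈ QS V U (MulAut.conj t • H) H R :=
  ⟨a.mem_QQ' h (QQ_le hq.1) fun _ hw => QSS_fix' a h i hq hw, fun _ hw => QSS_fix' a h i hq hw,
    fun _ hw => QSS_fix a h i hq hw.1⟩

/-- the group generated by the members `≤ H'` -/
def JJ (U : Set (Subgroup Y)) (H' : Subgroup Y) : Subgroup Y :=
  Subgroup.closure {y | ∃ B ∈ U, B ≤ H' ∧ y ∈ B}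

omit a h i in
theorem JJ_le {H' : Subgroup Y} : JJ U H' ≤ H' := by
  rw [JJ, closure_le]
  rintro y ⟨B, _, hB, hy⟩
  exact hB hy

omit a h i in
theorem conj_JJ (hc : Cls V U) {H' : Subgroup Y} {x g : Y} (hx : x ∈ H') (hg : g ∈ JJ U H') :
    x * g * x⁻¹ ∈ JJ U H' := by
  have h1 : JJ U H' ≤ (JJ U H').comap (MulAut.conj x).toMonoidHom := by
    conv_lhs => rw [JJ]
    rw [closure_le]
    rintro y ⟨B, hB, hBH, hy⟩
    refine subset_closure ⟨MulAut.conj x • B, hc.conj B hB x, ?_, conj_mem_conj hy⟩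
    intro z hz
    rw [mem_conj] at hz
    have h2 := mul_mem (mul_mem hx (hBH hz)) (inv_mem hx)
    have e : x * (x⁻¹ * z * x) * x⁻¹ = z := by group
    rwa [e] at h2
  exact h1 hg

theorem J_fixJJ [Finite Y] {z : V} (hz : z ∈ brk (WW V H R) (QS V U (MulAut.conj t • H) H R)) {g : Y}
    (hg : g ∈ JJ U (MulAut.conj t • H)) : g • z = z := by
  have h1 : JJ U (MulAut.conj t • H) ≤ MulAction.stabilizer Y z := by
    rw [JJ, closure_le]
    rintro y ⟨B, hB, hBH, hy⟩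
    exact J_fix a h i hz B hB hBH y hy
  exact h1 hg

/-- **(5a), (5b)** -/
theorem five_a [Finite Y] [Finite V] : ∃ p : ι, ∀ q ∈ QSS V H (MulAut.conj t • H) R,
    ∀ g ∈ JJ U (MulAut.conj t • H), ∀ x ∈ Ψ p, q • g • x = g • x := by
  obtain ⟨p, hp1⟩ := i.mov
  refine ⟨p, fun q hq g hg x hx => ?_⟩
  have hgH := JJ_le hg
  -- commutators with `Q'_*`
  have hcm : ∀ k ∈ QS V U (MulAut.conj t • H) H R, k • g • x + g • x ∈ brk (Ψ p) (P p) := by
    intro k hk
    have h1 := conj_QS' a h i (inv_mem hgH) hk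
    rw [inv_inv] at h1
    have h2 := i.fac.mem_brk_of h.two (QS_le' a h i h1) hx
    rw [smul_conj, ← smul_add, J_fixJJ a h i (Ip_le a h i p h2) hg]
    exact h2
  have hz : ∀ z ∈ brk (Ψ p) (P p), z ∈ fx V A → z = 0 := fun z hz h3 =>
    J_inf a h i (Ip_le a h i p hz) (hp1 z hz h3)
  -- (5a)
  have h1 := i.CK (g • x) (by
    intro k hk hkQ hkQ'
    have hkS : k ∈ QS V U (MulAut.conj t • H) H R :=
      ⟨hkQ', fun _ hw => a.QQ_fix' h hkQ' hw, fun _ hw => a.QQ_fix h hkQ hw.1⟩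
    exact (HE.add_eq_zero' h.two).1
      (hz _ (hcm k hkS) (i.le₂ g hgH x (i.fac.Ψle p hx) k hk)))
  obtain ⟨e, he, f, hf, hef⟩ := AddSubgroup.mem_sup.1 h1
  obtain ⟨w, hw, w', hw', rfl⟩ := AddSubgroup.mem_sup.1 he
  -- (5b)
  have h2 : ∀ q' ∈ QSS V H (MulAut.conj t • H) R, q' • g • x + g • x = q' • f + f := by
    intro q' hq'
    rw [← hef, smul_add, smul_add, QSS_fix a h i hq' hw, QSS_fix' a h i hq' hw']
    have e1 : w + w' + q' • f + (w + w' + f) = ((w + w) + (w' + w')) + (q' • f + f) := by abel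
    rw [e1, h.two, h.two, add_zero, zero_add]
  have h3 : ∀ u ∈ A, u • (q • g • x + g • x) = (u * q * u⁻¹) • g • x + g • x := by
    intro u hu
    rw [h2 q hq, h2 _ (conj_QSS (i.AH hu) hq), smul_add, mul_smul, mul_smul]
    have h6 : u⁻¹ • f = f := by rw [inv_smul_eq_iff, hf u hu]
    rw [h6, hf u hu]
  have h4 : ∀ q' ∈ QSS V H (MulAut.conj t • H) R, q' • g • x + g • x ∈ brk (Ψ p) (P p) :=
    fun q' hq' => hcm q' (QSS_QS a h i hq')
  have h5 : brk (Ψ p) (P p) ≤ Ee V A := brk_le fun y hy r hr =>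
    i.WE (add_mem (smul_mem_WW (a.RH (i.fac.le p hr)) (i.fac.Ψle p hy)) (i.fac.Ψle p hy))
  have h6 : q • g • x + g • x ∈ fx V A := by
    intro u hu
    apply (HE.add_eq_zero' h.two).1
    apply hz
    · rw [h3 u hu]
      exact add_mem (h4 _ (conj_QSS (i.AH hu) hq)) (h4 q hq)
    · exact h5 (h4 q hq) u hu
  exact (HE.add_eq_zero' h.two).1 (hz _ (h4 q hq) h6)

/-- **(5)** -/
theorem five [Finite Y] [Finite V] {q : Y} (hq : q ∈ QSS V H (MulAut.conj t • H) R) :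
    ∀ g ∈ MulAut.conj t • H, ∀ w ∈ WW V H R, q • g • w = g • w := by
  obtain ⟨p, hp⟩ := five_a a h i
  have h1 : ∀ q ∈ QSS V H (MulAut.conj t • H) R, ∀ g ∈ JJ U (MulAut.conj t • H), ∀ w ∈ WW V H R,
      q • g • w = g • w := by
    intro q hq g hg w hw
    let D : AddSubgroup V :=
      { carrier := {w | q • g • w = g • w}
        zero_mem' := by
          change q • g • (0 : V) = g • (0 : V)
          rw [smul_zero, smul_zero]
        add_mem' := fun {v w} hv hw => by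
          change q • g • (v + w) = g • (v + w)
          have hv' : q • g • v = g • v := hv
          have hw' : q • g • w = g • w := hw
          rw [smul_add, smul_add, hv', hw']
        neg_mem' := fun {v} hv => by
          change q • g • (-v) = g • (-v)
          have hv' : q • g • v = g • v := hv
          rw [smul_neg, smul_neg, hv'] }
    have h2 : WJ V U H R ⊔ ⨆ p, Ψ p ≤ D := by
      refine sup_le (fun x hx => ?_) (iSup_le fun p' x hx => ?_)
      · change q • g • x = g • x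
        have h3 := conj_QS' a h i (inv_mem (JJ_le hg)) (QSS_QS a h i hq)
        rw [inv_inv] at h3
        rw [smul_conj, h3.2.2 x hx]
      · change q • g • x = g • x
        obtain ⟨r, hr, _, hΨ⟩ := i.fac.trans p p'
        rw [hΨ, mem_smul_as] at hx
        have h3 := conj_QSS (inv_mem (a.RH hr)) hq
        have h4 := conj_JJ h.cls (inv_mem (a.RH' hr)) hg
        have h5 := hp _ h3 _ h4 _ hx
        rw [← mul_smul, ← mul_smul, ← mul_smul] at h5
        have e1 : r⁻¹ * q * r⁻¹⁻¹ * (r⁻¹ * g * r⁻¹⁻¹) * r⁻¹ = r⁻¹ * (q * g) := by group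
        have e2 : r⁻¹ * g * r⁻¹⁻¹ * r⁻¹ = r⁻¹ * g := by group
        rw [e1, e2, mul_smul, mul_smul, mul_smul] at h5
        exact smul_left_cancel r⁻¹ h5
    exact h2 (i.fac.sup hw)
  -- `H' = J R`
  intro g hg w hw
  have h2 : MulAut.conj t • H ≤ JJ U (MulAut.conj t • H) ⊔ R := by
    conv_lhs => rw [← a.gen i.AH i.AM, smul_sup]
    refine sup_le (fun x hx => mem_sup_right ?_) (fun x hx => mem_sup_left ?_)
    · rw [mem_conj] at hx
      have := a.t_norm _ hx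
      have e : t * (t⁻¹ * x * t) * t⁻¹ = x := by group
      rwa [e] at this
    · exact subset_closure ⟨_, h.cls.conj A i.mA t, conj_le_conj t i.AH, hx⟩
  let S : Subgroup Y :=
    { carrier := {g | ∃ y ∈ JJ U (MulAut.conj t • H), ∃ r ∈ R, g = y * r}
      one_mem' := ⟨1, one_mem _, 1, one_mem _, (mul_one 1).symm⟩
      mul_mem' := by
        rintro _ _ ⟨y, hy, r, hr, rfl⟩ ⟨y', hy', r', hr', rfl⟩
        refine ⟨y * (r * y' * r⁻¹), mul_mem hy (conj_JJ h.cls (a.RH' hr) hy'), r * r', mul_mem hr hr', ?_⟩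
        group
      inv_mem' := by
        rintro _ ⟨y, hy, r, hr, rfl⟩
        refine ⟨r⁻¹ * y⁻¹ * r⁻¹⁻¹, conj_JJ h.cls (inv_mem (a.RH' hr)) (inv_mem hy), r⁻¹, inv_mem hr, ?_⟩
        group }
  have h3 : JJ U (MulAut.conj t • H) ⊔ R ≤ S :=
    sup_le (fun y hy => ⟨y, hy, 1, one_mem _, (mul_one y).symm⟩) (fun r hr => ⟨1, one_mem _, r, hr, (one_mul r).symm⟩)
  obtain ⟨y, hy, r, hr, rfl⟩ := h3 (h2 hg)
  rw [mul_smul]
  exact h1 q hq y hy _ (smul_mem_WW (a.RH hr) hw)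

theorem ti_QSS [Finite Y] [Finite V] {q : Y} (hq : q ∈ QSS V H (MulAut.conj t • H) R) :
    t⁻¹ * q * t ∈ QSS V H (MulAut.conj t • H) R := by
  refine ⟨a.t_QQ' (QSS_QS a h i hq).1, fun g hg w hw => ?_⟩
  have h1 := five a h i hq _ (Amal.t_mem hg) _ (a.smul_W' hw)
  have e : (t * g * t⁻¹) • t • w = t • g • w := by
    rw [← mul_smul, ← mul_smul]; congr 1; group
  rw [e] at h1
  rw [mul_smul, mul_smul, h1, inv_smul_smul]

end LOne

/-- **(L1)** (bb OMEGA 21480): `LIn` is impossible. -/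
theorem Amal.lOne [Finite Y] [Finite V] {U : Set (Subgroup Y)} {T : Sylow 2 Y} {M H R : Subgroup Y} {t : Y}
    {ι : Type} {P : ι → Subgroup Y} {Ψ : ι → AddSubgroup V} {ι' : Type} {P' : ι' → Subgroup Y}
    {Ψ' : ι' → AddSubgroup V} {A : Subgroup Y} (a : Amal U T M H R t) (h : Amb V U T M)
    (i : LIn V U M H R t P Ψ P' Ψ' A) : False := by
  obtain ⟨s, hs, hs1⟩ := LOne.exists_S a h i
  have h1 : QSS V H (MulAut.conj t • H) R = ⊥ := by
    have hle : QSS V H (MulAut.conj t • H) R ≤ QQ H R := fun q hq => hq.1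
    apply a.no_inv h.core ((Amal.QQ2 a h).to_le hle)
    · exact fun x hx y hy => conj_QSS hx hy
    · intro q hq
      have h2 := conj_QSS (a.RH a.t_sq) (LOne.ti_QSS a h i hq)
      have e : t * t * (t⁻¹ * q * t) * (t * t)⁻¹ = t * q * t⁻¹ := by group
      rwa [e] at h2
    · exact fun q hq => LOne.ti_QSS a h i hq
  rw [h1, mem_bot] at hs
  exact hs1 hs

end Cfsg.Agent.Omega.NO1.TH
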