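import Cfsg.Agent.Omega.NO1.TH.HOne

/-!
# N1, the regime `HH = ∅`, `a = 2` (bb OMEGA 20790 (4), helper620)

A member `A` with `|V : E_A| = 2` contains every 2-element of `C_Y(A)`.  So `Z(T) ≤ A` for `A ≤ T` and `T`
normalises `E_A` (COR 2 of 20493).
-/

set_option autoImplicit false
set_option linter.unusedSectionVars false

namespace Cfsg.Agent.Omega.NO1.TH

open Subgroup Cfsg.Agent.Omega.NO1.AB
open scoped Pointwise

universe u

variable {Y : Type u} [Group Y] {V : Type u} [AddCommGroup V] [DistribMulAction Y V]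

/-- the commutator map `x ↦ [x,d]` (characteristic 2) -/
def cmA (V : Type u) [AddCommGroup V] [DistribMulAction Y V] (d : Y) : V →+ V where
  toFun x := d • x + x
  map_zero' := by rw [smul_zero, add_zero]
  map_add' := fun x y => by rw [smul_add]; abel

theorem cmA_apply (d : Y) (x : V) : cmA V d x = d • x + x := rfl

theorem cmA_eq_zero (h2 : ∀ v : V, v + v = 0) {d : Y} {x : V} : cmA V d x = 0 ↔ d • x = x := by
  rw [cmA_apply]; exact HE.add_eq_zero' h2

/-- `C_V(⟨d⟩)` is the kernel of the commutator map -/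
theorem ker_cmA (h2 : ∀ v : V, v + v = 0) (d : Y) : (cmA V d).ker = fx V (zpowers d) := by
  ext x
  rw [AddMonoidHom.mem_ker, cmA_eq_zero h2]
  constructor
  · intro hx y hy
    have h1 : zpowers d ≤ MulAction.stabilizer Y x := by rw [zpowers_le]; exact hx
    exact h1 hy
  · intro hx
    exact hx d (mem_zpowers d)

theorem card_range_cmA [Finite V] (h2 : ∀ v : V, v + v = 0) (d : Y) :
    Nat.card (cmA V d).range = (fx V (zpowers d)).index := by
  rw [← ker_cmA h2 d, AddSubgroup.index_ker]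

section mem

variable {A : Subgroup Y} {E F : AddSubgroup V} (hA : Mem A E F) {d : Y} (hd : ∀ a ∈ A, d * a = a * d)
include hA hd

theorem smul_F_of_cent {f : V} (hf : f ∈ F) : d • f ∈ F := by
  apply hA.CB
  intro b hb
  rw [← mul_smul, ← hd b hb, mul_smul, hA.FB b hb f hf]

theorem smul_E_of_cent {e : V} (he : e ∈ E) : d • e ∈ E := by
  by_contra hne
  apply Mem.ne_bot hA
  rw [eq_bot_iff]
  intro b hb
  rw [mem_bot]
  apply hA.inj _ hne b hb
  have h1 := smul_F_of_cent hA hd (hA.EB b hb e he)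
  rwa [smul_add, ← mul_smul, hd b hb, mul_smul] at h1

omit hd in
theorem not_mem_E_of_cent (hd : ∀ a ∈ A, d * a = a * d) {v : V} (hv : v ∉ E) : d • v ∉ E := by
  intro h1
  apply hv
  have hd' : ∀ a ∈ A, d⁻¹ * a = a * d⁻¹ := by
    intro a ha
    rw [inv_mul_eq_iff_eq_mul, ← mul_assoc, hd a ha, mul_assoc, mul_inv_cancel, mul_one]
  have h2 := smul_E_of_cent hA hd' h1
  rwa [inv_smul_smul] at h2

/-- an involution `c ∈ C_Y(A) - A` with `[v,c] ∈ F_A` -/
theorem exists_inv_of_cent (h2 : ∀ v : V, v + v = 0)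
    (hi : E.index = 2) {v : V} (hv : v ∉ E) (hdA : d ∉ A)
    (hdd : d * d ∈ A) : ∃ c : Y, c ∉ A ∧ (∀ a ∈ A, c * a = a * c) ∧ c * c = 1 ∧ c • v + v ∈ F := by
  have h3 : d • v + v ∈ E := by
    rw [AddSubgroup.add_mem_iff_of_index_two hi]
    exact iff_of_false (not_mem_E_of_cent hA hd hv) hv
  obtain ⟨b, hb, hb1⟩ := hA.surj v hv _ h3
  have h4 : (b * d) • v + v ∈ F := by
    have h5 := F.add_mem hb1 (hA.EB b hb _ h3)
    have e : b • v + v + (d • v + v) + (b • (d • v + v) + (d • v + v)) = (b * d) • v + v := by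
      rw [smul_add, mul_smul]
      have h6 : b • v + v + (d • v + v) + (b • d • v + b • v + (d • v + v))
          = b • d • v + v + ((b • v + b • v) + (d • v + v + (d • v + v))) := by abel
      rw [h6, h2, h2, add_zero, add_zero]
    rwa [e] at h5
  have h5 : ∀ a ∈ A, (b * d) * a = a * (b * d) := by
    intro a ha
    rw [mul_assoc, hd a ha, ← mul_assoc, hA.comm b hb a ha, mul_assoc]
  refine ⟨b * d, ?_, h5, ?_, h4⟩
  · intro h6
    apply hdA
    have := A.mul_mem (A.inv_mem hb) h6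
    rwa [inv_mul_cancel_left] at this
  · have h6 : (b * d) * (b * d) ∈ A := by
      have e : (b * d) * (b * d) = b * b * (d * d) := by
        rw [mul_assoc b d, ← mul_assoc d b d, hd b hb, mul_assoc b d d, ← mul_assoc b b]
      rw [e]
      exact A.mul_mem (A.mul_mem hb hb) hdd
    apply hA.inj v hv _ h6
    have h7 := F.add_mem (smul_F_of_cent hA h5 h4) h4
    rw [smul_add, ← mul_smul] at h7
    have e : ((b * d * (b * d)) • v + (b * d) • v) + ((b * d) • v + v)
        = (b * d * (b * d)) • v + v := by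
      have h8 : ((b * d * (b * d)) • v + (b * d) • v) + ((b * d) • v + v)
          = (b * d * (b * d)) • v + v + ((b * d) • v + (b * d) • v) := by abel
      rw [h8, h2, add_zero]
    rwa [e] at h7

end mem

/-- An involution `c ∈ C_Y(A) - A` with `[v,c] ∈ F_A`, `|V : E_A| = 2`: `[V,c] ≤ C_F(c)`; if `|[V,c]| ≥ |F|` then
`|V : C_V(c)| ≤ 2`. -/
theorem index_le_two_of_inv [Finite V] {A : Subgroup Y} {E F : AddSubgroup V} (h2 : ∀ v : V, v + v = 0)
    (hA : Mem A E F) (hi : E.index = 2) {v : V} (hv : v ∉ E) {c : Y} (hc : ∀ a ∈ A, c * a = a * c)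
    (hcc : c * c = 1) (hcv : c • v + v ∈ F) (hF : Nat.card F ≤ (fx V (zpowers c)).index) :
    (fx V (zpowers c)).index ≤ 2 := by
  have hq : ∀ x : V, c • (c • x + x) = c • x + x := by
    intro x
    rw [smul_add, ← mul_smul, hcc, one_smul, add_comm]
  -- `[E,c] = [F,c]`
  have hE : ∀ e ∈ E, ∃ f ∈ F, c • e + e = c • f + f := by
    intro e he
    obtain ⟨b, hb, hb1⟩ := hA.surj v hv e he
    refine ⟨b • v + v + e, hb1, ?_⟩
    have h3 : c • (b • v + v) = b • v + v := by
      have h4 : c • v = v + (c • v + v) := by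
        have : v + (c • v + v) = c • v + (v + v) := by abel
        rw [this, h2, add_zero]
      rw [smul_add, ← mul_smul, hc b hb, mul_smul, h4, smul_add, hA.FB b hb _ hcv]
      have : b • v + (c • v + v) + (v + (c • v + v)) = b • v + v + ((c • v + v) + (c • v + v)) := by abel
      rw [this, h2, add_zero]
    rw [smul_add, h3]
    have : b • v + v + c • e + (b • v + v + e) = c • e + e + (b • v + v + (b • v + v)) := by abel
    rw [this, h2, add_zero]
  -- the range of the commutator map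
  have hr : ∀ x : V, ∃ f ∈ F, cmA V c x = c • f + f ∨ cmA V c x = (c • v + v) + (c • f + f) := by
    intro x
    by_cases hx : x ∈ E
    · obtain ⟨f, hf, h3⟩ := hE x hx
      exact ⟨f, hf, Or.inl h3⟩
    · have h3 : x + v ∈ E := by
        rw [AddSubgroup.add_mem_iff_of_index_two hi]
        exact iff_of_false hx hv
      obtain ⟨f, hf, h4⟩ := hE _ h3
      refine ⟨f, hf, Or.inr ?_⟩
      rw [← h4, cmA_apply, smul_add]
      have : c • v + v + (c • x + c • v + (x + v)) = c • x + x + ((c • v + c • v) + (v + v)) := by abel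
      rw [this, h2, h2, add_zero, add_zero]
  have hle : (cmA V c).range ≤ F := by
    rintro _ ⟨x, rfl⟩
    obtain ⟨f, hf, h3 | h3⟩ := hr x
    · rw [h3]; exact F.add_mem (smul_F_of_cent hA hc hf) hf
    · rw [h3]; exact F.add_mem hcv (F.add_mem (smul_F_of_cent hA hc hf) hf)
  have hle2 : (cmA V c).range ≤ fx V (zpowers c) := by
    rintro _ ⟨x, rfl⟩
    rw [← ker_cmA h2, AddMonoidHom.mem_ker, cmA_eq_zero h2]
    exact hq x
  rw [← card_range_cmA h2] at hF ⊢
  have h3 : (cmA V c).range = F := by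
    apply SetLike.coe_injective
    apply Set.eq_of_subset_of_ncard_le (show ((cmA V c).range : Set V) ⊆ F from hle)
    rw [← Nat.card_coe_set_eq, ← Nat.card_coe_set_eq]
    exact hF
  -- so `c` centralises `F`
  have h4 : ∀ f ∈ F, c • f + f = 0 := by
    intro f hf
    have h5 := hle2 (show f ∈ (cmA V c).range by rw [h3]; exact hf)
    rw [HE.add_eq_zero' h2]
    exact h5 c (mem_zpowers c)
  have h5 : (cmA V c).range ≤ AddSubgroup.zmultiples (c • v + v) := by
    rintro _ ⟨x, rfl⟩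
    obtain ⟨f, hf, h6 | h6⟩ := hr x
    · rw [h6, h4 f hf]; exact zero_mem _
    · rw [h6, h4 f hf, add_zero]; exact AddSubgroup.mem_zmultiples _
  refine (AddSubgroup.card_le_of_le h5).trans ?_
  rw [Nat.card_zmultiples]
  apply addOrderOf_le_of_nsmul_eq_zero (by norm_num)
  rw [two_nsmul]
  exact h2 _

namespace Amb

variable {U : Set (Subgroup Y)} {T : Sylow 2 Y} {M : Subgroup Y} (h : Amb V U T M)
include h

/-- **(4)**: `a = 2`, `HH = ∅`: the member `A` contains all 2-elements of `C_Y(A)`. -/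
theorem mem_of_cent [Finite Y] [Finite V] (he : ∀ X : Subgroup Y, ¬ Bad U M X)
    (noff : ∀ c : Y, c ≠ 1 → c * c = 1 → 2 < (fx V (zpowers c)).index)
    {A : Subgroup Y} (hA : A ∈ U) (hi : (Ee V A).index = 2) {d : Y} (hd : ∀ a ∈ A, d * a = a * d)
    (hp : IsPGroup 2 (zpowers d)) : d ∈ A := by
  by_contra hdA
  have hm := h.cls.mem A hA
  -- wlog `d² ∈ A`
  obtain ⟨d', hd', hd'A, hdd'⟩ : ∃ d' : Y, (∀ a ∈ A, d' * a = a * d') ∧ d' ∉ A ∧ d' * d' ∈ A := by
    classical
    obtain ⟨n, hn⟩ := hp ⟨d, mem_zpowers d⟩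
    have hn' : d ^ 2 ^ n = 1 := by
      have := congrArg Subtype.val hn
      simpa using this
    have hex : ∃ n, d ^ 2 ^ n ∈ A := ⟨n, by rw [hn']; exact one_mem _⟩
    have h1 := Nat.find_spec hex
    have h0 : Nat.find hex ≠ 0 := by
      intro h0
      rw [h0, pow_zero, pow_one] at h1
      exact hdA h1
    obtain ⟨k, hk⟩ := Nat.exists_eq_succ_of_ne_zero h0
    have h2 := Nat.find_min hex (m := k) (by omega)
    rw [hk] at h1
    refine ⟨d ^ 2 ^ k, fun a ha => ?_, h2, ?_⟩
    · exact ((show Commute d a from hd a ha).pow_left _).eq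
    · have e : d ^ 2 ^ k * d ^ 2 ^ k = d ^ 2 ^ (k + 1) := by
        rw [← pow_add, pow_succ, mul_two]
      rw [e]
      exact h1
  obtain ⟨v, hv⟩ := hm.ne
  obtain ⟨c, hcA, hc, hcc, hcv⟩ := exists_inv_of_cent hm hd' h.two hi hv hd'A hdd'
  have hc1 : c ≠ 1 := fun h1 => hcA (by rw [h1]; exact one_mem _)
  have hcp : IsPGroup 2 (zpowers c) := by
    rintro ⟨x, hx⟩
    obtain ⟨k, rfl⟩ := mem_zpowers_iff.1 hx
    refine ⟨1, Subtype.ext ?_⟩
    rw [pow_one]
    change (c ^ k) ^ 2 = 1
    rw [pow_two, ← zpow_add, ← two_mul, zpow_mul, zpow_two, hcc, one_zpow]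
  have h1 := h.hOne he hcp hc1 hA
  have h2 := index_le_two_of_inv h.two hm hi hv hc hcc hcv h1
  have h3 := noff c hc1 hcc
  omega

/-- **`HH = ∅`, `a = 2`**: `T` normalises `E_A` for every member `A ≤ T`. -/
theorem nm_of_index_two [Finite Y] [Finite V] (he : ∀ X : Subgroup Y, ¬ Bad U M X)
    (noff : ∀ c : Y, c ≠ 1 → c * c = 1 → 2 < (fx V (zpowers c)).index)
    {A : Subgroup Y} (hA : A ∈ U) (hi : (Ee V A).index = 2) {S : Subgroup Y} (hS : IsPGroup 2 S) (hAS : A ≤ S) :
    Nm S (Ee V A) := by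
  have : Fact (Nat.Prime 2) := ⟨Nat.prime_two⟩
  have hne : A ≠ ⊥ := Mem.ne_bot (h.cls.mem A hA)
  have hSne : Nontrivial S := by
    rw [Subgroup.nontrivial_iff_ne_bot]
    rintro rfl
    exact hne (le_bot_iff.1 hAS)
  have : Nontrivial (center S) := hS.center_nontrivial
  obtain ⟨z, hz⟩ := exists_ne (1 : center S)
  have hz1 : ((z : S) : Y) ≠ 1 := fun h1 => hz (Subtype.ext (Subtype.ext h1))
  have hzc : ∀ s ∈ S, s * ((z : S) : Y) = ((z : S) : Y) * s := by
    intro s hs
    have := mem_center_iff.1 z.2 ⟨s, hs⟩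
    exact congrArg Subtype.val this
  have hzA : ((z : S) : Y) ∈ A := by
    apply h.mem_of_cent he noff hA hi (fun a ha => (hzc a (hAS ha)).symm)
    exact hS.to_le (zpowers_le.2 (z : S).2)
  exact h.cls.cor2 hA hS hAS hzA hz1 hzc

end Amb

end Cfsg.Agent.Omega.NO1.TH
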