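import Cfsg.Agent.Omega.NO1.TH.Basic

/-!
# N1, BETA, the amalgam `(H, H^t)`: case (C), `k = 1` without field automorphisms, any `C = C_V(H)`

bb OMEGA 20060 (helper464), = 20065 (helper711), over 19584 (helper874).
`Dat` : the module level data of one member `A = U₁ ≤ H` outside `M`; `Amal.caseC` : the theorem.
-/

set_option autoImplicit false
set_option linter.unusedSectionVars false

namespace Cfsg.Agent.Omega.NO1.TH

open Subgroup Cfsg.Agent.Omega.NO1.AB
open scoped Pointwise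

universe u

variable {Y : Type u} [Group Y] {V : Type u} [AddCommGroup V] [DistribMulAction Y V]

/-- `k = 1`, no field automorphisms: `W / C` natural for `SL₂(c)`, `R / Q` the root group. -/
structure One (V : Type u) [AddCommGroup V] [DistribMulAction Y V] (H R : Subgroup Y) (c : ℕ) : Prop where
  nat : ∀ x ∈ WW V H R, x ∉ fx V R → ∀ r ∈ R, r • x + x ∈ fx V H → r ∈ QQ H R
  root : ∀ x ∈ WW V H R, ∀ r ∈ R, r • x + x ∈ fx V R
  cV : Nat.card (fx V R) = c * Nat.card (fx V H)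
  cW : Nat.card (WW V H R) = c * Nat.card (fx V R)
  cR : Nat.card R = c * Nat.card (QQ H R)

/-! ### members -/

/-- symmetry `[e, s_{e'}] = [e', s_e]` -/
theorem mem_sym {A : Subgroup Y} {E F : AddSubgroup V} (hm : Mem A E F) (h2 : ∀ v : V, v + v = 0)
    {w e e' : V} {s s' : Y} (hs : s ∈ A) (hs' : s' ∈ A) (he : s • w + w + e ∈ F) (he' : s' • w + w + e' ∈ F) :
    s' • e + e = s • e' + e' := by
  have h3 := hm.FB s' hs' _ he
  have h4 := hm.FB s hs _ he'
  rw [smul_add, smul_add, ← mul_smul] at h3 h4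
  rw [hm.comm s hs s' hs'] at h4
  have h5 : ((s' * s) • w + s' • w + s' • e) + ((s' * s) • w + s • w + s • e') =
      (s • w + w + e) + (s' • w + w + e') := by rw [h3, h4]
  have e1 : ((s' * s) • w + s' • w + s' • e) + ((s' * s) • w + s • w + s • e') =
      ((s' * s) • w + (s' * s) • w) + (s' • w + s • w) + (s' • e + s • e') := by abel
  have e2 : (s • w + w + e) + (s' • w + w + e') = (w + w) + (s' • w + s • w) + (e + e') := by abel
  rw [e1, e2, h2, h2] at h5
  have h6 : s' • e + s • e' = e + e' := add_left_cancel h5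
  have h7 : (s' • e + e) + (s • e' + e') = 0 := by
    have e3 : (s' • e + e) + (s • e' + e') = (s' • e + s • e') + (e + e') := by abel
    rw [e3, h6, h2]
  exact (HE.add_eq_zero' h2).1 h7

/-- `s_e` centralises `e` -/
theorem mem_self {A : Subgroup Y} {E F : AddSubgroup V} (hm : Mem A E F)
    {w e : V} {s : Y} (hs : s ∈ A) (he : s • w + w + e ∈ F) : s • e = e := by
  have h3 := hm.FB s hs _ he
  rw [smul_add, smul_add, ← mul_smul, hm.sq s hs, one_smul] at h3
  have e1 : w + s • w + s • e = (s • w + w) + s • e := by abel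
  rw [e1] at h3
  exact add_left_cancel h3

/-- `C_V(s) ≤ E` for `1 ≠ s ∈ A` -/
theorem mem_E_of_fix {A : Subgroup Y} {E F : AddSubgroup V} (hm : Mem A E F) (h2 : ∀ v : V, v + v = 0)
    {s : Y} (hs : s ∈ A) (hs1 : s ≠ 1) {v : V} (hv : s • v = v) : v ∈ E := by
  by_contra hvE
  apply hs1
  apply hm.inj v hvE s hs
  rw [hv, h2]
  exact F.zero_mem

/-- `{s ∈ A | [w, s] ∈ D}` -/
def pre (A : Subgroup Y) (w : V) (D : AddSubgroup V) : Set Y := {s | s ∈ A ∧ s • w + w ∈ D}

theorem card_pre {A : Subgroup Y} {E F : AddSubgroup V} (hm : Mem A E F) (h2 : ∀ v : V, v + v = 0)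
    {w : V} (hw : w ∉ E) {D : AddSubgroup V} (hFD : F ≤ D) (hDE : D ≤ E) :
    Nat.card (pre A w D) * Nat.card F = Nat.card D := by
  let f : pre A w D × F → D := fun p => ⟨(p.1 : Y) • w + w + p.2, D.add_mem p.1.2.2 (hFD p.2.2)⟩
  have hf : Function.Bijective f := by
    constructor
    · rintro ⟨⟨a, ha, ha'⟩, ⟨x, hx⟩⟩ ⟨⟨b, hb, hb'⟩, ⟨y, hy⟩⟩ he
      have h3 : a • w + w + x = b • w + w + y := congrArg Subtype.val he
      have h5 : a • w = b • w + y + x := by
        have : a • w + w + x + w + x = b • w + w + y + w + x := by rw [h3]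
        have e1 : a • w + w + x + w + x = a • w + (w + w) + (x + x) := by abel
        have e2 : b • w + w + y + w + x = b • w + (w + w) + y + x := by abel
        rw [e1, e2, h2, h2, add_zero, add_zero, add_zero] at this
        exact this
      have h4 : (b * a) • w + w ∈ F := by
        rw [mul_smul, h5, smul_add, smul_add, ← mul_smul, hm.sq b hb, one_smul, hm.FB b hb y hy, hm.FB b hb x hx]
        have e3 : w + y + x + w = (w + w) + (y + x) := by abel
        rw [e3, h2, zero_add]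
        exact F.add_mem hy hx
      have h6 := hm.inj w hw _ (mul_mem hb ha) h4
      have h7 : a = b := by
        have : b * (b * a) = b * 1 := by rw [h6]
        rw [← mul_assoc, hm.sq b hb, one_mul, mul_one] at this
        exact this
      subst h7
      have h8 : x = y := add_left_cancel h3
      subst h8
      rfl
    · rintro ⟨e, he⟩
      obtain ⟨b, hb, h3⟩ := hm.surj w hw e (hDE he)
      have h4 : b • w + w ∈ D := by
        have h5 := D.add_mem (hFD h3) he
        have e1 : b • w + w + e + e = b • w + w + (e + e) := by abel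
        rwa [e1, h2, add_zero] at h5
      refine ⟨⟨⟨b, hb, h4⟩, ⟨_, h3⟩⟩, Subtype.ext ?_⟩
      change b • w + w + (b • w + w + e) = e
      rw [← add_assoc, h2, zero_add]
  rw [← Nat.card_prod]
  exact Nat.card_congr (Equiv.ofBijective f hf)

/-- a subgroup of `R` : `|B| ≤ c |B ∩ Q|` when `|R| = c |Q|` -/
theorem card_le_of_index [Finite Y] {R Q B : Subgroup Y} {c : ℕ} (hQR : Q ≤ R) (hBR : B ≤ R)
    (hc : Nat.card R = c * Nat.card Q) : Nat.card B ≤ c * Nat.card ↥(B ⊓ Q) := by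
  have h1 : Q.relIndex R = c := by
    have h2 := relIndex_mul_relIndex ⊥ Q R bot_le hQR
    rw [relIndex_bot_left, relIndex_bot_left, hc, mul_comm] at h2
    exact Nat.eq_of_mul_eq_mul_right Nat.card_pos h2
  have h3 : Q.relIndex B ≤ Q.relIndex R := by
    apply relIndex_le_of_le_right hBR
    rw [h1]
    intro h4
    rw [h4, zero_mul] at hc
    exact absurd hc Nat.card_pos.ne'
  have h4 := relIndex_mul_relIndex ⊥ (B ⊓ Q) B bot_le inf_le_left
  rw [relIndex_bot_left, relIndex_bot_left, inf_relIndex_left] at h4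
  rw [← h4, mul_comm]
  exact Nat.mul_le_mul_right _ (h3.trans h1.le)

/-- and `B Q = R` in the case of equality -/
theorem exists_mul_of_card [Finite Y] {R Q B : Subgroup Y} {c : ℕ} (hQR : Q ≤ R) (hBR : B ≤ R)
    (hc : Nat.card R = c * Nat.card Q) (hB : c * Nat.card ↥(B ⊓ Q) ≤ Nat.card B) {r : Y} (hr : r ∈ R) :
    ∃ b ∈ B, ∃ q ∈ Q, r = b * q := by
  have h1 : Q.relIndex R = c := by
    have h2 := relIndex_mul_relIndex ⊥ Q R bot_le hQR
    rw [relIndex_bot_left, relIndex_bot_left, hc, mul_comm] at h2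
    exact Nat.eq_of_mul_eq_mul_right Nat.card_pos h2
  have h4 := relIndex_mul_relIndex ⊥ (B ⊓ Q) B bot_le inf_le_left
  rw [relIndex_bot_left, relIndex_bot_left, inf_relIndex_left] at h4
  rw [← h4, mul_comm] at hB
  have h5 : c ≤ Q.relIndex B := Nat.le_of_mul_le_mul_left hB Nat.card_pos
  let φ := quotientSubgroupOfEmbeddingOfLE Q hBR
  have hs : Function.Surjective φ := by
    have h6 : Nat.card (R ⧸ Q.subgroupOf R) ≤ Nat.card (B ⧸ Q.subgroupOf B) := by
      change Q.relIndex R ≤ Q.relIndex B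
      rw [h1]; exact h5
    have h7 : Nat.card (R ⧸ Q.subgroupOf R) = Nat.card (B ⧸ Q.subgroupOf B) :=
      le_antisymm h6 (Nat.card_le_card_of_injective φ φ.injective)
    exact ((Nat.bijective_iff_injective_and_card φ).2 ⟨φ.injective, h7.symm⟩).2
  obtain ⟨b, hb⟩ := hs (QuotientGroup.mk (⟨r, hr⟩ : R))
  obtain ⟨⟨b, hbB⟩, rfl⟩ := QuotientGroup.mk_surjective b
  have h8 : (QuotientGroup.mk (⟨b, hBR hbB⟩ : R) : R ⧸ Q.subgroupOf R) = QuotientGroup.mk (⟨r, hr⟩ : R) := hb
  rw [QuotientGroup.eq] at h8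
  refine ⟨b, hbB, b⁻¹ * r, h8, by group⟩

/-- The data of one member `A` of `H` outside the point `M`. -/
structure Dat (A R Q Q' : Subgroup Y) (E F V₀ C C' W' : AddSubgroup V) (c : ℕ) : Prop where
  two : ∀ v : V, v + v = 0
  mem : Mem A E F
  mu : ∀ A₀ ≤ A, Nat.card A₀ * Nat.card ↥(fx V A₀ ⊓ E) ≤ Nat.card E
  QR : Q ≤ R
  Q'R : Q' ≤ R
  V0E : V₀ ≤ E
  CF : C ≤ F
  CV : C ≤ V₀
  V0F : ∀ x ∈ V₀, x ∈ F → x ∈ C
  C'V : C' ≤ V₀
  CC' : ∀ x ∈ C, x ∈ C' → x = 0
  natA : ∀ x ∈ V₀, x ∉ C → ∀ a ∈ A, a • x + x ∈ C → a ∈ Q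
  RV0 : ∀ r ∈ R, ∀ x ∈ V₀, r • x = x
  V0W' : V₀ ≤ W'
  root' : ∀ y ∈ W', ∀ r ∈ R, r • y + y ∈ V₀
  nat' : ∀ y ∈ W', y ∉ V₀ → ∀ r ∈ R, r • y = y → r ∈ Q'
  QW' : ∀ q ∈ Q', ∀ y ∈ W', q • y = y
  cV : Nat.card V₀ = c * Nat.card C
  cC' : Nat.card C' = Nat.card C
  cW' : Nat.card W' = c * Nat.card V₀
  cR' : Nat.card R = c * Nat.card Q'
  cA : Nat.card A = c * Nat.card ↥(A ⊓ Q)
  c2 : 2 ≤ c

namespace Dat

variable [Finite Y] [Finite V] {A R Q Q' : Subgroup Y} {E F V₀ C C' W' : AddSubgroup V} {c : ℕ}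
  (d : Dat A R Q Q' E F V₀ C C' W' c)
include d

theorem exists_v : ∃ v ∈ V₀, v ∉ C := by
  by_contra hcon
  push Not at hcon
  have h1 : Nat.card V₀ ≤ Nat.card C := by
    have : V₀ = C := le_antisymm hcon d.CV
    rw [this]
  rw [d.cV] at h1
  have h2 : 0 < Nat.card C := Nat.card_pos
  have h3 := d.c2
  nlinarith

/-- `S₁ ≤ B₁` -/
theorem s_mem {w : V} (hw : w ∉ E) {v : V} (hv : v ∈ V₀) {s : Y} (hs : s ∈ A) (he : s • w + w + v ∈ F) :
    s ∈ Q := by
  by_cases hvC : v ∈ C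
  · have h1 : s • w + w ∈ F := by
      have := F.add_mem he (d.CF hvC)
      have e1 : s • w + w + v + v = s • w + w + (v + v) := by abel
      rwa [e1, d.two, add_zero] at this
    rw [d.mem.inj w hw s hs h1]
    exact one_mem _
  · apply d.natA v hv hvC s hs
    rw [mem_self d.mem hs he, d.two]
    exact C.zero_mem

/-- LEMMA (1) -/
theorem lem {w : V} (hw : w ∉ E) {y : V} (hy : y ∈ W') (hyE : y ∈ E) {s : Y} (hs : s ∈ A)
    (he : s • w + w + y ∈ F) :
    s ∈ Q ∧ ∀ v ∈ V₀, ∀ s' ∈ A, s' • w + w + v ∈ F → s' • y = y := by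
  -- `[y, s'] = [v, s] ∈ C`
  have key : ∀ v ∈ V₀, ∀ s' ∈ A, s' • w + w + v ∈ F → s' • y + y ∈ C ∧ s' • y + y = s • v + v := by
    intro v hv s' hs' he'
    have h1 := d.s_mem hw hv hs' he'
    have h2 : s' • y + y ∈ V₀ := d.root' y hy s' (d.QR h1)
    have h3 : s' • y + y ∈ F := d.mem.EB s' hs' y hyE
    exact ⟨d.V0F _ h2 h3, mem_sym d.mem d.two hs hs' he he'⟩
  obtain ⟨v₀, hv₀, hv₀C⟩ := d.exists_v
  obtain ⟨s₀, hs₀, he₀⟩ := d.mem.surj w hw v₀ (d.V0E hv₀)
  have h1 := key v₀ hv₀ s₀ hs₀ he₀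
  have hsQ : s ∈ Q := by
    apply d.natA v₀ hv₀ hv₀C s hs
    rw [← h1.2]
    exact h1.1
  refine ⟨hsQ, fun v hv s' hs' he' => ?_⟩
  have h2 := (key v hv s' hs' he').2
  rw [d.RV0 s (d.QR hsQ) v hv, d.two] at h2
  exact (HE.add_eq_zero' d.two).1 h2

/-- an element of `A ∩ Q` outside `Q'`, `W' ≤ E`: its commutators with `W'` lie in `C` -/
theorem comm_C (hW : W' ≤ E) {a : Y} (ha : a ∈ A) (haQ : a ∈ Q) {y : V} (hy : y ∈ W') : a • y + y ∈ C :=
  d.V0F _ (d.root' y hy a (d.QR haQ)) (d.mem.EB a ha y (hW hy))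

/-- the case `W' ∩ E₁ > V₀` -/
structure Two (A R Q Q' : Subgroup Y) (E F V₀ C C' W' : AddSubgroup V) (c : ℕ) : Prop where
  WE : W' ≤ E
  cC : Nat.card C = c
  card : c * c ≤ Nat.card ↥(A ⊓ Q ⊓ Q')
  cardA : Nat.card A = c * c * Nat.card ↥(A ⊓ Q ⊓ Q')
  comm : ∀ y ∈ W', ∀ r ∈ R, r • y + y ∈ C
  cen : ∀ v : V, (∀ a ∈ A ⊓ Q ⊓ Q', a • v = v) → v ∈ W' ⊔ F

theorem two' {b : Y} (hb : b ∈ A) (hbQ : b ∈ Q) (hbQ' : b ∉ Q') {y₀ : V} (hy₀ : y₀ ∈ W') (hy₀E : y₀ ∈ E)
    (hy₀V : y₀ ∉ V₀) : Two A R Q Q' E F V₀ C C' W' c := by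
  obtain ⟨w, hw⟩ := d.mem.ne
  have hc2 := d.c2
  have hC0 : 0 < Nat.card C := Nat.card_pos
  have hF0 : 0 < Nat.card F := Nat.card_pos
  -- `S₁ ≤ Q'`
  have hS : ∀ v ∈ V₀, ∀ s ∈ A, s • w + w + v ∈ F → s ∈ Q' := by
    intro v hv s hs he
    obtain ⟨s₀, hs₀, he₀⟩ := d.mem.surj w hw y₀ hy₀E
    exact d.nat' y₀ hy₀ hy₀V s (d.QR (d.s_mem hw hv hs he)) ((d.lem hw hy₀ hy₀E hs₀ he₀).2 v hv s hs he)
  -- `W' ≤ E`
  have hWE : W' ≤ E := by
    obtain ⟨v, hv, hvC⟩ := d.exists_v
    obtain ⟨s, hs, he⟩ := d.mem.surj w hw v (d.V0E hv)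
    have hs1 : s ≠ 1 := by
      rintro rfl
      apply hvC
      apply d.V0F v hv
      rwa [one_smul, d.two, zero_add] at he
    intro y hy
    exact mem_E_of_fix d.mem d.two hs hs1 (d.QW' s (hS v hv s hs he) y hy)
  -- `b` on `W'`
  have hbR : b ∈ R := d.QR hbQ
  have hbC : ∀ y ∈ W', b • y + y ∈ C := fun y hy => d.comm_C hWE hb hbQ hy
  have hbV : ∀ y ∈ W', b • y = y → y ∈ V₀ := by
    intro y hy h1
    by_contra h2
    exact hbQ' (d.nat' y hy h2 b hbR h1)
  -- `c ≤ |C|`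
  have hcC : c ≤ Nat.card C := by
    let φ : W' →+ C :=
      { toFun := fun y => ⟨b • (y : V) + y, hbC y y.2⟩
        map_zero' := Subtype.ext (by
          change b • (0 : V) + 0 = 0
          rw [smul_zero, add_zero])
        map_add' := fun y z => Subtype.ext (by
          change b • ((y : V) + z) + (y + z) = (b • (y : V) + y) + (b • (z : V) + z)
          rw [smul_add]; abel) }
    have hker : φ.ker = V₀.addSubgroupOf W' := by
      ext y
      rw [AddMonoidHom.mem_ker, AddSubgroup.mem_addSubgroupOf]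
      constructor
      · intro h1
        have h2 : b • (y : V) + y = 0 := congrArg Subtype.val h1
        exact hbV y y.2 ((HE.add_eq_zero' d.two).1 h2)
      · intro h1
        apply Subtype.ext
        change b • (y : V) + y = 0
        rw [d.RV0 b hbR y h1, d.two]
    have h1 : Nat.card φ.range * Nat.card φ.ker = Nat.card W' := by
      rw [mul_comm, ← AddSubgroup.card_mul_index φ.ker, AddSubgroup.index_ker]
    rw [hker, Nat.card_congr (AddSubgroup.addSubgroupOfEquivOfLe d.V0W').toEquiv, d.cW'] at h1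
    have h2 : Nat.card φ.range = c := Nat.eq_of_mul_eq_mul_right Nat.card_pos h1
    rw [← h2]
    exact Nat.card_le_card_of_injective _ φ.range.subtype_injective
  -- `|C| = c`
  have hCc : Nat.card C = c := by
    apply le_antisymm _ hcC
    have h1 := card_sup_as C C'
    have h2 : C ⊓ C' = ⊥ := by
      rw [eq_bot_iff]
      rintro x ⟨hx1, hx2⟩
      rw [AddSubgroup.mem_bot]
      exact d.CC' x hx1 hx2
    rw [h2, AddSubgroup.card_bot, mul_one, d.cC'] at h1
    have h3 : Nat.card ↥(C ⊔ C') ≤ Nat.card V₀ := Nat.card_le_card_of_injective _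
      (AddSubgroup.inclusion_injective (sup_le d.CV d.C'V))
    rw [h1, d.cV] at h3
    exact Nat.le_of_mul_le_mul_right h3 hC0
  -- `W' ∩ F = C`
  have hWF : W' ⊓ F = C := by
    apply le_antisymm
    · rintro y ⟨hy, hyF⟩
      exact d.V0F y (hbV y hy (d.mem.FB b hb y hyF)) hyF
    · exact le_inf (d.CV.trans d.V0W') d.CF
  -- `|W' + F| = c² |F|`
  have hWF' : Nat.card ↥(W' ⊔ F) = c * c * Nat.card F := by
    have h1 := card_sup_as W' F
    rw [hWF, d.cW', d.cV] at h1
    apply Nat.eq_of_mul_eq_mul_right hC0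
    rw [h1]; ring
  have hDE : W' ⊔ F ≤ E := sup_le hWE d.mem.FE
  -- `A₀`
  set A₀ := A ⊓ Q ⊓ Q' with hA₀
  have hpre : pre A w (W' ⊔ F) ⊆ A₀ := by
    rintro s ⟨hs, hsD⟩
    obtain ⟨y, hy, f, hf, he⟩ := AddSubgroup.mem_sup.1 hsD
    have h1 : s • w + w + y ∈ F := by
      rw [← he]
      have e1 : y + f + y = (y + y) + f := by abel
      rw [e1, d.two, zero_add]; exact hf
    have h2 := d.lem hw hy (hWE hy) hs h1
    refine ⟨⟨hs, h2.1⟩, ?_⟩
    by_cases hyV : y ∈ V₀
    · exact hS y hyV s hs h1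
    · exact d.nat' y hy hyV s (d.QR h2.1) (mem_self d.mem hs h1)
  have hcard : c * c ≤ Nat.card A₀ := by
    have h1 := card_pre d.mem d.two hw (D := W' ⊔ F) le_sup_right hDE
    rw [hWF'] at h1
    rw [← Nat.eq_of_mul_eq_mul_right hF0 h1]
    exact Nat.card_mono (Set.toFinite _) hpre
  have hA₀pos : 0 < Nat.card A₀ := Nat.card_pos
  -- (MU)
  have hE := d.mem.card_E d.two
  have hfix : W' ⊔ F ≤ fx V A₀ ⊓ E := by
    refine le_inf ?_ hDE
    refine sup_le (fun y hy a ha => d.QW' a ha.2 y hy) (fun y hy a ha => d.mem.FB a ha.1.1 y hy)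
  have hA₀A : A₀ ≤ A := inf_le_left.trans inf_le_left
  have hmu := d.mu A₀ hA₀A
  have hfixc : c * c * Nat.card F ≤ Nat.card ↥(fx V A₀ ⊓ E) := by
    rw [← hWF']
    exact Nat.card_le_card_of_injective _ (AddSubgroup.inclusion_injective hfix)
  have h3 : c * c * Nat.card A₀ ≤ Nat.card A := by
    have h4 : Nat.card A₀ * (c * c * Nat.card F) ≤ Nat.card F * Nat.card A :=
      (Nat.mul_le_mul_left _ hfixc).trans (hmu.trans hE.le)
    have h5 : c * c * Nat.card A₀ * Nat.card F ≤ Nat.card A * Nat.card F := by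
      calc c * c * Nat.card A₀ * Nat.card F = Nat.card A₀ * (c * c * Nat.card F) := by ring
        _ ≤ _ := h4
        _ = _ := by ring
    exact Nat.le_of_mul_le_mul_right h5 hF0
  have h4 : Nat.card ↥(A ⊓ Q) ≤ c * Nat.card A₀ := card_le_of_index d.Q'R (inf_le_right.trans d.QR) d.cR'
  have hcardA : Nat.card A = c * c * Nat.card A₀ := by
    apply le_antisymm _ h3
    rw [d.cA, mul_assoc]
    exact Nat.mul_le_mul_left _ h4
  have h5 : c * Nat.card ↥(A ⊓ Q ⊓ Q') ≤ Nat.card ↥(A ⊓ Q) := by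
    have h6 := d.cA
    rw [hcardA, mul_assoc] at h6
    exact (Nat.eq_of_mul_eq_mul_left (by omega) h6).le
  refine ⟨hWE, hCc, hcard, hcardA, ?_, ?_⟩
  · intro y hy r hr
    obtain ⟨a, ha, q, hq, rfl⟩ := exists_mul_of_card d.Q'R (inf_le_right.trans d.QR) d.cR' h5 hr
    rw [mul_smul, d.QW' q hq y hy]
    exact d.comm_C hWE ha.1 ha.2 hy
  · intro v hv
    have h6 : W' ⊔ F = fx V A₀ ⊓ E := by
      apply eq_of_le_as hfix
      rw [hWF']
      rw [hE, hcardA] at hmu
      have h7 : Nat.card A₀ * Nat.card ↥(fx V A₀ ⊓ E) ≤ Nat.card A₀ * (c * c * Nat.card F) := by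
        refine hmu.trans (le_of_eq ?_)
        ring
      exact Nat.le_of_mul_le_mul_left h7 hA₀pos
    rw [h6]
    refine ⟨hv, ?_⟩
    have h7 : ∃ s ∈ A₀, s ≠ 1 := by
      by_contra hcon
      push Not at hcon
      have h8 : A₀ = ⊥ := by
        rw [eq_bot_iff]
        intro s hs
        rw [mem_bot]; exact hcon s hs
      rw [h8, Subgroup.card_bot] at hcard
      nlinarith
    obtain ⟨s, hs, hs1⟩ := h7
    exact mem_E_of_fix d.mem d.two (hA₀A hs) hs1 (hv s hs)

end Dat

namespace One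

variable {U : Set (Subgroup Y)} {T : Sylow 2 Y} {M H R : Subgroup Y} {t : Y} {c : ℕ}

theorem c_two [Finite Y] (a : Amal U T M H R t) (h : Amb V U T M) (o : One V H R c) : 2 ≤ c := by
  obtain ⟨B, hB, hBR, hBQ⟩ := Amal.exists_not_QQ a h
  by_contra hcon
  have h1 : c ≤ 1 := by omega
  have h2 : QQ H R = R := by
    apply eq_of_le_of_card_ge QQ_le
    rw [o.cR]
    nlinarith [Nat.card_pos (α := QQ H R)]
  apply hBQ
  rw [h2]; exact hBR

theorem conj_QQ_le (a : Amal U T M H R t) : MulAut.conj t • QQ H R ≤ R := by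
  intro r hr
  rw [mem_conj] at hr
  have h1 := a.t_norm _ (QQ_le hr)
  have e : t * (t⁻¹ * r * t) * t⁻¹ = r := by group
  rwa [e] at h1

/-- `|B| = c |B ∩ Q|` -/
theorem card_B [Finite Y] [Finite V] (a : Amal U T M H R t) (h : Amb V U T M) (o : One V H R c)
    {B : Subgroup Y} (hB : B ∈ U) (hBR : B ≤ R) (hBQ : ¬ B ≤ QQ H R) (hE : WW V H R ≤ Ee V B) :
    Nat.card B = c * Nat.card ↥(B ⊓ QQ H R) := by
  apply le_antisymm (card_le_of_index QQ_le hBR o.cR)
  have hm := h.cls.mem B hB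
  obtain ⟨b, hb, hbQ⟩ := SetLike.not_le_iff_exists.1 hBQ
  have h1 : WW V H R ⊓ fx V B = fx V R := by
    apply le_antisymm
    · rintro x ⟨hx, hxF⟩
      by_contra hxR
      apply hbQ
      apply o.nat x hx hxR b (hBR hb)
      rw [hxF b hb, h.two]
      exact (fx V H).zero_mem
    · exact le_inf fx_le_WW (fx_mono hBR)
  have h2 := card_sup_as (WW V H R) (fx V B)
  rw [h1, o.cW] at h2
  have h3 : Nat.card ↥(WW V H R ⊔ fx V B) = c * Nat.card (fx V B) := by
    apply Nat.eq_of_mul_eq_mul_right (Nat.card_pos (α := fx V R))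
    rw [h2]; ring
  have h4 : WW V H R ⊔ fx V B ≤ fx V (B ⊓ QQ H R) ⊓ Ee V B := by
    refine le_inf (sup_le ?_ (fx_mono inf_le_left)) (sup_le hE hm.FE)
    intro x hx q hq
    exact Amal.QQ_fix a h hq.2 hx
  have h5 := h.cls.mu B hB (B ⊓ QQ H R) inf_le_left
  have h6 : Nat.card ↥(WW V H R ⊔ fx V B) ≤ Nat.card ↥(fx V (B ⊓ QQ H R) ⊓ Ee V B) :=
    Nat.card_le_card_of_injective _ (AddSubgroup.inclusion_injective h4)
  rw [h3] at h6
  rw [hm.card_E h.two] at h5
  have h7 : Nat.card ↥(B ⊓ QQ H R) * (c * Nat.card (fx V B)) ≤ Nat.card (fx V B) * Nat.card B :=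
    (Nat.mul_le_mul_left _ h6).trans h5
  apply Nat.le_of_mul_le_mul_right (c := Nat.card (fx V B)) _ Nat.card_pos
  calc c * Nat.card ↥(B ⊓ QQ H R) * Nat.card (fx V B) = Nat.card ↥(B ⊓ QQ H R) * (c * Nat.card (fx V B)) := by ring
    _ ≤ _ := h7
    _ = _ := by ring

theorem conj_inf_QQ {g : Y} (hg : g ∈ H) (B : Subgroup Y) :
    MulAut.conj g • B ⊓ QQ H R = MulAut.conj g • (B ⊓ QQ H R) := by
  ext y
  constructor
  · intro h0
    have h1 : y ∈ MulAut.conj g • B := h0.1
    have h2 : y ∈ QQ H R := h0.2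
    rw [mem_conj] at h1 ⊢
    refine ⟨h1, ?_⟩
    have := conj_mem_QQ (H.inv_mem hg) h2
    rwa [inv_inv] at this
  · intro h1
    rw [mem_conj] at h1
    refine ⟨mem_conj.2 h1.1, ?_⟩
    have := conj_mem_QQ hg h1.2
    have e : g * (g⁻¹ * y * g) * g⁻¹ = y := by group
    rwa [e] at this

theorem dat [Finite Y] [Finite V] (a : Amal U T M H R t) (h : Amb V U T M) (o : One V H R c)
    {B : Subgroup Y} (hB : B ∈ U) (hBR : B ≤ R) (hBQ : ¬ B ≤ QQ H R) (hE : WW V H R ≤ Ee V B)
    {g : Y} (hg : g ∈ H) (hM : ¬ MulAut.conj g • B ≤ M) :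
    Dat (MulAut.conj g • B) R (QQ H R) (MulAut.conj t • QQ H R) (Ee V (MulAut.conj g • B))
      (fx V (MulAut.conj g • B)) (fx V R) (fx V H) (t • fx V H) (t • WW V H R) c := by
  have hA : MulAut.conj g • B ∈ U := h.cls.conj B hB g
  have hAH : MulAut.conj g • B ≤ H := by
    intro y hy
    rw [mem_conj] at hy
    have := H.mul_mem (H.mul_mem hg (a.RH (hBR hy))) (H.inv_mem hg)
    have e : g * (g⁻¹ * y * g) * g⁻¹ = y := by group
    rwa [e] at this
  have hinf := a.fx_inf (V := V) hAH hM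
  have hWH : ∀ x ∈ H, ∀ w ∈ WW V H R, x • w ∈ WW V H R := fun x hx w hw => smul_mem_WW hx hw
  exact
    { two := h.two
      mem := h.cls.mem _ hA
      mu := h.cls.mu _ hA
      QR := QQ_le
      Q'R := conj_QQ_le a
      V0E := by
        intro x hx
        rw [Ee_conj, mem_smul_as]
        exact hE (hWH _ (H.inv_mem hg) _ (fx_le_WW hx))
      CF := fx_mono hAH
      CV := a.C_le
      V0F := fun x hx hxF => by
        rw [← hinf]; exact ⟨hxF, hx⟩
      C'V := by
        intro x hx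
        rw [mem_smul_as] at hx
        have := a.smul_V0 (a.C_le hx)
        rwa [smul_inv_smul] at this
      CC' := by
        intro x hx hx'
        rw [mem_smul_as] at hx'
        apply Amal.C_inf a h hx
        rwa [← a.inv_smul_V0 (a.C_le hx)]
      natA := by
        intro x hx hxC b hb hbx
        rw [mem_conj] at hb
        have h1 : g⁻¹ • x ∈ WW V H R := hWH _ (H.inv_mem hg) _ (fx_le_WW hx)
        have h2 : g⁻¹ • x ∉ fx V R := by
          intro h3
          apply hxC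
          have h5 : x ∈ fx V (MulAut.conj g • B) := by
            rw [fx_conj, mem_smul_as]
            exact fx_mono hBR h3
          rw [← hinf]
          exact ⟨h5, hx⟩
        have h3 : (g⁻¹ * b * g) • g⁻¹ • x + g⁻¹ • x ∈ fx V H := by
          have e1 : (g⁻¹ * b * g) • g⁻¹ • x + g⁻¹ • x = g⁻¹ • (b • x + x) := by
            rw [smul_add, ← mul_smul, ← mul_smul]
            congr 2
            group
          rw [e1, hbx _ (H.inv_mem hg)]
          exact hbx
        have h4 := conj_mem_QQ hg (o.nat _ h1 h2 _ (hBR hb) h3)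
        have e : g * (g⁻¹ * b * g) * g⁻¹ = b := by group
        rwa [e] at h4
      RV0 := fun r hr x hx => hx r hr
      V0W' := by
        intro x hx
        rw [mem_smul_as]
        exact fx_le_WW (a.smul_V0' hx)
      root' := by
        intro y hy r hr
        rw [mem_smul_as] at hy
        have h1 := a.smul_V0 (o.root _ hy _ (a.symm_smul hr))
        have e1 : t • ((t⁻¹ * r * t) • t⁻¹ • y + t⁻¹ • y) = r • y + y := by
          rw [smul_add, smul_inv_smul, ← mul_smul, ← mul_smul]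
          congr 2
          group
        rwa [e1] at h1
      nat' := by
        intro y hy hyV r hr hry
        rw [mem_smul_as] at hy
        rw [mem_conj]
        apply o.nat _ hy _ _ (a.symm_smul hr)
        · have e1 : (t⁻¹ * r * t) • t⁻¹ • y = t⁻¹ • y := by
            rw [← mul_smul]
            have e2 : t⁻¹ * r * t * t⁻¹ = t⁻¹ * r := by group
            rw [e2, mul_smul, hry]
          rw [e1, h.two]
          exact (fx V H).zero_mem
        · intro h1
          apply hyV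
          have := a.smul_V0 h1
          rwa [smul_inv_smul] at this
      QW' := by
        intro q hq y hy
        rw [mem_conj] at hq
        rw [mem_smul_as] at hy
        have h1 := Amal.QQ_fix a h hq hy
        have e1 : (t⁻¹ * q * t) • t⁻¹ • y = t⁻¹ • q • y := by
          rw [← mul_smul, ← mul_smul]
          congr 1
          group
        rw [e1] at h1
        exact smul_left_cancel _ h1
      cV := o.cV
      cC' := card_smul_as t _
      cW' := by rw [card_smul_as]; exact o.cW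
      cR' := by rw [conj_card]; exact o.cR
      cA := by
        rw [conj_inf_QQ hg, conj_card, conj_card]
        exact card_B a h o hB hBR hBQ hE
      c2 := c_two a h o }

/-- the case `W' ∩ E₁ > V₀` is impossible -/
theorem not_two [Finite Y] [Finite V] (a : Amal U T M H R t) (h : Amb V U T M) (o : One V H R c)
    {B : Subgroup Y} (hB : B ∈ U) (hBR : B ≤ R) (hBQ : ¬ B ≤ QQ H R) (hE : ∀ B ∈ U, B ≤ R → WW V H R ≤ Ee V B)
    {g : Y} (hg : g ∈ H) (hM : ¬ MulAut.conj g • B ≤ M)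
    (w : Dat.Two (MulAut.conj g • B) R (QQ H R) (MulAut.conj t • QQ H R) (Ee V (MulAut.conj g • B))
      (fx V (MulAut.conj g • B)) (fx V R) (fx V H) (t • fx V H) (t • WW V H R) c) : False := by
  have hc2 := c_two a h o
  set A := MulAut.conj g • B with hAdef
  have hA : A ∈ U := h.cls.conj B hB g
  have hmA := h.cls.mem A hA
  have hAH : A ≤ H := by
    intro y hy
    rw [hAdef, mem_conj] at hy
    have := H.mul_mem (H.mul_mem hg (a.RH (hBR hy))) (H.inv_mem hg)
    have e : g * (g⁻¹ * y * g) * g⁻¹ = y := by group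
    rwa [e] at this
  -- all members have the order of `A`
  have hcardU : ∀ D ∈ U, c * c * (c * c) ≤ Nat.card D := by
    intro D hD
    obtain ⟨y, rfl⟩ := h.cls.eq A hA D hD
    rw [conj_card, w.cardA]
    exact Nat.mul_le_mul_left _ w.card
  -- `Ψ`
  let Psi : AddSubgroup V := AddSubgroup.closure {v | ∃ x ∈ H, ∃ y ∈ t • WW V H R, v = x • y}
  have hPsiH : ∀ x ∈ H, ∀ v ∈ Psi, x • v ∈ Psi := by
    intro x hx v hv
    induction hv using AddSubgroup.closure_induction with
    | mem v hv =>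
      obtain ⟨y, hy, z, hz, rfl⟩ := hv
      exact AddSubgroup.subset_closure ⟨x * y, H.mul_mem hx hy, z, hz, by rw [mul_smul]⟩
    | zero => rw [smul_zero]; exact zero_mem _
    | add b c _ _ h1 h2 => rw [smul_add]; exact add_mem h1 h2
    | neg b _ h1 => rw [smul_neg]; exact neg_mem h1
  have hW'Psi : ∀ y ∈ t • WW V H R, y ∈ Psi := fun y hy =>
    AddSubgroup.subset_closure ⟨1, H.one_mem, y, hy, (one_smul Y y).symm⟩
  -- `[Ψ, Q] ≤ C`
  have hPsiQ : ∀ v ∈ Psi, ∀ q ∈ QQ H R, q • v + v ∈ fx V H := by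
    intro v hv
    induction hv using AddSubgroup.closure_induction with
    | mem v hv =>
      obtain ⟨x, hx, y, hy, rfl⟩ := hv
      intro q hq
      have h1 : x⁻¹ * q * x ∈ QQ H R := by
        have := conj_mem_QQ (H.inv_mem hx) hq
        rwa [inv_inv] at this
      have h2 := w.comm y hy _ (QQ_le h1)
      have e1 : q • x • y + x • y = x • ((x⁻¹ * q * x) • y + y) := by
        rw [smul_add, ← mul_smul, ← mul_smul]
        congr 2
        group
      rw [e1, h2 x hx]
      exact h2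
    | zero => intro q _; rw [smul_zero, add_zero]; exact zero_mem _
    | add b c _ _ h1 h2 =>
      intro q hq
      have e1 : q • (b + c) + (b + c) = (q • b + b) + (q • c + c) := by rw [smul_add]; abel
      rw [e1]
      exact add_mem (h1 q hq) (h2 q hq)
    | neg b _ h1 =>
      intro q hq
      have e1 : q • (-b) + (-b) = -(q • b + b) := by rw [smul_neg]; abel
      rw [e1]
      exact neg_mem (h1 q hq)
  -- `Ψ ≤ E_D` for every member `D ≤ R`
  have hPsiE : ∀ D ∈ U, D ≤ R → Psi ≤ Ee V D := by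
    intro D hD hDR v hv
    by_contra hvE
    have hmD := h.cls.mem D hD
    have h1 : D ⊓ QQ H R = ⊥ := by
      rw [eq_bot_iff]
      rintro b ⟨hb, hbQ⟩
      rw [mem_bot]
      exact hmD.inj v hvE b hb (fx_mono (hDR.trans a.RH) (hPsiQ v hv b hbQ))
    have h2 := card_le_of_index QQ_le hDR o.cR
    rw [h1, Subgroup.card_bot, mul_one] at h2
    have h3 := hcardU D hD
    have h4 : 2 * 2 ≤ c * c := Nat.mul_le_mul hc2 hc2
    have h5 : c * c * (2 * 2) ≤ c * c * (c * c) := Nat.mul_le_mul_left _ h4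
    nlinarith
  have hPsiE' : ∀ D ∈ U, D ≤ R → ∀ v ∈ Psi, t • v ∈ Ee V D := by
    intro D hD hDR v hv
    have h1 : MulAut.conj t⁻¹ • D ≤ R := by
      intro r hr
      rw [mem_conj] at hr
      have h2 := a.symm_smul (hDR hr)
      have e : t⁻¹ * (t⁻¹⁻¹ * r * t⁻¹) * t = r := by group
      rwa [e] at h2
    have h2 := hPsiE _ (h.cls.conj D hD t⁻¹) h1 hv
    rw [Ee_conj, mem_smul_as, inv_inv] at h2
    exact h2
  -- `A₀`
  set A₀ := A ⊓ QQ H R ⊓ MulAut.conj t • QQ H R with hA₀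
  -- `[t Ψ, A₀] ≤ C'`
  have hcomm' : ∀ b ∈ A₀, ∀ v ∈ Psi, b • t • v + t • v ∈ t • fx V H := by
    intro b hb v hv
    have h1 : t⁻¹ * b * t ∈ QQ H R := mem_conj.1 hb.2
    rw [mem_smul_as]
    have h2 := hPsiQ v hv _ h1
    have e1 : t⁻¹ • (b • t • v + t • v) = (t⁻¹ * b * t) • v + v := by
      rw [smul_add, inv_smul_smul, ← mul_smul, ← mul_smul]
    rw [e1]; exact h2
  by_cases hcase : ∀ b ∈ A₀, ∀ v ∈ Psi, b • t • v = t • v
  · -- (a)
    have hsub : ∀ u ∈ A, ∀ v ∈ Psi, u • t • v + t • v ∈ Psi := by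
      intro u hu v hv
      obtain ⟨y, hy, f, hf, he⟩ := AddSubgroup.mem_sup.1 (w.cen (t • v) fun b hb => hcase b hb v hv)
      rw [← he]
      have e1 : u • (y + f) + (y + f) = (u • y + y) + (f + f) := by
        rw [smul_add, hf u hu]; abel
      rw [e1, h.two, add_zero]
      exact Psi.add_mem (hPsiH u (hAH hu) y (hW'Psi y hy)) (hW'Psi y hy)
    -- `N = Ψ + tΨ`
    let N : AddSubgroup V := Psi ⊔ t • Psi
    have hNR : ∀ r ∈ R, ∀ n ∈ N, r • n ∈ N := by
      intro r hr n hn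
      obtain ⟨x, hx, y, hy, rfl⟩ := AddSubgroup.mem_sup.1 hn
      rw [smul_add]
      refine N.add_mem (AddSubgroup.mem_sup_left (hPsiH r (a.RH hr) x hx)) (AddSubgroup.mem_sup_right ?_)
      rw [mem_smul_as] at hy ⊢
      have h1 := hPsiH _ (a.RH (a.symm_smul hr)) _ hy
      have e1 : (t⁻¹ * r * t) • t⁻¹ • y = t⁻¹ • r • y := by
        rw [← mul_smul, ← mul_smul]
        congr 1
        group
      rwa [e1] at h1
    have hNA : ∀ u ∈ A, ∀ n ∈ N, u • n ∈ N := by
      intro u hu n hn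
      obtain ⟨x, hx, y, hy, rfl⟩ := AddSubgroup.mem_sup.1 hn
      rw [smul_add]
      refine N.add_mem (AddSubgroup.mem_sup_left (hPsiH u (hAH hu) x hx)) ?_
      have hy' := hy
      rw [mem_smul_as] at hy'
      have h1 := hsub u hu _ hy'
      rw [smul_inv_smul] at h1
      have h2 : u • y = (u • y + y) + y := by rw [add_assoc, h.two, add_zero]
      rw [h2]
      exact N.add_mem (AddSubgroup.mem_sup_left h1) (AddSubgroup.mem_sup_right hy)
    have hNH : ∀ x ∈ H, ∀ n ∈ N, x • n ∈ N := by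
      have hle : R ⊔ A ≤
          ({ carrier := {x | ∀ n ∈ N, x • n ∈ N}
             one_mem' := fun n hn => by rw [one_smul]; exact hn
             mul_mem' := fun {x y} hx hy n hn => by rw [mul_smul]; exact hx _ (hy n hn)
             inv_mem' := fun {x} hx n hn => by
               have hbij : Function.Surjective (fun n : N => (⟨x • (n : V), hx n n.2⟩ : N)) := by
                 apply Finite.surjective_of_injective
                 intro p q hpq
                 exact Subtype.ext (smul_left_cancel x (congrArg Subtype.val hpq))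
               obtain ⟨m, hm⟩ := hbij ⟨n, hn⟩
               have h1 : x • (m : V) = n := congrArg Subtype.val hm
               rw [← h1, inv_smul_smul]
               exact m.2 } : Subgroup Y) := sup_le (fun r hr => hNR r hr) (fun u hu => hNA u hu)
      rw [a.gen hAH hM] at hle
      exact fun x hx => hle hx
    have hNt : ∀ n ∈ N, t • n ∈ N := by
      intro n hn
      obtain ⟨x, hx, y, hy, rfl⟩ := AddSubgroup.mem_sup.1 hn
      rw [smul_add]
      refine N.add_mem (AddSubgroup.mem_sup_right (smul_mem_smul_as hx)) (AddSubgroup.mem_sup_left ?_)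
      rw [mem_smul_as] at hy
      have h1 := hPsiH _ (a.RH a.t_sq) _ hy
      have e1 : (t * t) • t⁻¹ • y = t • y := by
        rw [← mul_smul]
        congr 1
        group
      rwa [e1] at h1
    have hNE : N ≤ Ee V B := by
      refine sup_le (hPsiE B hB hBR) ?_
      intro y hy
      rw [mem_smul_as] at hy
      have := hPsiE' B hB hBR _ hy
      rwa [smul_inv_smul] at this
    rcases Amal.no_sub a h hNH hNt with h1 | h1
    · -- `N = 0`
      have h2 : fx V R ≤ N := fun x hx => AddSubgroup.mem_sup_left (hW'Psi x (by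
        rw [mem_smul_as]
        exact fx_le_WW (a.smul_V0' hx)))
      rw [h1] at h2
      have h3 : fx V R = ⊥ := le_bot_iff.1 h2
      have h4 : fx V H = ⊥ := le_bot_iff.1 (h3 ▸ a.C_le)
      have h5 := o.cV
      rw [h3, h4, AddSubgroup.card_bot] at h5
      omega
    · exact h1 B hB hNE
  · -- (b)
    push Not at hcase
    obtain ⟨b, hb, v, hv, hne⟩ := hcase
    have hd := dat a h o hB hBR hBQ (hE B hB hBR) hg hM
    have hex : ∃ v ∈ Psi, t • v ∉ Ee V A := by
      by_contra hcon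
      push Not at hcon
      apply hne
      have h1 : b • t • v + t • v ∈ fx V A := hmA.EB b hb.1.1 _ (hcon v hv)
      have h2 := hcomm' b hb v hv
      have h3 := hd.V0F _ (hd.C'V h2) h1
      exact (HE.add_eq_zero' h.two).1 (hd.CC' _ h3 h2)
    obtain ⟨v, hv, hvE⟩ := hex
    have h1 : Nat.card A₀ ≤ Nat.card ↥(t • fx V H) := by
      let f : A₀ → ↥(t • fx V H) := fun b => ⟨(b : Y) • t • v + t • v, hcomm' b b.2 v hv⟩
      apply Nat.card_le_card_of_injective f
      rintro ⟨x, hx⟩ ⟨y, hy⟩ hxy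
      have h2 : x • t • v + t • v = y • t • v + t • v := congrArg Subtype.val hxy
      have h3 : x • t • v = y • t • v := add_right_cancel h2
      have h4 : (y * x) • t • v + t • v ∈ fx V A := by
        rw [mul_smul, h3, ← mul_smul, hmA.sq y hy.1.1, one_smul, h.two]
        exact zero_mem _
      have h5 := hmA.inj _ hvE _ (mul_mem hy.1.1 hx.1.1) h4
      apply Subtype.ext
      change x = y
      have : y * (y * x) = y * 1 := by rw [h5]
      rw [← mul_assoc, hmA.sq y hy.1.1, one_mul, mul_one] at this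
      exact this
    rw [hd.cC', w.cC] at h1
    have h2 := w.card
    nlinarith

/-- The output of **THE THEOREM (bb OMEGA 20060)** : `k = 1`, no field automorphisms, any `C`.
`W' ∩ E₁ = V₀`, `B₁ ∩ Q' = 1`, `|B₁| = c`, `|U| = c²`, `T_H = B₁ Q'`, `B₁ = S₁`. -/
structure Out (A : Subgroup Y) (R Q Q' : Subgroup Y) (V₀ W' : AddSubgroup V) (c : ℕ) : Prop where
  cap : ∀ y ∈ W', y ∈ Ee V A → y ∈ V₀
  inf : A ⊓ Q ⊓ Q' = ⊥
  cB : Nat.card ↥(A ⊓ Q) = c
  cA : Nat.card A = c * c
  mul : ∀ r ∈ R, ∃ b ∈ A ⊓ Q, ∃ q ∈ Q', r = b * q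
  S : ∀ w : V, w ∉ Ee V A → ∀ s : Y, s ∈ A ⊓ Q ↔ s ∈ A ∧ s • w + w ∈ V₀ ⊔ fx V A
  c2 : 2 ≤ c

/-- **THE THEOREM (bb OMEGA 20060)** -/
theorem caseC [Finite Y] [Finite V] (a : Amal U T M H R t) (h : Amb V U T M) (o : One V H R c)
    {B : Subgroup Y} (hB : B ∈ U) (hBR : B ≤ R) (hBQ : ¬ B ≤ QQ H R) (hE : ∀ B ∈ U, B ≤ R → WW V H R ≤ Ee V B)
    {g : Y} (hg : g ∈ H) (hM : ¬ MulAut.conj g • B ≤ M)
    (star : ∃ b ∈ MulAut.conj g • B, b ∈ QQ H R ∧ b ∉ MulAut.conj t • QQ H R) :
    Out (MulAut.conj g • B) R (QQ H R) (MulAut.conj t • QQ H R) (fx V R) (t • WW V H R) c := by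
  have hd := dat a h o hB hBR hBQ (hE B hB hBR) hg hM
  obtain ⟨b, hbA, hbQ, hbQ'⟩ := star
  have hcap : ∀ y ∈ t • WW V H R, y ∈ Ee V (MulAut.conj g • B) → y ∈ fx V R := by
    intro y hy hyE
    by_contra hyV
    exact not_two a h o hB hBR hBQ hE hg hM (hd.two' hbA hbQ hbQ' hy hyE hyV)
  set A := MulAut.conj g • B with hAdef
  have hc2 := hd.c2
  -- `A₀ = 1`
  have hinf : A ⊓ QQ H R ⊓ MulAut.conj t • QQ H R = ⊥ := by
    rw [eq_bot_iff]
    rintro s ⟨⟨hsA, hsQ⟩, hsQ'⟩
    rw [mem_bot]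
    by_contra hs1
    have h1 : t • WW V H R = fx V R := le_antisymm
      (fun y hy => hcap y hy (mem_E_of_fix hd.mem hd.two hsA hs1 (hd.QW' s hsQ' y hy))) hd.V0W'
    have h2 := hd.cW'
    rw [h1] at h2
    have h3 : 0 < Nat.card (fx V R) := Nat.card_pos
    nlinarith
  have hle : Nat.card ↥(A ⊓ QQ H R) ≤ c := by
    have h1 := card_le_of_index (B := A ⊓ QQ H R) hd.Q'R (inf_le_right.trans hd.QR) hd.cR'
    rwa [hinf, Subgroup.card_bot, mul_one] at h1
  -- `S₁`
  have hVF : Nat.card ↥(fx V R ⊔ fx V A) = c * Nat.card (fx V A) := by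
    have h1 := card_sup_as (fx V R) (fx V A)
    have h2 : fx V R ⊓ fx V A = fx V H := le_antisymm (fun x hx => hd.V0F x hx.1 hx.2) (le_inf hd.CV hd.CF)
    rw [h2, hd.cV] at h1
    apply Nat.eq_of_mul_eq_mul_right (Nat.card_pos (α := fx V H))
    rw [h1]; ring
  have hpre : ∀ w : V, w ∉ Ee V A → Nat.card (pre A w (fx V R ⊔ fx V A)) = c := by
    intro w hw
    have h1 := card_pre hd.mem hd.two hw (D := fx V R ⊔ fx V A) le_sup_right (sup_le hd.V0E hd.mem.FE)
    rw [hVF] at h1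
    exact Nat.eq_of_mul_eq_mul_right (Nat.card_pos (α := fx V A)) h1
  have hpresub : ∀ w : V, w ∉ Ee V A → pre A w (fx V R ⊔ fx V A) ⊆ (A ⊓ QQ H R : Subgroup Y) := by
    rintro w hw s ⟨hs, hsD⟩
    obtain ⟨v, hv, f, hf, he⟩ := AddSubgroup.mem_sup.1 hsD
    refine ⟨hs, hd.s_mem hw hv hs ?_⟩
    rw [← he]
    have e1 : v + f + v = (v + v) + f := by abel
    rw [e1, hd.two, zero_add]; exact hf
  have hcB : Nat.card ↥(A ⊓ QQ H R) = c := by
    apply le_antisymm hle
    obtain ⟨w, hw⟩ := hd.mem.ne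
    rw [← hpre w hw]
    exact Nat.card_mono (Set.toFinite _) (hpresub w hw)
  refine ⟨hcap, hinf, hcB, ?_, ?_, ?_, hc2⟩
  · rw [hd.cA, hcB]
  · intro r hr
    apply exists_mul_of_card (B := A ⊓ QQ H R) hd.Q'R (inf_le_right.trans hd.QR) hd.cR' _ hr
    rw [hinf, Subgroup.card_bot, mul_one, hcB]
  · intro w hw s
    have h1 : pre A w (fx V R ⊔ fx V A) = (A ⊓ QQ H R : Subgroup Y) := by
      apply Set.eq_of_subset_of_ncard_le (hpresub w hw) _ (Set.toFinite _)
      change Nat.card ↥(A ⊓ QQ H R) ≤ Nat.card (pre A w (fx V R ⊔ fx V A))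
      rw [hpre w hw, hcB]
    have h2 : s ∈ pre A w (fx V R ⊔ fx V A) ↔ s ∈ (A ⊓ QQ H R : Subgroup Y) := by rw [h1]; rfl
    exact h2.symm

/-- with `|V| = q |E|` and (PF) `q² ≤ |U|`: `c = q`, `V = W' + E₁` -/
theorem caseC_top [Finite Y] [Finite V] {A : Subgroup Y} {q : ℕ} (a : Amal U T M H R t)
    (o : One V H R c) (hV0 : fx V R ≤ Ee V A)
    (w : Out A R (QQ H R) (MulAut.conj t • QQ H R) (fx V R) (t • WW V H R) c)
    (hq : Nat.card V = q * Nat.card (Ee V A)) (hpf : q * q ≤ Nat.card A) :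
    c = q ∧ t • WW V H R ⊔ Ee V A = ⊤ := by
  have h1 := card_sup_as (t • WW V H R) (Ee V A)
  have h2 : t • WW V H R ⊓ Ee V A = fx V R := by
    apply le_antisymm
    · rintro y ⟨hy, hyE⟩
      exact w.cap y hy hyE
    · refine le_inf ?_ hV0
      intro x hx
      rw [mem_smul_as]
      exact fx_le_WW (a.smul_V0' hx)
  rw [h2, card_smul_as, o.cW] at h1
  have h3 : Nat.card ↥(t • WW V H R ⊔ Ee V A) = c * Nat.card (Ee V A) := by
    apply Nat.eq_of_mul_eq_mul_right (Nat.card_pos (α := fx V R))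
    rw [h1]; ring
  have h4 : Nat.card ↥(t • WW V H R ⊔ Ee V A) ≤ Nat.card V :=
    Nat.card_le_card_of_injective _ (AddSubgroup.subtype_injective _)
  rw [h3, hq] at h4
  have h5 : c ≤ q := Nat.le_of_mul_le_mul_right h4 Nat.card_pos
  rw [w.cA] at hpf
  have h6 : q ≤ c := by
    by_contra hcon
    push Not at hcon
    nlinarith
  have h7 : c = q := le_antisymm h5 h6
  refine ⟨h7, ?_⟩
  apply eq_of_le_as le_top
  rw [AddSubgroup.card_top, hq, h3, h7]

end One

end Cfsg.Agent.Omega.NO1.TH
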