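import Cfsg.Agent.Omega.FFBr.Final

/-!
# A regular vector for an offender (bb OMEGA 19584 (2), 19978 (r3))

`exists_reg` : `X`, `V`, `T` as in the abstract FF theorem, `A ≤ T` an offender: some `v ∈ V` has `C_A(v) = 1`.
-/

set_option autoImplicit false
set_option linter.unusedSectionVars false

namespace Cfsg.Agent.Omega.NO1.TH

open Subgroup Cfsg.Agent.Omega.FFBr
open Cfsg.Agent.Omega.NatPair (ap)
open Cfsg.Agent.Lib.SL2Mat

universe u

variable {X V : Type u} [Group X] [Group V] [MulDistribMulAction X V]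

/-- an element which is trivial on `V / C_V(O²(X))` and on `C_V(O²(X))` -/
theorem eq_one_of_triv {T : Sylow 2 X} {M : Subgroup X} (hA : Abs X V T M) {x : X}
    (h1 : ∀ v : V, (x • v) * v ∈ odd X V) (h2 : ∀ d ∈ odd X V, x • d = d) : x = 1 := by
  have hodd : ∀ (g : X) (d : V), d ∈ odd X V → g • d ∈ odd X V := by
    intro g d hd y hy
    have h3 := hd (g⁻¹ * y * g) (by
      have : orderOf (g⁻¹ * y * g) = orderOf y := by
        have := orderOf_injective (MulAut.conj g⁻¹).toMonoidHom (MulAut.conj g⁻¹).injective y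
        simpa using this
      rw [this]; exact hy)
    rw [mul_smul, mul_smul, inv_smul_eq_iff] at h3
    exact h3
  let N : Subgroup X :=
    { carrier := {y | (∀ v : V, (y • v) * v ∈ odd X V) ∧ ∀ d ∈ odd X V, y • d = d}
      one_mem' := ⟨fun v => by rw [one_smul, hA.sq]; exact one_mem _, fun d _ => one_smul X d⟩
      mul_mem' := by
        rintro y z ⟨hy1, hy2⟩ ⟨hz1, hz2⟩
        refine ⟨fun v => ?_, fun d hd => by rw [mul_smul, hz2 d hd, hy2 d hd]⟩
        have h3 := mul_mem (hy1 (z • v)) (hz1 v)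
        have e : y • z • v * (z • v) * (z • v * v) = y • z • v * ((z • v) * (z • v)) * v := by
          simp only [mul_assoc]
        rw [e, hA.sq, mul_one] at h3
        rwa [mul_smul]
      inv_mem' := by
        rintro y ⟨hy1, hy2⟩
        refine ⟨fun v => ?_, fun d hd => by rw [inv_smul_eq_iff, hy2 d hd]⟩
        have h3 := hodd y⁻¹ _ (hy1 v)
        rw [smul_mul', inv_smul_smul] at h3
        rwa [hA.comm] at h3 }
  have hN : N.Normal := by
    refine ⟨fun y hy g => ?_⟩
    refine ⟨fun v => ?_, fun d hd => ?_⟩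
    · have h3 := hodd g _ (hy.1 (g⁻¹ • v))
      rw [smul_mul', smul_inv_smul] at h3
      rwa [mul_smul, mul_smul]
    · rw [mul_smul, mul_smul, hy.2 _ (hodd g⁻¹ d hd), smul_inv_smul]
  have hN2 : IsPGroup 2 N := by
    rintro ⟨y, hy⟩
    refine ⟨1, Subtype.ext ?_⟩
    rw [pow_one]
    change y ^ 2 = 1
    apply hA.faith
    intro v
    rw [pow_two, mul_smul]
    have h3 := hy.1 v
    obtain ⟨D, hD⟩ : ∃ D, D = y • v * v := ⟨_, rfl⟩
    have h4 : y • v = D * v := by rw [hD, mul_assoc, hA.sq, mul_one]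
    rw [← hD] at h3
    rw [h4, smul_mul', hy.2 _ h3, h4, ← mul_assoc, hA.sq, one_mul]
  have h3 := hA.core N hN hN2
  have h4 : x ∈ N := ⟨h1, h2⟩
  rw [h3, mem_bot] at h4
  exact h4

theorem ap_up'' {F : Type} [Field F] (b : F) (w : Fin 2 → F) : ap (up b) w = ![w 0 + b * w 1, w 1] := by
  rw [NatPair.ap, up]
  funext i
  fin_cases i <;> simp [Cfsg.Agent.Lib.SL2Mat.mk, Cfsg.Agent.Lib.SL2Mat.ent]

theorem reg_nat {T : Sylow 2 X} {M : Subgroup X} (hA : Abs X V T M) {F : Type} [Field F] {k : ℕ}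
    (N : AbsNat F (T : Subgroup X) V k) {A : Subgroup X} (hAT : A ≤ T) (hO : AOff V A) :
    ∃ v : V, ∀ a ∈ A, a • v = v → a = 1 := by
  obtain ⟨v, hv⟩ := N.surj fun _ => ![0, 1]
  obtain ⟨I, hI, _⟩ := N.off A hAT hO
  refine ⟨v, fun a ha hav => ?_⟩
  obtain ⟨b, _, hb2, hb3⟩ := hI a ha
  have hb : ∀ i, b i = 0 := by
    intro i
    have h1 := hb2 v i
    rw [hav, ap_up'', hv] at h1
    have h2 := congrFun h1 0
    simp at h2
    exact h2.symm
  apply eq_one_of_triv hA _ hb3
  intro w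
  rw [← N.ker, N.mul]
  funext i
  have h1 : N.e (a • w) i = ap (up (b i)) (N.e w i) := hb2 w i
  rw [hb i, ap_up''] at h1
  rw [Pi.add_apply, h1]
  have h2 := congrFun (congrFun (by rw [← N.mul, hA.sq] : N.e w + N.e w = N.e 1) i)
  have h3 : N.e 1 = 0 := (N.ker 1).2 (one_mem _)
  rw [h3] at h2
  funext j
  have h4 := h2 j
  fin_cases j
  · simpa using h4
  · simpa using h4

section sym

variable {k m : ℕ}

theorem reg_sym {T : Sylow 2 X} {M : Subgroup X} (hA : Abs X V T M) (hm : 2 ≤ m)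
    (N : AbsSym (T : Subgroup X) V k m) {A : Subgroup X} (hAT : A ≤ T) (hO : AOff V A) :
    ∃ v : V, ∀ a ∈ A, a • v = v → a = 1 := by
  classical
  obtain ⟨hD, hI⟩ := N.off A hAT hO
  have h4 : 4 ≤ 2 ^ m := by
    calc 4 = 2 ^ 2 := by norm_num
      _ ≤ 2 ^ m := Nat.pow_le_pow_right (by norm_num) hm
  -- pairs
  let Pr : Fin k → Fin (2 ^ m + 1) → Fin (2 ^ m + 1) → Prop := fun i x y =>
    x ≠ y ∧ ∃ b ∈ A, AActsSym N.e b 1 (Function.update 1 i (Equiv.swap x y))
  have hsymm : ∀ i x y, Pr i x y → Pr i y x := by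
    rintro i x y ⟨h1, b, hb, hb2⟩
    refine ⟨h1.symm, b, hb, ?_⟩
    rw [Equiv.swap_comm]
    exact hb2
  have hval : ∀ (i : Fin k) (x y : Fin (2 ^ m + 1)) (b : X), AActsSym N.e b 1 (Function.update 1 i (Equiv.swap x y)) →
      ∀ v w, N.e (b • v) i w = N.e v i (Equiv.swap x y w) := by
    intro i x y b hb v w
    have h1 := hb v i (Equiv.swap x y w)
    rw [Function.update_self, Equiv.swap_apply_self] at h1
    exact h1
  have huniq : ∀ i x y z, Pr i x y → Pr i x z → y = z := by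
    rintro i x y z ⟨hxy, b, hb, hb2⟩ ⟨hxz, c, hc, hc2⟩
    by_contra hyz
    -- a vector separating `y` and `z`
    obtain ⟨w, hwy, hwz⟩ : ∃ w : Fin (2 ^ m + 1), w ≠ y ∧ w ≠ z := by
      by_contra hcon
      push Not at hcon
      have h5 : (Finset.univ : Finset (Fin (2 ^ m + 1))) ⊆ {y, z} := by
        intro w _
        rw [Finset.mem_insert, Finset.mem_singleton]
        by_cases h6 : w = y
        · exact Or.inl h6
        · exact Or.inr (hcon w h6)
      have h6 := Finset.card_le_card h5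
      rw [Finset.card_univ, Fintype.card_fin] at h6
      have h7 := Finset.card_insert_le y {z}
      rw [Finset.card_singleton] at h7
      omega
    obtain ⟨v, hv⟩ := N.surj (fun j => if j = i then (Pi.single y 1 + Pi.single w 1) else 0) (by
      intro j
      by_cases hj : j = i
      · rw [if_pos hj]
        simp only [Pi.add_apply, Finset.sum_add_distrib, Finset.sum_pi_single', Finset.mem_univ, if_true]
        exact CharTwo.add_self_eq_zero 1
      · rw [if_neg hj]; simp)
    have h5 : N.e (b • c • v) i x = N.e (c • b • v) i x := by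
      rw [← mul_smul, ← mul_smul, hO.comm b hb c hc]
    rw [hval i x y b hb2, hval i x z c hc2, hval i x z c hc2, hval i x y b hb2, Equiv.swap_apply_left,
      Equiv.swap_apply_left, Equiv.swap_apply_of_ne_of_ne hxy.symm hyz,
      Equiv.swap_apply_of_ne_of_ne hxz.symm (Ne.symm hyz), hv] at h5
    simp only [if_true, Pi.add_apply] at h5
    rw [Pi.single_eq_same, Pi.single_eq_of_ne hwy.symm, Pi.single_eq_of_ne (Ne.symm hyz),
      Pi.single_eq_of_ne hwz.symm] at h5
    simp at h5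
  have h0 : ∀ i x, ¬ Pr i 0 x := by
    rintro i x ⟨h1, b, hb, hb2⟩
    have h2 := N.fix0 b (hAT hb) _ _ hb2 i
    rw [Function.update_self, Equiv.swap_apply_left] at h2
    exact h1 h2.symm
  -- the vector
  let f : Fin k → Fin (2 ^ m + 1) → ZMod 2 := fun i x => if ∃ y, Pr i x y ∧ x < y then 1 else 0
  let g : Fin k → Fin (2 ^ m + 1) → ZMod 2 := fun i => f i + Pi.single 0 (∑ x, f i x)
  obtain ⟨v, hv⟩ := N.surj g (by
    intro i
    have h5 : ∑ x, g i x = ∑ x, f i x + ∑ x, (Pi.single 0 (∑ x, f i x) : Fin (2 ^ m + 1) → ZMod 2) x := by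
      rw [← Finset.sum_add_distrib]
      rfl
    rw [h5, Finset.sum_pi_single', if_pos (Finset.mem_univ _)]
    exact CharTwo.add_self_eq_zero _)
  have hne : ∀ i x y, Pr i x y → N.e v i x ≠ N.e v i y := by
    have key : ∀ i x y, Pr i x y → x < y → N.e v i x ≠ N.e v i y := by
      intro i x y hp hxy
      have hx0 : x ≠ 0 := fun h => h0 i y (h ▸ hp)
      have hy0 : y ≠ 0 := fun h => h0 i x (h ▸ hsymm i x y hp)
      have h1 : f i x = 1 := if_pos ⟨y, hp, hxy⟩
      have h2 : f i y = 0 := by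
        apply if_neg
        rintro ⟨z, hz, hyz⟩
        have h3 := huniq i y x z (hsymm i x y hp) hz
        subst h3
        exact absurd hxy (not_lt.2 hyz.le)
      rw [hv]
      change f i x + (Pi.single 0 (∑ x, f i x) : Fin (2 ^ m + 1) → ZMod 2) x ≠
        f i y + (Pi.single 0 (∑ x, f i x) : Fin (2 ^ m + 1) → ZMod 2) y
      rw [Pi.single_eq_of_ne hx0, Pi.single_eq_of_ne hy0, h1, h2]
      decide
    intro i x y hp
    rcases lt_trichotomy x y with h1 | h1 | h1
    · exact key i x y hp h1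
    · exact absurd h1 hp.1
    · exact (key i y x (hsymm i x y hp) h1).symm
  refine ⟨v, fun a ha hav => ?_⟩
  obtain ⟨τ, hτ, hτ2⟩ := hI a ha
  have hτ1 : ∀ i x, τ i x = x := by
    intro i x
    by_contra hne1
    obtain ⟨h1, b, hb, hb2⟩ := hτ2 i x hne1
    apply hne i x (τ i x) ⟨Ne.symm hne1, b, hb, hb2⟩
    have h2 := hτ v i x
    rw [hav] at h2
    exact h2.symm
  apply eq_one_of_triv hA _ (hD a ha)
  intro w
  rw [← N.ker, N.mul]
  have h3 : N.e 1 = 0 := (N.ker 1).2 (one_mem _)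
  have h4 : N.e w + N.e w = N.e 1 := by rw [← N.mul, hA.sq]
  have h5 : N.e (a • w) = N.e w := by
    funext i x
    have h6 := hτ w i x
    rw [hτ1] at h6
    exact h6
  rw [h5, h4, h3]

end sym

/-- **a regular vector for an offender** -/
theorem exists_reg {T : Sylow 2 X} {M : Subgroup X} (hA : Abs X V T M) (hC : AConcl (T : Subgroup X) V)
    {A : Subgroup X} (hAT : A ≤ T) (hO : AOff V A) : ∃ v : V, ∀ a ∈ A, a • v = v → a = 1 := by
  rcases hC with ⟨F, _, _, _, k, _, ⟨N⟩⟩ | ⟨k, m, _, hm, ⟨N⟩⟩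
  · exact reg_nat hA N hAT hO
  · exact reg_sym hA hm N hAT hO

end Cfsg.Agent.Omega.NO1.TH
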