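import Cfsg.Agent.Omega.NO1.TH.Fact
import Cfsg.Agent.Omega.NO1.TH.Reg

/-!
# N1, BETA: (*) of bb OMEGA 19584 (2) (helper874; fill-in: helper29, helper835)

Hypothesis `hE`: `W ≤ E_B` for all members `B ≤ R`.  For a member `B ≤ H`, `B ≰ M`, with `B₁ = B ∩ Q`:
`exact'` : `|W| |B₁| = |B| |W ∩ F_B|`; `exists_reg'` : some `v ∈ W` has `C_B(v) = B₁`; `ne_bot` : `B₁ ≠ 1`;
`fx_eq` : `C_V(B₁) = W + F_B`; `star` : `B₁ ≰ Q^t`.
-/

set_option autoImplicit false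
set_option linter.unusedSectionVars false

namespace Cfsg.Agent.Omega.NO1.TH

open Subgroup Cfsg.Agent.Omega.NO1.AB Cfsg.Agent.Omega.FFBr
open scoped Pointwise

universe u

variable {Y : Type u} [Group Y] {V : Type u} [AddCommGroup V] [DistribMulAction Y V]

theorem smul_WW {H R : Subgroup Y} {x : Y} (hx : x ∈ H) : x • WW V H R = WW V H R := by
  ext v
  rw [mem_smul_as]
  constructor
  · intro h
    have := smul_mem_WW hx h
    rwa [smul_inv_smul] at this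
  · intro h
    exact smul_mem_WW (H.inv_mem hx) h

theorem smul_le_smul_as {g : Y} {W₁ W₂ : AddSubgroup V} (h : W₁ ≤ W₂) : g • W₁ ≤ g • W₂ := by
  intro v hv
  rw [mem_smul_as] at hv ⊢
  exact h hv

theorem smul_smul_as (g k : Y) (W : AddSubgroup V) : g • k • W = (g * k) • W := by
  rw [mul_smul]

/-- all members `B ≤ R` have `W ≤ E_B` -/
def WE (V : Type u) [AddCommGroup V] [DistribMulAction Y V] (U : Set (Subgroup Y)) (H R : Subgroup Y) : Prop :=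
  ∀ B ∈ U, B ≤ R → WW V H R ≤ Ee V B

namespace Amal

variable {U : Set (Subgroup Y)} {T : Sylow 2 Y} {M H R : Subgroup Y} {t : Y}

section

variable (a : Amal U T M H R t) (h : Amb V U T M)
include a h

/-- a member in `H` is conjugate in `H` to one in `R` -/
theorem exists_conj [Finite Y] {B : Subgroup Y} (hB : B ∈ U) (hBH : B ≤ H) :
    ∃ x ∈ H, MulAut.conj x • B ∈ U ∧ MulAut.conj x • B ≤ R := by
  obtain ⟨x, hx, hxB⟩ := conj_into a.RH a.R2 (fun R' h1 h2 => a.card_le a.bad.ne le_rfl h1 h2) hBH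
    (h.cls.mem B hB).isPGroup
  exact ⟨x, hx, h.cls.conj B hB x, hxB⟩

/-- `W ≤ E_B` for all members `B ≤ H` -/
theorem WW_le_Ee [Finite Y] (hE : WE V U H R) {B : Subgroup Y} (hB : B ∈ U) (hBH : B ≤ H) :
    WW V H R ≤ Ee V B := by
  obtain ⟨x, hx, hxU, hxR⟩ := exists_conj a h hB hBH
  have h1 := hE _ hxU hxR
  rw [Ee_conj] at h1
  have h2 := smul_le_smul_as (g := x⁻¹) h1
  rwa [smul_smul_as, inv_mul_cancel, one_smul, smul_WW (H.inv_mem hx)] at h2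

/-- `C_B(W) = B ∩ Q` for 2-subgroups `B ≤ H` -/
theorem inf_CW' [Finite Y] [Finite V] {B : Subgroup Y} (hB : B ∈ U) (hBH : B ≤ H) :
    B ⊓ CW V H R = B ⊓ QQ H R := by
  obtain ⟨x, hx, hxU, hxR⟩ := exists_conj a h hB hBH
  ext b
  constructor
  · rintro ⟨h1, h2⟩
    refine ⟨h1, ?_⟩
    have h3 : x * b * x⁻¹ ∈ R := hxR (conj_mem_conj h1)
    have h4 : x * b * x⁻¹ ∈ QQ H R := by
      rw [mem_QQ_iff a h h3]
      intro w hw
      rw [mul_smul, mul_smul, h2 _ (smul_mem_WW (H.inv_mem hx) hw), smul_inv_smul]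
    have h5 := conj_mem_QQ (H.inv_mem hx) h4
    have e : x⁻¹ * (x * b * x⁻¹) * x⁻¹⁻¹ = b := by group
    rwa [e] at h5
  · rintro ⟨h1, h2⟩
    exact ⟨h1, fun w hw => QQ_fix a h h2 hw⟩

/-- a member outside `M` moves `W` -/
theorem not_CW [Finite V] {B : Subgroup Y} (hBM : ¬ B ≤ M) : ¬ B ≤ CW V H R := by
  intro h1
  exact hBM (ker_le_M a h fun x hx v hv => h1 hx v (fx_le_WW hv))

/-- the FF theorem under (WE) -/
theorem ff' [Finite Y] [Finite V] (hE : WE V U H R) : ∃ (P : Sylow 2 (XH V H R)) (M₁ : Subgroup (XH V H R)),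
    Abs (XH V H R) (Wm V H R) P M₁ ∧ (∀ x : XH V H R, x ∈ P ↔ ∃ r : H, (r : Y) ∈ R ∧ pr V H R r = x) ∧
      ANoOver (XH V H R) (Wm V H R) ∧ AConcl (P : Subgroup (XH V H R)) (Wm V H R) := by
  obtain ⟨B, hB, hBR, hBQ⟩ := exists_not_QQ a h
  refine a.ff h hB (hBR.trans a.RH) (fun h1 => hBQ ?_) (hE B hB hBR)
  have h2 := inf_CW' a h hB (hBR.trans a.RH)
  rw [inf_eq_left.2 h1] at h2
  rw [h2]
  exact inf_le_right

/-- **exactness** -/
theorem exact' [Finite Y] [Finite V] (hE : WE V U H R) {B : Subgroup Y} (hB : B ∈ U) (hBH : B ≤ H) :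
    Nat.card ↥(WW V H R) * Nat.card ↥(B ⊓ QQ H R) = Nat.card B * Nat.card ↥(WW V H R ⊓ fx V B) := by
  obtain ⟨P, M₁, _, _, hno, _⟩ := a.ff' h hE
  rw [← inf_CW' a h hB hBH]
  exact exact a h hno hB hBH (WW_le_Ee a h hE hB hBH)

/-- a vector of `W` which is regular for `B` -/
theorem exists_reg' [Finite Y] [Finite V] (hE : WE V U H R) {B : Subgroup Y} (hB : B ∈ U) (hBH : B ≤ H) :
    ∃ v ∈ WW V H R, ∀ b ∈ B, b • v = v → b ∈ QQ H R := by
  have key : ∀ B : Subgroup Y, B ∈ U → B ≤ R → ∃ v ∈ WW V H R, ∀ b ∈ B, b • v = v → b ∈ QQ H R := by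
    intro B hB hBR
    by_cases hBQ : B ≤ QQ H R
    · exact ⟨0, zero_mem _, fun b hb _ => hBQ hb⟩
    obtain ⟨P, M₁, hA, hP, hno, hC⟩ := a.ff' h hE
    have hBC : ¬ B ≤ CW V H R := by
      intro h1
      apply hBQ
      have h2 := inf_CW' a h hB (hBR.trans a.RH)
      rw [inf_eq_left.2 h1] at h2
      rw [h2]
      exact inf_le_right
    obtain ⟨m, hm⟩ := exists_reg hA hC (A := (B.subgroupOf H).map (pr V H R)) (by
      rintro _ ⟨b, hb, rfl⟩
      exact (hP _).2 ⟨b, hBR hb, rfl⟩) (aOff a h hB (hBR.trans a.RH) hBC (hE B hB hBR))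
    refine ⟨vl V H R m, vl_mem m, fun b hb hbm => ?_⟩
    have h1 := hm (pr V H R ⟨b, a.RH (hBR hb)⟩) ⟨_, hb, rfl⟩ (pr_fix.2 hbm)
    rw [pr_eq_one] at h1
    exact (mem_QQ_iff a h (hBR hb)).2 h1
  obtain ⟨x, hx, hxU, hxR⟩ := exists_conj a h hB hBH
  obtain ⟨v, hv, hreg⟩ := key _ hxU hxR
  refine ⟨x⁻¹ • v, smul_mem_WW (H.inv_mem hx) hv, fun b hb hbv => ?_⟩
  have h1 := hreg (x * b * x⁻¹) (conj_mem_conj hb) (by rw [mul_smul, mul_smul, hbv, smul_inv_smul])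
  have h5 := conj_mem_QQ (H.inv_mem hx) h1
  have e : x⁻¹ * (x * b * x⁻¹) * x⁻¹⁻¹ = b := by group
  rwa [e] at h5

end

/-- `s_v` centralises `v` -/
theorem smul_self_of {B : Subgroup Y} (hm : Mem B (Ee V B) (fx V B)) {w v : V} {s : Y}
    (hs : s ∈ B) (h1 : s • w + w + v ∈ fx V B) : s • v = v := by
  have h3 := h1 s hs
  rw [smul_add, smul_add, ← mul_smul, hm.sq s hs, one_smul] at h3
  -- `w + s w + s v = s w + w + v`
  have h4 : w + s • w + s • v = w + s • w + v := by rw [h3]; abel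
  exact add_left_cancel h4

variable (a : Amal U T M H R t) (h : Amb V U T M)
include a h

/-- **`B ∩ Q ≠ 1`** -/
theorem ne_bot [Finite Y] [Finite V] (hE : WE V U H R) {B : Subgroup Y} (hB : B ∈ U) (hBH : B ≤ H) :
    B ⊓ QQ H R ≠ ⊥ := by
  intro hbot
  have hm := h.cls.mem B hB
  obtain ⟨v, hv, hreg⟩ := exists_reg' a h hE hB hBH
  obtain ⟨w, hw⟩ := hm.ne
  obtain ⟨s, hs, hsv⟩ := hm.surj w hw v (WW_le_Ee a h hE hB hBH hv)
  have h1 := hreg s hs (smul_self_of hm hs hsv)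
  have h2 : s ∈ B ⊓ QQ H R := ⟨hs, h1⟩
  rw [hbot, mem_bot] at h2
  subst h2
  rw [one_smul, h.two, zero_add] at hsv
  have h3 : B ≤ QQ H R := fun b hb => hreg b hb (hsv b hb)
  rw [inf_eq_left.2 h3] at hbot
  exact Mem.ne_bot hm hbot

/-- `C_V(B₁) ≤ E_B` -/
theorem fx_le_Ee [Finite Y] [Finite V] {B B₁ : Subgroup Y} (hB : B ∈ U) (hB₁ : B₁ ≤ B) (hne : B₁ ≠ ⊥) :
    fx V B₁ ≤ Ee V B := by
  intro v hv
  by_contra hvE
  apply hne
  rw [eq_bot_iff]
  intro b hb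
  rw [mem_bot]
  apply (h.cls.mem B hB).inj v hvE b (hB₁ hb)
  rw [hv b hb, h.two]
  exact zero_mem _

/-- **`C_V(B₁) = W + F_B`**, `B₁ = B ∩ Q` -/
theorem fx_eq [Finite Y] [Finite V] (hE : WE V U H R) {B : Subgroup Y} (hB : B ∈ U) (hBH : B ≤ H) :
    fx V (B ⊓ QQ H R) = WW V H R ⊔ fx V B := by
  have hm := h.cls.mem B hB
  have h1 := fx_le_Ee a h hB (B₁ := B ⊓ QQ H R) inf_le_left (ne_bot a h hE hB hBH)
  symm
  apply eq_of_le_as
  · refine sup_le (fun w hw b hb => QQ_fix a h hb.2 hw) (fx_mono inf_le_left)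
  · have h2 := h.cls.mu B hB (B ⊓ QQ H R) inf_le_left
    rw [inf_eq_left.2 h1, hm.card_E h.two] at h2
    have h3 := exact' a h hE hB hBH
    have h4 := card_sup_as (WW V H R) (fx V B)
    have h5 : 0 < Nat.card ↥(B ⊓ QQ H R) := Nat.card_pos
    have h6 : 0 < Nat.card ↥(WW V H R ⊓ fx V B) := Nat.card_pos
    apply Nat.le_of_mul_le_mul_left _ (Nat.mul_pos h5 h6)
    calc Nat.card ↥(B ⊓ QQ H R) * Nat.card ↥(WW V H R ⊓ fx V B) * Nat.card ↥(fx V (B ⊓ QQ H R))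
        = Nat.card ↥(WW V H R ⊓ fx V B) * (Nat.card ↥(B ⊓ QQ H R) * Nat.card ↥(fx V (B ⊓ QQ H R))) := by ring
      _ ≤ Nat.card ↥(WW V H R ⊓ fx V B) * (Nat.card ↥(fx V B) * Nat.card B) := Nat.mul_le_mul_left _ h2
      _ = Nat.card ↥(fx V B) * (Nat.card B * Nat.card ↥(WW V H R ⊓ fx V B)) := by ring
      _ = Nat.card ↥(fx V B) * (Nat.card ↥(WW V H R) * Nat.card ↥(B ⊓ QQ H R)) := by rw [h3]
      _ = Nat.card ↥(B ⊓ QQ H R) * (Nat.card ↥(WW V H R) * Nat.card ↥(fx V B)) := by ring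
      _ = Nat.card ↥(B ⊓ QQ H R) * (Nat.card ↥(WW V H R ⊔ fx V B) * Nat.card ↥(WW V H R ⊓ fx V B)) := by rw [h4]
      _ = _ := by ring

/-- `W^t ≤ E_B` for members `B ≤ R` -/
theorem tW_le_Ee (hE : WE V U H R) {B : Subgroup Y} (hB : B ∈ U) (hBR : B ≤ R) : t • WW V H R ≤ Ee V B := by
  have h1 : MulAut.conj t⁻¹ • B ≤ R := by
    intro y hy
    rw [mem_conj, inv_inv] at hy
    have h2 := a.symm_smul (hBR hy)
    have e : t⁻¹ * (t * y * t⁻¹) * t = y := by group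
    rwa [e] at h2
  have h2 := hE _ (h.cls.conj B hB t⁻¹) h1
  rw [Ee_conj] at h2
  have h3 := smul_le_smul_as (g := t) h2
  rwa [smul_smul_as t t⁻¹, mul_inv_cancel, one_smul] at h3

theorem WW_ne_bot [Finite V] : WW V H R ≠ ⊥ := by
  intro h1
  obtain ⟨z, hz0, hz⟩ := exists_z a h
  have h2 : z ∈ WW V H R := fx_le_WW (fx_mono a.RT hz)
  rw [h1] at h2
  exact hz0 h2

/-- **(*)** of #19584 (2) -/
theorem star [Finite Y] [Finite V] (hE : WE V U H R) {B : Subgroup Y} (hB : B ∈ U) (hBH : B ≤ H) (hBM : ¬ B ≤ M) :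
    ∃ b ∈ B ⊓ QQ H R, b ∉ MulAut.conj t • QQ H R := by
  by_contra hcon
  push Not at hcon
  have hm := h.cls.mem B hB
  -- `W^t ≤ C_V(B₁) = W + F_B`
  have h1 : t • WW V H R ≤ WW V H R ⊔ fx V B := by
    rw [← fx_eq a h hE hB hBH]
    intro v hv b hb
    rw [mem_smul_as] at hv
    have h2 := hcon b hb
    rw [mem_conj] at h2
    have h3 := QQ_fix a h h2 hv
    rw [mul_smul, mul_smul, smul_inv_smul, inv_smul_eq_iff, smul_inv_smul] at h3
    exact h3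
  set N := WW V H R ⊔ t • WW V H R with hN
  have hNB : ∀ b ∈ B, ∀ v ∈ N, b • v ∈ N := by
    intro b hb v hv
    rw [hN, AddSubgroup.mem_sup] at hv
    obtain ⟨x, hx, y, hy, rfl⟩ := hv
    rw [smul_add]
    refine N.add_mem ((le_sup_left : WW V H R ≤ N) (smul_mem_WW (hBH hb) hx)) ?_
    have h2 := h1 hy
    rw [AddSubgroup.mem_sup] at h2
    obtain ⟨w, hw, f, hf, hwf⟩ := h2
    have h3 : b • y = y + (b • w + w) := by
      rw [← hwf, smul_add, hf b hb]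
      have e : w + f + (b • w + w) = b • w + f + (w + w) := by abel
      rw [e, h.two, add_zero]
    rw [h3]
    refine N.add_mem ((le_sup_right : t • WW V H R ≤ N) hy) ((le_sup_left : WW V H R ≤ N) ?_)
    exact add_mem (smul_mem_WW (hBH hb) hw) hw
  have hNR : ∀ r ∈ R, ∀ v ∈ N, r • v ∈ N := by
    intro r hr v hv
    rw [hN, AddSubgroup.mem_sup] at hv
    obtain ⟨x, hx, y, hy, rfl⟩ := hv
    rw [smul_add]
    refine N.add_mem ((le_sup_left : WW V H R ≤ N) (smul_mem_WW (a.RH hr) hx)) ((le_sup_right : t • WW V H R ≤ N) ?_)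
    rw [mem_smul_as] at hy ⊢
    have h2 := smul_mem_WW (a.RH (a.symm_smul hr)) hy
    rwa [mul_smul, mul_smul, smul_inv_smul] at h2
  have hNt : ∀ v ∈ N, t • v ∈ N := by
    intro v hv
    rw [hN, AddSubgroup.mem_sup] at hv
    obtain ⟨x, hx, y, hy, rfl⟩ := hv
    rw [smul_add, add_comm]
    refine N.add_mem ((le_sup_left : WW V H R ≤ N) ?_) ((le_sup_right : t • WW V H R ≤ N) ?_)
    · rw [mem_smul_as] at hy
      have h2 := smul_mem_WW (a.RH a.t_sq) hy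
      rwa [mul_smul, smul_inv_smul] at h2
    · exact smul_mem_smul_as hx
  have hNH : ∀ x ∈ H, ∀ v ∈ N, x • v ∈ N := by
    let K : Subgroup Y :=
      { carrier := {x | ∀ v ∈ N, x • v ∈ N ∧ x⁻¹ • v ∈ N}
        one_mem' := fun v hv => by rw [inv_one, one_smul]; exact ⟨hv, hv⟩
        mul_mem' := fun {x y} hx hy v hv => by
          rw [mul_inv_rev, mul_smul, mul_smul]
          exact ⟨(hx _ (hy v hv).1).1, (hy _ (hx v hv).2).2⟩
        inv_mem' := fun {x} hx v hv => by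
          rw [inv_inv]
          exact ⟨(hx v hv).2, (hx v hv).1⟩ }
    have h2 : H ≤ K := by
      rw [← a.gen hBH hBM]
      exact sup_le (fun r hr v hv => ⟨hNR r hr v hv, hNR _ (R.inv_mem hr) v hv⟩)
        (fun b hb v hv => ⟨hNB b hb v hv, hNB _ (B.inv_mem hb) v hv⟩)
    exact fun x hx v hv => (h2 hx v hv).1
  rcases no_sub a h hNH hNt with h2 | h2
  · apply WW_ne_bot a h
    rw [eq_bot_iff, ← h2]
    exact le_sup_left
  · obtain ⟨B₀, hB₀, hB₀R⟩ := a.memR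
    exact h2 B₀ hB₀ (sup_le (hE B₀ hB₀ hB₀R) (tW_le_Ee a h hE hB₀ hB₀R))

end Amal

end Cfsg.Agent.Omega.NO1.TH
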