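import Cfsg.Agent.Omega.NO1.TH.Fin
import Cfsg.Agent.Omega.NO1.TH.Star
import Cfsg.Agent.Omega.NO1.TH.Stmt

/-!
# N1, one component: the induction (bb OMEGA 20935, 21423)

`Out` is an arbitrary conclusion for a world; the sockets:
* `SockE` : no bad subgroup;
* `SockA` : an amalgam with `W ≰ E_B` for a member `B ≤ R` : a world for `H` and descent of `Out`;
* `SockOne`, `SockNat`, `SockSym` : `W ≤ E_B` for all members `B ≤ R`; `W / D` natural with `k = 1`, natural with
  `k ≥ 2`, a sum of even-subset modules of `S_{2^m+1}`.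
`out_of_socks` : `Out` for all worlds.
-/

set_option autoImplicit false
set_option linter.unusedSectionVars false

namespace Cfsg.Agent.Omega.NO1.TH

open Subgroup Cfsg.Agent.Omega.NO1.AB Cfsg.Agent.Omega.FFBr
open scoped Pointwise

universe u

/-- the type of conclusions -/
abbrev OutT : Type (u + 1) :=
  ∀ (Y V : Type u) [Group Y] [AddCommGroup V] [DistribMulAction Y V], Set (Subgroup Y) → Sylow 2 Y → Subgroup Y →
    Prop

variable (Out : OutT.{u})

/-- no bad subgroup -/
def SockE : Prop :=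
  ∀ (Y V : Type u) [Group Y] [Finite Y] [AddCommGroup V] [Finite V] [DistribMulAction Y V] (U : Set (Subgroup Y))
    (T : Sylow 2 Y) (M : Subgroup Y) (a : ℕ), World V U T M a → (∃ B, B ∈ U) →
      (∀ X : Subgroup Y, ¬ TH.Bad U M X) → Out Y V U T M

/-- `W ≰ E_B` -/
def SockA : Prop :=
  ∀ (Y V : Type u) [Group Y] [Finite Y] [AddCommGroup V] [Finite V] [DistribMulAction Y V] (U : Set (Subgroup Y))
    (T : Sylow 2 Y) (M : Subgroup Y) (a : ℕ), World V U T M a → ∀ (H R : Subgroup Y) (t : Y), Amal U T M H R t →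
      ∀ B ∈ U, B ≤ R → ¬ WW V H R ≤ Ee V B →
        ∃ (UH : Set (Subgroup H)) (P : Sylow 2 H), World V UH P (M.subgroupOf H) a ∧ (∃ B, B ∈ UH) ∧
          (Out H V UH P (M.subgroupOf H) → Out Y V U T M)

/-- natural, `k = 1` -/
def SockOne : Prop :=
  ∀ (Y V : Type u) [Group Y] [Finite Y] [AddCommGroup V] [Finite V] [DistribMulAction Y V] (U : Set (Subgroup Y))
    (T : Sylow 2 Y) (M : Subgroup Y) (a : ℕ), World V U T M a → ∀ (H R : Subgroup Y) (t : Y), Amal U T M H R t →
      WE V U H R → ∀ (P : Sylow 2 (XH V H R)) (M₁ : Subgroup (XH V H R)), Abs (XH V H R) (Wm V H R) P M₁ →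
        (∀ x : XH V H R, x ∈ P ↔ ∃ r : H, (r : Y) ∈ R ∧ pr V H R r = x) → ANoOver (XH V H R) (Wm V H R) →
          ∀ (F : Type) [Field F] [Finite F] [CharP F 2], AbsNat F (P : Subgroup (XH V H R)) (Wm V H R) 1 →
            Out Y V U T M

/-- natural, `k ≥ 2` -/
def SockNat : Prop :=
  ∀ (Y V : Type u) [Group Y] [Finite Y] [AddCommGroup V] [Finite V] [DistribMulAction Y V] (U : Set (Subgroup Y))
    (T : Sylow 2 Y) (M : Subgroup Y) (a : ℕ), World V U T M a → ∀ (H R : Subgroup Y) (t : Y), Amal U T M H R t →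
      WE V U H R → ∀ (P : Sylow 2 (XH V H R)) (M₁ : Subgroup (XH V H R)), Abs (XH V H R) (Wm V H R) P M₁ →
        (∀ x : XH V H R, x ∈ P ↔ ∃ r : H, (r : Y) ∈ R ∧ pr V H R r = x) → ANoOver (XH V H R) (Wm V H R) →
          ∀ (F : Type) [Field F] [Finite F] [CharP F 2] (k : ℕ), 2 ≤ k →
            AbsNat F (P : Subgroup (XH V H R)) (Wm V H R) k → Out Y V U T M

/-- symmetric groups -/
def SockSym : Prop :=
  ∀ (Y V : Type u) [Group Y] [Finite Y] [AddCommGroup V] [Finite V] [DistribMulAction Y V] (U : Set (Subgroup Y))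
    (T : Sylow 2 Y) (M : Subgroup Y) (a : ℕ), World V U T M a → ∀ (H R : Subgroup Y) (t : Y), Amal U T M H R t →
      WE V U H R → ∀ (P : Sylow 2 (XH V H R)) (M₁ : Subgroup (XH V H R)), Abs (XH V H R) (Wm V H R) P M₁ →
        (∀ x : XH V H R, x ∈ P ↔ ∃ r : H, (r : Y) ∈ R ∧ pr V H R r = x) → ANoOver (XH V H R) (Wm V H R) →
          ∀ (k m : ℕ), 0 < k → 2 ≤ m → AbsSym (P : Subgroup (XH V H R)) (Wm V H R) k m → Out Y V U T M

variable {Out}

/-- **The induction.** -/
theorem out_of_socks (hE : SockE Out) (hA : SockA Out) (h1 : SockOne Out) (hN : SockNat Out) (hS : SockSym Out) :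
    ∀ (n : ℕ) (Y V : Type u) [Group Y] [Finite Y] [AddCommGroup V] [Finite V] [DistribMulAction Y V]
      (U : Set (Subgroup Y)) (T : Sylow 2 Y) (M : Subgroup Y) (a : ℕ), Nat.card Y = n → World V U T M a →
        (∃ B, B ∈ U) → Out Y V U T M := by
  intro n
  induction n using Nat.strong_induction_on with
  | _ n ih =>
    intro Y V _ _ _ _ _ U T M a hn w hU
    by_cases hb : ∃ X : Subgroup Y, TH.Bad U M X
    swap
    · exact hE Y V U T M a w hU fun X hX => hb ⟨X, hX⟩
    obtain ⟨H, R, t, am⟩ := w.toAmb.exists_amal hb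
    by_cases hW : WE V U H R
    swap
    · unfold WE at hW
      push Not at hW
      obtain ⟨B, hB, hBR, hBW⟩ := hW
      obtain ⟨UH, P, wH, hUH, hout⟩ := hA Y V U T M a w H R t am B hB hBR hBW
      apply hout
      refine ih (Nat.card H) ?_ H V UH P (M.subgroupOf H) a rfl wH hUH
      rw [← hn, ← Subgroup.card_top (G := Y)]
      exact Amb.card_lt' (lt_top_iff_ne_top.2 am.bad.ne)
    obtain ⟨P, M₁, hAbs, hP, hno, hC⟩ := am.ff' w.toAmb hW
    rcases hC with ⟨F, _, _, _, k, hk, ⟨N⟩⟩ | ⟨k, m, hk, hm, ⟨N⟩⟩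
    · rcases Nat.lt_or_ge 1 k with h2 | h2
      · exact hN Y V U T M a w H R t am hW P M₁ hAbs hP hno F k h2 N
      · have : k = 1 := by omega
        subst this
        exact h1 Y V U T M a w H R t am hW P M₁ hAbs hP hno F N
    · exact hS Y V U T M a w H R t am hW P M₁ hAbs hP hno k m hk hm N

end Cfsg.Agent.Omega.NO1.TH
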