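import Cfsg.Agent.Omega.NO1.AB.UMin
import Cfsg.Agent.Omega.NO1.AB.Beta
import Cfsg.Agent.PLocal.ConjFunctor

/-!
# N1, BETA: the choice of `H` with `|T_H|` maximal (bb OMEGA 19584 (1), helper874)

`Amb U T M` : `U` a class of members of `Y`, `T` a Sylow 2-subgroup of `Y`, `M` the unique maximal subgroup over
`T`, `O₂(Y) = 1`, `V` irreducible and faithful.
`Amal U T M H R t` : `H < Y` lies in no point, contains a member, `R ∈ Syl₂(H)`, `R < T`, `R` of maximal order,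
`H ∩ M` is the unique maximal subgroup of `H` over `R`, `t ∈ N_T(R) - R`, `t² ∈ R`, `Y = ⟨H, t⟩`.
-/

set_option autoImplicit false
set_option linter.unusedSectionVars false

namespace Cfsg.Agent.Omega.NO1.TH

open Subgroup Cfsg.Agent.Omega.NO1.AB
open scoped Pointwise

universe u

variable {Y : Type u} [Group Y] {V : Type u} [AddCommGroup V] [DistribMulAction Y V]

/-- The module-level setting of CARD N1-ONE (the part which is used here). -/
structure Amb (V : Type u) [AddCommGroup V] [DistribMulAction Y V] (U : Set (Subgroup Y)) (T : Sylow 2 Y)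
    (M : Subgroup Y) : Prop where
  cls : Cls V U
  TM : (T : Subgroup Y) ≤ M
  Mne : M ≠ ⊤
  max : ∀ K : Subgroup Y, (T : Subgroup Y) ≤ K → K ≠ ⊤ → K ≤ M
  core : ∀ N : Subgroup Y, N.Normal → IsPGroup 2 N → N = ⊥
  /-- no invariant submodule `≠ 0` in `E_B` (weak irreducibility, inherited by the `H` with `W ≰ E_B`, #21227) -/
  irr : ∀ W : AddSubgroup V, (∀ y : Y, ∀ w ∈ W, y • w ∈ W) → W = ⊥ ∨ ∀ B ∈ U, ¬ W ≤ Ee V B
  faith : ∀ y : Y, (∀ v : V, y • v = v) → y = 1

/-- `H` contains a member and lies in no point. -/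
structure Bad (U : Set (Subgroup Y)) (M H : Subgroup Y) : Prop where
  ne : H ≠ ⊤
  mem : ∃ B ∈ U, B ≤ H
  not_le : ∀ y : Y, ¬ H ≤ MulAut.conj y • M

/-- The output of the choice. -/
structure Amal (U : Set (Subgroup Y)) (T : Sylow 2 Y) (M H R : Subgroup Y) (t : Y) : Prop where
  bad : Bad U M H
  RH : R ≤ H
  RT : R ≤ (T : Subgroup Y)
  memR : ∃ B ∈ U, B ≤ R
  /-- `|R|` is maximal -/
  le_card : ∀ X : Subgroup Y, Bad U M X → ∀ R' ≤ X, IsPGroup 2 R' → Nat.card R' ≤ Nat.card R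
  /-- a 2-group with a member of order `≥ |R|` lies in one point only -/
  one : ∀ R' : Subgroup Y, IsPGroup 2 R' → (∃ B ∈ U, B ≤ R') → Nat.card R ≤ Nat.card R' →
    ∀ x y : Y, R' ≤ MulAut.conj x • M → R' ≤ MulAut.conj y • M → MulAut.conj x • M = MulAut.conj y • M
  uniq : ∀ X : Subgroup Y, R ≤ X → X < H → X ≤ M
  t_T : t ∈ T
  t_not : t ∉ R
  t_sq : t * t ∈ R
  t_norm : ∀ r ∈ R, t * r * t⁻¹ ∈ R
  top : H ⊔ zpowers t = ⊤

theorem Mem.ne_bot {A : Subgroup Y} {E F : AddSubgroup V} (h : Mem A E F) : A ≠ ⊥ := by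
  rintro rfl
  obtain ⟨v, hv⟩ := h.ne
  apply hv
  apply h.FE
  apply h.CB
  intro b hb
  rw [mem_bot] at hb
  rw [hb, one_smul]

theorem conj_card (y : Y) (H : Subgroup Y) : Nat.card ↥(MulAut.conj y • H) = Nat.card H :=
  (Nat.card_congr (Subgroup.equivSMul (MulAut.conj y) H).toEquiv).symm

theorem conj_inv_smul (y : Y) (H : Subgroup Y) : MulAut.conj y • MulAut.conj y⁻¹ • H = H := by
  rw [conj_smul_smul, mul_inv_cancel, map_one, one_smul]

theorem conj_inv_smul' (y : Y) (H : Subgroup Y) : MulAut.conj y⁻¹ • MulAut.conj y • H = H := by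
  rw [conj_smul_smul, inv_mul_cancel, map_one, one_smul]

theorem conj_isPGroup {y : Y} {H : Subgroup Y} (h : IsPGroup 2 H) : IsPGroup 2 ↥(MulAut.conj y • H) :=
  h.of_equiv (Subgroup.equivSMul (MulAut.conj y) H)

theorem conj_normal {y : Y} {H : Subgroup Y} (h : (MulAut.conj y • H).Normal) : H.Normal := by
  refine ⟨fun n hn g => ?_⟩
  have h1 := h.conj_mem _ (conj_mem_conj (g := y) hn) (y * g * y⁻¹)
  rw [mem_conj] at h1
  have e : y⁻¹ * (y * g * y⁻¹ * (y * n * y⁻¹) * (y * g * y⁻¹)⁻¹) * y = g * n * g⁻¹ := by group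
  rwa [e] at h1

theorem mem_of_bad {U : Set (Subgroup Y)} (hc : Cls V U) {R : Subgroup Y} (hR : ∃ B ∈ U, B ≤ R) : R ≠ ⊥ := by
  rintro rfl
  obtain ⟨B, hB, hle⟩ := hR
  exact Mem.ne_bot (hc.mem B hB) (le_bot_iff.1 hle)

theorem exists_conj_mem {U : Set (Subgroup Y)} (hc : Cls V U) {X : Subgroup Y} (hX : ∃ B ∈ U, B ≤ X) (y : Y) :
    ∃ B ∈ U, B ≤ MulAut.conj y • X := by
  obtain ⟨B, hB, hle⟩ := hX
  exact ⟨_, hc.conj B hB y, conj_le_conj y hle⟩

theorem Bad.conj {U : Set (Subgroup Y)} {M H : Subgroup Y} (hc : Cls V U) (h : Bad U M H) (y : Y) :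
    Bad U M (MulAut.conj y • H) where
  ne := fun h1 => h.ne (conj_eq_top h1)
  mem := exists_conj_mem hc h.mem y
  not_le := fun x hx => by
    rw [conj_le_iff, conj_smul_smul] at hx
    exact h.not_le _ hx

namespace Amb

variable {U : Set (Subgroup Y)} {T : Sylow 2 Y} {M : Subgroup Y} (h : Amb V U T M)
include h

theorem two (v : V) : v + v = 0 := h.cls.two v

/-- an invariant submodule in `E_B` is zero -/
theorem irr_of {W : AddSubgroup V} (hW : ∀ y : Y, ∀ w ∈ W, y • w ∈ W) {B : Subgroup Y} (hB : B ∈ U)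
    (hWE : W ≤ Ee V B) : W = ⊥ := by
  rcases h.irr W hW with h1 | h1
  · exact h1
  · exact absurd hWE (h1 B hB)

/-- `C_V(Y) = 0` -/
theorem fx_top_of {B : Subgroup Y} (hB : B ∈ U) : fx V (⊤ : Subgroup Y) = ⊥ := by
  apply h.irr_of _ hB
  · intro v hv
    exact (h.cls.mem B hB).FE fun b _ => hv b (mem_top b)
  · intro y w hw x _
    rw [hw y (mem_top y)]
    exact hw x (mem_top x)

theorem conj_ne (y : Y) : MulAut.conj y • M ≠ ⊤ := fun h1 => h.Mne (conj_eq_top h1)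

/-- a Sylow 2-subgroup lies in one point -/
theorem sylow_one [Finite Y] {x y z : Y} (h1 : MulAut.conj x • (T : Subgroup Y) ≤ MulAut.conj y • M)
    (h2 : MulAut.conj x • (T : Subgroup Y) ≤ MulAut.conj z • M) : MulAut.conj y • M = MulAut.conj z • M := by
  have key : ∀ w : Y, MulAut.conj x • (T : Subgroup Y) ≤ MulAut.conj w • M →
      MulAut.conj w • M = MulAut.conj x • M := by
    intro w hw
    rw [conj_le_iff] at hw
    have h3 := h.max _ hw (by rw [conj_smul_smul]; exact h.conj_ne _)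
    rw [conj_smul_smul] at h3
    have h4 : MulAut.conj (x⁻¹ * w) • M = M := by
      apply eq_of_le_of_card_ge h3
      rw [conj_card]
    have e : w = x * (x⁻¹ * w) := by group
    rw [e, ← conj_smul_smul, h4]
  rw [key y h1, key z h2]

/-- a 2-subgroup of a point lies in a Sylow 2-subgroup of the point -/
theorem exists_sylow [Finite Y] {R : Subgroup Y} (hR : IsPGroup 2 R) {x : Y} (hx : R ≤ MulAut.conj x • M) :
    ∃ k : Y, R ≤ MulAut.conj k • (T : Subgroup Y) ∧ MulAut.conj k • (T : Subgroup Y) ≤ MulAut.conj x • M := by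
  have h1 : MulAut.conj x⁻¹ • R ≤ M := by
    rw [conj_le_iff, inv_inv]; exact hx
  obtain ⟨k, hk, hkR⟩ := sylow_conj T h.TM (conj_isPGroup (y := x⁻¹) hR) h1
  refine ⟨x * k, ?_, ?_⟩
  · intro r hr
    rw [mem_conj]
    have h2 := hkR _ (conj_mem_conj (g := x⁻¹) hr)
    have e : (x * k)⁻¹ * r * (x * k) = k⁻¹ * (x⁻¹ * r * x⁻¹⁻¹) * k := by group
    rw [e]
    exact h2
  · rw [← conj_smul_smul]
    apply conj_le_conj
    intro y hy
    rw [mem_conj] at hy
    have h2 := M.mul_mem (M.mul_mem hk (h.TM hy)) (M.inv_mem hk)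
    have e : k * (k⁻¹ * y * k) * k⁻¹ = y := by group
    rwa [e] at h2

omit h in
theorem lt_norm [Finite Y] {R S : Subgroup Y} (hS : IsPGroup 2 S) (hRS : R < S) :
    R < S ⊓ normalizer (R : Set Y) :=
  haveI : Fact (Nat.Prime 2) := ⟨Nat.prime_two⟩
  Cfsg.Agent.PLocal.ConjFunctor.lt_inf_normalizer hS hRS

omit h in
theorem card_lt' [Finite Y] {R S : Subgroup Y} (h1 : R < S) : Nat.card R < Nat.card S := by
  by_contra h2
  exact h1.ne (eq_of_le_of_card_ge h1.le (not_lt.1 h2))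

/-- **(a)** -/
theorem one_of_max [Finite Y] {n : ℕ}
    (hmax : ∀ X : Subgroup Y, Bad U M X → ∀ R' ≤ X, IsPGroup 2 R' → Nat.card R' ≤ n) :
    ∀ (k : ℕ) (R : Subgroup Y), Nat.card Y - Nat.card R = k → IsPGroup 2 R → (∃ B ∈ U, B ≤ R) →
      n ≤ Nat.card R → ∀ x y : Y, R ≤ MulAut.conj x • M → R ≤ MulAut.conj y • M →
        MulAut.conj x • M = MulAut.conj y • M := by
  intro k
  induction k using Nat.strong_induction_on with
  | _ k ih =>
    intro R hk hR hm hn x y hx hy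
    by_contra hne
    have step : ∀ a b : Y, R ≤ MulAut.conj a • M → R ≤ MulAut.conj b • M →
        MulAut.conj a • M ≠ MulAut.conj b • M → ∃ S : Subgroup Y, R < S ∧ S ≤ normalizer (R : Set Y) ∧
          IsPGroup 2 S ∧ S ≤ MulAut.conj a • M := by
      intro a b ha hb hab
      obtain ⟨g, hg1, hg2⟩ := h.exists_sylow hR ha
      have hlt : R < MulAut.conj g • (T : Subgroup Y) := by
        refine lt_of_le_of_ne hg1 ?_
        intro h1
        exact hab (h.sylow_one hg2 (by rw [← h1]; exact hb))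
      have hT2 : IsPGroup 2 ↥(MulAut.conj g • (T : Subgroup Y)) := conj_isPGroup T.2
      exact ⟨_, lt_norm hT2 hlt, inf_le_right, hT2.to_le inf_le_left, inf_le_left.trans hg2⟩
    obtain ⟨S1, hS1, hS1N, hS1p, hS1M⟩ := step x y hx hy hne
    obtain ⟨S2, hS2, hS2N, hS2p, hS2M⟩ := step y x hy hx (Ne.symm hne)
    have hle : ∀ S : Subgroup Y, Nat.card S ≤ Nat.card Y := fun S =>
      Nat.le_of_dvd Nat.card_pos S.card_subgroup_dvd_card
    have hbad : Bad U M (normalizer (R : Set Y)) := by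
      refine ⟨?_, ?_, ?_⟩
      · intro h1
        have h2 : R.Normal := normalizer_eq_top_iff.1 h1
        exact mem_of_bad h.cls hm (h.core R h2 hR)
      · obtain ⟨B, hB, hBR⟩ := hm
        exact ⟨B, hB, hBR.trans le_normalizer⟩
      · intro z hz
        have key : ∀ S : Subgroup Y, R < S → S ≤ normalizer (R : Set Y) → IsPGroup 2 S → ∀ a : Y,
            S ≤ MulAut.conj a • M → MulAut.conj a • M = MulAut.conj z • M := by
          intro S hS hSN hSp a hSM
          have h1 := card_lt' hS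
          have h2 := hle S
          obtain ⟨B, hB, hBR⟩ := hm
          exact ih (Nat.card Y - Nat.card S) (by omega) S rfl hSp ⟨B, hB, hBR.trans hS.le⟩
            (hn.trans h1.le) a z hSM (hSN.trans hz)
        exact hne ((key S1 hS1 hS1N hS1p x hS1M).trans (key S2 hS2 hS2N hS2p y hS2M).symm)
    have h1 := hmax _ hbad S1 hS1N hS1p
    have h2 := card_lt' hS1
    omega

end Amb

/-- a 2-subgroup is conjugate into a 2-subgroup of maximal order -/
theorem conj_into [Finite Y] {X R B : Subgroup Y} (hRX : R ≤ X) (hR : IsPGroup 2 R)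
    (hmax : ∀ R' ≤ X, IsPGroup 2 R' → Nat.card R' ≤ Nat.card R) (hBX : B ≤ X) (hB : IsPGroup 2 B) :
    ∃ x ∈ X, MulAut.conj x • B ≤ R := by
  have : Fact (Nat.Prime 2) := ⟨Nat.prime_two⟩
  obtain ⟨Q, hQ⟩ := (hR.comap_of_injective X.subtype X.subtype_injective).exists_le_sylow
  obtain ⟨P, hP⟩ := (hB.comap_of_injective X.subtype X.subtype_injective).exists_le_sylow
  have h1 : R = (Q : Subgroup X).map X.subtype := by
    apply eq_of_le_of_card_ge
    · intro r hr
      exact ⟨⟨r, hRX hr⟩, hQ (by rw [mem_comap]; exact hr), rfl⟩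
    · exact hmax _ (map_subtype_le _) (Q.2.map _)
  obtain ⟨x, hx⟩ := MulAction.exists_smul_eq X P Q
  refine ⟨x, x.2, ?_⟩
  intro b hb
  rw [mem_conj] at hb
  have h2 : (⟨(x : Y)⁻¹ * b * x, hBX hb⟩ : X) ∈ P := hP (by rw [mem_comap]; exact hb)
  have h3 : x * (⟨(x : Y)⁻¹ * b * x, hBX hb⟩ : X) * x⁻¹ ∈ Q := by
    rw [← hx]
    exact Subgroup.smul_mem_pointwise_smul _ (MulAut.conj x) _ h2
  rw [h1]
  refine ⟨_, h3, ?_⟩
  change (x : Y) * ((x : Y)⁻¹ * b * x) * (x : Y)⁻¹ = b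
  group

/-- **(1), (a), (b)**: the choice. -/
theorem Amb.exists_amal [Finite Y] {U : Set (Subgroup Y)} {T : Sylow 2 Y} {M : Subgroup Y} (h : Amb V U T M)
    (hbad : ∃ X, Bad U M X) : ∃ (H R : Subgroup Y) (t : Y), Amal U T M H R t := by
  classical
  have : Fact (Nat.Prime 2) := ⟨Nat.prime_two⟩
  -- `|R|` maximal
  obtain ⟨⟨X0, R0⟩, ⟨hX0, hR0X, hR0⟩, hmax0⟩ := Set.exists_max_image
    {p : Subgroup Y × Subgroup Y | Bad U M p.1 ∧ p.2 ≤ p.1 ∧ IsPGroup 2 p.2} (fun p => Nat.card p.2)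
    (Set.toFinite _) (by
      obtain ⟨X, hX⟩ := hbad
      exact ⟨(X, ⊥), hX, bot_le, IsPGroup.of_bot⟩)
  have hmax : ∀ X : Subgroup Y, Bad U M X → ∀ R' ≤ X, IsPGroup 2 R' → Nat.card R' ≤ Nat.card R0 :=
    fun X hX R' hR'X hR' => hmax0 (X, R') ⟨hX, hR'X, hR'⟩
  -- a member in `R0`
  have hm0 : ∃ B ∈ U, B ≤ R0 := by
    obtain ⟨B, hB, hBX⟩ := hX0.mem
    obtain ⟨x, _, hx⟩ := conj_into hR0X hR0 (hmax X0 hX0) hBX (h.cls.mem B hB).isPGroup
    exact ⟨_, h.cls.conj B hB x, hx⟩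
  -- conjugate into `T`
  obtain ⟨y, hy⟩ : ∃ y : Y, MulAut.conj y • R0 ≤ (T : Subgroup Y) := by
    obtain ⟨k, _, hk⟩ := sylow_conj T (K := ⊤) le_top hR0 le_top
    refine ⟨k⁻¹, fun r hr => ?_⟩
    rw [mem_conj] at hr
    have := hk _ hr
    have e : k⁻¹ * (k⁻¹⁻¹ * r * k⁻¹) * k = r := by group
    rwa [e] at this
  set R := MulAut.conj y • R0 with hRdef
  have hR : IsPGroup 2 R := conj_isPGroup hR0
  have hcard : Nat.card R = Nat.card R0 := conj_card y R0
  have hmR : ∃ B ∈ U, B ≤ R := exists_conj_mem h.cls hm0 y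
  rw [← hcard] at hmax
  have hone := fun R' h1 h2 h3 => h.one_of_max hmax _ R' rfl h1 h2 h3
  -- `H` minimal
  obtain ⟨H, ⟨hH, hRH⟩, hmin⟩ := Set.exists_min_image {X : Subgroup Y | Bad U M X ∧ R ≤ X}
    (fun X => Nat.card X) (Set.toFinite _) ⟨_, hX0.conj h.cls y, conj_le_conj y hR0X⟩
  have huniq : ∀ X : Subgroup Y, R ≤ X → X < H → X ≤ M := by
    intro X hRX hXH
    by_contra hXM
    have h1 : Bad U M X := by
      refine ⟨fun h2 => ?_, ?_, fun z hz => ?_⟩
      · rw [h2] at hXH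
        exact not_top_lt hXH
      · obtain ⟨B, hB, hBR⟩ := hmR
        exact ⟨B, hB, hBR.trans hRX⟩
      · have h2 := hone R hR hmR le_rfl z 1 (hRX.trans hz) (by rw [map_one, one_smul]; exact hy.trans h.TM)
        rw [h2, map_one, one_smul] at hz
        exact hXM hz
    have h2 := hmin X ⟨h1, hRX⟩
    have h3 := Amb.card_lt' hXH
    omega
  have hRT : R < (T : Subgroup Y) := by
    refine lt_of_le_of_ne hy fun h1 => ?_
    have h2 := h.max H (by rw [← h1]; exact hRH) hH.ne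
    exact hH.not_le 1 (by rw [map_one, one_smul]; exact h2)
  -- `t`
  obtain ⟨t, ht1, ht2, ht3, ht4⟩ : ∃ t ∈ T, t ∈ normalizer (R : Set Y) ∧ t ∉ R ∧ t * t ∈ R := by
    obtain ⟨y, hy, hyD⟩ := SetLike.exists_of_lt (Amb.lt_norm T.2 hRT)
    obtain ⟨n, hn⟩ := T.2 ⟨y, hy.1⟩
    have hn' : y ^ 2 ^ n = 1 := by
      have := congrArg Subtype.val hn
      simpa using this
    have hex : ∃ n, y ^ 2 ^ n ∈ R := ⟨n, by rw [hn']; exact one_mem _⟩
    have h1 := Nat.find_spec hex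
    have h0 : Nat.find hex ≠ 0 := by
      intro h0
      rw [h0, pow_zero, pow_one] at h1
      exact hyD h1
    obtain ⟨k, hk⟩ := Nat.exists_eq_succ_of_ne_zero h0
    have h2 := Nat.find_min hex (m := k) (by omega)
    rw [hk] at h1
    refine ⟨y ^ 2 ^ k, pow_mem hy.1 _, pow_mem hy.2 _, h2, ?_⟩
    have e : y ^ 2 ^ k * y ^ 2 ^ k = y ^ 2 ^ (k + 1) := by
      rw [← pow_add, pow_succ, mul_two]
    rw [e]
    exact h1
  refine ⟨H, R, t, hH, hRH, hy, hmR, hmax, hone, huniq, ht1, ht3, ht4,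
    fun r hr => (mem_normalizer_iff.1 ht2 r).1 hr, ?_⟩
  by_contra htop
  have h1 : Bad U M (H ⊔ zpowers t) :=
    { ne := htop
      mem := by
        obtain ⟨B, hB, hBH⟩ := hH.mem
        exact ⟨B, hB, hBH.trans le_sup_left⟩
      not_le := fun z hz => hH.not_le z (le_sup_left.trans hz) }
  have h2 : R ⊔ zpowers t ≤ (T : Subgroup Y) := sup_le hRT.le (zpowers_le.2 ht1)
  have h3 := hmax _ h1 (R ⊔ zpowers t) (sup_le (hRH.trans le_sup_left) le_sup_right) (T.2.to_le h2)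
  have h4 : R < R ⊔ zpowers t := by
    refine lt_of_le_of_ne le_sup_left fun h5 => ht3 ?_
    rw [h5]
    exact mem_sup_right (mem_zpowers t)
  have h5 := Amb.card_lt' h4
  omega

end Cfsg.Agent.Omega.NO1.TH
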