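import Cfsg.Agent.Omega.NO1.TH.ATwo

/-!
# N1, `a = 2`: LEMMA D8 (bb OMEGA 21333, helper496; asked in 21069)

`|V : E_B| = 2`, `|B| = |F_B| = 4`, no offender.  `t` a 2-element normalising `B`, not centralising `B` and `F_B`,
`t² ∈ B`.  Then `B⟨t⟩ = D₈` is a Sylow 2-subgroup: every 2-group `T ≥ B⟨t⟩` is equal to `B⟨t⟩`.
-/

set_option autoImplicit false
set_option linter.unusedSectionVars false

namespace Cfsg.Agent.Omega.NO1.TH.DEight

open Subgroup Cfsg.Agent.Omega.NO1.AB
open scoped Pointwise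

universe u

variable {Y : Type u} [Group Y] {V : Type u} [AddCommGroup V] [DistribMulAction Y V]

/-- `[v, g]` -/
def dd (g : Y) (v : V) : V := g • v + v

section Calc

theorem dd_add (g : Y) (v w : V) : dd g (v + w) = dd g v + dd g w := by
  unfold dd; rw [smul_add]; abel

theorem dd_zero (g : Y) : dd g (0 : V) = 0 := by
  unfold dd; rw [smul_zero, add_zero]

theorem eq_of_add {two : ∀ v : V, v + v = 0} {x y : V} (h : x + y = 0) : x = y := by
  have e : x = x + y + y := by rw [add_assoc, two, add_zero]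
  rw [e, h, zero_add]

theorem dd_one (two : ∀ v : V, v + v = 0) (v : V) : dd (1 : Y) v = 0 := by
  unfold dd; rw [one_smul, two]

theorem dd_mul (two : ∀ v : V, v + v = 0) (g h : Y) (v : V) :
    dd (g * h) v = dd g v + dd h v + dd g (dd h v) := by
  unfold dd
  rw [mul_smul, smul_add]
  have e : g • v + v + (h • v + v) + (g • h • v + g • v + (h • v + v)) =
      g • h • v + v + (g • v + g • v) + (h • v + h • v) + (v + v) := by abel
  rw [e, two, two, two]; abel

theorem dd_sq (two : ∀ v : V, v + v = 0) {g : Y} (h : g * g = 1) (v : V) : dd g (dd g v) = 0 := by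
  have h1 := dd_mul two g g v
  rw [h, dd_one two, two, zero_add] at h1
  exact h1.symm

theorem dd_comm (two : ∀ v : V, v + v = 0) {g h : Y} (e : g * h = h * g) (v : V) :
    dd g (dd h v) = dd h (dd g v) := by
  have h1 := dd_mul two g h v
  have h2 := dd_mul two h g v
  rw [e, h2] at h1
  have h3 : dd h v + dd g v + dd h (dd g v) = dd h v + dd g v + dd g (dd h v) := by
    rw [h1]; abel
  exact (add_left_cancel h3).symm

theorem smul_dd (g x : Y) (v : V) : g • dd x v = dd (g * x * g⁻¹) (g • v) := by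
  unfold dd
  rw [smul_add, ← mul_smul, ← mul_smul]
  congr 2
  group

theorem dd_eq_zero (two : ∀ v : V, v + v = 0) {g : Y} {v : V} : dd g v = 0 ↔ g • v = v := by
  unfold dd
  constructor
  · intro h; exact eq_of_add (two := two) h
  · intro h; rw [h, two]

theorem smul_eq (two : ∀ v : V, v + v = 0) (g : Y) (v : V) : g • v = v + dd g v := by
  unfold dd
  have e : v + (g • v + v) = g • v + (v + v) := by abel
  rw [e, two, add_zero]

end Calc

/-- A flat member of order 4: `B = {1, b, c, bc}`, `|V : E| = 2`, `|F| = 4`. -/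
structure Sq (B : Subgroup Y) (b c : Y) (E F : AddSubgroup V) : Prop where
  two : ∀ v : V, v + v = 0
  mem : Mem B E F
  hb : b ∈ B
  hc : c ∈ B
  b1 : b ≠ 1
  c1 : c ≠ 1
  bc : b ≠ c
  all : ∀ x ∈ B, x = 1 ∨ x = b ∨ x = c ∨ x = b * c
  ind : ∀ x y : V, x ∉ E → y ∉ E → x + y ∈ E

namespace Sq

variable {B : Subgroup Y} {b c : Y} {E F : AddSubgroup V} (h : Sq B b c E F)
include h

theorem comm : b * c = c * b := h.mem.comm b h.hb c h.hc

theorem z_ne : b * c ≠ 1 := by
  intro h1
  apply h.bc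
  have h2 := h.mem.sq c h.hc
  exact mul_right_cancel (h1.trans h2.symm)

theorem fix {x : Y} (hx : x ∈ B) {f : V} (hf : f ∈ F) : dd x f = 0 :=
  (dd_eq_zero h.two).2 (h.mem.FB x hx f hf)

theorem dd_memE {x : Y} (hx : x ∈ B) (v : V) : dd x v ∈ E := h.mem.VB x hx v

theorem dd_memF {x : Y} (hx : x ∈ B) {e : V} (he : e ∈ E) : dd x e ∈ F := h.mem.EB x hx e he

theorem not_memF {x : Y} (hx : x ∈ B) (hx1 : x ≠ 1) {v : V} (hv : v ∉ E) : dd x v ∉ F := fun h1 =>
  hx1 (h.mem.inj v hv x hx h1)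

theorem bb (v : V) : dd b (dd b v) = 0 := dd_sq h.two (h.mem.sq b h.hb) v
theorem cc (v : V) : dd c (dd c v) = 0 := dd_sq h.two (h.mem.sq c h.hc) v

variable {v i : V} (hi : dd c (dd b v) = i)
include hi

theorem bc_i : dd b (dd c v) = i := by rw [dd_comm h.two h.comm, hi]

theorem i_mem : i ∈ F := by rw [← hi]; exact h.dd_memF h.hc (h.dd_memE h.hb v)

theorem fixi {x : Y} (hx : x ∈ B) : dd x i = 0 := h.fix hx (h.i_mem hi)

theorem z_eq : dd (b * c) v = dd b v + dd c v + i := by
  rw [dd_mul h.two, h.bc_i hi]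

/-- all `dd x (dd y v)` are `0` or `i` -/
theorem pair {x y : Y} (hx : x ∈ B) (hy : y ∈ B) : dd x (dd y v) = 0 ∨ dd x (dd y v) = i := by
  have hz : ∀ y ∈ B, (dd b (dd y v) = 0 ∨ dd b (dd y v) = i) ∧ (dd c (dd y v) = 0 ∨ dd c (dd y v) = i) := by
    intro y hy
    rcases h.all y hy with rfl | rfl | rfl | rfl
    · rw [dd_one h.two, dd_zero, dd_zero]; exact ⟨Or.inl rfl, Or.inl rfl⟩
    · exact ⟨Or.inl (h.bb v), Or.inr hi⟩
    · exact ⟨Or.inr (h.bc_i hi), Or.inl (h.cc v)⟩
    · rw [h.z_eq hi, dd_add, dd_add, dd_add, dd_add, h.bb, h.cc, hi, h.bc_i hi, h.fixi hi h.hb, h.fixi hi h.hc]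
      simp
  rcases h.all x hx with rfl | rfl | rfl | rfl
  · left; rw [dd_one h.two]
  · exact (hz y hy).1
  · exact (hz y hy).2
  · rw [dd_mul h.two]
    have h3 : dd b (dd c (dd y v)) = 0 := by
      rcases (hz y hy).2 with h4 | h4
      · rw [h4, dd_zero]
      · rw [h4, h.fixi hi h.hb]
    rw [h3, add_zero]
    rcases (hz y hy).1 with h4 | h4 <;> rcases (hz y hy).2 with h5 | h5 <;> rw [h4, h5]
    · left; simp
    · right; simp
    · right; simp
    · left; exact h.two i

/-- the line: `[E, B] ≤ {0, i}` -/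
theorem line (hv : v ∉ E) {x : Y} (hx : x ∈ B) {e : V} (he : e ∈ E) : dd x e = 0 ∨ dd x e = i := by
  obtain ⟨y, hy, hf⟩ := h.mem.surj v hv e he
  have h1 : dd y v + e ∈ F := hf
  have h2 : e = dd y v + (dd y v + e) := by rw [← add_assoc, h.two, zero_add]
  rw [h2, dd_add, h.fix hx h1, add_zero]
  exact h.pair hi hx hy

theorem i_ne (hv : v ∉ E) : i ≠ 0 := by
  intro h0
  apply h.not_memF h.hb h.b1 hv
  apply h.mem.CB
  intro x hx
  rw [← dd_eq_zero h.two]
  rcases h.all x hx with rfl | rfl | rfl | rfl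
  · exact dd_one h.two _
  · exact h.bb v
  · rw [hi, h0]
  · rw [dd_mul h.two, h.bb, hi, h0, dd_zero]; simp

/-- an element swapping `b` and `c` fixes `i` -/
theorem swap_i (hv : v ∉ E) {s : Y} (hsb : s * b * s⁻¹ = c) (hsc : s * c * s⁻¹ = b) (hs : s • v ∉ E) :
    dd s i = 0 := by
  rw [dd_eq_zero h.two]
  have h1 : v + s • v ∈ E := h.ind v _ hv hs
  have h2 : s • v = v + (v + s • v) := by rw [← add_assoc, h.two, zero_add]
  have h3 : s • i = dd b (dd c (s • v)) := by
    rw [← hi, smul_dd, smul_dd, hsb, hsc]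
  rw [h3, h2, dd_add, dd_add, h.bc_i hi, h.fix h.hb (h.dd_memF h.hc h1), add_zero]

end Sq

/-- **(ii)** the two four-groups of `D₈` are not both flat. -/
theorem twoFour {B B' : Subgroup Y} {b c s : Y} {E F E' F' : AddSubgroup V} (h : Sq B b c E F)
    (h' : Sq B' (b * c) s E' F') (hs2 : s * s = 1) (hsb : s * b * s⁻¹ = c)
    (hsE : ∀ v ∉ E, s • v ∉ E) (hbE : ∀ v ∉ E', b • v ∉ E')
    (hF : ∀ i : V, i ∈ F → i ≠ 0 → dd s i = 0 → ∀ f ∈ F, dd s f = 0 → f = 0 ∨ f = i) : False := by
  have two := h.two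
  have b2 := h.mem.sq b h.hb
  have c2 := h.mem.sq c h.hc
  have hsi : s⁻¹ = s := inv_eq_of_mul_eq_one_left hs2
  have hbi : b⁻¹ = b := inv_eq_of_mul_eq_one_left b2
  have hsc : s * c * s⁻¹ = b := by
    rw [← hsb, hsi]
    have e : s * (s * b * s) * s = (s * s) * b * (s * s) := by group
    rw [e, hs2, one_mul, mul_one]
  have hcom := h.comm
  -- `b s b⁻¹ = z s`
  have hbs : b * s = s * c := by
    have : s * c = b * s := by rw [← hsc, hsi]; have e : s * c * s * s = s * c * (s * s) := by group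
                               rw [e, hs2, mul_one]
    exact this.symm
  have hbs' : b * s * b⁻¹ = b * c * s := by
    rw [hbi, hbs]
    have e1 : s * b = c * s := by
      rw [← hsb, hsi]; have e : s * b * s * s = s * b * (s * s) := by group
      rw [e, hs2, mul_one]
    rw [mul_assoc, ← hcom, ← mul_assoc, e1, mul_assoc, ← hbs, ← mul_assoc, ← hcom]
  obtain ⟨v, hv⟩ := h.mem.ne
  obtain ⟨v', hv'⟩ := h'.mem.ne
  obtain ⟨i, hi⟩ : ∃ i, dd c (dd b v) = i := ⟨_, rfl⟩
  have hi0 := h.i_ne hi hv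
  have hiF := h.i_mem hi
  have hsi0 : dd s i = 0 := h.swap_i hi hv hsb hsc (hsE v hv)
  have hiF' : i ∈ F' := by
    apply h'.mem.CB
    intro x hx
    rw [← dd_eq_zero two]
    have hz : dd (b * c) i = 0 := h.fixi hi (B.mul_mem h.hb h.hc)
    rcases h'.all x hx with rfl | rfl | rfl | rfl
    · exact dd_one two _
    · exact hz
    · exact hsi0
    · rw [dd_mul two, hz, hsi0, dd_zero]; simp
  -- F ∩ F'
  have hFF : ∀ y ∈ F, y ∈ F' → y = 0 ∨ y = i := fun y hy hy' =>
    hF i hiF hi0 hsi0 y hy (h'.fix h'.hc hy')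
  -- **L1**
  have L1 : ∀ x ∉ E', dd s (dd (b * c) x) = i := by
    intro x hx
    obtain ⟨y, hy⟩ : ∃ y, dd s (dd (b * c) x) = y := ⟨_, rfl⟩
    have hyF' : y ∈ F' := h'.i_mem hy
    have hy0 : y ≠ 0 := h'.i_ne hy hx
    have hby : dd b y = 0 := by
      rw [dd_eq_zero two]
      have h1 : x + b • x ∈ E' := h'.ind x _ hx (hbE x hx)
      have h2 : b • x = x + (x + b • x) := by rw [← add_assoc, two, zero_add]
      have h3 : b • y = dd (b * c * s) (dd (b * c) (b • x)) := by
        rw [← hy, smul_dd, smul_dd, hbs']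
        congr 2
        rw [hcom]; group; exact hcom
      rw [h3, h2, dd_add, dd_add, h'.fix (B'.mul_mem h'.hb h'.hc) (h'.dd_memF h'.hb h1), add_zero,
        dd_mul two, h'.bb, hy, h'.fixi hy h'.hb]
      simp
    have hyF : y ∈ F := by
      apply h.mem.CB
      intro x hx
      rw [← dd_eq_zero two]
      have hzy : dd (b * c) y = 0 := h'.fixi hy h'.hb
      have hcy : dd c y = 0 := by
        have e : c = b * (b * c) := by rw [← mul_assoc, b2, one_mul]
        rw [e, dd_mul two, hby, hzy, dd_zero]; simp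
      rcases h.all x hx with rfl | rfl | rfl | rfl
      · exact dd_one two _
      · exact hby
      · exact hcy
      · exact hzy
    rw [hy]
    exact (hFF y hyF hyF').resolve_left hy0
  have hzB : b * c ∈ B := B.mul_mem h.hb h.hc
  -- `E' ≤ E`, `E ≤ E'`
  have hE1 : ∀ x ∈ E', x ∈ E := by
    intro x hx
    by_contra hxE
    apply h.not_memF hzB h.z_ne hxE
    rcases h'.line (L1 v' hv') hv' h'.hb hx with h1 | h1
    · rw [h1]; exact F.zero_mem
    · rw [h1]; exact hiF
  have hE2 : ∀ x ∈ E, x ∈ E' := by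
    intro x hx
    by_contra hxE
    apply h'.not_memF h'.hb h'.b1 hxE
    rcases h.line hi hv hzB hx with h1 | h1
    · rw [h1]; exact F'.zero_mem
    · rw [h1]; exact hiF'
  have hv2 : v ∉ E' := fun h1 => hv (hE1 v h1)
  have hL := L1 v hv2
  -- the computation
  obtain ⟨eb, heb⟩ : ∃ x, dd b v = x := ⟨_, rfl⟩
  obtain ⟨ec, hec⟩ : ∃ x, dd c v = x := ⟨_, rfl⟩
  obtain ⟨et, het⟩ : ∃ x, dd s v = x := ⟨_, rfl⟩
  obtain ⟨C, hC⟩ : ∃ x, dd (b * c) v = x := ⟨_, rfl⟩
  have hCe : C = eb + ec + i := by rw [← hC, h.z_eq hi, heb, hec]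
  have hebE : eb ∈ E := heb ▸ h.dd_memE h.hb v
  have hetE : et ∈ E := hE1 _ (het ▸ h'.dd_memE h'.hc v)
  have hCE : C ∈ E := hC ▸ h.dd_memE hzB v
  have hstar : eb + dd b et = ec + dd s ec := by
    have h1 := dd_mul two b s v
    have h2 := dd_mul two s c v
    rw [hbs, h2, hec, heb, het] at h1
    have e1 : et + (ec + dd s ec) = et + (eb + dd b et) := by
      rw [← add_assoc, h1]; abel
    exact (add_left_cancel e1).symm
  have hc' : et + eb ∈ E := E.add_mem hetE hebE
  have h1 : dd b et = dd b (et + eb) := by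
    rw [dd_add, ← heb, h.bb, add_zero]
  have h2 : dd s ec = dd s (et + eb) + dd s C := by
    have e1 : ec = (et + (et + eb)) + C + i := by
      rw [hCe]
      have e2 : et + (et + eb) + (eb + ec + i) + i = ec + (et + et) + (eb + eb) + (i + i) := by abel
      rw [e2, two, two, two]; simp
    rw [e1, dd_add, dd_add, dd_add, hsi0, ← het, h'.cc, zero_add, add_zero, het]
  have h3 : C + i = dd b (et + eb) + dd s (et + eb) + dd s C := by
    have e1 : C + i = eb + ec := by
      rw [hCe]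
      have e2 : eb + ec + i + i = eb + ec + (i + i) := by abel
      rw [e2, two, add_zero]
    have e3 : eb + ec = dd b et + dd s ec := by
      have e4 : eb + ec = (eb + dd b et) + dd b et + ec := by
        have e5 : eb + dd b et + dd b et + ec = eb + ec + (dd b et + dd b et) := by abel
        rw [e5, two, add_zero]
      rw [e4, hstar]
      have e6 : ec + dd s ec + dd b et + ec = dd b et + dd s ec + (ec + ec) := by abel
      rw [e6, two, add_zero]
    rw [e1, e3, h1, h2]; abel
  have P1 := h.line hi hv h.hb hc'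
  have P2 := h'.line hL hv2 h'.hc (hE2 _ hc')
  have P3 := h'.line hL hv2 h'.hc (hE2 _ hCE)
  apply h.not_memF hzB h.z_ne hv
  rw [hC]
  have h4 : C = i + (dd b (et + eb) + dd s (et + eb) + dd s C) := by
    rw [← h3]
    have e1 : i + (C + i) = C + (i + i) := by abel
    rw [e1, two, add_zero]
  rw [h4]
  refine F.add_mem hiF (F.add_mem (F.add_mem ?_ ?_) ?_)
  · rcases P1 with h5 | h5 <;> rw [h5]
    · exact F.zero_mem
    · exact hiF
  · rcases P2 with h5 | h5 <;> rw [h5]
    · exact F.zero_mem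
    · exact hiF
  · rcases P3 with h5 | h5 <;> rw [h5]
    · exact F.zero_mem
    · exact hiF

/-- no offender -/
def NoOff (Y V : Type u) [Group Y] [AddCommGroup V] [DistribMulAction Y V] : Prop :=
  ∀ A : Subgroup Y, (∀ x ∈ A, ∀ y ∈ A, x * y = y * x) → (∀ x ∈ A, x * x = 1) → A ≠ ⊥ → Nat.card A < (fx V A).index

/-- an involution with `[V, x] ≤ {0, i}` is an offender -/
theorem no_trans [Finite V] (two : ∀ v : V, v + v = 0) (noff : NoOff Y V) {x : Y} (hx : x * x = 1) (hx1 : x ≠ 1)
    {i : V} (hi : ∀ v, dd x v = 0 ∨ dd x v = i) : False := by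
  have hz : ∀ y ∈ zpowers x, y = 1 ∨ y = x := by
    intro y hy
    obtain ⟨n, rfl⟩ := mem_zpowers_iff.1 hy
    rcases Int.even_or_odd n with ⟨k, hk⟩ | ⟨k, hk⟩
    · left
      rw [hk, ← two_mul, zpow_mul, zpow_two, hx, one_zpow]
    · right
      rw [hk, zpow_add, zpow_mul, zpow_two, hx, one_zpow, zpow_one, one_mul]
  have h1 := noff (zpowers x) (fun a ha b hb => by
    rcases hz a ha with rfl | rfl <;> rcases hz b hb with rfl | rfl <;> simp) (fun a ha => by
    rcases hz a ha with rfl | rfl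
    · simp
    · exact hx) (by rw [Ne, zpowers_eq_bot]; exact hx1)
  rw [← card_range_cmA two] at h1
  have h2 : Nat.card (zpowers x) = 2 := by
    rw [Nat.card_zpowers]
    exact orderOf_eq_prime (by rw [pow_two, hx]) hx1
  rw [h2] at h1
  have h3 : Nat.card (cmA V x).range ≤ 2 := by
    have h4 : ((cmA V x).range : Set V) ⊆ {0, i} := by
      rintro y ⟨v, rfl⟩
      rcases hi v with h5 | h5
      · left; exact h5
      · right; exact h5
    calc Nat.card (cmA V x).range = ((cmA V x).range : Set V).ncard := rfl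
      _ ≤ ({0, i} : Set V).ncard := Set.ncard_le_ncard h4 (Set.toFinite _)
      _ ≤ 2 := by
        have := Set.ncard_insert_le (0 : V) {i}
        rw [Set.ncard_singleton] at this
        exact this
  omega

/-- `B ∪ Bx` for `x` an involution centralising the elementary abelian `B` -/
theorem exists_adj [Finite Y] {B : Subgroup Y} (hc : ∀ a ∈ B, ∀ b ∈ B, a * b = b * a) (hs : ∀ a ∈ B, a * a = 1)
    {x : Y} (hx : x * x = 1) (hxB : ∀ a ∈ B, x * a = a * x) (hn : x ∉ B) :
    ∃ A : Subgroup Y, (∀ a ∈ A, ∀ b ∈ A, a * b = b * a) ∧ (∀ a ∈ A, a * a = 1) ∧ 2 * Nat.card B ≤ Nat.card A ∧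
      (∀ a ∈ A, a ∈ B ∨ a * x ∈ B) ∧ B ≤ A := by
  have hd : ∀ a, a * x ∈ B → a = x * (a * x) := by
    intro a ha
    rw [hxB _ ha, mul_assoc, hx, mul_one]
  have hax : ∀ a, a * x ∈ B → x * a = a * x := by
    intro a ha
    have h1 := hd a ha
    have h2 : x * a = x * (x * (a * x)) := by rw [← h1]
    rw [h2, ← mul_assoc, hx, one_mul]
  have hsq : ∀ a, (a ∈ B ∨ a * x ∈ B) → a * a = 1 := by
    rintro a (ha | ha)
    · exact hs a ha
    · have h1 := hs _ ha
      have e : a * x * (a * x) = a * (x * a) * x := by group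
      rw [e, hax a ha] at h1
      have e2 : a * (a * x) * x = a * a * (x * x) := by group
      rwa [e2, hx, mul_one] at h1
  let A : Subgroup Y :=
    { carrier := {a | a ∈ B ∨ a * x ∈ B}
      mul_mem' := by
        rintro a b (ha | ha) (hb | hb)
        · exact Or.inl (B.mul_mem ha hb)
        · right
          change a * b * x ∈ B
          rw [mul_assoc]; exact B.mul_mem ha hb
        · right
          change a * b * x ∈ B
          have e : a * b * x = a * x * b := by rw [mul_assoc, ← hxB b hb, mul_assoc]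
          rw [e]; exact B.mul_mem ha hb
        · left
          change a * b ∈ B
          have e : a * b = (a * x) * (x⁻¹ * b) := by group
          have e2 : x⁻¹ * b = b * x := by
            rw [← hax b hb, inv_eq_of_mul_eq_one_left hx]
          rw [e, e2]; exact B.mul_mem ha hb
      one_mem' := Or.inl B.one_mem
      inv_mem' := by
        intro a ha
        have h1 : a⁻¹ = a := inv_eq_of_mul_eq_one_left (hsq a ha)
        change a⁻¹ ∈ B ∨ a⁻¹ * x ∈ B
        rw [h1]
        exact ha }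
  have hBA : B ≤ A := fun a ha => Or.inl ha
  refine ⟨A, ?_, fun a ha => hsq a ha, ?_, fun a ha => ha, hBA⟩
  · intro a ha b hb
    have h1 := hsq a ha
    have h2 := hsq b hb
    have h3 : a * b * (a * b) = 1 := hsq _ (A.mul_mem ha hb)
    have ia : a⁻¹ = a := inv_eq_of_mul_eq_one_left h1
    have ib : b⁻¹ = b := inv_eq_of_mul_eq_one_left h2
    have h4 : (a * b)⁻¹ = a * b := inv_eq_of_mul_eq_one_left h3
    rw [← h4, mul_inv_rev, ia, ib]
  · have hlt : B ≠ A := by
      intro h1
      apply hn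
      rw [h1]
      exact Or.inr (by rw [hx]; exact B.one_mem)
    have h1 : B < A := lt_of_le_of_ne hBA hlt
    obtain ⟨k, hk⟩ := Subgroup.card_dvd_of_le hBA
    have h2 : Nat.card B < Nat.card A := Amb.card_lt' h1
    have h3 : 0 < Nat.card B := Nat.card_pos
    rw [hk] at h2 ⊢
    rcases k with _ | _ | k
    · omega
    · omega
    · nlinarith

/-- a group of order 4 -/
theorem four_add [Finite V] (two : ∀ v : V, v + v = 0) {F : AddSubgroup V} (cF : Nat.card F = 4) {i w : V}
    (hi : i ∈ F) (hi0 : i ≠ 0) (hw : w ∈ F) (hw0 : w ≠ 0) (hwi : w ≠ i) :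
    ∀ f ∈ F, f = 0 ∨ f = i ∨ f = w ∨ f = w + i := by
  classical
  have h1 : ({0, i, w, w + i} : Set V).ncard = 4 := by
    have e1 : w + i ≠ 0 := fun h => hwi (eq_of_add (two := two) h)
    have e2 : w + i ≠ i := fun h => hw0 (add_eq_right.1 h)
    have e3 : w + i ≠ w := fun h => hi0 (add_eq_left.1 h)
    rw [Set.ncard_insert_of_notMem, Set.ncard_insert_of_notMem, Set.ncard_pair e3.symm]
    · simp only [Set.mem_insert_iff, Set.mem_singleton_iff, not_or]
      exact ⟨hwi.symm, e2.symm⟩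
    · simp only [Set.mem_insert_iff, Set.mem_singleton_iff, not_or]
      exact ⟨hi0.symm, hw0.symm, e1.symm⟩
  have h2 : ({0, i, w, w + i} : Set V) ⊆ (F : Set V) := by
    rintro x (rfl | rfl | rfl | rfl)
    · exact F.zero_mem
    · exact hi
    · exact hw
    · exact F.add_mem hw hi
  have h3 : ({0, i, w, w + i} : Set V) = (F : Set V) := by
    apply Set.eq_of_subset_of_ncard_le h2 _ (Set.toFinite _)
    rw [h1]
    exact cF.le
  intro f hf
  have h4 : f ∈ ({0, i, w, w + i} : Set V) := by rw [h3]; exact hf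
  simpa using h4

/-- a four-group -/
theorem four_mul [Finite Y] {B : Subgroup Y} (cB : Nat.card B = 4) (hs : ∀ x ∈ B, x * x = 1) {b c : Y}
    (hb : b ∈ B) (hc : c ∈ B) (b1 : b ≠ 1) (c1 : c ≠ 1) (hbc : b ≠ c) :
    ∀ x ∈ B, x = 1 ∨ x = b ∨ x = c ∨ x = b * c := by
  classical
  have h1 : ({1, b, c, b * c} : Set Y).ncard = 4 := by
    have e1 : b * c ≠ 1 := fun h => hbc (mul_right_cancel (h.trans (hs c hc).symm))
    have e2 : b * c ≠ c := fun h => b1 (mul_eq_right.1 h)
    have e3 : b * c ≠ b := fun h => c1 (mul_eq_left.1 h)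
    rw [Set.ncard_insert_of_notMem, Set.ncard_insert_of_notMem, Set.ncard_pair e2.symm]
    · simp only [Set.mem_insert_iff, Set.mem_singleton_iff, not_or]
      exact ⟨hbc, e3.symm⟩
    · simp only [Set.mem_insert_iff, Set.mem_singleton_iff, not_or]
      exact ⟨b1.symm, c1.symm, e1.symm⟩
  have h2 : ({1, b, c, b * c} : Set Y) ⊆ (B : Set Y) := by
    rintro x (rfl | rfl | rfl | rfl)
    · exact B.one_mem
    · exact hb
    · exact hc
    · exact B.mul_mem hb hc
  have h3 : ({1, b, c, b * c} : Set Y) = (B : Set Y) := by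
    apply Set.eq_of_subset_of_ncard_le h2 _ (Set.toFinite _)
    rw [h1]
    exact cB.le
  intro f hf
  have h4 : f ∈ ({1, b, c, b * c} : Set Y) := by rw [h3]; exact hf
  simpa using h4

/-- **(i)** no element `x ∉ B` with `x² ∈ B` centralises `B`. -/
theorem centr [Finite Y] [Finite V] (noff : NoOff Y V) {B : Subgroup Y} {b c x : Y} {E F : AddSubgroup V}
    (h : Sq B b c E F) (cB : Nat.card B = 4) (cF : Nat.card F = 4) (hFi : F.index ≤ 8)
    (hxB : ∀ a ∈ B, x * a = a * x) (hx2 : x * x ∈ B) (hn : x ∉ B) : False := by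
  have two := h.two
  obtain ⟨v, hv⟩ := h.mem.ne
  obtain ⟨i, hi⟩ : ∃ i, dd c (dd b v) = i := ⟨_, rfl⟩
  have hi0 := h.i_ne hi hv
  have hiF := h.i_mem hi
  obtain ⟨w, hw, hw0, hwi⟩ : ∃ w ∈ F, w ≠ 0 ∧ w ≠ i := by
    by_contra hno
    push Not at hno
    have h1 : (F : Set V) ⊆ {0, i} := by
      intro f hf
      by_cases hf0 : f = 0
      · left; exact hf0
      · right; exact hno f hf hf0
    have h2 : Nat.card F ≤ ({0, i} : Set V).ncard := Set.ncard_le_ncard h1 (Set.toFinite _)
    have h3 := Set.ncard_insert_le (0 : V) {i}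
    rw [Set.ncard_singleton] at h3
    omega
  have hF := four_add two cF hiF hi0 hw hw0 hwi
  have hPF : ∀ y : V, (y = 0 ∨ y = i) → y ∈ F := by
    rintro y (rfl | rfl)
    · exact F.zero_mem
    · exact hiF
  -- an element centralising `B`
  have key : ∀ y : Y, (∀ a ∈ B, y * a = a * y) →
      dd y v ∈ E ∧ dd y i = 0 ∧ (dd y w = 0 ∨ dd y w = i) ∧ (∀ e ∈ E, dd y e = 0 ∨ dd y e = i) := by
    intro y hyB
    have hyv : dd y v ∈ E := by
      have h1 := not_mem_E_of_cent h.mem (d := y) hyB hv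
      have h2 := h.ind v _ hv h1
      unfold dd; rwa [add_comm]
    have hyi : dd y i = 0 := by
      rw [← hi, dd_comm two (hyB c h.hc), dd_comm two (hyB b h.hb)]
      exact h.fix h.hc (h.dd_memF h.hb hyv)
    have hyw : dd y w = 0 ∨ dd y w = i := by
      have h1 : y • w ∈ F := smul_F_of_cent h.mem hyB hw
      rcases hF _ h1 with h2 | h2 | h2 | h2
      · left
        have h3 : w = 0 := by
          rw [← inv_smul_smul y w, h2, smul_zero]
        rw [h3, dd_zero]
      · exfalso
        have h3 : y • i = i := (dd_eq_zero two).1 hyi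
        apply hwi
        have h4 : y • w = y • i := by rw [h2, h3]
        exact smul_left_cancel y h4
      · left; exact (dd_eq_zero two).2 h2
      · right
        unfold dd
        rw [h2]
        have e : w + i + w = i + (w + w) := by abel
        rw [e, two, add_zero]
    refine ⟨hyv, hyi, hyw, fun e he => ?_⟩
    obtain ⟨a, ha, hf⟩ := h.mem.surj v hv e he
    have h1 : dd a v + e ∈ F := hf
    have h2 : e = dd a v + (dd a v + e) := by rw [← add_assoc, two, zero_add]
    have h3 : dd y (dd a v) = 0 ∨ dd y (dd a v) = i := by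
      rw [dd_comm two (hyB a ha)]
      exact h.line hi hv ha hyv
    have h4 : dd y (dd a v + e) = 0 ∨ dd y (dd a v + e) = i := by
      rcases hF _ h1 with h5 | h5 | h5 | h5 <;> rw [h5]
      · left; exact dd_zero y
      · left; exact hyi
      · exact hyw
      · rw [dd_add, hyi, add_zero]; exact hyw
    rw [h2, dd_add]
    rcases h3 with h5 | h5 <;> rcases h4 with h6 | h6 <;> rw [h5, h6]
    · left; simp
    · right; simp
    · right; simp
    · left; exact two i
  obtain ⟨hxv, -, -, hxE⟩ := key x hxB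
  have hx1 : x * x = 1 := by
    by_contra h1
    apply h.not_memF hx2 h1 hv
    rw [dd_mul two, two, zero_add]
    exact hPF _ (hxE _ hxv)
  -- `y = a x` with `[v, y] ∈ F`
  obtain ⟨a, ha, hf⟩ := h.mem.surj v hv _ hxv
  have hf' : dd a v + dd x v ∈ F := hf
  obtain ⟨y, hy⟩ : ∃ y, y = a * x := ⟨_, rfl⟩
  have hyB : ∀ d ∈ B, y * d = d * y := by
    intro d hd
    rw [hy, mul_assoc, hxB d hd, ← mul_assoc, h.mem.comm a ha d hd, mul_assoc]
  have hyy : y * y = 1 := by
    have e : a * x * (a * x) = a * (x * a) * x := by group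
    rw [hy, e, hxB a ha]
    have e2 : a * (a * x) * x = a * a * (x * x) := by group
    rw [e2, h.mem.sq a ha, hx1, one_mul]
  have hyn : y ∉ B := by
    intro h1
    apply hn
    have e : x = a⁻¹ * y := by rw [hy]; group
    rw [e]
    exact B.mul_mem (B.inv_mem ha) h1
  have hyv : dd y v ∈ F := by
    rw [hy, dd_mul two]
    exact F.add_mem hf' (h.dd_memF ha hxv)
  obtain ⟨-, hyi, hyw, hyE⟩ := key y hyB
  rcases hyw with hyw | hyw
  · have hyF : ∀ f ∈ F, dd y f = 0 := by
      intro f hf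
      rcases hF f hf with h5 | h5 | h5 | h5 <;> rw [h5]
      · exact dd_zero y
      · exact hyi
      · exact hyw
      · rw [dd_add, hyw, hyi, add_zero]
    obtain ⟨A, hA1, hA2, hA3, hA4, hBA⟩ := exists_adj h.mem.comm h.mem.sq hyy hyB hyn
    have hle : F ≤ fx V A := by
      intro f hf a ha
      rcases hA4 a ha with h5 | h5
      · exact h.mem.FB a h5 f hf
      · have e : a = a * y * y := by rw [mul_assoc, hyy, mul_one]
        rw [e, mul_smul, (dd_eq_zero two).1 (hyF f hf)]
        exact h.mem.FB _ h5 f hf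
    have h6 := noff A hA1 hA2 (by
      intro h7
      apply h.b1
      have h8 := hBA h.hb
      rw [h7, mem_bot] at h8
      exact h8)
    have h7 : (fx V A).index ≤ F.index := AddSubgroup.index_antitone hle
    omega
  · have h5 := dd_sq two hyy v
    have hP : dd y v = 0 ∨ dd y v = i := by
      rcases hF _ hyv with h6 | h6 | h6 | h6
      · exact Or.inl h6
      · exact Or.inr h6
      · exfalso
        rw [h6, hyw] at h5
        exact hi0 h5
      · exfalso
        rw [h6, dd_add, hyw, hyi, add_zero] at h5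
        exact hi0 h5
    have hy1 : y ≠ 1 := fun h6 => hyn (h6 ▸ B.one_mem)
    refine no_trans two noff hyy hy1 (i := i) fun u => ?_
    by_cases hu : u ∈ E
    · exact hyE u hu
    · have h6 : v + u ∈ E := h.ind v u hv hu
      have h7 : u = v + (v + u) := by rw [← add_assoc, two, zero_add]
      rw [h7, dd_add]
      rcases hP with h8 | h8 <;> rcases hyE _ h6 with h9 | h9 <;> rw [h8, h9]
      · left; simp
      · right; simp
      · right; simp
      · left; exact two i

theorem smul_fx {B : Subgroup Y} {g : Y} (hn : ∀ x ∈ B, g⁻¹ * x * g ∈ B) {f : V} (hf : f ∈ fx V B) :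
    g • f ∈ fx V B := by
  intro x hx
  have e : x = g * (g⁻¹ * x * g) * g⁻¹ := by group
  rw [e, mul_smul, inv_smul_smul, mul_smul, hf _ (hn x hx)]

theorem smul_Ee {B : Subgroup Y} {g : Y} (hn : ∀ x ∈ B, g⁻¹ * x * g ∈ B) {v : V} (hv : v ∈ Ee V B) :
    g • v ∈ Ee V B := by
  intro x hx
  have e : x • g • v + g • v = g • ((g⁻¹ * x * g) • v + v) := by
    rw [smul_add, ← mul_smul, ← mul_smul]
    congr 2
    group
  rw [e]
  exact smul_fx hn (hv _ (hn x hx))

theorem not_Ee {B : Subgroup Y} {g : Y} (hn : ∀ x ∈ B, g * x * g⁻¹ ∈ B) {v : V} (hv : v ∉ Ee V B) :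
    g • v ∉ Ee V B := by
  intro h1
  apply hv
  have h2 := smul_Ee (g := g⁻¹) (fun x hx => by rw [inv_inv]; exact hn x hx) h1
  rwa [inv_smul_smul] at h2

/-- **LEMMA D8.** -/
theorem main [Finite Y] [Finite V] {U : Set (Subgroup Y)} (cls : Cls V U) (noff : NoOff Y V)
    (ind : ∀ A ∈ U, (Ee V A).index = 2) (hV : Nat.card V = 32) {B : Subgroup Y} (hB : B ∈ U) (cB : Nat.card B = 4)
    {T : Subgroup Y} (hT : IsPGroup 2 T) (hBT : B ≤ T) {t : Y} (ht : t ∈ T) (tn : ∀ x ∈ B, t * x * t⁻¹ ∈ B)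
    (tt : t * t ∈ B) {w : V} (hw : w ∈ fx V B) (htw : t • w ≠ w) :
    ∀ x ∈ T, x ∈ B ∨ t * x ∈ B := by
  classical
  haveI : Fact (Nat.Prime 2) := ⟨Nat.prime_two⟩
  have two := cls.two
  have mem := cls.mem B hB
  have mkSq : ∀ A ∈ U, Nat.card A = 4 → ∀ b ∈ A, ∀ c ∈ A, b ≠ 1 → c ≠ 1 → b ≠ c →
      Sq A b c (Ee V A) (fx V A) := fun A hA cA b hb c hc b1 c1 hbc =>
    { two := two
      mem := cls.mem A hA
      hb := hb, hc := hc, b1 := b1, c1 := c1, bc := hbc
      all := four_mul cA (cls.mem A hA).sq hb hc b1 c1 hbc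
      ind := fun x y hx hy => by
        rw [AddSubgroup.add_mem_iff_of_index_two (ind A hA)]
        exact iff_of_false hx hy }
  have cE : ∀ A ∈ U, Nat.card (Ee V A) = 16 := by
    intro A hA
    have h1 := AddSubgroup.card_mul_index (Ee V A)
    rw [ind A hA, hV] at h1
    omega
  have cF : ∀ A ∈ U, Nat.card A = 4 → Nat.card (fx V A) = 4 := by
    intro A hA cA
    have h1 := (cls.mem A hA).card_E two
    rw [cE A hA, cA] at h1
    omega
  have iF : (fx V B).index ≤ 8 := by
    have h1 := AddSubgroup.card_mul_index (fx V B)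
    rw [cF B hB cB, hV] at h1
    omega
  -- a four-group has two nontrivial elements
  obtain ⟨b₀, hb₀, c₀, hc₀, h01, h02, h03⟩ : ∃ b ∈ B, ∃ c ∈ B, b ≠ 1 ∧ c ≠ 1 ∧ b ≠ c := by
    by_contra hno
    push Not at hno
    have h1 : ∃ b ∈ B, b ≠ 1 := by
      by_contra h2
      push Not at h2
      have h3 : B = ⊥ := (eq_bot_iff_forall B).2 h2
      rw [h3, card_bot] at cB
      omega
    obtain ⟨b, hb, hb1⟩ := h1
    have h2 : (B : Set Y) ⊆ {1, b} := by
      intro x hx
      by_cases hx1 : x = 1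
      · left; exact hx1
      · right; exact (hno b hb x hx hb1 hx1).symm
    have h3 : Nat.card B ≤ ({1, b} : Set Y).ncard := Set.ncard_le_ncard h2 (Set.toFinite _)
    have h4 := Set.ncard_insert_le (1 : Y) {b}
    rw [Set.ncard_singleton] at h4
    omega
  have h₀ := mkSq B hB cB b₀ hb₀ c₀ hc₀ h01 h02 h03
  -- `C_T(B) = B`
  have cent : ∀ y ∈ T, (∀ a ∈ B, y * a = a * y) → y ∈ B := by
    intro y hy hya
    by_contra hyB
    obtain ⟨n, hn⟩ := hT ⟨y, hy⟩
    have hn' : y ^ 2 ^ n = 1 := by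
      have := congrArg Subtype.val hn
      simpa using this
    have hex : ∃ n, y ^ 2 ^ n ∈ B := ⟨n, by rw [hn']; exact one_mem _⟩
    have h1 := Nat.find_spec hex
    have h0 : Nat.find hex ≠ 0 := by
      intro h0
      rw [h0, pow_zero, pow_one] at h1
      exact hyB h1
    obtain ⟨k, hk⟩ := Nat.exists_eq_succ_of_ne_zero h0
    have h2 := Nat.find_min hex (m := k) (by omega)
    rw [hk] at h1
    refine centr noff h₀ cB (cF B hB cB) iF (x := y ^ 2 ^ k) (fun a ha => ?_) ?_ h2
    · have h3 : Commute y a := hya a ha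
      exact (h3.pow_left _).eq
    · have e : y ^ 2 ^ k * y ^ 2 ^ k = y ^ 2 ^ (k + 1) := by
        rw [← pow_add, pow_succ, mul_two]
      rw [e]
      exact h1
  -- `b`, `c = b^t`
  obtain ⟨b, hb, hbt⟩ : ∃ b ∈ B, t * b * t⁻¹ ≠ b := by
    by_contra hno
    push Not at hno
    have h1 := cent t ht (fun a ha => mul_inv_eq_iff_eq_mul.1 (hno a ha))
    exact htw (hw t h1)
  obtain ⟨c, htb⟩ : ∃ c, t * b * t⁻¹ = c := ⟨_, rfl⟩
  have hc : c ∈ B := htb ▸ tn b hb
  have b1 : b ≠ 1 := by
    rintro rfl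
    apply hbt
    group
  have c1 : c ≠ 1 := by
    intro h1
    apply b1
    rw [h1] at htb
    have e : b = t⁻¹ * (t * b * t⁻¹) * t := by group
    rw [e, htb]; group
  have hbc : b ≠ c := by rw [← htb]; exact hbt.symm
  have htc : t * c * t⁻¹ = b := by
    rw [← htb]
    have e : t * (t * b * t⁻¹) * t⁻¹ = (t * t) * b * (t * t)⁻¹ := by group
    rw [e, mem.comm _ tt b hb, mul_inv_cancel_right]
  have h := mkSq B hB cB b hb c hc b1 c1 hbc
  have hcom := h.comm
  have b2 := mem.sq b hb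
  have c2 := mem.sq c hc
  -- no 3-cycles
  have cyc : ∀ y ∈ T, ∀ p ∈ B, ∀ q ∈ B, p ≠ 1 → q ≠ 1 → p ≠ q → y * p * y⁻¹ = q → y * q * y⁻¹ = p * q → False := by
    intro y hy p hp q hq p1 q1 hpq h1 h2
    have hpqc := mem.comm p hp q hq
    have h3 : y * (p * q) * y⁻¹ = p := by
      have e : y * (p * q) * y⁻¹ = (y * p * y⁻¹) * (y * q * y⁻¹) := by group
      rw [e, h1, h2, hpqc, ← mul_assoc, mem.sq q hq, one_mul]
    have h4 : y ^ 3 * p * (y ^ 3)⁻¹ = p := by
      have e : y ^ 3 * p * (y ^ 3)⁻¹ = y * (y * (y * p * y⁻¹) * y⁻¹) * y⁻¹ := by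
        simp only [pow_succ, pow_zero, one_mul, mul_inv_rev, mul_assoc]
      rw [e, h1, h2, h3]
    have h5 : y ^ 3 * q * (y ^ 3)⁻¹ = q := by
      have e : y ^ 3 * q * (y ^ 3)⁻¹ = y * (y * (y * q * y⁻¹) * y⁻¹) * y⁻¹ := by
        simp only [pow_succ, pow_zero, one_mul, mul_inv_rev, mul_assoc]
      rw [e, h2, h3, h1]
    have h6 : y ^ 3 ∈ B := by
      apply cent _ (pow_mem hy 3)
      intro a ha
      have h7 := mul_inv_eq_iff_eq_mul.1 h4
      have h8 := mul_inv_eq_iff_eq_mul.1 h5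
      rcases four_mul cB mem.sq hp hq p1 q1 hpq a ha with rfl | rfl | rfl | rfl
      · rw [mul_one, one_mul]
      · exact h7
      · exact h8
      · rw [← mul_assoc, h7, mul_assoc, h8, mul_assoc]
    have h7 : y ^ 6 = 1 := by
      have e : y ^ 6 = y ^ 3 * y ^ 3 := by rw [← pow_add]
      rw [e, mem.sq _ h6]
    obtain ⟨n, hn⟩ := hT ⟨y, hy⟩
    have hn' : y ^ 2 ^ n = 1 := by
      have := congrArg Subtype.val hn
      simpa using this
    have h8 : orderOf y ∣ 2 := by
      have h9 : orderOf y ∣ 2 * 3 := orderOf_dvd_of_pow_eq_one h7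
      have h10 : orderOf y ∣ 2 ^ n := orderOf_dvd_of_pow_eq_one hn'
      have h11 : Nat.Coprime (orderOf y) 3 :=
        Nat.Coprime.coprime_dvd_left h10 (Nat.Coprime.pow_left n (by norm_num))
      exact h11.dvd_of_dvd_mul_right h9
    have h9 : y ^ 2 = 1 := orderOf_dvd_iff_pow_eq_one.1 h8
    have h10 : y ∈ B := by
      have e : y ^ 3 = y := by rw [pow_succ, h9, one_mul]
      rwa [e] at h6
    apply hpq
    rw [← h1, mem.comm y h10 p hp, mul_inv_cancel_right]
  -- `N_T(B) = B⟨t⟩`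
  have claim : ∀ x ∈ T, (∀ a ∈ B, x * a * x⁻¹ ∈ B) → x ∈ B ∨ t * x ∈ B := by
    intro x hx hxn
    have hinj : ∀ a a' : Y, x * a * x⁻¹ = x * a' * x⁻¹ → a = a' := fun a a' h1 =>
      mul_left_cancel (mul_right_cancel h1)
    have hne1 : ∀ a : Y, a ≠ 1 → x * a * x⁻¹ ≠ 1 := by
      intro a ha h1
      apply ha
      apply hinj
      rw [h1]; group
    obtain ⟨p, hp⟩ : ∃ p, x * b * x⁻¹ = p := ⟨_, rfl⟩
    obtain ⟨q, hq⟩ : ∃ q, x * c * x⁻¹ = q := ⟨_, rfl⟩
    have hpB : p ∈ B := hp ▸ hxn b hb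
    have hqB : q ∈ B := hq ▸ hxn c hc
    have hp1 : p ≠ 1 := hp ▸ hne1 b b1
    have hq1 : q ≠ 1 := hq ▸ hne1 c c1
    have hpq : p ≠ q := fun h1 => hbc (hinj _ _ (by rw [hp, hq, h1]))
    have htx : ∀ a, (t * x) * a * (t * x)⁻¹ = t * (x * a * x⁻¹) * t⁻¹ := fun a => by group
    have htz : t * (b * c) * t⁻¹ = b * c := by
      have e : t * (b * c) * t⁻¹ = (t * b * t⁻¹) * (t * c * t⁻¹) := by group
      rw [e, htb, htc, hcom]
    have hxz : x * (b * c) * x⁻¹ = p * q := by
      have e : x * (b * c) * x⁻¹ = (x * b * x⁻¹) * (x * c * x⁻¹) := by group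
      rw [e, hp, hq]
    have hall : ∀ y : Y, y * b * y⁻¹ = b → y * c * y⁻¹ = c → ∀ a ∈ B, y * a = a * y := by
      intro y h1 h2 a ha
      have h7 := mul_inv_eq_iff_eq_mul.1 h1
      have h8 := mul_inv_eq_iff_eq_mul.1 h2
      rcases h.all a ha with rfl | rfl | rfl | rfl
      · rw [mul_one, one_mul]
      · exact h7
      · exact h8
      · rw [← mul_assoc, h7, mul_assoc, h8, mul_assoc]
    have hzB : b * c ∈ B := B.mul_mem hb hc
    have bz : b ≠ b * c := fun h1 => c1 (mul_eq_left.1 h1.symm)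
    have e1 : b * (b * c) = c := by rw [← mul_assoc, b2, one_mul]
    rcases h.all p hpB with h1 | rfl | rfl | rfl
    · exact absurd h1 hp1
    · rcases h.all q hqB with h2 | h2 | rfl | rfl
      · exact absurd h2 hq1
      · exact absurd h2.symm hpq
      · left
        exact cent x hx (hall x hp hq)
      · exfalso
        refine cyc (t * x) (mul_mem ht hx) _ hb _ hc b1 c1 hbc ?_ ?_
        · rw [htx, hp, htb]
        · rw [htx, hq, htz]
    · rcases h.all q hqB with h2 | rfl | h2 | rfl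
      · exact absurd h2 hq1
      · right
        refine cent _ (mul_mem ht hx) (hall _ ?_ ?_)
        · rw [htx, hp, htc]
        · rw [htx, hq, htb]
      · exact absurd h2.symm hpq
      · exfalso
        exact cyc x hx _ hb _ hc b1 c1 hbc hp hq
    · rcases h.all q hqB with h2 | rfl | rfl | h2
      · exact absurd h2 hq1
      · exfalso
        refine cyc x hx _ hb _ hzB b1 h.z_ne bz hp ?_
        rw [hxz, e1, hcom, mul_assoc, b2, mul_one]
      · exfalso
        refine cyc (t * x) (mul_mem ht hx) _ hb _ hzB b1 h.z_ne bz ?_ ?_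
        · rw [htx, hp, htz]
        · have e2 : b * q * q = b := by rw [mul_assoc, c2, mul_one]
          rw [htx, hxz, e2, htb, e1]
      · exact absurd h2.symm hpq
  -- `D`
  have tn' : ∀ x ∈ B, t⁻¹ * x * t ∈ B := by
    intro x hx
    have e : t⁻¹ * x * t = (t * t)⁻¹ * (t * x * t⁻¹) * (t * t) := by group
    rw [e]
    exact B.mul_mem (B.mul_mem (B.inv_mem tt) (tn x hx)) tt
  let D : Subgroup Y :=
    { carrier := {x | x ∈ B ∨ t * x ∈ B}
      mul_mem' := by
        rintro x y (hx | hx) (hy | hy)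
        · exact Or.inl (B.mul_mem hx hy)
        · right
          have e : t * (x * y) = (t * x * t⁻¹) * (t * y) := by group
          rw [e]
          exact B.mul_mem (tn x hx) hy
        · right
          rw [← mul_assoc]; exact B.mul_mem hx hy
        · left
          have e : x * y = (t⁻¹ * (t * x) * t) * (t * t)⁻¹ * (t * y) := by group
          rw [e]
          exact B.mul_mem (B.mul_mem (tn' _ hx) (B.inv_mem tt)) hy
      one_mem' := Or.inl B.one_mem
      inv_mem' := by
        rintro x (hx | hx)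
        · exact Or.inl (B.inv_mem hx)
        · right
          have e : t * x⁻¹ = (t * (t * x)⁻¹ * t⁻¹) * (t * t) := by group
          rw [e]
          exact B.mul_mem (tn _ (B.inv_mem hx)) tt }
  have hmemD : ∀ x, x ∈ D ↔ x ∈ B ∨ t * x ∈ B := fun x => Iff.rfl
  have hBD : B ≤ D := fun x hx => Or.inl hx
  have hDT : D ≤ T := by
    rintro x (hx | hx)
    · exact hBT hx
    · have e : x = t⁻¹ * (t * x) := by group
      rw [e]
      exact mul_mem (inv_mem ht) (hBT hx)
  by_contra hcon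
  have hlt : D < T := by
    refine lt_of_le_of_ne hDT fun h1 => hcon fun x hx => ?_
    rw [← hmemD, h1]
    exact hx
  obtain ⟨r, hrT, hrN, hrD⟩ : ∃ r ∈ T, r ∈ normalizer (D : Set Y) ∧ r ∉ D := by
    obtain ⟨y, hy, hyD⟩ := SetLike.exists_of_lt (Amb.lt_norm hT hlt)
    exact ⟨y, hy.1, hy.2, hyD⟩
  obtain ⟨B', hB'⟩ : ∃ B', B' = MulAut.conj r • B := ⟨_, rfl⟩
  have hB'U : B' ∈ U := hB' ▸ cls.conj B hB r
  have cB' : Nat.card B' = 4 := by rw [hB', conj_card, cB]
  have hB'D : ∀ x ∈ B', x ∈ D := by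
    intro x hx
    rw [hB', mem_conj] at hx
    have h1 := (mem_normalizer_iff.1 hrN (r⁻¹ * x * r)).1 (hBD hx)
    have e : r * (r⁻¹ * x * r) * r⁻¹ = x := by group
    rwa [e] at h1
  obtain ⟨s, hsB', hsB⟩ : ∃ s ∈ B', s ∉ B := by
    by_contra hno
    push Not at hno
    apply hrD
    rw [hmemD]
    apply claim r hrT
    intro a ha
    apply hno
    rw [hB']
    exact conj_mem_conj ha
  have hts : t * s ∈ B := (hB'D s hsB').resolve_left hsB
  have mem' := cls.mem B' hB'U
  have hs2 : s * s = 1 := mem'.sq s hsB'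
  have hs1 : s ≠ 1 := fun h1 => hsB (h1 ▸ B.one_mem)
  have hsn : ∀ x ∈ B, s * x * s⁻¹ = t⁻¹ * x * t := by
    intro x hx
    have e : s * x * s⁻¹ = t⁻¹ * ((t * s) * x * (t * s)⁻¹) * t := by group
    rw [e, mem.comm _ hts x hx, mul_inv_cancel_right]
  have hsb : s * b * s⁻¹ = c := by
    rw [hsn b hb, ← htc]; group
  have hsc : s * c * s⁻¹ = b := by
    rw [hsn c hc, ← htb]; group
  have hzB' : b * c ∈ B' := by
    by_contra hz
    have h1 : (B' : Set Y) ⊆ {1, s} := by
      intro x hx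
      have hfix : ∀ y ∈ B', y ∈ B → y = 1 := by
        intro y hy hyB
        have h2 : s * y * s⁻¹ = y := by
          rw [mem'.comm s hsB' y hy, mul_inv_cancel_right]
        rcases h.all y hyB with h3 | rfl | rfl | rfl
        · exact h3
        · rw [hsb] at h2; exact absurd h2.symm hbc
        · rw [hsc] at h2; exact absurd h2 hbc
        · exact absurd hy hz
      rcases hB'D x hx with hxB | hxB
      · left; exact hfix x hx hxB
      · right
        have h2 : s * x ∈ B := by
          have e : s * x = (t⁻¹ * (t * s) * t) * (t * t)⁻¹ * (t * x) := by group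
          rw [e]
          exact B.mul_mem (B.mul_mem (tn' _ hts) (B.inv_mem tt)) hxB
        have h3 := hfix _ (B'.mul_mem hsB' hx) h2
        have h4 : x = s⁻¹ := eq_inv_of_mul_eq_one_right h3
        rw [h4]
        exact inv_eq_of_mul_eq_one_left hs2
    have h3 : Nat.card B' ≤ ({1, s} : Set Y).ncard := Set.ncard_le_ncard h1 (Set.toFinite _)
    have h4 := Set.ncard_insert_le (1 : Y) {s}
    rw [Set.ncard_singleton] at h4
    omega
  have hzs : b * c ≠ s := fun h1 => hsB (h1 ▸ B.mul_mem hb hc)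
  have h' := mkSq B' hB'U cB' (b * c) hzB' s hsB' h.z_ne hs1 hzs
  refine twoFour h h' hs2 hsb (fun v hv => not_Ee (fun x hx => ?_) hv) (fun v hv => not_Ee (fun x hx => ?_) hv)
    (fun i hi hi0 hsi f hf hsf => ?_)
  · rw [hsn x hx]; exact tn' x hx
  · have hz1 : b * (b * c) * b⁻¹ = b * c := by
      rw [mem.comm b hb _ (B.mul_mem hb hc), mul_inv_cancel_right]
    have hz2 : b * s * b⁻¹ = b * c * s := by
      have e : b * s * b⁻¹ = b * (s * b * s⁻¹)⁻¹ * s := by group
      rw [e, hsb, inv_eq_of_mul_eq_one_left c2]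
    rcases h'.all x hx with rfl | rfl | rfl | rfl
    · have e : b * 1 * b⁻¹ = 1 := by group
      rw [e]; exact B'.one_mem
    · rw [hz1]; exact hzB'
    · rw [hz2]; exact B'.mul_mem hzB' hsB'
    · have e : b * (b * c * s) * b⁻¹ = (b * (b * c) * b⁻¹) * (b * s * b⁻¹) := by group
      rw [e, hz1, hz2]
      exact B'.mul_mem hzB' (B'.mul_mem hzB' hsB')
  · have hsw : s • w ≠ w := by
      intro h1
      apply htw
      have h2 : (t * s) • w = w := hw _ hts
      rw [mul_smul, h1] at h2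
      exact h2
    have hw0 : w ≠ 0 := by
      rintro rfl
      exact htw (smul_zero t)
    have hwi : w ≠ i := by
      rintro rfl
      exact hsw ((dd_eq_zero two).1 hsi)
    rcases four_add two (cF B hB cB) hi hi0 hw hw0 hwi f hf with h1 | h1 | h1 | h1
    · exact Or.inl h1
    · exact Or.inr h1
    · exfalso
      rw [h1] at hsf
      exact hsw ((dd_eq_zero two).1 hsf)
    · exfalso
      rw [h1, dd_add, hsi, add_zero] at hsf
      exact hsw ((dd_eq_zero two).1 hsf)

/-- `|T| = 8` -/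
theorem sylow [Finite Y] [Finite V] {U : Set (Subgroup Y)} (cls : Cls V U) (noff : NoOff Y V)
    (ind : ∀ A ∈ U, (Ee V A).index = 2) (hV : Nat.card V = 32) {B : Subgroup Y} (hB : B ∈ U) (cB : Nat.card B = 4)
    {T : Subgroup Y} (hT : IsPGroup 2 T) (hBT : B ≤ T) {t : Y} (ht : t ∈ T) (tn : ∀ x ∈ B, t * x * t⁻¹ ∈ B)
    (tt : t * t ∈ B) {w : V} (hw : w ∈ fx V B) (htw : t • w ≠ w) : Nat.card T = 8 := by
  have h := main cls noff ind hV hB cB hT hBT ht tn tt hw htw
  have htB : t ∉ B := fun h1 => htw (hw t h1)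
  have h1 : (B.subgroupOf T).index = 2 := by
    rw [Subgroup.index_eq_two_iff']
    refine ⟨⟨t, ht⟩, fun b => ?_⟩
    rw [mem_subgroupOf, mem_subgroupOf]
    change Xor (t * (b : Y) ∈ B) ((b : Y) ∈ B)
    by_cases hb : (b : Y) ∈ B
    · right
      refine ⟨hb, fun h3 => htB ?_⟩
      have e : t = t * (b : Y) * (b : Y)⁻¹ := by group
      rw [e]
      exact B.mul_mem h3 (B.inv_mem hb)
    · left
      exact ⟨(h b b.2).resolve_left hb, hb⟩
  have h2 := Subgroup.card_mul_index (B.subgroupOf T)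
  rw [h1, Nat.card_congr (Subgroup.subgroupOfEquivOfLe hBT).toEquiv, cB] at h2
  exact h2.symm

end Cfsg.Agent.Omega.NO1.TH.DEight
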