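import Cfsg.Agent.Omega.NO1.TH.Stmt
import Cfsg.Agent.Omega.NO1.TH.LemQ

/-!
# N1, one component: the world is inherited by subgroups (bb OMEGA 20114, helper620; 20994, helper406)

Case (A) of the amalgam: a member `B ≤ R = T_H` with `W ≰ E_B`.  Then `O₂(H) = 1` (LEMMA Q, `LemQ.lean`) and all
fields of `World` hold for `H`, the class `cl B` of the `H`-conjugates of `B`, `R ∈ Syl₂(H)`, `H ∩ M`, the same `V`.
-/

set_option autoImplicit false
set_option linter.unusedSectionVars false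

namespace Cfsg.Agent.Omega.NO1.TH

open Subgroup Cfsg.Agent.Omega.NO1.AB
open scoped Pointwise

universe u

section sub

variable {Y : Type u} [Group Y] {V : Type u} [AddCommGroup V] [DistribMulAction Y V] {H : Subgroup Y}

/-! ### subgroups of `H` as subgroups of `Y` -/

theorem Ee_map (B : Subgroup H) : Ee V (B.map H.subtype) = Ee V B := by
  ext v
  constructor
  · intro h b hb
    have h1 := h b ⟨b, hb, rfl⟩
    rw [fx_map] at h1
    exact h1
  · rintro h _ ⟨b, hb, rfl⟩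
    rw [fx_map]
    exact h b hb

theorem fx_subgroupOf {B : Subgroup Y} (hBH : B ≤ H) : fx V (B.subgroupOf H) = fx V B := by
  rw [← fx_map, map_subgroupOf_eq_of_le hBH]

theorem Ee_subgroupOf {B : Subgroup Y} (hBH : B ≤ H) : Ee V (B.subgroupOf H) = Ee V B := by
  rw [← Ee_map, map_subgroupOf_eq_of_le hBH]

theorem card_map_sub (B : Subgroup H) : Nat.card ↥(B.map H.subtype) = Nat.card B :=
  (Nat.card_congr (B.equivMapOfInjective _ H.subtype_injective).toEquiv).symm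

theorem conj_map (h : H) (B : Subgroup H) :
    (MulAut.conj h • B).map H.subtype = MulAut.conj (h : Y) • B.map H.subtype := by
  ext y
  rw [mem_conj]
  constructor
  · rintro ⟨b, hb, rfl⟩
    rw [SetLike.mem_coe, mem_conj] at hb
    exact ⟨_, hb, rfl⟩
  · rintro ⟨b, hb, hby⟩
    refine ⟨h * b * h⁻¹, conj_mem_conj hb, ?_⟩
    change (h : Y) * b * (h : Y)⁻¹ = y
    have hby' : (b : Y) = (h : Y)⁻¹ * y * h := hby
    rw [hby']
    group

theorem mem_of_map {B : Subgroup H} {E F : AddSubgroup V} (h : Mem (B.map H.subtype) E F) : Mem B E F where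
  comm := fun b hb c hc => Subtype.ext (h.comm b ⟨b, hb, rfl⟩ c ⟨c, hc, rfl⟩)
  sq := fun b hb => Subtype.ext (h.sq b ⟨b, hb, rfl⟩)
  FE := h.FE
  VB := fun b hb => h.VB b ⟨b, hb, rfl⟩
  EB := fun b hb => h.EB b ⟨b, hb, rfl⟩
  FB := fun b hb => h.FB b ⟨b, hb, rfl⟩
  CB := fun v hv => h.CB v (by
    rintro _ ⟨b, hb, rfl⟩
    exact hv b hb)
  inj := fun w hw b hb hbw => Subtype.ext (h.inj w hw b ⟨b, hb, rfl⟩ hbw)
  surj := fun w hw e he => by
    obtain ⟨_, ⟨b, hb, rfl⟩, h1⟩ := h.surj w hw e he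
    exact ⟨b, hb, h1⟩
  ne := h.ne

/-- the class of `B` in `H` -/
def cl (B : Subgroup H) : Set (Subgroup H) := {C | ∃ h : H, C = MulAut.conj h • B}

theorem self_mem_cl (B : Subgroup H) : B ∈ cl B := ⟨1, by rw [map_one, one_smul]⟩

theorem cl_map {U : Set (Subgroup Y)} (hc : Cls V U) {B : Subgroup H} (hB : B.map H.subtype ∈ U) {C : Subgroup H}
    (hC : C ∈ cl B) : C.map H.subtype ∈ U := by
  obtain ⟨h, rfl⟩ := hC
  rw [conj_map]
  exact hc.conj _ hB _

/-- the class is a class of members -/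
theorem cls_sub {U : Set (Subgroup Y)} (hc : Cls V U) {B : Subgroup H} (hB : B.map H.subtype ∈ U) :
    Cls V (cl B) where
  two := hc.two
  mem := fun C hC => by
    have h1 := hc.mem _ (cl_map hc hB hC)
    rw [Ee_map, fx_map] at h1
    exact mem_of_map h1
  mu := fun C hC A₀ hA₀ => by
    have h1 := hc.mu _ (cl_map hc hB hC) (A₀.map H.subtype) (map_mono hA₀)
    rw [card_map_sub, fx_map, Ee_map] at h1
    exact h1
  conj := by
    rintro _ ⟨h, rfl⟩ y
    exact ⟨y * h, by rw [conj_smul_smul]⟩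
  eq := by
    rintro _ ⟨h, rfl⟩ _ ⟨k, rfl⟩
    refine ⟨k * h⁻¹, ?_⟩
    rw [conj_smul_smul]
    congr 2
    group

/-- SOC is inherited -/
theorem soc_sub {U : Set (Subgroup Y)} (hc : Cls V U)
    (soc : ∀ B ∈ U, ∀ X : Subgroup Y, B ≤ X → (∃ v : V, v ≠ 0 ∧ ∀ x ∈ X, x • v = v) → B ⊓ ZN.o2 X ≠ ⊥)
    {B : Subgroup H} (hB : B.map H.subtype ∈ U) {C : Subgroup H} (hC : C ∈ cl B) (X : Subgroup H) (hCX : C ≤ X)
    (hX : ∃ v : V, v ≠ 0 ∧ ∀ x ∈ X, x • v = v) : C ⊓ ZN.o2 X ≠ ⊥ := by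
  obtain ⟨v, hv0, hv⟩ := hX
  intro h1
  apply soc _ (cl_map hc hB hC) (X.map H.subtype) (map_mono hCX) ⟨v, hv0, by
    rintro _ ⟨x, hx, rfl⟩
    exact hv x hx⟩
  rw [ZN.o2_map H.subtype H.subtype_injective, ← Subgroup.map_inf _ _ _ H.subtype_injective, h1, Subgroup.map_bot]

/-- lines are inherited -/
theorem Line.sub {B : Subgroup H} {x : V} {A₁ : Subgroup Y} (h : Line V (B.map H.subtype) x A₁) :
    Line V B x (A₁.subgroupOf H) := by
  have hA : A₁ ≤ H := h.le.trans (map_subtype_le B)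
  have hm : (A₁.subgroupOf H).map H.subtype = A₁ := map_subgroupOf_eq_of_le hA
  have hcard : Nat.card (A₁.subgroupOf H) = Nat.card A₁ := by
    rw [← card_map_sub, hm]
  refine ⟨?_, ?_, fun s hs => h.fix s hs, fun s hs r hr => h.quad s hs r hr, fun E' h1 h2 b hb => ?_⟩
  · intro s hs
    obtain ⟨b, hb, hbs⟩ := h.le (show (s : Y) ∈ A₁ from hs)
    have : b = s := Subtype.ext hbs
    rwa [← this]
  · rw [hcard]
    have := h.card
    rwa [Ee_map] at this
  · rw [hcard] at h2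
    exact h.tr E' (fun s hs v hv => h1 ⟨s, hA hs⟩ hs v hv) h2 b ⟨b, hb, rfl⟩

end sub

section world

variable {Y : Type u} [Group Y] {V : Type u} [AddCommGroup V] [DistribMulAction Y V] {U : Set (Subgroup Y)}
  {T : Sylow 2 Y} {M H R : Subgroup Y} {t : Y} {q : ℕ}

/-- `a² ≤ |B|`, `2 ≤ a` : `|V : E_B| < |B|` -/
theorem World.lt (w : World V U T M q) {B : Subgroup Y} (hB : B ∈ U) : (Ee V B).index < Nat.card B := by
  rw [w.ind B hB]
  have h1 := w.pf B hB
  have h2 := w.two_le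
  nlinarith

/-- **(q3)**: in case (A) no `H`-submodule `≠ 0` lies in `E_B` -/
theorem Amal.irr_sub [Finite Y] [Finite V] (a : Amal U T M H R t) (h : Amb V U T M)
    (soc : ∀ B ∈ U, ∀ X : Subgroup Y, B ≤ X → (∃ v : V, v ≠ 0 ∧ ∀ x ∈ X, x • v = v) → B ⊓ ZN.o2 X ≠ ⊥)
    {B : Subgroup Y} (hB : B ∈ U) (hBR : B ≤ R) (hlt : (Ee V B).index < Nat.card B)
    (hW : ¬ WW V H R ≤ Ee V B) {W : AddSubgroup V} (hWi : ∀ x : H, ∀ w ∈ W, x • w ∈ W) {C : Subgroup H}
    (hC : C ∈ cl (B.subgroupOf H)) (hWC : W ≤ Ee V C) : W = ⊥ := by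
  obtain ⟨P, _, hl, hW'⟩ := a.exists_lq h soc hB hBR hlt hW
  by_contra hne
  have h1 := hl.le_of_ne (hl.inf_core hW') (A := W) (fun x _ w hw => hWi x w hw) hne
  apply hl.VO_not_le hW'
  refine h1.trans ?_
  obtain ⟨x, rfl⟩ := hC
  rw [Ee_conj, Ee_subgroupOf (hBR.trans a.RH)] at hWC
  intro w hw
  have h2 := hWC (hWi x w hw)
  rw [mem_smul_as, inv_smul_smul] at h2
  exact h2

end world

end Cfsg.Agent.Omega.NO1.TH
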