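import Cfsg.Agent.Omega.NO1.TH.Stmt
import Cfsg.Agent.Omega.NO1.AB.LemE
import Cfsg.Agent.Omega.NO1.Alpha.Trick

/-!
# N1: no subgroup lies in no point (`HH = {}`; bb OMEGA 20641, helper367)

`Emp V U T M q` : the setting `Amb`, no `Bad` subgroup, `|V : E_B| = q` and (TR) (the fields of `World`).
`Emp.one` : a subgroup containing a member lies in at most one point.  `Emp.trick` : the TRICK.
`Emp.inf_eq` : if every Sylow 2-subgroup `T'` normalises `E_B` for some member `B ≤ T'` then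
`B ∩ M₂ = 1` for every member `B` and every point `M₂` not containing `B`.  `Emp.plus` : (+).
-/

set_option autoImplicit false
set_option linter.unusedSectionVars false

namespace Cfsg.Agent.Omega.NO1.TH

open Subgroup Cfsg.Agent.Omega.NO1.AB
open scoped Pointwise

universe u

variable {Y : Type u} [Group Y] {V : Type u} [AddCommGroup V] [DistribMulAction Y V]

theorem EX_eq (B : Subgroup Y) : Alpha.EX V B = Ee V B := rfl

theorem FX_eq (B : Subgroup Y) : Alpha.FX V B = fx V B := rfl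

/-- The setting `HH = {}`. -/
structure Emp (V : Type u) [AddCommGroup V] [DistribMulAction Y V] (U : Set (Subgroup Y)) (T : Sylow 2 Y)
    (M : Subgroup Y) (q : ℕ) : Prop where
  amb : Amb V U T M
  ind : ∀ B ∈ U, (Ee V B).index = q
  line : ∀ B ∈ U, ∀ x ∈ Ee V B, x ∉ fx V B → ∃ A₁ : Subgroup Y, Line V B x A₁
  none : ∀ X : Subgroup Y, ¬ Bad U M X
  ex : ∃ B, B ∈ U

theorem World.emp {U : Set (Subgroup Y)} {T : Sylow 2 Y} {M : Subgroup Y} {a : ℕ} (w : World V U T M a)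
    (he : ∀ X : Subgroup Y, ¬ Bad U M X) (hU : ∃ B, B ∈ U) : Emp V U T M a :=
  ⟨w.toAmb, w.ind, w.line, he, hU⟩

/-- a Sylow 2-subgroup of `X` over `R` -/
theorem exists_max [Finite Y] {X R : Subgroup Y} (hR : IsPGroup 2 R)
    (hRX : R ≤ X) : ∃ S : Subgroup Y, R ≤ S ∧ S ≤ X ∧ IsPGroup 2 S ∧
      ∀ S' ≤ X, IsPGroup 2 S' → Nat.card S' ≤ Nat.card S := by
  have : Fact (Nat.Prime 2) := ⟨Nat.prime_two⟩
  obtain ⟨P, hP⟩ := (hR.comap_of_injective X.subtype X.subtype_injective).exists_le_sylow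
  refine ⟨(P : Subgroup X).map X.subtype, ?_, map_subtype_le _, P.2.map _, ?_⟩
  · intro r hr
    exact ⟨⟨r, hRX hr⟩, hP (by rw [mem_comap]; exact hr), rfl⟩
  · intro S' hS' hS'2
    obtain ⟨P', hP'⟩ := (hS'2.comap_of_injective X.subtype X.subtype_injective).exists_le_sylow
    have h1 : Nat.card (P' : Subgroup X) = Nat.card (P : Subgroup X) :=
      Nat.card_congr (Sylow.equiv P' P).toEquiv
    rw [Nat.card_congr (Subgroup.equivMapOfInjective (P : Subgroup X) X.subtype X.subtype_injective).toEquiv.symm,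
      ← h1]
    refine Nat.card_le_card_of_injective (fun s : S' => (⟨⟨s, hS' s.2⟩, hP' (by
      rw [mem_comap]; exact s.2)⟩ : P')) ?_
    intro s s' hss
    exact Subtype.ext (congrArg (fun z : (P' : Subgroup X) => ((z : X) : Y)) hss)

namespace Emp

variable {U : Set (Subgroup Y)} {T : Sylow 2 Y} {M : Subgroup Y} {q : ℕ} (h : Emp V U T M q)
include h

/-- `C_Y(v) ≠ Y` -/
theorem stab_ne {v : V} (hv : v ≠ 0) : MulAction.stabilizer Y v ≠ ⊤ := by
  intro h1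
  have h2 : v ∈ fx V (⊤ : Subgroup Y) := fun y hy => by
    rw [← h1] at hy; exact hy
  obtain ⟨B, hB⟩ := h.ex
  rw [h.amb.fx_top_of hB] at h2
  exact hv h2

theorem exists_z [Finite V] : ∃ z : V, z ≠ 0 ∧ z ∈ fx V (T : Subgroup Y) := by
  have hne : ∃ w ∈ (⊤ : AddSubgroup V), w ≠ 0 := by
    obtain ⟨B, hB⟩ := h.ex
    obtain ⟨v, hv⟩ := (h.amb.cls.mem B hB).ne
    exact ⟨v, AddSubgroup.mem_top v, fun h1 => hv (by rw [h1]; exact zero_mem _)⟩
  obtain ⟨w, _, hw0, hw⟩ := HE.exists_fixed h.amb.two (R := (T : Subgroup Y)) T.2 ⊤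
    (fun _ _ _ _ => AddSubgroup.mem_top _) hne
  exact ⟨w, hw0, hw⟩

theorem pt {X : Subgroup Y} (hX : X ≠ ⊤) {B : Subgroup Y} (hB : B ∈ U) (hBX : B ≤ X) :
    ∃ y : Y, X ≤ MulAut.conj y • M := by
  by_contra hcon
  push Not at hcon
  exact h.none X ⟨hX, ⟨B, hB, hBX⟩, hcon⟩

theorem one [Finite Y] {B : Subgroup Y} (hB : B ∈ U) {x y : Y} (hx : B ≤ MulAut.conj x • M)
    (hy : B ≤ MulAut.conj y • M) : MulAut.conj x • M = MulAut.conj y • M :=
  h.amb.one_of_max (n := 0) (fun X hX => absurd hX (h.none X)) _ B rfl (h.amb.cls.mem B hB).isPGroup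
    ⟨B, hB, le_rfl⟩ (Nat.zero_le _) x y hx hy

/-- a proper subgroup containing `B` lies in the point of `B` -/
theorem le_pt [Finite Y] {B : Subgroup Y} (hB : B ∈ U) {y : Y} (hy : B ≤ MulAut.conj y • M) {X : Subgroup Y}
    (hX : X ≠ ⊤) (hBX : B ≤ X) : X ≤ MulAut.conj y • M := by
  obtain ⟨x, hx⟩ := h.pt hX hB hBX
  rwa [h.one hB (hBX.trans hx) hy] at hx

theorem mem_top [Finite Y] {B : Subgroup Y} (hB : B ∈ U) : B ≠ ⊤ := by
  intro h1
  have h2 := (h.amb.cls.mem B hB).isPGroup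
  rw [h1] at h2
  have h3 := h.amb.core ⊤ inferInstance h2
  exact Mem.ne_bot (h.amb.cls.mem B hB) (h1.trans h3)

theorem exists_pt [Finite Y] {B : Subgroup Y} (hB : B ∈ U) : ∃ y : Y, B ≤ MulAut.conj y • M :=
  h.pt (h.mem_top hB) hB le_rfl

/-- `C_Y(v) ≤ M_B` for `0 ≠ v ∈ F_B` -/
theorem stab_le [Finite Y] {B : Subgroup Y} (hB : B ∈ U) {y : Y} (hy : B ≤ MulAut.conj y • M) {v : V}
    (hv : v ∈ fx V B) (hv0 : v ≠ 0) : MulAction.stabilizer Y v ≤ MulAut.conj y • M :=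
  h.le_pt hB hy (h.stab_ne hv0) fun b hb => hv b hb

theorem fx_ne [Finite Y] [Finite V] {B : Subgroup Y} (hB : B ∈ U) : ∃ v ∈ fx V B, v ≠ 0 := by
  obtain ⟨k, _, hk⟩ := sylow_conj T (K := ⊤) le_top (h.amb.cls.mem B hB).isPGroup le_top
  obtain ⟨z, hz0, hz⟩ := h.exists_z
  refine ⟨k • z, ?_, fun h1 => hz0 ((smul_eq_zero_iff_eq k).1 h1)⟩
  intro b hb
  have := hz _ (hk b hb)
  rw [mul_smul, mul_smul, inv_smul_eq_iff] at this
  exact this

theorem Ee_ne_top {B : Subgroup Y} (hB : B ∈ U) : Ee V B ≠ ⊤ := by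
  intro h1
  obtain ⟨v, hv⟩ := (h.amb.cls.mem B hB).ne
  exact hv (by rw [h1]; exact AddSubgroup.mem_top _)

/-- `N_Y(E_B) ≤ M_B` -/
theorem stb_le [Finite Y] [Finite V] {B : Subgroup Y} (hB : B ∈ U) {y : Y} (hy : B ≤ MulAut.conj y • M) :
    (stb (Ee V B) : Subgroup Y) ≤ MulAut.conj y • M := by
  apply h.le_pt hB hy
  · intro h1
    have h2 := h.amb.irr_of (W := Ee V B) (fun y w hw => by
      have h2 : y ∈ (stb (Ee V B) : Subgroup Y) := by rw [h1]; exact Subgroup.mem_top _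
      exact (h2 w).2 hw) hB le_rfl
    obtain ⟨v, hv, hv0⟩ := h.fx_ne hB
    have h3 := (h.amb.cls.mem B hB).FE hv
    rw [h2] at h3
    exact hv0 (AddSubgroup.mem_bot.1 h3)
  · exact nm_iff.1 (h.amb.cls.mem B hB).nm

theorem sup_top [Finite Y] {B C : Subgroup Y} (hB : B ∈ U) (hC : C ∈ U) {x y : Y} (hx : B ≤ MulAut.conj x • M)
    (hy : C ≤ MulAut.conj y • M) (hne : MulAut.conj x • M ≠ MulAut.conj y • M) : B ⊔ C = ⊤ := by
  by_contra h1
  have h2 := h.le_pt hB hx h1 le_sup_left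
  exact hne (h.one hC (le_sup_right.trans h2) hy)

theorem fx_disj [Finite Y] {B C : Subgroup Y} (hB : B ∈ U) (hC : C ∈ U) {x y : Y} (hx : B ≤ MulAut.conj x • M)
    (hy : C ≤ MulAut.conj y • M) (hne : MulAut.conj x • M ≠ MulAut.conj y • M) {v : V} (h1 : v ∈ fx V B)
    (h2 : v ∈ fx V C) : v = 0 := by
  by_contra h0
  have h3 : C ≤ MulAction.stabilizer Y v := fun c hc => h2 c hc
  exact hne (h.one hC (h3.trans (h.stab_le hB hx h1 h0)) hy)

/-- one-sided TRICK -/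
theorem tr [Finite Y] [Finite V] {B C : Subgroup Y} (hB : B ∈ U) (hC : C ∈ U) {x : V} (hx : x ∈ Ee V B)
    (hN : ∀ b ∈ B, b • x = x → ∀ v ∈ Ee V C, b • v ∈ Ee V C) {b : Y} (hb : b ∈ B) : b • x + x ∈ Ee V C := by
  by_cases hxF : x ∈ fx V B
  · rw [hxF b hb, h.amb.two]
    exact (Ee V C).zero_mem
  · obtain ⟨A₁, hA₁⟩ := h.line B hB x hx hxF
    refine hA₁.tr (Ee V C) (fun s hs v hv => hN s (hA₁.le hs) (hA₁.fix s hs) v hv) ?_ b hb
    have h1 := hA₁.card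
    rw [h.ind B hB] at h1
    have h2 : 0 < Nat.card A₁ := Nat.card_pos
    rw [h.ind C hC]
    omega

/-- the TRICK -/
theorem trick [Finite Y] [Finite V] {B C : Subgroup Y} (hB : B ∈ U) (hC : C ∈ U) (htop : B ⊔ C = ⊤)
    (h1 : ∀ x ∈ fx V C, x ∈ Ee V B → x ≠ 0 → ∀ b ∈ B, b • x = x → ∀ v ∈ Ee V C, b • v ∈ Ee V C)
    (h2 : ∀ x ∈ fx V B, x ∈ Ee V C → x ≠ 0 → ∀ c ∈ C, c • x = x → ∀ v ∈ Ee V B, c • v ∈ Ee V B) {x : V}
    (hx : x ∈ fx V C) (hxE : x ∈ Ee V B) : x = 0 := by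
  set P := (fx V B ⊓ Ee V C) ⊔ (fx V C ⊓ Ee V B) with hP
  have hmB := h.amb.cls.mem B hB
  have hmC := h.amb.cls.mem C hC
  have key : ∀ {B C : Subgroup Y}, B ∈ U → C ∈ U →
      (∀ x ∈ fx V C, x ∈ Ee V B → x ≠ 0 → ∀ b ∈ B, b • x = x → ∀ v ∈ Ee V C, b • v ∈ Ee V C) →
      Nm B ((fx V B ⊓ Ee V C) ⊔ (fx V C ⊓ Ee V B)) := by
    intro B C hB hC h1 b hb v hv
    obtain ⟨y, hy, x, hx, rfl⟩ := AddSubgroup.mem_sup.1 hv
    rw [smul_add, hy.1 b hb]
    refine AddSubgroup.add_mem _ (AddSubgroup.mem_sup_left hy) ?_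
    have h3 : b • x + x ∈ fx V B ⊓ Ee V C := by
      refine ⟨hx.2 b hb, ?_⟩
      by_cases hx0 : x = 0
      · rw [hx0, smul_zero, add_zero]; exact (Ee V C).zero_mem
      · exact h.tr hB hC hx.2 (h1 x hx.1 hx.2 hx0) hb
    have h4 := AddSubgroup.sub_mem _ (AddSubgroup.mem_sup_left (T := fx V C ⊓ Ee V B) h3)
      (AddSubgroup.mem_sup_right (S := fx V B ⊓ Ee V C) hx)
    rwa [add_sub_cancel_right] at h4
  have hNB : Nm B P := key hB hC h1
  have hNC : Nm C P := by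
    rw [hP, sup_comm]
    exact key hC hB h2
  have hN := hNB.sup hNC
  rw [htop] at hN
  have h3 := h.amb.irr_of (W := P) (fun y w hw => hN y (Subgroup.mem_top _) w hw) hB
    (sup_le (inf_le_left.trans hmB.FE) inf_le_right)
  have h4 : x ∈ P := AddSubgroup.mem_sup_right ⟨hx, hxE⟩
  rw [h3] at h4
  exact AddSubgroup.mem_bot.1 h4

/-- (SY) for the Sylow 2-subgroup `T` -/
theorem sy_conj (hSY : ∃ B ∈ U, B ≤ (T : Subgroup Y) ∧ Nm (T : Subgroup Y) (Ee V B)) (k : Y) :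
    ∃ B ∈ U, B ≤ MulAut.conj k • (T : Subgroup Y) ∧ Nm (MulAut.conj k • (T : Subgroup Y)) (Ee V B) := by
  obtain ⟨B, hB, hBT, hN⟩ := hSY
  refine ⟨_, h.amb.cls.conj B hB k, conj_le_conj k hBT, ?_⟩
  intro t ht v hv
  rw [mem_conj] at ht
  rw [Ee_conj, AddSubgroup.mem_pointwise_smul_iff_inv_smul_mem] at hv ⊢
  have h1 := hN _ ht _ hv
  rw [← mul_smul] at h1 ⊢
  have e : k⁻¹ * t * k * k⁻¹ = k⁻¹ * t := by group
  rwa [e] at h1

/-- **#20641 (1).** -/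
theorem claim [Finite Y] [Finite V]
    (hSY : ∃ B ∈ U, B ≤ (T : Subgroup Y) ∧ Nm (T : Subgroup Y) (Ee V B)) {x y : Y}
    (hne : MulAut.conj x • M ≠ MulAut.conj y • M) {R : Subgroup Y} (hR : IsPGroup 2 R)
    (hRx : R ≤ MulAut.conj x • M) (hRy : R ≤ MulAut.conj y • M)
    (hmax : ∀ S' ≤ MulAut.conj x • M ⊓ MulAut.conj y • M, IsPGroup 2 S' → Nat.card S' ≤ Nat.card R)
    {B : Subgroup Y} (hB : B ∈ U) (hBx : B ≤ MulAut.conj x • M) (hRB : Nm R (Ee V B)) {b : Y} (hb : b ∈ B)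
    (hby : b ∈ MulAut.conj y • M) : b = 1 := by
  by_contra hb1
  -- move `B ∩ M₂` into `R`
  have hNx := h.stb_le hB hBx
  have hD : B ⊓ MulAut.conj y • M ≤ stb (Ee V B) ⊓ MulAut.conj y • M :=
    inf_le_inf_right _ (nm_iff.1 (h.amb.cls.mem B hB).nm)
  obtain ⟨g, hg, hgR⟩ := conj_into (X := stb (Ee V B) ⊓ MulAut.conj y • M) (R := R)
    (le_inf (nm_iff.1 hRB) hRy) hR (fun R' hR' h1 => hmax R' (hR'.trans (inf_le_inf_right _ hNx)) h1) hD
    ((h.amb.cls.mem B hB).isPGroup.to_le inf_le_left)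
  set B₁ := MulAut.conj g • B with hB₁
  have hB₁U : B₁ ∈ U := h.amb.cls.conj B hB g
  have hE₁ : Ee V B₁ = Ee V B := by rw [hB₁, Ee_conj, stb_eq hg.1]
  have hB₁x : B₁ ≤ MulAut.conj x • M := (nm_iff.1 (by
    rw [← hE₁]; exact (h.amb.cls.mem _ hB₁U).nm) : B₁ ≤ stb (Ee V B)).trans hNx
  have hB₁R : B₁ ⊓ MulAut.conj y • M ≤ R := by
    intro r hr
    apply hgR
    rw [mem_conj]
    refine ⟨?_, (MulAut.conj y • M).mul_mem ((MulAut.conj y • M).mul_mem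
      ((MulAut.conj y • M).inv_mem hg.2) hr.2) hg.2⟩
    have h1 : r ∈ MulAut.conj g • B := hr.1
    exact mem_conj.1 h1
  -- `T₂`
  obtain ⟨k, hRk, hky⟩ := h.amb.exists_sylow hR hRy
  obtain ⟨C, hC, hCT, hNC⟩ := h.sy_conj hSY k
  have hCy : C ≤ MulAut.conj y • M := hCT.trans hky
  have hTx : MulAut.conj k • (T : Subgroup Y) ⊓ MulAut.conj x • M = R := by
    symm
    apply eq_of_le_of_card_ge (le_inf hRk hRx)
    exact hmax _ (le_inf inf_le_right (inf_le_left.trans hky))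
      ((conj_isPGroup (y := k) T.2).to_le inf_le_left)
  have htop := h.sup_top hB₁U hC hB₁x hCy hne
  -- the TRICK
  have htr : ∀ v ∈ fx V C, v ∈ Ee V B₁ → v = 0 := by
    intro v hv hvE
    refine h.trick hB₁U hC htop ?_ ?_ hv hvE
    · intro v hv _ hv0 c hc hcv
      exact hNC c (hRk (hB₁R ⟨hc, h.stab_le hC hCy hv hv0 hcv⟩))
    · intro v hv _ hv0 c hc hcv
      have h1 : c ∈ MulAut.conj x • M := h.stab_le hB₁U hB₁x hv hv0 hcv
      have h2 : c ∈ R := by rw [← hTx]; exact ⟨hCT hc, h1⟩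
      rw [hE₁]
      exact hRB c h2
  obtain ⟨z, hz0, hz⟩ := h.exists_z
  have hz1 : ∀ t ∈ MulAut.conj k • (T : Subgroup Y), t • k • z = k • z := by
    intro t ht
    rw [mem_conj] at ht
    have := hz _ ht
    rw [mul_smul, mul_smul, inv_smul_eq_iff] at this
    exact this
  refine hz0 ((smul_eq_zero_iff_eq k).1 (htr (k • z) (fun c hc => hz1 c (hCT hc)) ?_))
  -- `b₁ ∈ B₁ ∩ M₂`
  have hb₁ : g * b * g⁻¹ ∈ B₁ := conj_mem_conj hb
  have hb₁y : g * b * g⁻¹ ∈ MulAut.conj y • M := (MulAut.conj y • M).mul_mem ((MulAut.conj y • M).mul_mem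
      hg.2 hby) ((MulAut.conj y • M).inv_mem hg.2)
  refine (h.amb.cls.mem _ hB₁U).mem_of_fix h.amb.two hb₁ ?_ (hz1 _ (hRk (hB₁R ⟨hb₁, hb₁y⟩)))
  intro h1
  apply hb1
  have e : g⁻¹ * (g * b * g⁻¹) * g = b := by group
  rw [← e, h1]
  group

/-- **#20641 (2).** -/
theorem inf_eq [Finite Y] [Finite V]
    (hSY : ∃ B ∈ U, B ≤ (T : Subgroup Y) ∧ Nm (T : Subgroup Y) (Ee V B)) {x y : Y}
    (hne : MulAut.conj x • M ≠ MulAut.conj y • M) {B : Subgroup Y} (hB : B ∈ U)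
    (hBx : B ≤ MulAut.conj x • M) {b : Y} (hb : b ∈ B) (hby : b ∈ MulAut.conj y • M) : b = 1 := by
  by_contra hb1
  have hm := h.amb.cls.mem B hB
  obtain ⟨R, hR1, hR2, hR, hmax⟩ := exists_max (hm.isPGroup.to_le inf_le_left)
    (inf_le_inf_right (MulAut.conj y • M) hBx)
  obtain ⟨k, hRk, hky⟩ := h.amb.exists_sylow hR (hR2.trans inf_le_right)
  obtain ⟨C, hC, hCT, hNC⟩ := h.sy_conj hSY k
  have hCy : C ≤ MulAut.conj y • M := hCT.trans hky
  obtain ⟨z, hz0, hz⟩ := h.exists_z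
  have hz1 : ∀ t ∈ MulAut.conj k • (T : Subgroup Y), t • k • z = k • z := by
    intro t ht
    rw [mem_conj] at ht
    have := hz _ ht
    rw [mul_smul, mul_smul, inv_smul_eq_iff] at this
    exact this
  have hk0 : k • z ≠ 0 := fun h1 => hz0 ((smul_eq_zero_iff_eq k).1 h1)
  -- `z ∈ E_B`, `z ∉ F_B`
  have hzE : k • z ∈ Ee V B := hm.mem_of_fix h.amb.two hb hb1 (hz1 b (hRk (hR1 ⟨hb, hby⟩)))
  have hzC : k • z ∈ fx V C := fun c hc => hz1 c (hCT hc)
  have hzF : k • z ∉ fx V B := fun h1 => hk0 (h.fx_disj hB hC hBx hCy hne h1 hzC)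
  -- `[z, B] ≤ E_C`
  have h1 : ∀ c ∈ B, c • k • z + k • z ∈ Ee V C := fun c hc => h.tr hB hC hzE (fun d hd hdz =>
    hNC d (hRk (hR1 ⟨hd, h.stab_le hC hCy hzC hk0 hdz⟩))) hc
  obtain ⟨u, hu, huz⟩ : ∃ u ∈ B, u • k • z ≠ k • z := by
    by_contra hcon
    push Not at hcon
    exact hzF hcon
  set v := u • k • z + k • z with hv
  have hv0 : v ≠ 0 := by
    intro h2
    apply huz
    have h3 := h.amb.two (k • z)
    exact add_right_cancel (h2.trans h3.symm)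
  have hvF : v ∈ fx V B := hzE u hu
  have hvE : v ∈ Ee V C := h1 u hu
  have hvC : v ∉ fx V C := fun h2 => hv0 (h.fx_disj hB hC hBx hCy hne hvF h2)
  -- `1 ≠ s_v ∈ C ∩ M₁`
  have hmC := h.amb.cls.mem C hC
  obtain ⟨w, hw⟩ := hmC.ne
  obtain ⟨s, hs, hsv⟩ := hmC.surj w hw v hvE
  have hs1 : s ≠ 1 := by
    rintro rfl
    rw [one_smul, h.amb.two, zero_add] at hsv
    exact hvC hsv
  have hsfix : s • v = v := by
    have h2 : s • (s • w + w + v) = s • w + w + v := hsv s hs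
    rw [smul_add, smul_add, ← mul_smul, hmC.sq s hs, one_smul, add_comm w (s • w)] at h2
    exact add_left_cancel h2
  refine hs1 (h.claim hSY hne.symm hR (hR2.trans inf_le_right) (hR2.trans inf_le_left) ?_ hC hCy
    (hNC.mono hRk) hs (h.stab_le hB hBx hvF hv0 hsfix))
  intro S' hS'
  exact hmax S' (by rw [inf_comm]; exact hS')

/-- **#20641 (3)**: (+). -/
theorem plus [Finite Y] [Finite V]
    (hSY : ∃ B ∈ U, B ≤ (T : Subgroup Y) ∧ Nm (T : Subgroup Y) (Ee V B)) {y : Y} {B : Subgroup Y} (hB : B ∈ U)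
    (hBy : B ≤ MulAut.conj y • M) {x : Y} {v : V} (hv : v ∈ Ee V B) (hv0 : v ≠ 0)
    (hT : ∀ t ∈ MulAut.conj x • (T : Subgroup Y), t • v = v) :
    MulAut.conj x • (T : Subgroup Y) ≤ MulAut.conj y • M := by
  have hTx : MulAut.conj x • (T : Subgroup Y) ≤ MulAut.conj x • M := conj_le_conj x h.amb.TM
  have hstab : MulAction.stabilizer Y v ≤ MulAut.conj x • M := by
    have h1 : MulAut.conj x⁻¹ • MulAction.stabilizer Y v ≤ M := by
      apply h.amb.max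
      · rw [← conj_le_iff]
        exact fun t ht => hT t ht
      · intro h1
        exact h.stab_ne hv0 (conj_eq_top h1)
    rw [conj_le_iff, inv_inv] at h1
    exact h1
  by_cases hvF : v ∈ fx V B
  · have h1 : MulAut.conj x • (T : Subgroup Y) ≤ MulAction.stabilizer Y v := fun t ht => hT t ht
    exact h1.trans (h.stab_le hB hBy hvF hv0)
  · have hm := h.amb.cls.mem B hB
    obtain ⟨w, hw⟩ := hm.ne
    obtain ⟨s, hs, hsv⟩ := hm.surj w hw v hv
    have hs1 : s ≠ 1 := by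
      rintro rfl
      rw [one_smul, h.amb.two, zero_add] at hsv
      exact hvF hsv
    have hsfix : s • v = v := by
      have h2 : s • (s • w + w + v) = s • w + w + v := hsv s hs
      rw [smul_add, smul_add, ← mul_smul, hm.sq s hs, one_smul, add_comm w (s • w)] at h2
      exact add_left_cancel h2
    by_cases hne : MulAut.conj y • M = MulAut.conj x • M
    · rw [hne]; exact hTx
    · exact absurd (h.inf_eq hSY hne hB hBy hs (hstab hsfix)) hs1

/-- (SY) holds if `T` contains no pair of COR 3 -/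
theorem sy_of_no_cor3 [Finite Y] [Finite V]
    (hno : ∀ B ∈ U, ∀ C ∈ U, B ≤ (T : Subgroup Y) → C ≤ (T : Subgroup Y) → ¬ Cor3 V B C) (hex : ∃ B, B ∈ U) :
    ∃ B ∈ U, B ≤ (T : Subgroup Y) ∧ Nm (T : Subgroup Y) (Ee V B) := by
  obtain ⟨B, hB⟩ := hex
  obtain ⟨k, _, hk⟩ := sylow_conj T (K := ⊤) le_top (h.amb.cls.mem B hB).isPGroup le_top
  have h1 : MulAut.conj k⁻¹ • B ≤ (T : Subgroup Y) := by
    intro b hb
    rw [mem_conj, inv_inv] at hb
    have := hk _ hb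
    have e : k⁻¹ * (k * b * k⁻¹) * k = b := by group
    rwa [e] at this
  exact ⟨_, h.amb.cls.conj B hB k⁻¹, h1, h.amb.cls.nm_of_no_cor3 T.2 hno (h.amb.cls.conj B hB k⁻¹) h1⟩

end Emp

end Cfsg.Agent.Omega.NO1.TH
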