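import Cfsg.Agent.Omega.NO1.TH.KOneDef

/-!
# N1, the amalgam `(H, H^t)`, `k = 1`: THE END (bb OMEGA 20530, 20698, 21741): the hypotheses

`Side` : one side `H`; `B` is the only member in `R`, `Q = O₂(H)`, `N = [V, Q]` a natural `SL₂(c)`-module,
`I = N ∩ F_B`.  `EndS` : both sides.  `EndB.lean` deduces `EndS` from `TwoK` and `TwoK.main`, `TwoK.main_top`.
-/

set_option autoImplicit false
set_option linter.unusedSectionVars false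

namespace Cfsg.Agent.Omega.NO1.TH

open Subgroup Cfsg.Agent.Omega.NO1.AB
open scoped Pointwise

universe u

variable {Y : Type u} [Group Y]

/-- one side of `EndS` -/
structure Side (V : Type u) [AddCommGroup V] [DistribMulAction Y V] (U : Set (Subgroup Y)) (M H B Q : Subgroup Y)
    (N I : AddSubgroup V) (c : ℕ) : Prop where
  QB : Q ≤ B
  card_Q : Nat.card Q = c
  Q_H : ∀ x ∈ H, ∀ q ∈ Q, x * q * x⁻¹ ∈ Q
  /-- `Q` is in every member in `H` -/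
  Q_le : ∀ A ∈ U, A ≤ H → Q ≤ A
  N_H : ∀ x ∈ H, ∀ n ∈ N, x • n ∈ N
  card_N : Nat.card N = c * c
  card_I : Nat.card I = c
  I_eq : N ⊓ fx V B = I
  /-- `[V, q] = N`, `C_V(q) = N + F_B` for `1 ≠ q ∈ Q` -/
  comm : ∀ q ∈ Q, ∀ v : V, q • v + v ∈ N
  onto : ∀ q ∈ Q, q ≠ 1 → ∀ n ∈ N, ∃ v : V, q • v + v = n
  cent : ∀ q ∈ Q, q ≠ 1 → ∀ v : V, q • v = v → v ∈ N ⊔ fx V B
  fix : ∀ q ∈ Q, ∀ n ∈ N, q • n = n
  /-- the members `A` in `H` -/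
  NF : ∀ A ∈ U, A ≤ H → N ⊔ fx V A = N ⊔ fx V B
  card_pt : ∀ A ∈ U, A ≤ H → Nat.card ↥(N ⊓ fx V A) = c
  comm_A : ∀ A ∈ U, A ≤ H → ∀ a ∈ A, ∀ n ∈ N, a • n + n ∈ fx V A
  reg : ∀ A ∈ U, A ≤ H → ∀ n ∈ N, n ∉ fx V A → ∀ i ∈ N ⊓ fx V A, ∃ a ∈ A, a • n + n = i
  free : ∀ A ∈ U, A ≤ H → ∀ a ∈ A, ∀ n ∈ N, n ∉ fx V A → a • n = n → a ∈ Q
  pt : ∀ A ∈ U, A ≤ H → ∀ A₂ ∈ U, A₂ ≤ H → N ⊓ fx V A = N ⊓ fx V A₂ ∨ N ⊓ fx V A ⊓ fx V A₂ = ⊥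
  le_M : ∀ A ∈ U, A ≤ H → (A ≤ M ↔ N ⊓ fx V A = I)
  opp : ∃ A ∈ U, A ≤ H ∧ ¬ A ≤ M
  /-- a 2-element of `H` trivial on `N` and on the common fixed points of the members in `H` is in `Q` -/
  ker : ∀ x ∈ H, (∃ k : ℕ, x ^ 2 ^ k = 1) → (∀ n ∈ N, x • n = n) →
    (∀ v : V, (∀ A ∈ U, A ≤ H → v ∈ fx V A) → x • v = v) → x ∈ Q

/-- Both sides: `R` has exactly one member `B`, `B = Q × Q'`, `N ∩ N' = I = N ∩ F_B`, `E_B = N + N' + F_B`. -/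
structure EndS (V : Type u) [AddCommGroup V] [DistribMulAction Y V] (U : Set (Subgroup Y)) (T : Sylow 2 Y)
    (M H H' R B Q Q' : Subgroup Y) (N N' I : AddSubgroup V) (c : ℕ) (t : Y) : Prop where
  amb : Amb V U T M
  a : Amal U T M H R t
  a' : Amal U T M H' R t
  four : 4 ≤ c
  s : Side V U M H B Q N I c
  s' : Side V U M H' B Q' N' I c
  H'_eq : H' = MulAut.conj t • H
  H_eq : H = MulAut.conj t • H'
  Q'_eq : Q' = MulAut.conj t • Q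
  Q_eq : Q = MulAut.conj t • Q'
  N'_eq : N' = t • N
  N_eq : N = t • N'
  hB : B ∈ U
  BR : B ≤ R
  /-- `B` is the only member in `R` -/
  uniq : ∀ A ∈ U, A ≤ R → A = B
  /-- `t` normalises `B` -/
  tB : ∀ b ∈ B, t * b * t⁻¹ ∈ B
  QQ' : Q ⊓ Q' = ⊥
  mul : ∀ b ∈ B, ∃ q ∈ Q, ∃ q' ∈ Q', b = q * q'
  NN' : N ⊓ N' = I
  E_eq : Ee V B = N ⊔ N' ⊔ fx V B
  /-- `C_R(I) = B` -/
  P_eq : ∀ r ∈ R, (∀ i ∈ I, r • i = i) → r ∈ B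
  card_V : Nat.card V = c * Nat.card ↥(Ee V B)

theorem EndS.swap {V : Type u} [AddCommGroup V] [DistribMulAction Y V] {U : Set (Subgroup Y)} {T : Sylow 2 Y}
    {M H H' R B Q Q' : Subgroup Y} {N N' I : AddSubgroup V} {c : ℕ} {t : Y}
    (h : EndS V U T M H H' R B Q Q' N N' I c t) (hQ : ∀ q ∈ Q, ∀ q' ∈ Q', q * q' = q' * q) :
    EndS V U T M H' H R B Q' Q N' N I c t where
  amb := h.amb
  a := h.a'
  a' := h.a
  four := h.four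
  s := h.s'
  s' := h.s
  H'_eq := h.H_eq
  H_eq := h.H'_eq
  Q'_eq := h.Q_eq
  Q_eq := h.Q'_eq
  N'_eq := h.N_eq
  N_eq := h.N'_eq
  hB := h.hB
  BR := h.BR
  uniq := h.uniq
  tB := h.tB
  QQ' := by rw [inf_comm]; exact h.QQ'
  mul := fun b hb => by
    obtain ⟨q, hq, q', hq', rfl⟩ := h.mul b hb
    exact ⟨q', hq', q, hq, hQ q hq q' hq'⟩
  NN' := by rw [inf_comm]; exact h.NN'
  E_eq := by rw [h.E_eq, sup_comm N N']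
  P_eq := h.P_eq
  card_V := h.card_V

end Cfsg.Agent.Omega.NO1.TH
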