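import Cfsg.Agent.Omega.NO1.TH.KOneOut
import Cfsg.Agent.Omega.NO1.TH.EndDef

/-!
# N1, the amalgam `(H, H^t)`, `k = 1`: THE END, (0'), (1') (bb OMEGA 20698, 21741)

`TwoE` : the input; (1') a member in `R` is in none or in both of `Q`, `Q'`.
-/

set_option autoImplicit false
set_option linter.unusedSectionVars false
set_option linter.unusedVariables false

namespace Cfsg.Agent.Omega.NO1.TH

open Subgroup Cfsg.Agent.Omega.NO1.AB
open scoped Pointwise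

universe u

variable {Y : Type u} [Group Y] {V : Type u} [AddCommGroup V] [DistribMulAction Y V]

/-- The input of THE END: `TwoK`, `c ≥ 4`, `|V : E_A| = c`, no offender. -/
structure TwoE (V : Type u) [AddCommGroup V] [DistribMulAction Y V] (U : Set (Subgroup Y)) (T : Sylow 2 Y)
    (M H H' R P P' : Subgroup Y) (D D' W₁ W₁' : AddSubgroup V) (c : ℕ) (t : Y) : Prop
    extends TwoK V U T M H H' R P P' D D' W₁ W₁' c t where
  four : 4 ≤ c
  ind : ∀ A ∈ U, Nat.card V = c * Nat.card ↥(Ee V A)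
  noff : ∀ A : Subgroup Y, ElAb A → A ≠ ⊥ → Nat.card A < (fx V A).index

theorem TwoE.swap {U : Set (Subgroup Y)} {T : Sylow 2 Y} {M H H' R P P' : Subgroup Y} {D D' W₁ W₁' : AddSubgroup V}
    {c : ℕ} {t : Y} (h : TwoE V U T M H H' R P P' D D' W₁ W₁' c t) :
    TwoE V U T M H' H R P' P D' D W₁' W₁ c t :=
  { h.toTwoK.swap with
    four := h.four
    ind := h.ind
    noff := h.noff }

theorem bk_comm {a b : Y} (hab : a * b = b * a) (v : V) : bk a (bk b v) = bk b (bk a v) := by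
  simp only [bk_apply, smul_add, ← mul_smul, hab]
  abel

namespace TwoK

variable [Finite Y] [Finite V] {U : Set (Subgroup Y)} {T : Sylow 2 Y} {M H H' R P P' : Subgroup Y}
  {D D' W₁ W₁' : AddSubgroup V} {c : ℕ} {t : Y} (h : TwoK V U T M H H' R P P' D D' W₁ W₁' c t)
include h

theorem exists_W₁ : ∃ w ∈ W₁, w ∉ D := by
  by_contra hcon
  push Not at hcon
  have h4 : W₁ = D := le_antisymm hcon h.k.DW
  have h5 := h.k.card_W₁
  rw [h4] at h5
  have h6 : 0 < Nat.card D := Nat.card_pos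
  have h7 := h.k.two_le
  nlinarith

theorem smul_W₁ {x : Y} (hx : x ∈ H) (hxM : x ∈ M) : x • W₁ = W₁ := smul_of_mem fun w hw => h.k.stab x hx hxM w hw

theorem conj_le_H {A : Subgroup Y} {x : Y} (hx : x ∈ H) (hAH : A ≤ H) : MulAut.conj x • A ≤ H := by
  intro y hy
  rw [mem_conj] at hy
  have h1 := H.mul_mem (H.mul_mem hx (hAH hy)) (H.inv_mem hx)
  have e : x * (x⁻¹ * y * x) * x⁻¹ = y := by group
  rwa [e] at h1

theorem conj_not_Q {A : Subgroup Y} {x : Y} (hx : x ∈ H) (hAQ : ¬ A ≤ QQ H R) : ¬ MulAut.conj x • A ≤ QQ H R := by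
  intro h1
  apply hAQ
  rw [conj_le_iff, h.conj_Q (H.inv_mem hx)] at h1
  exact h1

theorem WF_conj {A : Subgroup Y} {x : Y} (hx : x ∈ H) :
    WW V H R ⊓ fx V (MulAut.conj x • A) = x • (WW V H R ⊓ fx V A) := by
  rw [fx_conj, smul_inf_as, smul_WW hx]

/-- a member in `H ∩ M` fixes `W₁` -/
theorem WF_M {A : Subgroup Y} (hA : A ∈ U) (hAH : A ≤ H) (hAQ : ¬ A ≤ QQ H R) (hAM : A ≤ M) :
    WW V H R ⊓ fx V A = W₁ := by
  obtain ⟨m, hm, hmR⟩ := conj_into (X := H ⊓ M) (le_inf h.a.RH h.RM) h.a.R2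
    (fun R' h1 h2 => h.a.card_le h.a.bad.ne le_rfl (h1.trans inf_le_left) h2) (le_inf hAH hAM)
    (h.amb.cls.mem A hA).isPGroup
  have h1 := h.WF_conj (A := A) hm.1
  have h2 := h.conj_not_Q hm.1 hAQ
  have hU := h.amb.cls.conj A hA m
  have h3 : WW V H R ⊓ fx V (MulAut.conj m • A) = W₁ := by
    apply le_antisymm
    · rintro w ⟨hw, hwF⟩
      exact h.fx_W₁ hU hmR h2 hw hwF
    · exact le_inf h.k.W₁W (h.W₁_fx hU hmR h2)
  rw [h3] at h1
  have h4 : m⁻¹ • W₁ = m⁻¹ • m • (WW V H R ⊓ fx V A) := by rw [← h1]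
  rw [smul_smul_as, inv_mul_cancel, one_smul, h.smul_W₁ (H.inv_mem hm.1) (M.inv_mem hm.2)] at h4
  exact h4.symm

theorem exists_H : ∃ x ∈ H, x ∉ M := SetLike.not_le_iff_exists.1 (Amal.H_not_le h.a h.amb)

/-- a member in `H` which is not in `Q` has an opposite conjugate -/
theorem exists_opp {A : Subgroup Y} (hA : A ∈ U) (hAH : A ≤ H) (hAQ : ¬ A ≤ QQ H R) :
    ∃ x ∈ H, MulAut.conj x • A ∈ U ∧ MulAut.conj x • A ≤ H ∧ ¬ MulAut.conj x • A ≤ M := by
  by_contra hcon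
  have hcon' : ∀ x ∈ H, MulAut.conj x • A ≤ M := by
    intro x hx
    by_contra h1
    exact hcon ⟨x, hx, h.amb.cls.conj A hA x, h.conj_le_H hx hAH, h1⟩
  obtain ⟨x, hx, hxM⟩ := h.exists_H
  have h1 : A ≤ M := by
    have := hcon' 1 H.one_mem
    rwa [map_one, one_smul] at this
  have h2 := h.WF_conj (A := A) hx
  rw [h.WF_M hA hAH hAQ h1, h.WF_M (h.amb.cls.conj A hA x) (h.conj_le_H hx hAH) (h.conj_not_Q hx hAQ) (hcon' x hx)] at h2
  obtain ⟨w, hw, hwD⟩ := h.exists_W₁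
  apply hwD
  apply h.k.opp x hx hxM w hw
  rw [h2]
  exact smul_mem_smul_as hw

/-- an opposite member -/
theorem exists_A : ∃ A ∈ U, A ≤ H ∧ ¬ A ≤ M := by
  obtain ⟨B, hB, hBR, hBQ⟩ := Amal.exists_not_QQ h.a h.amb
  obtain ⟨x, -, h1, h2, h3⟩ := h.exists_opp hB (hBR.trans h.a.RH) hBQ
  exact ⟨_, h1, h2, h3⟩

theorem card_AQ {A : Subgroup Y} (hA : A ∈ U) (hAH : A ≤ H) (hAQ : ¬ A ≤ QQ H R) :
    Nat.card ↥(A ⊓ QQ H R) = c := by
  obtain ⟨x, hx, h1, h2, h3⟩ := h.exists_opp hA hAH hAQ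
  rw [← (h.main h1 h2 h3).cB, ← conj_card x (A ⊓ QQ H R), conj_inf, h.conj_Q hx]

theorem card_A' {A : Subgroup Y} (hA : A ∈ U) (hAH : A ≤ H) (hAQ : ¬ A ≤ QQ H R) :
    Nat.card A = c * c := by
  rw [h.card_mem hA hAH hAQ, h.card_AQ hA hAH hAQ]

theorem pre_eq {A : Subgroup Y} (hA : A ∈ U) (hAH : A ≤ H) (hAQ : ¬ A ≤ QQ H R) {w : V} (hw : w ∉ Ee V A) :
    pre A w (WW V H R ⊔ fx V A) = (A ⊓ QQ H R : Subgroup Y) := by
  apply Set.eq_of_subset_of_ncard_le (h.pre_sub hA hAH hAQ hw) _ (Set.toFinite _)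
  change Nat.card ↥(A ⊓ QQ H R) ≤ Nat.card (pre A w (WW V H R ⊔ fx V A))
  rw [h.card_pre' hA hAH hAQ hw, h.card_AQ hA hAH hAQ]

theorem mem_Q_of {A : Subgroup Y} (hA : A ∈ U) (hAH : A ≤ H) (hAQ : ¬ A ≤ QQ H R) {w : V} (hw : w ∉ Ee V A)
    {s : Y} (hs : s ∈ A) (h1 : s • w + w ∈ WW V H R ⊔ fx V A) : s ∈ QQ H R := by
  have h2 : s ∈ pre A w (WW V H R ⊔ fx V A) := ⟨hs, h1⟩
  rw [h.pre_eq hA hAH hAQ hw] at h2
  exact h2.2

theorem comm_Q {A : Subgroup Y} (hA : A ∈ U) (hAH : A ≤ H) (hAQ : ¬ A ≤ QQ H R) (w : V)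
    {s : Y} (hs : s ∈ A) (hsQ : s ∈ QQ H R) : s • w + w ∈ WW V H R ⊔ fx V A := by
  by_cases hw : w ∈ Ee V A
  · exact AddSubgroup.mem_sup_right (hw s hs)
  have h2 : s ∈ ((A ⊓ QQ H R : Subgroup Y) : Set Y) := ⟨hs, hsQ⟩
  rw [← h.pre_eq hA hAH hAQ hw] at h2
  exact h2.2

/-- `[E_A, A ∩ Q] ≤ W` -/
theorem comm_E {A : Subgroup Y} (hA : A ∈ U) (hAH : A ≤ H) (hAQ : ¬ A ≤ QQ H R) {e : V} (he : e ∈ Ee V A)
    {b : Y} (hb : b ∈ A) (hbQ : b ∈ QQ H R) : b • e + e ∈ WW V H R := by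
  have hm := h.amb.cls.mem A hA
  obtain ⟨w, hw⟩ := hm.ne
  obtain ⟨s, hs, h1⟩ := hm.surj w hw e he
  have e1 : e = bk s w + (s • w + w + e) := by
    rw [bk_apply, ← add_assoc, h.two, zero_add]
  obtain ⟨x, hx, f, hf, hxf⟩ := AddSubgroup.mem_sup.1 (h.comm_Q hA hAH hAQ w hb hbQ)
  have e2 : b • e + e = bk b (bk s w) := by
    change bk b e = _
    conv_lhs => rw [e1]
    rw [map_add, bk_apply b (s • w + w + e), h1 b hb, h.two, add_zero]
  have e3 : bk b w = x + f := by rw [bk_apply, hxf]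
  rw [e2, bk_comm (hm.comm b hb s hs), e3, map_add, bk_apply s f, hf s hs, h.two, add_zero, bk_apply]
  exact add_mem (smul_mem_WW (hAH hs) hx) hx

/-- `C_V(b) = W + F_A` for `1 ≠ b ∈ A ∩ Q` -/
theorem cent_b {A : Subgroup Y} (hA : A ∈ U) (hAH : A ≤ H) (hAQ : ¬ A ≤ QQ H R) {b : Y} (hb : b ∈ A)
    (hbQ : b ∈ QQ H R) (hb1 : b ≠ 1) {v : V} (hv : b • v = v) : v ∈ WW V H R ⊔ fx V A := by
  have hm := h.amb.cls.mem A hA
  have hvE := mem_E_of_fix hm h.two hb hb1 hv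
  obtain ⟨w, hw⟩ := hm.ne
  obtain ⟨s, hs, h1⟩ := hm.surj w hw v hvE
  obtain ⟨x, hx, f, hf, hxf⟩ := AddSubgroup.mem_sup.1 (h.comm_Q hA hAH hAQ w hb hbQ)
  have hxF : x ∉ fx V A := by
    intro h2
    exact hb1 (hm.inj w hw b hb (by rw [← hxf]; exact add_mem h2 hf))
  have e1 : v = bk s w + (s • w + w + v) := by
    rw [bk_apply, ← add_assoc, h.two, zero_add]
  -- `[x, s] = 0`
  have e2 : bk b v = bk s x := by
    have e3 : bk b w = x + f := by rw [bk_apply, hxf]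
    conv_lhs => rw [e1]
    rw [map_add, bk_apply b (s • w + w + v), h1 b hb, h.two, add_zero, bk_comm (hm.comm b hb s hs), e3, map_add,
      bk_apply s f, hf s hs, h.two, add_zero]
  have e4 : s • x = x := by
    rw [bk_apply, bk_apply, hv, h.two] at e2
    exact (HE.add_eq_zero' h.two).1 e2.symm
  have h3 := h.cent hA hAH hAQ hx hxF hs e4
  rw [e1]
  exact add_mem (h.comm_Q hA hAH hAQ w hs h3) (AddSubgroup.mem_sup_right h1)

/-- members which are not in `Q'` and fix ... : `cmK P W = cmK B W` -/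
theorem cm_eq {B : Subgroup Y} (hB : B ∈ U) (hBR : B ≤ R) (hBQ : ¬ B ≤ QQ H R) :
    cmK P (WW V H R) = cmK B (WW V H R) := by
  obtain ⟨h1, h2⟩ := h.k.cover B hB hBR hBQ
  apply le_antisymm
  · apply cm_le
    intro p hp w hw
    obtain ⟨b, hb, q, hq, rfl⟩ := exists_mul_of_sup
      (fun b hb q hq => conj_mem_QQ (h.a.RH (hBR hb)) hq) (h2 hp)
    rw [mul_smul, Amal.QQ_fix h.a h.amb hq hw]
    exact mem_cm hb hw
  · apply cm_le
    intro p hp w hw
    exact mem_cm (h1 hp) hw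

end TwoK

namespace TwoE

variable [Finite Y] [Finite V] {U : Set (Subgroup Y)} {T : Sylow 2 Y} {M H H' R P P' : Subgroup Y}
  {D D' W₁ W₁' : AddSubgroup V} {c : ℕ} {t : Y} (h : TwoE V U T M H H' R P P' D D' W₁ W₁' c t)
include h

theorem top {A : Subgroup Y} (hA : A ∈ U) (hAH : A ≤ H) (hAM : ¬ A ≤ M) : WW V H' R ⊔ Ee V A = ⊤ :=
  (h.main_top hA hAH hAM (h.ind A hA) (h.main hA hAH hAM).cA.ge).2.1

/-- `[V, A ∩ Q] ≤ W + [W', P']` -/
theorem comm_opp {A : Subgroup Y} (hA : A ∈ U) (hAH : A ≤ H) (hAM : ¬ A ≤ M) {b : Y} (hb : b ∈ A)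
    (hbQ : b ∈ QQ H R) (v : V) : b • v + v ∈ WW V H R ⊔ cmK P' (WW V H' R) := by
  have hv : v ∈ WW V H' R ⊔ Ee V A := by rw [h.top hA hAH hAM]; exact AddSubgroup.mem_top v
  obtain ⟨w, hw, e, he, rfl⟩ := AddSubgroup.mem_sup.1 hv
  have e1 : b • (w + e) + (w + e) = (b • e + e) + (b • w + w) := by rw [smul_add]; abel
  rw [e1]
  exact AddSubgroup.add_mem_sup (h.comm_E hA hAH (h.not_Q hAM) he hb hbQ)
    (mem_cm ((h.main hA hAH hAM).BP ⟨hb, hbQ⟩) hw)

/-- `[[W', P'], A] ≤ W` -/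
theorem cm_opp {A : Subgroup Y} (hA : A ∈ U) (hAH : A ≤ H) (hAM : ¬ A ≤ M) {a : Y} (ha : a ∈ A) {z : V}
    (hz : z ∈ cmK P' (WW V H' R)) : a • z + z ∈ WW V H R := by
  have hm := h.amb.cls.mem A hA
  have key : cmK P' (WW V H' R) ≤ (WW V H R).comap (bk a) := by
    apply cm_le
    intro p hp w hw
    obtain ⟨b, hb, q, hq, rfl⟩ := (h.main hA hAH hAM).mul p hp
    rw [mul_smul, Amal.QQ_fix h.a' h.amb hq hw]
    change bk a (bk b w) ∈ WW V H R
    rw [bk_comm (hm.comm a ha b hb.1)]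
    exact h.comm_E hA hAH (h.not_Q hAM) (hm.VB a ha w) hb.1 hb.2
  exact key hz

/-- `W + [W', P']` is `H`-invariant -/
theorem Wp_H {x : Y} (hx : x ∈ H) {v : V} (hv : v ∈ WW V H R ⊔ cmK P' (WW V H' R)) :
    x • v ∈ WW V H R ⊔ cmK P' (WW V H' R) := by
  obtain ⟨A, hA, hAH, hAM⟩ := h.exists_A
  have h1 : ∀ u ∈ R, ∀ n ∈ WW V H R ⊔ cmK P' (WW V H' R), u • n ∈ WW V H R ⊔ cmK P' (WW V H' R) := by
    intro u hu n hn
    obtain ⟨w, hw, z, hz, rfl⟩ := AddSubgroup.mem_sup.1 hn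
    rw [smul_add]
    exact AddSubgroup.add_mem_sup (smul_mem_WW (h.a.RH hu) hw) (h.cm_R hu hz)
  have h2 : ∀ u ∈ A, ∀ n ∈ WW V H R ⊔ cmK P' (WW V H' R), u • n ∈ WW V H R ⊔ cmK P' (WW V H' R) := by
    intro u hu n hn
    obtain ⟨w, hw, z, hz, rfl⟩ := AddSubgroup.mem_sup.1 hn
    have e1 : u • (w + z) = (u • w + (u • z + z)) + z := by
      rw [smul_add, add_assoc, add_assoc, h.two, add_zero]
    rw [e1]
    exact AddSubgroup.add_mem_sup (add_mem (smul_mem_WW (hAH hu) hw) (h.cm_opp hA hAH hAM hu hz)) hz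
  have h3 := inv_sup h1 h2
  rw [h.a.gen hAH hAM] at h3
  exact h3 x hx v hv

theorem smul_Wp {x : Y} (hx : x ∈ H) : x • (WW V H R ⊔ cmK P' (WW V H' R)) = WW V H R ⊔ cmK P' (WW V H' R) :=
  smul_of_mem fun _ hv => h.Wp_H hx hv

theorem comm_Wp {A : Subgroup Y} (hA : A ∈ U) (hAH : A ≤ H) (hAQ : ¬ A ≤ QQ H R) {b : Y} (hb : b ∈ A)
    (hbQ : b ∈ QQ H R) (v : V) : b • v + v ∈ WW V H R ⊔ cmK P' (WW V H' R) := by
  obtain ⟨x, hx, h1, h2, h3⟩ := h.exists_opp hA hAH hAQ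
  have h4 := h.comm_opp h1 h2 h3 (conj_mem_conj (g := x) hb) (conj_mem_QQ hx hbQ) (x • v)
  have e : (x * b * x⁻¹) • x • v + x • v = x • (b • v + v) := by
    rw [smul_add, ← mul_smul, ← mul_smul]
    congr 2; group
  rw [e, ← h.smul_Wp hx, mem_smul_as, inv_smul_smul] at h4
  exact h4

/-- `A ∩ Q` centralises `W + [W', P']` -/
theorem fix_Wp {A : Subgroup Y} (hA : A ∈ U) (hAH : A ≤ H) (hAQ : ¬ A ≤ QQ H R) {b : Y} (hb : b ∈ A)
    (hbQ : b ∈ QQ H R) {v : V} (hv : v ∈ WW V H R ⊔ cmK P' (WW V H' R)) : b • v = v := by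
  obtain ⟨x, hx, h1, h2, h3⟩ := h.exists_opp hA hAH hAQ
  have h5 := h.Wp_H hx hv
  obtain ⟨w, hw, z, hz, hwz⟩ := AddSubgroup.mem_sup.1 h5
  have h6 : x * b * x⁻¹ ∈ P' := (h.main h1 h2 h3).BP ⟨conj_mem_conj hb, conj_mem_QQ hx hbQ⟩
  have h7 : (x * b * x⁻¹) • x • v = x • v := by
    rw [← hwz, smul_add, Amal.QQ_fix h.a h.amb (conj_mem_QQ hx hbQ) hw,
      h.k'.P_fix _ h6 z (h.swap.cm_le_W₁ hz)]
  have e : (x * b * x⁻¹) • x • v = x • b • v := by
    rw [← mul_smul, ← mul_smul]; congr 1; group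
  rw [e] at h7
  exact smul_left_cancel x h7

/-- **(1')** a member in `R` which is not in `Q` is not in `Q'` -/
theorem not_Q' {B : Subgroup Y} (hB : B ∈ U) (hBR : B ≤ R) (hBQ : ¬ B ≤ QQ H R) : ¬ B ≤ QQ H' R := by
  intro hBQ'
  have hm := h.amb.cls.mem B hB
  have hBH : B ≤ H := hBR.trans h.a.RH
  obtain ⟨hBP, -⟩ := h.k.cover B hB hBR hBQ
  obtain ⟨A, hA, hAH, hAM⟩ := h.swap.exists_A
  obtain ⟨a, ha, haQ⟩ := h.swap.star hA hAH hAM
  have haP : a ∈ P := (h.swap.main hA hAH hAM).BP ha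
  have haa : a * a = 1 := (h.amb.cls.mem A hA).sq a ha.1
  -- `B` centralises `[V, a]`
  have hba : ∀ b ∈ B, ∀ v : V, bk b (bk a v) = 0 := by
    intro b hb v
    obtain ⟨w, hw, z, hz, hwz⟩ := AddSubgroup.mem_sup.1 (h.swap.comm_opp hA hAH hAM ha.1 ha.2 v)
    rw [bk_apply a, ← hwz, bk_apply, smul_add, Amal.QQ_fix h.a' h.amb (hBQ' hb) hw,
      h.k.P_fix b (hBP hb) z (h.cm_le_W₁ hz), h.two]
  have hbb : ∀ b ∈ B ⊓ QQ H R, ∀ b' ∈ B ⊓ QQ H R, ∀ v : V, bk b (bk b' v) = 0 := by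
    intro b hb b' hb' v
    rw [bk_apply b, bk_apply b', h.fix_Wp hB hBH hBQ hb.1 hb.2 (h.comm_Wp hB hBH hBQ hb'.1 hb'.2 v), h.two]
  have hy : ∀ b ∈ B, ∀ v : V, (a * b * a * b) • v = v + bk a (bk b v) := by
    intro b hb v
    have h1 := hba b hb (b • v)
    rw [bk_apply b] at h1
    have h2 : b • bk a (b • v) = bk a (b • v) := (HE.add_eq_zero' h.two).1 h1
    have h3 : a • b • v = bk a (b • v) + b • v := by
      rw [bk_apply, add_assoc, h.two, add_zero]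
    have h4 : b • b • v = v := by rw [← mul_smul, hm.sq b hb, one_smul]
    have h5 : a • a • b • v = b • v := by rw [← mul_smul, haa, one_smul]
    rw [mul_smul, mul_smul, mul_smul, h3, smul_add, h2, h4, bk_apply, bk_apply, bk_apply]
    simp only [smul_add]
    rw [h5]
    have e : b • v + a • b • v + a • v = v + v + (b • v + a • b • v + a • v) := by rw [h.two, zero_add]
    rw [e]
    abel
  have hmul : ∀ b ∈ B ⊓ QQ H R, ∀ b' ∈ B ⊓ QQ H R, ∀ v : V, bk (b * b') v = bk b v + bk b' v := by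
    intro b hb b' hb' v
    have h1 := hbb b hb b' hb' v
    have h2 : bk (b * b') v = bk b v + bk b' v + bk b (bk b' v) := by
      simp only [bk_apply, smul_add, mul_smul]
      have e : b • v + v + (b' • v + v) + (b • b' • v + b • v + (b' • v + v)) =
        (b • v + b • v) + (v + v) + (b' • v + b' • v) + (b • b' • v + v) := by abel
      rw [e]
      simp only [h.two, zero_add]
    rw [h2, h1, add_zero]
  let f : ↥(B ⊓ QQ H R) →* Y := MonoidHom.mk' (fun b => a * b * a * b) (by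
    intro b b'
    have key : ∀ v : V, ((a * (b * b' : Y) * a * (b * b' : Y)) * (a * b * a * b * (a * b' * a * b'))⁻¹) • v = v := by
      intro v
      obtain ⟨x, hx⟩ : ∃ x : V, v = (a * b * a * b * (a * b' * a * b')) • x :=
        ⟨_, (smul_inv_smul _ v).symm⟩
      rw [hx, ← mul_smul, inv_mul_cancel_right, hy _ (B.mul_mem b.2.1 b'.2.1), hmul b b.2 b' b'.2,
        mul_smul (a * (b : Y) * a * b), hy b' b'.2.1, hy b b.2.1]
      simp only [map_add]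
      rw [hba b b.2.1, map_zero, add_zero]
      abel
    have h1 := h.amb.faith _ key
    rw [mul_inv_eq_one] at h1
    exact h1)
  have hf : ∀ b : ↥(B ⊓ QQ H R), ∀ v : V, f b • v = v + bk a (bk (b : Y) v) := fun b v => hy b b.2.1 v
  have hinj : Function.Injective f := by
    rw [injective_iff_map_eq_one]
    intro b hb
    by_contra hb1
    have hb1' : (b : Y) ≠ 1 := fun h1 => hb1 (Subtype.ext h1)
    obtain ⟨v, hv⟩ := hm.ne
    have h1 := hf b v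
    rw [hb, one_smul] at h1
    have h2 : bk a (bk (b : Y) v) = 0 := by
      have := h1
      nth_rewrite 1 [← add_zero v] at this
      exact (add_left_cancel this).symm
    obtain ⟨x, hx, z, hz, hxz⟩ := AddSubgroup.mem_sup.1 (h.comm_Wp hB hBH hBQ b.2.1 b.2.2 v)
    have hz' : z ∈ WW V H' R := h.k'.W₁W (h.swap.cm_le_W₁ hz)
    have hzF : z ∈ fx V B := fun y hy => Amal.QQ_fix h.a' h.amb (hBQ' hy) hz'
    have hxF : x ∉ fx V B := by
      intro h3
      exact hb1' (hm.inj v hv b b.2.1 (by rw [← hxz]; exact add_mem h3 hzF))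
    have h3 : bk a x = 0 := by
      rw [bk_apply (b : Y), ← hxz, map_add, bk_apply a z, Amal.QQ_fix h.a' h.amb ha.2 hz', h.two, add_zero] at h2
      exact h2
    apply haQ
    apply h.k.free a haP x hx (fun h4 => hxF fun y hy => h.k.P_fix y (hBP hy) x h4)
    rw [bk_apply] at h3
    rw [h3]
    exact zero_mem _
  have hE : Ee V B ≤ fx V f.range := by
    rintro e he _ ⟨b, rfl⟩
    have h1 : bk (b : Y) e ∈ W₁ := h.fx_W₁ hB hBR hBQ (h.comm_E hB hBH hBQ he b.2.1 b.2.2)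
      (hm.EB b b.2.1 e he)
    rw [hf, bk_apply a, h.k.P_fix a haP _ h1, h.two, add_zero]
  have hel : ElAb f.range := by
    constructor
    · rintro _ ⟨b, rfl⟩ _ ⟨b', rfl⟩
      rw [← map_mul, ← map_mul]
      congr 1
      exact Subtype.ext (hm.comm b b.2.1 b' b'.2.1)
    · rintro _ ⟨b, rfl⟩
      rw [← map_mul]
      have h1 : b * b = 1 := Subtype.ext (hm.sq b b.2.1)
      rw [h1, map_one]
  have hcard : Nat.card f.range = c := by
    rw [← h.card_AQ hB hBH hBQ]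
    exact (Nat.card_congr (MonoidHom.ofInjective hinj).toEquiv).symm
  have hne : f.range ≠ ⊥ := by
    intro h1
    rw [h1, Subgroup.card_bot] at hcard
    have := h.four
    omega
  have h1 := h.noff f.range hel hne
  have h2 := (fx V f.range).index_mul_card
  have h3 := Nat.card_le_card_of_injective _ (AddSubgroup.inclusion_injective hE)
  rw [h.ind B hB] at h2
  have h4 : (fx V f.range).index ≤ c := by
    apply Nat.le_of_mul_le_mul_right _ (Nat.card_pos (α := ↥(Ee V B)))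
    rw [← h2]
    exact Nat.mul_le_mul_left _ h3
  omega

end TwoE

end Cfsg.Agent.Omega.NO1.TH
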