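import Cfsg.Agent.Omega.NO1.TH.EndA

/-!
# N1, the amalgam `(H, H^t)`, `k = 1`: THE END, (2') (bb OMEGA 20698, 21741)

`I = [W, P] = [W', P']` has order `c`; `[V, b] = N` for all members `A ≤ H`, `A ≰ Q`, `1 ≠ b ∈ A ∩ Q`; `W = D ⊕ N`.
-/

set_option autoImplicit false
set_option linter.unusedSectionVars false
set_option linter.unusedVariables false

namespace Cfsg.Agent.Omega.NO1.TH

open Subgroup Cfsg.Agent.Omega.NO1.AB
open scoped Pointwise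

universe u

variable {Y : Type u} [Group Y] {V : Type u} [AddCommGroup V] [DistribMulAction Y V]

/-- `B = K K'` if `K ∩ K' = 1`, `|K| = |K'| = c`, `|B| = c²` -/
theorem exists_mul_card [Finite Y] {B K K' : Subgroup Y} {c : ℕ} (hK : K ≤ B) (hK' : K' ≤ B) (hi : K ⊓ K' = ⊥)
    (h1 : Nat.card K = c) (h2 : Nat.card K' = c) (h3 : Nat.card B = c * c) {u : Y} (hu : u ∈ B) :
    ∃ q ∈ K, ∃ q' ∈ K', u = q * q' := by
  let f : K × K' → B := fun p => ⟨(p.1 : Y) * p.2, B.mul_mem (hK p.1.2) (hK' p.2.2)⟩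
  have hf : Function.Injective f := by
    rintro ⟨a, b⟩ ⟨a', b'⟩ hab
    have h4 : (a : Y) * b = a' * b' := congrArg Subtype.val hab
    have h5 : (a' : Y)⁻¹ * a = b' * (b : Y)⁻¹ := by
      rw [eq_mul_inv_iff_mul_eq, mul_assoc, h4]; group
    have h6 : (a' : Y)⁻¹ * a ∈ K ⊓ K' := ⟨K.mul_mem (K.inv_mem a'.2) a.2, by
      rw [h5]; exact K'.mul_mem b'.2 (K'.inv_mem b.2)⟩
    rw [hi, mem_bot] at h6
    have h7 : (a : Y) = a' := (inv_mul_eq_one.1 h6).symm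
    rw [h6] at h5
    have h8 : (b : Y) = b' := (mul_inv_eq_one.1 h5.symm).symm
    exact Prod.ext (Subtype.ext h7) (Subtype.ext h8)
  have hs : Function.Surjective f := by
    have h4 : Nat.card (K × K') = Nat.card B := by rw [Nat.card_prod, h1, h2, h3]
    exact ((Nat.bijective_iff_injective_and_card f).2 ⟨hf, h4⟩).2
  obtain ⟨⟨a, b⟩, hab⟩ := hs ⟨u, hu⟩
  exact ⟨a, a.2, b, b.2, (congrArg Subtype.val hab).symm⟩

/-- `|φ X| |X ∩ ker φ| = |X|` -/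
theorem card_map_bk [Finite V] (b : Y) (X : AddSubgroup V) :
    Nat.card ↥(X.map (bk b)) * Nat.card ↥(X ⊓ (bk b : V →+ V).ker) = Nat.card X := by
  have h1 := ((bk b : V →+ V).comp X.subtype).ker.card_eq_card_quotient_mul_card_addSubgroup
  rw [Nat.card_congr (QuotientAddGroup.quotientKerEquivRange _).toEquiv] at h1
  have h2 : ((bk b : V →+ V).comp X.subtype).range = X.map (bk b) := by
    ext v
    constructor
    · rintro ⟨x, rfl⟩
      exact ⟨x, x.2, rfl⟩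
    · rintro ⟨x, hx, rfl⟩
      exact ⟨⟨x, hx⟩, rfl⟩
  have h3 : Nat.card ↥(X ⊓ (bk b : V →+ V).ker) = Nat.card ((bk b : V →+ V).comp X.subtype).ker := by
    apply Nat.card_congr
    exact
      { toFun := fun v => ⟨⟨v, v.2.1⟩, v.2.2⟩
        invFun := fun v => ⟨v.1, v.1.2, v.2⟩
        left_inv := fun v => rfl
        right_inv := fun v => rfl }
  rw [h2, ← h3] at h1
  exact h1.symm

theorem map_bk_conj (x b : Y) (X : AddSubgroup V) : (x • X).map (bk (x * b * x⁻¹)) = x • X.map (bk b) := by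
  ext v
  rw [mem_smul_as]
  constructor
  · rintro ⟨y, hy, rfl⟩
    rw [SetLike.mem_coe, mem_smul_as] at hy
    refine ⟨x⁻¹ • y, hy, ?_⟩
    simp only [bk_apply, smul_add, ← mul_smul]
    congr 2
    group
  · rintro ⟨y, hy, hyv⟩
    refine ⟨x • y, smul_mem_smul_as hy, ?_⟩
    rw [eq_inv_smul_iff] at hyv
    rw [← hyv]
    simp only [bk_apply, smul_add, ← mul_smul]
    congr 2
    group

theorem cm_conj {P : Subgroup Y} {W : AddSubgroup V} (x : Y) : cmK (MulAut.conj x • P) (x • W) = x • cmK P W := by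
  apply le_antisymm
  · apply cm_le
    intro p hp w hw
    rw [mem_conj] at hp
    rw [mem_smul_as] at hw ⊢
    have e : x⁻¹ • (p • w + w) = (x⁻¹ * p * x) • x⁻¹ • w + x⁻¹ • w := by
      rw [smul_add, ← mul_smul, ← mul_smul]; congr 2; group
    rw [e]
    exact mem_cm hp hw
  · intro v hv
    rw [mem_smul_as] at hv
    have h1 := smul_mem_cm (x := x) (P₂ := MulAut.conj x • P) (W₂ := x • W) (fun p hp => conj_mem_conj hp)
      (fun w hw => smul_mem_smul_as hw) hv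
    rwa [smul_inv_smul] at h1

theorem bot_of_card_le [Finite V] {X Z : AddSubgroup V} (h : Nat.card ↥(X ⊔ Z) * Nat.card ↥(X ⊓ Z) = Nat.card X * Nat.card Z)
    (h1 : X ⊓ Z = ⊥) : Nat.card ↥(X ⊔ Z) = Nat.card X * Nat.card Z := by
  rw [← h, h1]
  have : Nat.card ↥(⊥ : AddSubgroup V) = 1 := AddSubgroup.card_bot
  rw [this, mul_one]

theorem card_sup_dis [Finite V] {X Z : AddSubgroup V} (h1 : X ⊓ Z = ⊥) :
    Nat.card ↥(X ⊔ Z) = Nat.card X * Nat.card Z := bot_of_card_le (card_sup_as X Z) h1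

namespace TwoE

variable [Finite Y] [Finite V] {U : Set (Subgroup Y)} {T : Sylow 2 Y} {M H H' R P P' : Subgroup Y}
  {D D' W₁ W₁' : AddSubgroup V} {c : ℕ} {t : Y} (h : TwoE V U T M H H' R P P' D D' W₁ W₁' c t)
include h

theorem mul_of_bot {B : Subgroup Y} (hB : B ∈ U) (hBR : B ≤ R) (hBQ : ¬ B ≤ QQ H R)
    (hi : B ⊓ QQ H R ⊓ (B ⊓ QQ H' R) = ⊥) {u : Y} (hu : u ∈ B) :
    ∃ q ∈ B ⊓ QQ H R, ∃ q' ∈ B ⊓ QQ H' R, u = q * q' :=
  exists_mul_card inf_le_left inf_le_left hi (h.card_AQ hB (hBR.trans h.a.RH) hBQ)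
    (h.swap.card_AQ hB (hBR.trans h.a'.RH) (h.not_Q' hB hBR hBQ)) (h.card_A' hB (hBR.trans h.a.RH) hBQ) hu

/-- `[W, B] ≤ [W', B]` -/
theorem cm_le_B {B : Subgroup Y} (hB : B ∈ U) (hBR : B ≤ R) (hBQ : ¬ B ≤ QQ H R) :
    cmK B (WW V H R) ≤ cmK B (WW V H' R) := by
  have hm := h.amb.cls.mem B hB
  have hBQ' := h.not_Q' hB hBR hBQ
  have hBH := hBR.trans h.a.RH
  have hBH' := hBR.trans h.a'.RH
  by_cases hi : B ⊓ QQ H R ⊓ (B ⊓ QQ H' R) = ⊥
  · apply cm_le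
    intro u hu w hw
    obtain ⟨q, hq, q', hq', rfl⟩ := h.mul_of_bot hB hBR hBQ hi hu
    obtain ⟨w0, hw0⟩ := hm.ne
    obtain ⟨s, hs, h1⟩ := hm.surj w0 hw0 w (h.a.WW_le_Ee h.amb h.we hB hBH hw)
    have h2 : s • w0 + w0 ∈ WW V H R ⊔ fx V B := by
      have e : s • w0 + w0 = w + (s • w0 + w0 + w) := by
        have e1 : w + (s • w0 + w0 + w) = s • w0 + w0 + (w + w) := by abel
        rw [e1, h.two, add_zero]
      rw [e]
      exact AddSubgroup.add_mem_sup hw h1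
    have hsQ := h.mem_Q_of hB hBH hBQ hw0 hs h2
    have e1 : (q * q') • w + w = bk q' (bk s w0) := by
      rw [hm.comm q hq.1 q' hq'.1, mul_smul, Amal.QQ_fix h.a h.amb hq.2 hw, ← bk_apply]
      have e2 : w = bk s w0 + (s • w0 + w0 + w) := by rw [bk_apply, ← add_assoc, h.two, zero_add]
      conv_lhs => rw [e2]
      rw [map_add, bk_apply q' (s • w0 + w0 + w), h1 q' hq'.1, h.two, add_zero]
    obtain ⟨x, hx, f, hf, hxf⟩ := AddSubgroup.mem_sup.1 (h.swap.comm_Q hB hBH' hBQ' w0 hq'.1 hq'.2)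
    have e3 : bk q' w0 = x + f := by rw [bk_apply, hxf]
    rw [e1, bk_comm (hm.comm q' hq'.1 s hs), e3, map_add, bk_apply s f, hf s hs, h.two, add_zero]
    exact mem_cm hs hx
  · obtain ⟨⟨b, hb⟩, hb1'⟩ := ne_bot_iff_exists_ne_one.1 hi
    have hb1 : b ≠ 1 := fun h2 => hb1' (Subtype.ext h2)
    apply cm_le
    intro u hu w hw
    obtain ⟨x, hx, f, hf, hxf⟩ := AddSubgroup.mem_sup.1 (h.swap.cent_b hB hBH' hBQ' hb.2.1 hb.2.2 hb1
      (Amal.QQ_fix h.a h.amb hb.1.2 hw))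
    have e1 : u • w + w = u • x + x := by
      rw [← hxf, smul_add, hf u hu]
      have e : u • x + f + (x + f) = u • x + x + (f + f) := by abel
      rw [e, h.two, add_zero]
    rw [e1]
    exact mem_cm hu hx

/-- **`I = [W, P] = [W', P']`** -/
theorem cm_eq' : cmK P (WW V H R) = cmK P' (WW V H' R) := by
  obtain ⟨B, hB, hBR, hBQ⟩ := Amal.exists_not_QQ h.a h.amb
  have hBQ' := h.not_Q' hB hBR hBQ
  rw [h.cm_eq hB hBR hBQ, h.swap.cm_eq hB hBR hBQ']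
  exact le_antisymm (h.cm_le_B hB hBR hBQ) (h.swap.cm_le_B hB hBR hBQ')

theorem Wp_eq : WW V H R ⊔ cmK P' (WW V H' R) = WW V H R := by
  rw [← h.cm_eq']
  exact sup_eq_left.2 (h.cm_le_W₁.trans h.k.W₁W)

/-- `[V, A ∩ Q] ≤ W` -/
theorem comm_W {A : Subgroup Y} (hA : A ∈ U) (hAH : A ≤ H) (hAQ : ¬ A ≤ QQ H R) {b : Y} (hb : b ∈ A)
    (hbQ : b ∈ QQ H R) (v : V) : b • v + v ∈ WW V H R := by
  rw [← h.Wp_eq]
  exact h.comm_Wp hA hAH hAQ hb hbQ v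

section opp

variable {A : Subgroup Y} (hA : A ∈ U) (hAH : A ≤ H) (hAM : ¬ A ≤ M) {b : Y} (hb : b ∈ A) (hbQ : b ∈ QQ H R)
  (hb1 : b ≠ 1)
include hA hAH hAM hb hbQ hb1

/-- `[E_A, b]` -/
theorem J_le : (Ee V A).map (bk b) ≤ cmK A (WW V H R) := by
  have hm := h.amb.cls.mem A hA
  rintro _ ⟨e, he, rfl⟩
  obtain ⟨w, hw⟩ := hm.ne
  obtain ⟨s, hs, h1⟩ := hm.surj w hw e he
  have e1 : e = bk s w + (s • w + w + e) := by
    rw [bk_apply, ← add_assoc, h.two, zero_add]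
  obtain ⟨x, hx, f, hf, hxf⟩ := AddSubgroup.mem_sup.1 (h.comm_Q hA hAH (h.not_Q hAM) w hb hbQ)
  have e2 : bk b e = bk b (bk s w) := by
    conv_lhs => rw [e1]
    rw [map_add, bk_apply b (s • w + w + e), h1 b hb, h.two, add_zero]
  have e3 : bk b w = x + f := by rw [bk_apply, hxf]
  rw [e2, bk_comm (hm.comm b hb s hs), e3, map_add, bk_apply s f, hf s hs, h.two, add_zero, bk_apply]
  exact mem_cm hs hx

theorem J_D : (Ee V A).map (bk b) ⊓ D = ⊥ := by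
  have hm := h.amb.cls.mem A hA
  rw [eq_bot_iff]
  rintro _ ⟨⟨e, he, rfl⟩, hD⟩
  rw [AddSubgroup.mem_bot]
  obtain ⟨w, hw⟩ := hm.ne
  obtain ⟨s, hs, h1⟩ := hm.surj w hw e he
  have e1 : e = bk s w + (s • w + w + e) := by
    rw [bk_apply, ← add_assoc, h.two, zero_add]
  obtain ⟨x, hx, f, hf, hxf⟩ := AddSubgroup.mem_sup.1 (h.comm_Q hA hAH (h.not_Q hAM) w hb hbQ)
  have hxF : x ∉ fx V A := by
    intro h2
    exact hb1 (hm.inj w hw b hb (by rw [← hxf]; exact add_mem h2 hf))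
  have e2 : bk b e = bk s x := by
    have e3 : bk b w = x + f := by rw [bk_apply, hxf]
    conv_lhs => rw [e1]
    rw [map_add, bk_apply b (s • w + w + e), h1 b hb, h.two, add_zero, bk_comm (hm.comm b hb s hs), e3, map_add,
      bk_apply s f, hf s hs, h.two, add_zero]
  rw [e2] at hD ⊢
  have h3 := h.free_A' hA hAH hAM hx hxF hs hD
  rw [bk_apply, Amal.QQ_fix h.a h.amb h3 hx, h.two]

theorem card_J : Nat.card ↥((Ee V A).map (bk b)) = c := by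
  have hm := h.amb.cls.mem A hA
  have h1 := card_map_bk b (Ee V A)
  have h2 : Ee V A ⊓ (bk b : V →+ V).ker = WW V H R ⊔ fx V A := by
    apply le_antisymm
    · rintro v ⟨hv, hvb⟩
      apply h.cent_b hA hAH (h.not_Q hAM) hb hbQ hb1
      exact (HE.add_eq_zero' h.two).1 hvb
    · refine sup_le (le_inf (h.a.WW_le_Ee h.amb h.we hA hAH) ?_) (le_inf hm.FE ?_)
      · intro w hw
        change b • w + w = 0
        rw [Amal.QQ_fix h.a h.amb hbQ hw, h.two]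
      · intro w hw
        change b • w + w = 0
        rw [hw b hb, h.two]
  have h3 := card_sup_as (WW V H R) (fx V A)
  rw [h.card_WF hA hAH (h.not_Q hAM)] at h3
  have h4 : Nat.card ↥(WW V H R ⊔ fx V A) = c * Nat.card (fx V A) := by
    apply Nat.eq_of_mul_eq_mul_right (Nat.card_pos (α := ↥(WW V H R ⊓ fx V A)))
    rw [h3]; ring
  rw [h2, h4, hm.card_E h.two, h.card_A' hA hAH (h.not_Q hAM)] at h1
  apply Nat.eq_of_mul_eq_mul_right (Nat.mul_pos h.c_pos (Nat.card_pos (α := ↥(fx V A))))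
  rw [h1]; ring

theorem J'_le : (WW V H' R).map (bk b) ≤ cmK P (WW V H R) := by
  rw [h.cm_eq']
  rintro _ ⟨w, hw, rfl⟩
  exact mem_cm ((h.main hA hAH hAM).BP ⟨hb, hbQ⟩) hw

theorem not_Q'_b : b ∉ QQ H' R := by
  intro h1
  have h2 : b ∈ A ⊓ QQ H R ⊓ QQ H' R := ⟨⟨hb, hbQ⟩, h1⟩
  rw [(h.main hA hAH hAM).K, mem_bot] at h2
  exact hb1 h2

theorem card_J' : Nat.card ↥((WW V H' R).map (bk b)) = c := by
  have h1 := card_map_bk b (WW V H' R)
  have hP := (h.main hA hAH hAM).BP ⟨hb, hbQ⟩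
  have h2 : WW V H' R ⊓ (bk b : V →+ V).ker = W₁' := by
    apply le_antisymm
    · rintro v ⟨hv, hvb⟩
      exact h.fix_W₁' hP (h.not_Q'_b hA hAH hAM hb hbQ hb1) hv ((HE.add_eq_zero' h.two).1 hvb)
    · refine le_inf h.k'.W₁W fun w hw => ?_
      change b • w + w = 0
      rw [h.k'.P_fix b hP w hw, h.two]
  rw [h2, h.k'.card_W] at h1
  exact Nat.eq_of_mul_eq_mul_right Nat.card_pos h1

theorem J'_F : (WW V H' R).map (bk b) ⊓ fx V A = ⊥ := by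
  have hm := h.amb.cls.mem A hA
  rw [eq_bot_iff]
  rintro _ ⟨⟨w, hw, rfl⟩, hF⟩
  rw [AddSubgroup.mem_bot]
  by_cases hwE : w ∈ Ee V A
  · have h1 := (h.main hA hAH hAM).cap w hw hwE
    rw [bk_apply, h.k'.P_fix b ((h.main hA hAH hAM).BP ⟨hb, hbQ⟩) w h1, h.two]
  · exact absurd (hm.inj w hwE b hb hF) hb1

theorem range_eq : (bk b : V →+ V).range = (WW V H' R).map (bk b) ⊔ (Ee V A).map (bk b) := by
  rw [← AddSubgroup.map_sup, h.top hA hAH hAM]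
  ext v
  constructor
  · rintro ⟨x, rfl⟩
    exact ⟨x, AddSubgroup.mem_top x, rfl⟩
  · rintro ⟨x, -, rfl⟩
    exact ⟨x, rfl⟩

theorem J_F : (Ee V A).map (bk b) ≤ fx V A := by
  rintro _ ⟨e, he, rfl⟩
  exact he b hb

theorem J_J' : (WW V H' R).map (bk b) ⊓ (Ee V A).map (bk b) = ⊥ := by
  rw [eq_bot_iff, ← h.J'_F hA hAH hAM hb hbQ hb1]
  exact inf_le_inf_left _ (h.J_F hA hAH hAM hb hbQ hb1)

theorem card_X : Nat.card ↥(bk b : V →+ V).range = c * c := by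
  rw [h.range_eq hA hAH hAM hb hbQ hb1, card_sup_dis (h.J_J' hA hAH hAM hb hbQ hb1),
    h.card_J hA hAH hAM hb hbQ hb1, h.card_J' hA hAH hAM hb hbQ hb1]

theorem X_D : D ⊓ (bk b : V →+ V).range = ⊥ := by
  rw [h.range_eq hA hAH hAM hb hbQ hb1, eq_bot_iff]
  rintro v ⟨hvD, hv⟩
  obtain ⟨x, hx, y, hy, rfl⟩ := AddSubgroup.mem_sup.1 hv
  have h1 : x ∈ fx V A := by
    have h2 := h.D_fx hA hAH hAM hvD
    have e : x = (x + y) + y := by rw [add_assoc, h.two, add_zero]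
    rw [e]
    exact add_mem h2 (h.J_F hA hAH hAM hb hbQ hb1 hy)
  have h2 : x ∈ (WW V H' R).map (bk b) ⊓ fx V A := ⟨hx, h1⟩
  rw [h.J'_F hA hAH hAM hb hbQ hb1, AddSubgroup.mem_bot] at h2
  subst h2
  rw [zero_add] at hvD ⊢
  have h3 : y ∈ (Ee V A).map (bk b) ⊓ D := ⟨hy, hvD⟩
  rw [h.J_D hA hAH hAM hb hbQ hb1] at h3
  exact h3

theorem X_sup : D ⊔ (bk b : V →+ V).range = WW V H R := by
  apply eq_of_le_as
  · refine sup_le (h.k.DW.trans h.k.W₁W) ?_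
    rintro _ ⟨v, rfl⟩
    exact h.comm_W hA hAH (h.not_Q hAM) hb hbQ v
  · rw [card_sup_dis (h.X_D hA hAH hAM hb hbQ hb1), h.card_X hA hAH hAM hb hbQ hb1, h.k.card_W, h.k.card_W₁]
    apply le_of_eq; ring

theorem X_A {a : Y} (ha : a ∈ A) {v : V} (hv : v ∈ (bk b : V →+ V).range) : a • v ∈ (bk b : V →+ V).range := by
  obtain ⟨v, rfl⟩ := hv
  refine ⟨a • v, ?_⟩
  have hm := h.amb.cls.mem A hA
  simp only [bk_apply, smul_add, ← mul_smul, hm.comm a ha b hb]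

theorem cm_A_le : cmK A (WW V H R) ≤ (Ee V A).map (bk b) := by
  have hm := h.amb.cls.mem A hA
  have h1 : cmK A (WW V H R) ≤ fx V A :=
    cm_le fun a ha w hw => h.a.WW_le_Ee h.amb h.we hA hAH hw a ha
  have h2 : cmK A (WW V H R) ≤ (bk b : V →+ V).range := by
    apply cm_le
    intro a ha w hw
    rw [← h.X_sup hA hAH hAM hb hbQ hb1] at hw
    obtain ⟨d, hd, x, hx, rfl⟩ := AddSubgroup.mem_sup.1 hw
    have e : a • (d + x) + (d + x) = a • x + x := by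
      rw [smul_add, h.D_fx hA hAH hAM hd a ha]
      have e : d + a • x + (d + x) = (d + d) + (a • x + x) := by abel
      rw [e, h.two, zero_add]
    rw [e]
    exact add_mem (h.X_A hA hAH hAM hb hbQ hb1 ha hx) hx
  intro v hv
  have h3 := h2 hv
  have h4 := h1 hv
  rw [h.range_eq hA hAH hAM hb hbQ hb1] at h3
  obtain ⟨x, hx, y, hy, rfl⟩ := AddSubgroup.mem_sup.1 h3
  have h5 : x ∈ fx V A := by
    have e : x = (x + y) + y := by rw [add_assoc, h.two, add_zero]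
    rw [e]
    exact add_mem h4 (h.J_F hA hAH hAM hb hbQ hb1 hy)
  have h2 : x ∈ (WW V H' R).map (bk b) ⊓ fx V A := ⟨hx, h5⟩
  rw [h.J'_F hA hAH hAM hb hbQ hb1, AddSubgroup.mem_bot] at h2
  subst h2
  rw [zero_add]
  exact hy

theorem J_eq : (Ee V A).map (bk b) = cmK A (WW V H R) :=
  le_antisymm (h.J_le hA hAH hAM hb hbQ hb1) (h.cm_A_le hA hAH hAM hb hbQ hb1)

end opp

theorem exists_b {A : Subgroup Y} (hA : A ∈ U) (hAH : A ≤ H) (hAQ : ¬ A ≤ QQ H R) :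
    ∃ b ∈ A, b ∈ QQ H R ∧ b ≠ 1 := by
  by_contra hcon
  push Not at hcon
  have h1 : A ⊓ QQ H R = ⊥ := by
    rw [eq_bot_iff]
    rintro b ⟨hb, hbQ⟩
    exact hcon b hb hbQ
  have h2 := h.card_AQ hA hAH hAQ
  rw [h1, Subgroup.card_bot] at h2
  have := h.four
  omega

theorem cm_A {A : Subgroup Y} (hA : A ∈ U) (hAH : A ≤ H) (hAM : ¬ A ≤ M) :
    Nat.card ↥(cmK A (WW V H R)) = c ∧ cmK A (WW V H R) ⊓ D = ⊥ := by
  obtain ⟨b, hb, hbQ, hb1⟩ := h.exists_b hA hAH (h.not_Q hAM)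
  rw [← h.J_eq hA hAH hAM hb hbQ hb1]
  exact ⟨h.card_J hA hAH hAM hb hbQ hb1, h.J_D hA hAH hAM hb hbQ hb1⟩

/-- `|I| = c`, `I ∩ D = 0` -/
theorem I_aux : Nat.card ↥(cmK P (WW V H R)) = c ∧ cmK P (WW V H R) ⊓ D = ⊥ := by
  obtain ⟨B, hB, hBR, hBQ⟩ := Amal.exists_not_QQ h.a h.amb
  obtain ⟨x, hx, h1, h2, h3⟩ := h.exists_opp hB (hBR.trans h.a.RH) hBQ
  obtain ⟨h4, h5⟩ := h.cm_A h1 h2 h3
  have h6 : cmK (MulAut.conj x • B) (WW V H R) = x • cmK P (WW V H R) := by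
    rw [h.cm_eq hB hBR hBQ, ← cm_conj, smul_WW hx]
  rw [h6] at h4 h5
  rw [card_smul_as] at h4
  refine ⟨h4, ?_⟩
  rw [eq_bot_iff]
  rintro v ⟨hv, hvD⟩
  have h7 : x • v ∈ x • cmK P (WW V H R) ⊓ D := ⟨smul_mem_smul_as hv, h.k.D_H x hx v hvD⟩
  rw [h5, AddSubgroup.mem_bot, smul_eq_zero_iff_eq] at h7
  exact h7

theorem card_I : Nat.card ↥(cmK P (WW V H R)) = c := h.I_aux.1

theorem W₁_eq_sup : D ⊔ cmK P (WW V H R) = W₁ := by
  apply eq_of_le_as (sup_le h.k.DW h.cm_le_W₁)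
  rw [card_sup_dis (by rw [inf_comm]; exact h.I_aux.2), h.card_I, h.k.card_W₁, mul_comm]

theorem X_eq {A : Subgroup Y} (hA : A ∈ U) (hAH : A ≤ H) (hAM : ¬ A ≤ M) {b : Y} (hb : b ∈ A) (hbQ : b ∈ QQ H R)
    (hb1 : b ≠ 1) : (bk b : V →+ V).range = cmK P (WW V H R) ⊔ cmK A (WW V H R) := by
  rw [h.range_eq hA hAH hAM hb hbQ hb1, h.J_eq hA hAH hAM hb hbQ hb1]
  congr 1
  apply eq_of_le_as (h.J'_le hA hAH hAM hb hbQ hb1)
  rw [h.card_I, h.card_J' hA hAH hAM hb hbQ hb1]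

theorem range_conj (x b : Y) : (bk (x * b * x⁻¹) : V →+ V).range = x • (bk b : V →+ V).range := by
  rw [AddMonoidHom.range_eq_map, AddMonoidHom.range_eq_map, ← map_bk_conj]
  congr 1
  ext v
  rw [mem_smul_as]
  simp

theorem card_XA {A : Subgroup Y} (hA : A ∈ U) (hAH : A ≤ H) (hAM : ¬ A ≤ M) :
    Nat.card ↥(cmK P (WW V H R) ⊔ cmK A (WW V H R)) = c * c := by
  obtain ⟨b, hb, hbQ, hb1⟩ := h.exists_b hA hAH (h.not_Q hAM)
  rw [← h.X_eq hA hAH hAM hb hbQ hb1]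
  exact h.card_X hA hAH hAM hb hbQ hb1

/-- `x I ≤ X_{A₂}` if `A₂ ≰ M^x` -/
theorem smul_I_le {A₂ : Subgroup Y} (hA₂ : A₂ ∈ U) (hA₂H : A₂ ≤ H) (hA₂M : ¬ A₂ ≤ M) {x : Y} (hx : x ∈ H)
    (hx2 : ¬ MulAut.conj x⁻¹ • A₂ ≤ M) : x • cmK P (WW V H R) ≤ cmK P (WW V H R) ⊔ cmK A₂ (WW V H R) := by
  have h1 := h.amb.cls.conj A₂ hA₂ x⁻¹
  have h2 := h.conj_le_H (H.inv_mem hx) hA₂H
  obtain ⟨b, hb, hbQ, hb1⟩ := h.exists_b h1 h2 (h.not_Q hx2)
  have hb' := hb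
  rw [mem_conj, inv_inv] at hb'
  have h3 := h.X_eq h1 h2 hx2 hb hbQ hb1
  have h4 := h.X_eq hA₂ hA₂H hA₂M (b := x * b * x⁻¹) hb' (conj_mem_QQ hx hbQ) (by
    intro h5
    apply hb1
    have h6 : x⁻¹ * (x * b * x⁻¹) * x = 1 := by rw [h5]; group
    have e : x⁻¹ * (x * b * x⁻¹) * x = b := by group
    rwa [e] at h6)
  rw [← h4, h.range_conj, h3]
  exact smul_le_smul_as le_sup_left

theorem exists_a {A A₂ : Subgroup Y} (hA : A ∈ U) (hAH : A ≤ H) (hAM : ¬ A ≤ M) (hA₂ : A₂ ∈ U) (hA₂H : A₂ ≤ H)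
    (hA₂M : ¬ A₂ ≤ M) : ∃ a ∈ A, a ∉ QQ H R ∧ ¬ MulAut.conj a⁻¹ • A₂ ≤ M := by
  by_contra hcon
  push Not at hcon
  obtain ⟨a, ha, haQ⟩ := SetLike.not_le_iff_exists.1 (h.not_Q hAM)
  have h1 : ∃ a' ∈ A, a' ∉ QQ H R ∧ a⁻¹ * a' ∉ QQ H R := by
    by_contra hc
    push Not at hc
    have h2 : (A : Set Y) ⊆ ((A ⊓ QQ H R : Subgroup Y) : Set Y) ∪
        (fun y => a * y) '' ((A ⊓ QQ H R : Subgroup Y) : Set Y) := by
      intro y hy
      by_cases hyQ : y ∈ QQ H R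
      · exact Or.inl ⟨hy, hyQ⟩
      · exact Or.inr ⟨a⁻¹ * y, ⟨A.mul_mem (A.inv_mem ha) hy, hc y hy hyQ⟩, mul_inv_cancel_left a y⟩
    have h3 := Set.ncard_le_ncard h2 (Set.toFinite _)
    have h4 := Set.ncard_union_le ((A ⊓ QQ H R : Subgroup Y) : Set Y)
      ((fun y => a * y) '' ((A ⊓ QQ H R : Subgroup Y) : Set Y))
    have h5 := Set.ncard_image_le (f := fun y => a * y) (Set.toFinite ((A ⊓ QQ H R : Subgroup Y) : Set Y))
    have e1 : Set.ncard (A : Set Y) = c * c := h.card_A' hA hAH (h.not_Q hAM)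
    have e2 : Set.ncard ((A ⊓ QQ H R : Subgroup Y) : Set Y) = c := h.card_AQ hA hAH (h.not_Q hAM)
    have h6 := h.four
    rw [e1] at h3
    rw [e2] at h4 h5
    nlinarith
  obtain ⟨a', ha', ha'Q, h2⟩ := h1
  have key : ∀ y ∈ A, y ∉ QQ H R → y • W₁ = WW V H R ⊓ fx V A₂ := by
    intro y hy hyQ
    have h3 := h.WF_M (h.amb.cls.conj A₂ hA₂ y⁻¹) (h.conj_le_H (H.inv_mem (hAH hy)) hA₂H)
      (h.conj_not_Q (H.inv_mem (hAH hy)) (h.not_Q hA₂M)) (hcon y hy hyQ)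
    rw [h.WF_conj (H.inv_mem (hAH hy))] at h3
    rw [← h3, smul_smul_as, mul_inv_cancel, one_smul]
  have h3 : (a⁻¹ * a') • W₁ = W₁ := by
    rw [← smul_smul_as, key a' ha' ha'Q, ← key a ha haQ, smul_smul_as, inv_mul_cancel, one_smul]
  have h5 := h.not_M hA hAH hAM (A.mul_mem (A.inv_mem ha) ha') h2
  obtain ⟨w, hw, hwD⟩ := h.exists_W₁
  exact hwD (h.k.opp _ (hAH (A.mul_mem (A.inv_mem ha) ha')) h5 w hw (by
    have h6 : (a⁻¹ * a') • w ∈ (a⁻¹ * a') • W₁ := smul_mem_smul_as hw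
    rwa [h3] at h6))

theorem I_inf {x : Y} (hx : x ∈ H) (hxM : x ∉ M) : cmK P (WW V H R) ⊓ x • cmK P (WW V H R) = ⊥ := by
  rw [eq_bot_iff]
  rintro v ⟨hv, hvx'⟩
  have hvx : v ∈ x • cmK P (WW V H R) := hvx'
  rw [mem_smul_as] at hvx
  have h1 : x⁻¹ • v ∈ D := h.k.opp x hx hxM _ (h.cm_le_W₁ hvx) (by rw [smul_inv_smul]; exact h.cm_le_W₁ hv)
  have h2 : x⁻¹ • v ∈ cmK P (WW V H R) ⊓ D := ⟨hvx, h1⟩
  rw [h.I_aux.2, AddSubgroup.mem_bot, smul_eq_zero_iff_eq] at h2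
  rw [AddSubgroup.mem_bot]
  exact h2

theorem X_indep {A A₂ : Subgroup Y} (hA : A ∈ U) (hAH : A ≤ H) (hAM : ¬ A ≤ M) (hA₂ : A₂ ∈ U) (hA₂H : A₂ ≤ H)
    (hA₂M : ¬ A₂ ≤ M) : cmK P (WW V H R) ⊔ cmK A (WW V H R) = cmK P (WW V H R) ⊔ cmK A₂ (WW V H R) := by
  obtain ⟨a, ha, haQ, h1⟩ := h.exists_a hA hAH hAM hA₂ hA₂H hA₂M
  have haM := h.not_M hA hAH hAM ha haQ
  have h2 := h.smul_I_le hA₂ hA₂H hA₂M (hAH ha) h1
  have h3 : a • cmK P (WW V H R) ≤ cmK P (WW V H R) ⊔ cmK A (WW V H R) := by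
    obtain ⟨b, hb, hbQ, hb1⟩ := h.exists_b hA hAH (h.not_Q hAM)
    intro v hv
    rw [mem_smul_as] at hv
    have h4 : a⁻¹ • v ∈ cmK P (WW V H R) ⊔ cmK A (WW V H R) := AddSubgroup.mem_sup_left hv
    rw [← h.X_eq hA hAH hAM hb hbQ hb1] at h4 ⊢
    have h5 := h.X_A hA hAH hAM hb hbQ hb1 ha h4
    rwa [smul_inv_smul] at h5
  have h4 : Nat.card ↥(cmK P (WW V H R) ⊔ a • cmK P (WW V H R)) = c * c := by
    rw [card_sup_dis (h.I_inf (hAH ha) haM), card_smul_as, h.card_I]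
  have h5 := eq_of_le_as (sup_le le_sup_left h3) (by rw [h4, h.card_XA hA hAH hAM])
  have h6 := eq_of_le_as (sup_le le_sup_left h2) (by rw [h4, h.card_XA hA₂ hA₂H hA₂M])
  rw [← h5, h6]

end TwoE

/-- The module `N` of one side. -/
structure HasN (V : Type u) [AddCommGroup V] [DistribMulAction Y V] (U : Set (Subgroup Y)) (H R P : Subgroup Y)
    (D W₁ : AddSubgroup V) (c : ℕ) (N : AddSubgroup V) : Prop where
  inv : ∀ x ∈ H, ∀ n ∈ N, x • n ∈ N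
  card : Nat.card N = c * c
  le : N ≤ WW V H R
  inf : D ⊓ N = ⊥
  sup : D ⊔ N = WW V H R
  I_le : cmK P (WW V H R) ≤ N
  inf₁ : N ⊓ W₁ = cmK P (WW V H R)
  range : ∀ A ∈ U, A ≤ H → ¬ A ≤ QQ H R → ∀ b ∈ A, b ∈ QQ H R → b ≠ 1 → (bk b : V →+ V).range = N

namespace TwoE

variable [Finite Y] [Finite V] {U : Set (Subgroup Y)} {T : Sylow 2 Y} {M H H' R P P' : Subgroup Y}
  {D D' W₁ W₁' : AddSubgroup V} {c : ℕ} {t : Y} (h : TwoE V U T M H H' R P P' D D' W₁ W₁' c t)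
include h

theorem range_opp {A : Subgroup Y} (hA : A ∈ U) (hAH : A ≤ H) (hAM : ¬ A ≤ M) {b : Y} (hb : b ∈ A)
    (hbQ : b ∈ QQ H R) (hb1 : b ≠ 1) {A₂ : Subgroup Y} (hA₂ : A₂ ∈ U) (hA₂H : A₂ ≤ H)
    (hA₂M : ¬ A₂ ≤ M) : (bk b : V →+ V).range = cmK P (WW V H R) ⊔ cmK A₂ (WW V H R) := by
  rw [h.X_eq hA hAH hAM hb hbQ hb1]
  exact h.X_indep hA hAH hAM hA₂ hA₂H hA₂M

/-- **`N`** -/
theorem exists_N : ∃ N : AddSubgroup V, HasN V U H R P D W₁ c N := by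
  obtain ⟨A, hA, hAH, hAM⟩ := h.exists_A
  obtain ⟨b, hb, hbQ, hb1⟩ := h.exists_b hA hAH (h.not_Q hAM)
  have hX := h.X_eq hA hAH hAM hb hbQ hb1
  have hinv : ∀ x ∈ H, ∀ n ∈ (bk b : V →+ V).range, x • n ∈ (bk b : V →+ V).range := by
    have h1 : ∀ u ∈ R, ∀ n ∈ (bk b : V →+ V).range, u • n ∈ (bk b : V →+ V).range := by
      intro u hu n hn
      have huH := h.a.RH hu
      have h2 : ¬ MulAut.conj u • A ≤ M := by
        intro h3
        apply hAM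
        intro y hy
        have h4 := M.mul_mem (M.mul_mem (M.inv_mem (h.RM hu)) (h3 (conj_mem_conj (g := u) hy))) (h.RM hu)
        have e : u⁻¹ * (u * y * u⁻¹) * u = y := by group
        rwa [e] at h4
      have h3 := h.range_opp (h.amb.cls.conj A hA u) (h.conj_le_H huH hAH) h2 (conj_mem_conj (g := u) hb)
        (conj_mem_QQ huH hbQ) (by
          intro h5
          apply hb1
          have h6 : u⁻¹ * (u * b * u⁻¹) * u = 1 := by rw [h5]; group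
          have e : u⁻¹ * (u * b * u⁻¹) * u = b := by group
          rwa [e] at h6) hA hAH hAM
      rw [← hX, h.range_conj] at h3
      rw [← h3]
      exact smul_mem_smul_as hn
    have h2 := inv_sup h1 (fun u hu n hn => h.X_A hA hAH hAM hb hbQ hb1 hu hn)
    rwa [h.a.gen hAH hAM] at h2
  refine ⟨(bk b : V →+ V).range, ?_⟩
  have hinf := h.X_D hA hAH hAM hb hbQ hb1
  have hle : (bk b : V →+ V).range ≤ WW V H R := by
    rw [← h.X_sup hA hAH hAM hb hbQ hb1]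
    exact le_sup_right
  have hI : cmK P (WW V H R) ≤ (bk b : V →+ V).range := by rw [hX]; exact le_sup_left
  refine
    { inv := hinv
      card := h.card_X hA hAH hAM hb hbQ hb1
      le := hle
      inf := hinf
      sup := h.X_sup hA hAH hAM hb hbQ hb1
      I_le := hI
      inf₁ := ?_
      range := ?_ }
  · apply le_antisymm
    · rintro v ⟨hv, hv1⟩
      rw [SetLike.mem_coe, ← h.W₁_eq_sup] at hv1
      obtain ⟨d, hd, i, hi, rfl⟩ := AddSubgroup.mem_sup.1 hv1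
      have h1 : d ∈ D ⊓ (bk b : V →+ V).range := by
        refine ⟨hd, ?_⟩
        have e : d = (d + i) + i := by rw [add_assoc, h.two, add_zero]
        rw [e]
        exact add_mem hv (hI hi)
      rw [hinf, AddSubgroup.mem_bot] at h1
      subst h1
      rw [zero_add]
      exact hi
    · exact le_inf hI h.cm_le_W₁
  · intro A₂ hA₂ hA₂H hA₂Q b₂ hb₂ hb₂Q hb₂1
    obtain ⟨x, hx, h1, h2, h3⟩ := h.exists_opp hA₂ hA₂H hA₂Q
    have h4 := h.range_opp h1 h2 h3 (conj_mem_conj (g := x) hb₂) (conj_mem_QQ hx hb₂Q) (by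
      intro h5
      apply hb₂1
      have h6 : x⁻¹ * (x * b₂ * x⁻¹) * x = 1 := by rw [h5]; group
      have e : x⁻¹ * (x * b₂ * x⁻¹) * x = b₂ := by group
      rwa [e] at h6) hA hAH hAM
    rw [← hX, h.range_conj] at h4
    have h5 : x • (bk b : V →+ V).range = (bk b : V →+ V).range := smul_of_mem fun w hw => hinv x hx w hw
    rw [← h5] at h4
    have h6 : x⁻¹ • x • (bk b₂ : V →+ V).range = x⁻¹ • x • (bk b : V →+ V).range := by rw [h4]
    rwa [smul_smul_as, smul_smul_as, inv_mul_cancel, one_smul, one_smul] at h6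

end TwoE

end Cfsg.Agent.Omega.NO1.TH
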