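import Cfsg.Agent.Omega.NO1.TH.EndS
import Cfsg.Agent.Omega.NO1.TH.Fin

/-!
# N1, THE END (bb OMEGA 20698, 21741, helper70, helper456): `C_V(H) = 0` and the output

`EndS.fx_bot` : `C_V(H) = 0`; `EndS.fin` : the output `Fin V U T M` (case BETA, `L = J`).
-/

set_option autoImplicit false
set_option linter.unusedSectionVars false

namespace Cfsg.Agent.Omega.NO1.TH

open Subgroup Cfsg.Agent.Omega.NO1.AB
open scoped Pointwise

universe u

variable {Y : Type u} [Group Y] {V : Type u} [AddCommGroup V] [DistribMulAction Y V]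

/-- `R` is Sylow in `X`: every 2-subgroup of `X` is conjugate into `R` -/
theorem conj_into_of_card [Finite Y] {X R S : Subgroup Y} (hRX : R ≤ X) (hR : IsPGroup 2 R)
    (hmax : ∀ S ≤ X, IsPGroup 2 S → Nat.card S ≤ Nat.card R) (hS : S ≤ X) (hS2 : IsPGroup 2 S) :
    ∃ x ∈ X, ∀ s ∈ S, x⁻¹ * s * x ∈ R := by
  have : Fact (Nat.Prime 2) := ⟨Nat.prime_two⟩
  have hR' : IsPGroup 2 (R.subgroupOf X) := hR.comap_of_injective X.subtype Subtype.coe_injective
  have hS' : IsPGroup 2 (S.subgroupOf X) := hS2.comap_of_injective X.subtype Subtype.coe_injective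
  obtain ⟨P, hP⟩ := hR'.exists_le_sylow
  obtain ⟨Q, hQ⟩ := hS'.exists_le_sylow
  have hPR : (P : Subgroup X) = R.subgroupOf X := by
    symm
    apply eq_of_le_of_card_ge hP
    have h2 := hmax _ (map_subtype_le (P : Subgroup X)) (P.2.map X.subtype)
    rw [Nat.card_congr ((P : Subgroup X).equivMapOfInjective _ X.subtype_injective).symm.toEquiv] at h2
    rwa [Nat.card_congr (subgroupOfEquivOfLe hRX).toEquiv]
  obtain ⟨k, hk⟩ := MulAction.exists_smul_eq X P Q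
  refine ⟨k, k.2, fun r hr => ?_⟩
  have h1 : (⟨r, hS hr⟩ : X) ∈ (Q : Subgroup X) := hQ (mem_subgroupOf.mpr hr)
  rw [← hk, Sylow.coe_subgroup_smul, Subgroup.mem_pointwise_smul_iff_inv_smul_mem] at h1
  have h2 : ((k⁻¹ * ⟨r, hS hr⟩ * k : X)) ∈ (P : Subgroup X) := by
    have h3 : (MulAut.conj k)⁻¹ • (⟨r, hS hr⟩ : X) = k⁻¹ * ⟨r, hS hr⟩ * k := by
      rw [← map_inv, MulAut.smul_def, MulAut.conj_apply, inv_inv]
    rwa [h3] at h1
  rw [hPR] at h2
  exact h2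

namespace EndS

variable {U : Set (Subgroup Y)} {T : Sylow 2 Y} {M H H' R B Q Q' : Subgroup Y} {N N' I : AddSubgroup V} {c : ℕ}
  {t : Y} (h : EndS V U T M H H' R B Q Q' N N' I c t)
include h

theorem sw : EndS V U T M H' H R B Q' Q N' N I c t :=
  h.swap fun q hq q' hq' => (h.amb.cls.mem B h.hB).comm q (h.s.QB hq) q' (h.s'.QB hq')

theorem two (v : V) : v + v = 0 := h.amb.cls.two v

theorem eq_of_add {v v' : V} (hv : v + v' = 0) : v = v' := by
  have h1 : v + v' = v' + v' := by rw [hv, h.two]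
  exact add_right_cancel h1

theorem sd : Sd V U M H B Q N I c where
  cls := h.amb.cls
  faith := h.amb.faith
  s := h.s
  hB := h.hB
  BH := h.BR.trans h.a.RH
  c3 := by have := h.four; omega

theorem fs [Finite V] : FS (JJ U H) B Q N I c := by
  have := h.sd.fs h.hB h.sd.BH
  rwa [h.s.I_eq] at this

theorem NB {b : Y} (hb : b ∈ B) {n : V} (hn : n ∈ N) : b • n + n ∈ I := by
  rw [← h.s.I_eq]
  exact ⟨add_mem (h.s.N_H b (h.sd.BH hb) n hn) hn, h.s.comm_A B h.hB h.sd.BH b hb n hn⟩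

theorem reg {q : Y} (hq : q ∈ Q') (hq1 : q ≠ 1) {n : V} (hn : n ∈ N) (hqn : q • n = n) : n ∈ I := by
  rw [← h.s.I_eq]
  refine ⟨hn, ?_⟩
  by_contra h1
  apply hq1
  have h2 := h.s.free B h.hB h.sd.BH q (h.s'.QB hq) n hn h1 hqn
  have h3 : q ∈ Q ⊓ Q' := ⟨h2, hq⟩
  rw [h.QQ', mem_bot] at h3
  exact h3

theorem IN : I ≤ N := by rw [← h.s.I_eq]; exact inf_le_left

theorem IF : I ≤ fx V B := by rw [← h.s.I_eq]; exact inf_le_right

theorem XE [Finite V] {v : V} (hv : ∀ q ∈ Q, q • v = v) : v ∈ Ee V B := by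
  obtain ⟨q₀, hq₀, hq0⟩ := h.fs.exists_ne
  rw [h.E_eq]
  exact sup_le_sup_right (le_sup_left : N ≤ N ⊔ N') _ (h.s.cent q₀ hq₀ hq0 v (hv q₀ hq₀))

/-- `[w, q] ∉ I` for `w ∉ E` -/
theorem out [Finite Y] [Finite V] {w : V} (hw : w ∉ Ee V B) {q : Y} (hq : q ∈ Q) (hq1 : q ≠ 1) :
    q • w + w ∉ I := by
  intro h1
  -- `n' ∈ N'` with `[n', q] = [w, q]`
  obtain ⟨n, hn, hnB⟩ := h.sw.sd.exists_out h.hB h.sw.sd.BH
  have hi : q • n + n ∈ I := h.sw.NB (h.s.QB hq) hn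
  have hi0 : q • n + n ≠ 0 := by
    intro h2
    have h3 := h.sw.reg hq hq1 hn (h.eq_of_add h2)
    exact hnB (h.IF h3)
  obtain ⟨b₀, hb₀, hb0⟩ := h.sw.fs.exists_ne
  obtain ⟨f, -, -, hf, -, hfi⟩ := h.sw.fs.exists_sc hb₀ hb0 hi hi0 h1
  have hqJ : q ∈ JJ U H' := h.sw.fs.BJ (h.s.QB hq)
  have h2 : q • f n + f n = q • w + w := by
    rw [← hfi, hf.add _ (h.sw.fs.NJ q hqJ n hn) _ hn, hf.comm q hqJ n hn]
  have h3 : q • (w + f n) = w + f n := by
    apply h.eq_of_add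
    rw [smul_add]
    calc q • w + q • f n + (w + f n) = (q • f n + f n) + (q • w + w) := by abel
      _ = 0 := by rw [h2, h.two]
  have h4 : w + f n ∈ Ee V B := by
    rw [h.E_eq]
    exact sup_le_sup_right (le_sup_left : N ≤ N ⊔ N') _ (h.s.cent q hq hq1 _ h3)
  have h5 : f n ∈ Ee V B := by
    rw [h.E_eq]
    exact AddSubgroup.mem_sup_left (AddSubgroup.mem_sup_right (hf.mem n hn))
  apply hw
  have h6 := (Ee V B).add_mem h4 h5
  rwa [add_assoc, h.two, add_zero] at h6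

/-- **the two sides** -/
theorem ts [Finite Y] [Finite V] : TS (JJ U H) (JJ U H') B Q Q' N N' I (Ee V B) (fx V B) c where
  s := h.fs
  s' := h.sw.fs
  mem := h.amb.cls.mem B h.hB
  BQQ := h.mul
  QQ1 := fun q hq hq' => by
    have h3 : q ∈ Q ⊓ Q' := ⟨hq, hq'⟩
    rw [h.QQ', mem_bot] at h3
    exact h3
  NB := fun b hb n hn => h.NB hb hn
  NB' := fun b hb n hn => h.sw.NB hb hn
  reg := fun q hq hq1 n hn hqn => h.reg hq hq1 hn hqn
  reg' := fun q hq hq1 n hn hqn => h.sw.reg hq hq1 hn hqn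
  out := fun w hw q hq hq1 => h.out hw hq hq1
  out' := fun w hw q hq hq1 => h.sw.out hw hq hq1
  EX := fun v hv => by
    rw [h.E_eq] at hv
    obtain ⟨m, hm, f, hf, rfl⟩ := AddSubgroup.mem_sup.1 hv
    obtain ⟨n, hn, n', hn', rfl⟩ := AddSubgroup.mem_sup.1 hm
    refine ⟨n + f, n', fun q hq => ?_, fun q hq => h.s'.fix q hq n' hn', by abel⟩
    rw [smul_add, h.s.fix q hq n hn, hf q (h.s.QB hq)]
  XE := fun v hv => h.XE hv
  XE' := fun v hv => h.sw.XE hv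

/-- **THEOREM** -/
theorem norm [Finite Y] [Finite V] {g : Y} (hg : g ∈ JJ U H') (hgB : MulAut.conj g • B = B) :
    ∀ q ∈ Q, g * q * g⁻¹ ∈ Q := by
  apply h.ts.norm (by have := h.four; omega) hg
  · intro b hb
    have := conj_mem_conj (g := g) hb
    rwa [hgB] at this
  · intro v hv hgv
    apply hv
    rw [← hgB, Ee_conj, mem_smul_as, inv_smul_smul] at hgv
    exact hgv

/-- `t I = I` -/
theorem tI {i : V} (hi : i ∈ I) : t⁻¹ • i ∈ I := by
  rw [← h.NN', AddSubgroup.mem_inf] at hi ⊢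
  refine ⟨?_, ?_⟩
  · have h1 := hi.2
    rw [h.N'_eq, mem_smul_as] at h1
    exact h1
  · have h1 := hi.1
    rw [h.N_eq, mem_smul_as] at h1
    exact h1

theorem tB' [Finite Y] : MulAut.conj t • B = B := conj_of_mem h.tB

/-- an element of `J` which moves all non-zero elements of `I` -/
theorem exists_j [Finite Y] [Finite V] :
    ∃ j ∈ JJ U H, MulAut.conj j • B = B ∧ (∀ i ∈ I, i ≠ 0 → j • i ≠ i) ∧ ∃ f, Sc (JJ U H) N f ∧ ∀ i ∈ I, j • i = f i := by
  obtain ⟨i₁, hi₁, hi10⟩ := h.fs.exists_i0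
  obtain ⟨i₂, hi₂, hi20, hi21⟩ : ∃ i₂ ∈ I, i₂ ≠ 0 ∧ i₂ ≠ i₁ := by
    by_contra hcon
    push Not at hcon
    have h1 : (I : Set V) ⊆ {0, i₁} := by
      intro x hx
      by_cases hx0 : x = 0
      · left; exact hx0
      · right; exact hcon x hx hx0
    have h2 : Nat.card I ≤ 2 := by
      have h3 := Set.ncard_le_ncard h1 (Set.toFinite _)
      have h4 : ({0, i₁} : Set V).ncard ≤ 2 := Set.ncard_insert_le _ _ |>.trans (by simp)
      have h5 : Nat.card I = (I : Set V).ncard := rfl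
      omega
    rw [h.s.card_I] at h2
    have := h.four
    omega
  have hi₁' : i₁ ∈ N ⊓ fx V B := by rw [h.s.I_eq]; exact hi₁
  have hi₂' : i₂ ∈ N ⊓ fx V B := by rw [h.s.I_eq]; exact hi₂
  obtain ⟨j, hj, hj1⟩ := h.sd.trans h.hB h.sd.BH hi₁' hi10 hi₂' hi20
  have hji : j • i₁ ∈ I := by rw [hj1]; exact hi₂
  obtain ⟨f, hf, hfj⟩ := h.fs.smul_I hj hi₁ hi10 hji
  refine ⟨j, hj, h.sd.norm_of h.hB h.sd.BH (JJ_le hj) hi₁' hi10 (h.IF hji), ?_, f, hf, hfj⟩
  intro i hi hi0 h1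
  apply hi21
  have h2 := h.fs.inj (hf.addd Sc.id) (h.IN hi) hi0 (by
    rw [← hfj i hi, h1, h.two]) _ (h.IN hi₁)
  rw [← hfj i₁ hi₁, hj1] at h2
  exact h.eq_of_add h2

/-- `C_R(B) = B` -/
theorem cent_R [Finite Y] [Finite V] {r : Y} (hr : r ∈ R) (hrB : ∀ b ∈ B, r * b = b * r) : r ∈ B := by
  apply h.P_eq r hr
  have hRH := h.a.RH
  -- `R` normalises `B`
  have hRB : ∀ x ∈ R, MulAut.conj x • B = B := fun x hx =>
    h.uniq _ (h.amb.cls.conj B h.hB x) (conj_le_of hx h.BR)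
  have hRI : ∀ x ∈ R, ∀ i ∈ I, x • i ∈ I := by
    intro x hx i hi
    rw [← h.s.I_eq] at hi ⊢
    refine ⟨h.s.N_H x (hRH hx) i hi.1, ?_⟩
    rw [← hRB x hx, fx_conj]
    exact smul_mem_smul_as hi.2
  obtain ⟨n, hn, hnI, hnR⟩ := exists_fixed_mod h.two h.a.R2 N I (fun x hx n hn => h.s.N_H x (hRH hx) n hn) hRI (by
    obtain ⟨n, hn, hnB⟩ := h.sd.exists_out h.hB h.sd.BH
    exact ⟨n, hn, fun h1 => hnB (h.IF h1)⟩)
  have hnB : n ∉ fx V B := fun h1 => hnI (by rw [← h.s.I_eq]; exact ⟨hn, h1⟩)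
  intro i hi
  have hi' : i ∈ N ⊓ fx V B := by rw [h.s.I_eq]; exact hi
  obtain ⟨b, hb, rfl⟩ := h.s.reg B h.hB h.sd.BH n hn hnB i hi'
  have h1 := h.IF (hnR r hr) b hb
  have h2 : b • r • n = r • b • n := by
    rw [← mul_smul, ← mul_smul, hrB b hb]
  rw [smul_add, h2] at h1
  rw [smul_add]
  apply h.eq_of_add
  calc r • b • n + r • n + (b • n + n) = (r • b • n + b • n) + (r • n + n) := by abel
    _ = 0 := by rw [h1, h.two]

/-- **`C_V(H) = 0`** (4'') -/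
theorem fx_bot [Finite Y] [Finite V] : fx V H = ⊥ := by
  have h2 : Fact (Nat.Prime 2) := ⟨Nat.prime_two⟩
  rw [eq_bot_iff]
  intro w hw
  rw [AddSubgroup.mem_bot]
  by_contra hw0
  have hwB : w ∈ fx V B := fx_mono h.sd.BH hw
  obtain ⟨i₀, hi₀, hi₀J⟩ := h.sw.sd.split h.hB h.sw.sd.BH hwB
  rw [h.s'.I_eq] at hi₀
  -- `i₀ ≠ 0`
  have hi0 : i₀ ≠ 0 := by
    rintro rfl
    rw [add_zero] at hi₀J
    have h1 : w ∈ fx V H' := by
      obtain ⟨A, hA, hAH, hAM⟩ := h.s'.opp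
      have h3 : H' ≤ MulAction.stabilizer Y w := by
        rw [← h.a'.gen hAH hAM]
        exact sup_le (fun r hr => hw r (h.a.RH hr)) (fun x hx => hi₀J x (le_JJ hA hAH hx))
      exact fun y hy => h3 hy
    rw [h.H'_eq, fx_conj, mem_smul_as] at h1
    have h3 := h.a.C_inf h.amb h1 (by rw [smul_inv_smul]; exact hw)
    apply hw0
    rw [← smul_inv_smul t w, h3, smul_zero]
  obtain ⟨j, hj, hjB, hjI, f, hf, hfj⟩ := h.exists_j
  -- `j' = t j t⁻¹`
  obtain ⟨j', hj'⟩ : ∃ j' : Y, j' = t * j * t⁻¹ := ⟨_, rfl⟩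
  have hj'J : j' ∈ JJ U H' := by
    rw [hj', h.H'_eq]
    exact conj_JJ h.amb.cls t hj
  have hj'B : MulAut.conj j' • B = B := by
    have htB := h.tB'
    have htB' : MulAut.conj t⁻¹ • B = B := by
      rw [← htB, conj_inv_smul', htB]
    have e : j' = t * (j * t⁻¹) := by rw [hj', mul_assoc]
    rw [e, ← conj_smul_smul, ← conj_smul_smul, htB', hjB, htB]
  have hj's : ∀ v : V, j' • v = t • j • t⁻¹ • v := by
    intro v
    rw [hj', mul_smul, mul_smul]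
  have hj'I : ∀ i ∈ I, i ≠ 0 → j' • i ≠ i := by
    intro i hi hi0 h1
    apply hjI _ (h.tI hi) (fun h3 => hi0 (by rw [← smul_inv_smul t i, h3, smul_zero]))
    rw [hj's, ← eq_inv_smul_iff] at h1
    exact h1
  have hj'mem : ∀ i ∈ I, j' • i ∈ I := by
    intro i hi
    have hi' : i ∈ N' ⊓ fx V B := by rw [h.s'.I_eq]; exact hi
    rw [← h.s'.I_eq]
    refine ⟨h.s'.N_H _ (JJ_le hj'J) _ hi'.1, ?_⟩
    rw [← hj'B, fx_conj]
    exact smul_mem_smul_as hi'.2
  have hjmem : ∀ i ∈ I, j • i ∈ I := by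
    intro i hi
    rw [hfj i hi]
    exact h.fs.sc_I hf hi
  obtain ⟨i₁, hi₁, hi10⟩ := h.fs.exists_i0
  obtain ⟨f', hf', hfj'⟩ := h.sw.fs.smul_I hj'J hi₁ hi10 (hj'mem i₁ hi₁)
  -- `f' = f₂` on `I`
  obtain ⟨f₂, hf₂, hff₂⟩ := h.sw.ts.exists_sc' hf'
  have hcomm : ∀ i ∈ I, j • j' • i = j' • j • i := by
    intro i hi
    rw [hfj _ (hj'mem i hi), hfj' i hi, hff₂ i hi, hfj i hi, hfj' _ (h.fs.sc_I hf hi), hff₂ _ (h.fs.sc_I hf hi)]
    exact h.fs.sc_comm hf hf₂ i (h.IN hi)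
  -- normalising
  have n1 : ∀ q ∈ Q, j' * q * j'⁻¹ ∈ Q := h.norm hj'J hj'B
  have n2 : ∀ q ∈ Q', j * q * j⁻¹ ∈ Q' := h.sw.norm hj hjB
  have nc1 : MulAut.conj j' • Q = Q := conj_of_mem n1
  have nc2 : MulAut.conj j • Q' = Q' := conj_of_mem n2
  have n1' : ∀ q ∈ Q, j'⁻¹ * q * j' ∈ Q := by
    intro q hq
    rw [← nc1, mem_conj] at hq
    exact hq
  have n2' : ∀ q ∈ Q', j⁻¹ * q * j ∈ Q' := by
    intro q hq
    rw [← nc2, mem_conj] at hq
    exact hq
  have cQ : ∀ q ∈ Q, j * q * j⁻¹ = q := by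
    intro q hq
    rw [h.sd.JQ hj hq]; group
  have cQ' : ∀ q ∈ Q', j' * q * j'⁻¹ = q := by
    intro q hq
    rw [h.sw.sd.JQ hj'J hq]; group
  have cQi : ∀ q ∈ Q, j⁻¹ * q * j = q := by
    intro q hq
    have := cQ q hq
    calc j⁻¹ * q * j = j⁻¹ * (j * q * j⁻¹) * j := by rw [this]
      _ = q := by group
  have cQi' : ∀ q ∈ Q', j'⁻¹ * q * j' = q := by
    intro q hq
    have := cQ' q hq
    calc j'⁻¹ * q * j' = j'⁻¹ * (j' * q * j'⁻¹) * j' := by rw [this]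
      _ = q := by group
  -- the commutator
  obtain ⟨g, hg⟩ : ∃ g : Y, g = j * j' * j⁻¹ * j'⁻¹ := ⟨_, rfl⟩
  have gQ : ∀ q ∈ Q, g * q * g⁻¹ = q := by
    intro q hq
    have e : g * q * g⁻¹ = j * (j' * (j⁻¹ * (j'⁻¹ * q * j') * j) * j'⁻¹) * j⁻¹ := by rw [hg]; group
    rw [e, cQi _ (n1' q hq)]
    have e2 : j' * (j'⁻¹ * q * j') * j'⁻¹ = q := by group
    rw [e2, cQ q hq]
  have gQ' : ∀ q ∈ Q', g * q * g⁻¹ = q := by
    intro q hq
    have e : g * q * g⁻¹ = j * (j' * (j⁻¹ * (j'⁻¹ * q * j') * j) * j'⁻¹) * j⁻¹ := by rw [hg]; group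
    rw [e, cQi' q hq, cQ' _ (n2' q hq)]
    group
  have gB : ∀ b ∈ B, g * b = b * g := by
    intro b hb
    obtain ⟨q, hq, q', hq', rfl⟩ := h.mul b hb
    have h1 : g * (q * q') * g⁻¹ = q * q' := by
      have e : g * (q * q') * g⁻¹ = (g * q * g⁻¹) * (g * q' * g⁻¹) := by group
      rw [e, gQ q hq, gQ' q' hq']
    calc g * (q * q') = (g * (q * q') * g⁻¹) * g := by group
      _ = _ := by rw [h1]
  have ginv : ∀ v : V, g • j' • j • v = j • j' • v := by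
    intro v
    rw [← mul_smul, ← mul_smul, ← mul_smul, hg]
    congr 1
    group
  have gI : ∀ i ∈ I, g • i = i := by
    intro i hi
    -- `i = j' j i₃`
    have hs : ∃ i₃ ∈ I, j' • j • i₃ = i := by
      let φ : I → I := fun x => ⟨j' • j • (x : V), hj'mem _ (hjmem _ x.2)⟩
      have hφ : Function.Injective φ := by
        intro x y hxy
        have h1 : j' • j • (x : V) = j' • j • (y : V) := congrArg Subtype.val hxy
        rw [smul_left_cancel_iff, smul_left_cancel_iff] at h1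
        exact Subtype.ext h1
      obtain ⟨x, hx⟩ := (Finite.injective_iff_surjective.1 hφ) ⟨i, hi⟩
      exact ⟨x, x.2, congrArg Subtype.val hx⟩
    obtain ⟨i₃, hi₃, rfl⟩ := hs
    rw [ginv, hcomm i₃ hi₃]
  -- `g w = w + d`
  have hjw : j • w = w := hw j (JJ_le hj)
  have hj'w : j' • (w + i₀) = w + i₀ := hi₀J j' hj'J
  have e1 : j' • w = w + i₀ + j' • i₀ := by
    rw [smul_add] at hj'w
    calc j' • w = j' • w + j' • i₀ + j' • i₀ := by rw [add_assoc, h.two, add_zero]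
      _ = _ := by rw [hj'w]
  obtain ⟨y, hy⟩ : ∃ y : V, y = i₀ + j' • i₀ := ⟨_, rfl⟩
  have hyI : y ∈ I := by rw [hy]; exact add_mem hi₀ (hj'mem i₀ hi₀)
  have hy0 : y ≠ 0 := by
    intro h1
    rw [hy] at h1
    exact hj'I i₀ hi₀ hi0 (h.eq_of_add h1).symm
  have e2 : g • (w + y) = w + j • y := by
    have h1 := ginv w
    rw [hjw, e1, add_assoc, ← hy, smul_add j, hjw] at h1
    exact h1
  have e3 : g • w = w + (j • y + y) := by
    rw [smul_add, gI y hyI] at e2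
    calc g • w = g • w + y + y := by rw [add_assoc, h.two, add_zero]
      _ = w + j • y + y := by rw [e2]
      _ = _ := by rw [add_assoc]
  obtain ⟨d, hd⟩ : ∃ d : V, d = j • y + y := ⟨_, rfl⟩
  have hdI : d ∈ I := by rw [hd]; exact add_mem (hjmem y hyI) hyI
  have hd0 : d ≠ 0 := by
    intro h1
    rw [hd] at h1
    exact hjI y hyI hy0 (h.eq_of_add h1)
  rw [← hd] at e3
  -- the 2-part
  have hpow : ∀ m : ℕ, g ^ m • w = w + m • d := by
    intro m
    induction m with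
    | zero => rw [pow_zero, one_smul, zero_smul, add_zero]
    | succ m ih =>
      rw [pow_succ', mul_smul, ih, smul_add, e3, succ_nsmul]
      have h1 : g • (m • d) = m • d := gI _ (AddSubgroup.nsmul_mem I hdI m)
      rw [h1]
      abel
  have hodd : ∀ m : ℕ, Odd m → m • d = d := by
    rintro m ⟨k, rfl⟩
    rw [add_smul, one_smul, mul_comm, mul_smul, two_nsmul, h.two, smul_zero, zero_add]
  obtain ⟨k, m, hm, hkm⟩ := Nat.exists_eq_two_pow_mul_odd (n := orderOf g) (orderOf_pos g).ne'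
  obtain ⟨g₂, hg₂⟩ : ∃ g₂ : Y, g₂ = g ^ m := ⟨_, rfl⟩
  have hg₂w : g₂ • w = w + d := by rw [hg₂, hpow, hodd m hm]
  have hg₂p : g₂ ^ 2 ^ k = 1 := by
    rw [hg₂, ← pow_mul, mul_comm, ← hkm, pow_orderOf_eq_one]
  have hg₂B : ∀ b ∈ B, g₂ * b = b * g₂ := by
    intro b hb
    rw [hg₂]
    exact ((Commute.pow_left (show Commute g b from gB b hb)) m)
  -- the 2-group `B ⟨g₂⟩`
  have hz2 : IsPGroup 2 (zpowers g₂) := by
    rintro ⟨x, hx⟩
    obtain ⟨n, rfl⟩ := mem_zpowers_iff.mp hx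
    refine ⟨k, Subtype.ext ?_⟩
    change (g₂ ^ n) ^ 2 ^ k = 1
    rw [← zpow_natCast, ← zpow_mul, mul_comm, zpow_mul, zpow_natCast, hg₂p, one_zpow]
  have hzc : zpowers g₂ ≤ normalizer (B : Set Y) := by
    rw [zpowers_le, mem_normalizer_iff]
    intro b
    constructor
    · intro hb
      have : g₂ * b * g₂⁻¹ = b := by rw [hg₂B b hb]; group
      rw [this]; exact hb
    · intro hb
      have h1 := hg₂B _ hb
      have h3 : g₂ * b * g₂⁻¹ = b := by
        have h4 : g₂ * (g₂ * b * g₂⁻¹) * g₂⁻¹ = g₂ * b * g₂⁻¹ := by rw [h1]; group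
        have h5 : g₂ * (g₂ * b * g₂⁻¹) = g₂ * b := mul_right_cancel h4
        exact mul_left_cancel h5
      rw [h3] at hb; exact hb
  have hS2 : IsPGroup 2 ↥(B ⊔ zpowers g₂) :=
    IsPGroup.to_sup_of_normal_left' (h.amb.cls.mem B h.hB).isPGroup hz2 hzc
  -- the normaliser of `Q`
  have hBab : ∀ b ∈ B, ∀ q ∈ Q, b * q * b⁻¹ = q := by
    intro b hb q hq
    rw [(h.amb.cls.mem B h.hB).comm b hb q (h.s.QB hq)]; group
  have hX : normalizer (Q : Set Y) ≠ ⊤ := by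
    intro h1
    have hQn : Q.Normal := normalizer_eq_top_iff.1 h1
    have h3 := h.amb.core Q hQn ((h.amb.cls.mem B h.hB).isPGroup.to_le h.s.QB)
    obtain ⟨q₀, hq₀, hq0⟩ := h.fs.exists_ne
    rw [h3, mem_bot] at hq₀
    exact hq0 hq₀
  have hHX : H ≤ normalizer (Q : Set Y) := by
    intro x hx
    rw [mem_normalizer_iff]
    intro q
    refine ⟨fun hq => h.s.Q_H x hx q hq, fun hq => ?_⟩
    have h1 := h.s.Q_H x⁻¹ (H.inv_mem hx) _ hq
    have e : x⁻¹ * (x * q * x⁻¹) * x⁻¹⁻¹ = q := by group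
    rwa [e] at h1
  have hSX : B ⊔ zpowers g₂ ≤ normalizer (Q : Set Y) := by
    refine sup_le (h.sd.BH.trans hHX) ?_
    rw [zpowers_le, mem_normalizer_iff]
    intro q
    constructor
    · intro hq
      have : g₂ * q * g₂⁻¹ = q := by rw [hg₂B q (h.s.QB hq)]; group
      rw [this]; exact hq
    · intro hq
      have h1 := hg₂B _ (h.s.QB hq)
      have h3 : g₂ * q * g₂⁻¹ = q := by
        have h4 : g₂ * (g₂ * q * g₂⁻¹) * g₂⁻¹ = g₂ * q * g₂⁻¹ := by rw [h1]; group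
        have h5 : g₂ * (g₂ * q * g₂⁻¹) = g₂ * q := mul_right_cancel h4
        exact mul_left_cancel h5
      rw [h3] at hq; exact hq
  obtain ⟨x, hx, hxS⟩ := conj_into_of_card (h.a.RH.trans hHX) h.a.R2
    (fun S hS hS2 => h.a.card_le hX hHX hS hS2) hSX hS2
  -- `B^x = B`
  have hBx : MulAut.conj x⁻¹ • B = B := by
    apply h.uniq _ (h.amb.cls.conj B h.hB _)
    intro y hy
    rw [mem_conj, inv_inv] at hy
    have h1 := hxS _ (mem_sup_left hy)
    have e : x⁻¹ * (x * y * x⁻¹) * x = y := by group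
    rwa [e] at h1
  have hr : x⁻¹ * g₂ * x ∈ R := hxS _ (mem_sup_right (mem_zpowers g₂))
  have hrB : x⁻¹ * g₂ * x ∈ B := by
    apply h.cent_R hr
    intro b hb
    have h1 : x * b * x⁻¹ ∈ B := by
      have h3 := hb
      rw [← hBx, mem_conj, inv_inv] at h3
      exact h3
    have h3 := hg₂B _ h1
    calc x⁻¹ * g₂ * x * b = x⁻¹ * (g₂ * (x * b * x⁻¹)) * x := by group
      _ = x⁻¹ * ((x * b * x⁻¹) * g₂) * x := by rw [h3]
      _ = b * (x⁻¹ * g₂ * x) := by group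
  have hgB : g₂ ∈ B := by
    rw [← hBx, mem_conj, inv_inv] at hrB
    have e : x * (x⁻¹ * g₂ * x) * x⁻¹ = g₂ := by group
    rwa [e] at hrB
  have := hwB g₂ hgB
  rw [hg₂w] at this
  apply hd0
  have h3 : w + d = w + 0 := by rw [this, add_zero]
  exact add_left_cancel h3

/-- `C_V(J) = 0` -/
theorem fxJ_bot [Finite Y] [Finite V] : fx V (JJ U H) = ⊥ := by
  rw [eq_bot_iff]
  intro v hv
  rw [AddSubgroup.mem_bot]
  by_contra hv0
  obtain ⟨w, hw, hw0, hwR⟩ := HE.exists_fixed h.two h.a.R2 (fx V (JJ U H)) (by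
    intro r hr w hw j hj
    have h1 := hw _ (conj_JJ' h.amb.cls (H.inv_mem (h.a.RH hr)) hj)
    rw [inv_inv, mul_smul, mul_smul, inv_smul_eq_iff] at h1
    exact h1) ⟨v, hv, hv0⟩
  apply hw0
  have h1 : w ∈ fx V H := by
    obtain ⟨A, hA, hAH, hAM⟩ := h.s.opp
    have h3 : H ≤ MulAction.stabilizer Y w := by
      rw [← h.a.gen hAH hAM]
      exact sup_le (fun r hr => hwR r hr) (fun x hx => hw x (le_JJ hA hAH hx))
    exact fun y hy => h3 hy
  rwa [h.fx_bot, AddSubgroup.mem_bot] at h1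

/-- an opposite member does not normalise `B` -/
theorem not_norm [Finite Y] [Finite V] {A : Subgroup Y} (hA : A ∈ U) (hAH : A ≤ H) (hne : A ≠ B) :
    ∃ a ∈ A, MulAut.conj a • B ≠ B := by
  obtain ⟨i, hi, hi0⟩ := h.sd.exists_ne0 h.hB h.sd.BH
  obtain ⟨i₁, hi₁, hi10⟩ := h.sd.exists_ne0 hA hAH
  have hop := h.sd.op_of_ne h.hB h.sd.BH hA hAH (Ne.symm hne)
  obtain ⟨a, ha, hai⟩ := h.s.reg A hA hAH i hi.1 (h.sd.not_mem hop hi.1 hi.2 hi0) i₁ hi₁
  refine ⟨a, ha, fun h1 => ?_⟩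
  apply h.sd.not_mem (Sd.op_symm hop) hi₁.1 hi₁.2 hi10
  rw [← hai]
  refine add_mem ?_ hi.2
  rw [← h1, fx_conj]
  exact smul_mem_smul_as hi.2

/-- `N_H(B) ≤ M` -/
theorem norm_le [Finite Y] [Finite V] {x : Y} (hx : x ∈ H) (hxB : MulAut.conj x • B = B) : x ∈ M := by
  have hnorm : ∀ y : Y, y ∈ normalizer (B : Set Y) ↔ MulAut.conj y • B = B := by
    intro y
    constructor
    · intro hy
      apply conj_of_mem
      intro b hb
      exact (mem_normalizer_iff.1 hy b).1 hb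
    · intro hy
      rw [mem_normalizer_iff]
      intro b
      constructor
      · intro hb
        have := conj_mem_conj (g := y) hb
        rwa [hy] at this
      · intro hb
        rw [← hy, mem_conj] at hb
        have e : y⁻¹ * (y * b * y⁻¹) * y = b := by group
        rwa [e] at hb
  have hlt : normalizer (B : Set Y) ⊓ H < H := by
    refine lt_of_le_of_ne inf_le_right fun h1 => ?_
    obtain ⟨A, hA, hAH, hAM⟩ := h.s.opp
    obtain ⟨a, ha, hane⟩ := h.not_norm hA hAH (fun h2 => hAM (by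
      rw [h2]; exact h.BR.trans (h.a.RT.trans h.amb.TM)))
    apply hane
    have h2 : a ∈ normalizer (B : Set Y) ⊓ H := by rw [h1]; exact hAH ha
    exact (hnorm a).1 h2.1
  have hR : R ≤ normalizer (B : Set Y) ⊓ H := by
    intro r hr
    refine ⟨(hnorm r).2 (h.uniq _ (h.amb.cls.conj B h.hB r) (conj_le_of hr h.BR)), h.a.RH hr⟩
  exact h.a.uniq _ hR hlt ⟨(hnorm x).2 hxB, hx⟩

/-- `J ∩ R = B` -/
theorem J_inf_R [Finite Y] [Finite V] {r : Y} (hr : r ∈ R) (hrJ : r ∈ JJ U H) : r ∈ B := by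
  apply h.P_eq r hr
  have hRI : ∀ x ∈ R, ∀ i ∈ I, x • i ∈ I := by
    intro x hx i hi
    rw [← h.s.I_eq] at hi ⊢
    refine ⟨h.s.N_H x (h.a.RH hx) i hi.1, ?_⟩
    rw [← h.uniq _ (h.amb.cls.conj B h.hB x) (conj_le_of hx h.BR), fx_conj]
    exact smul_mem_smul_as hi.2
  obtain ⟨i₁, hi₁, hi10⟩ := h.fs.exists_i0
  obtain ⟨i₀, hi₀, hi00, hi₀R⟩ := HE.exists_fixed h.two h.a.R2 I hRI ⟨i₁, hi₁, hi10⟩
  obtain ⟨f, hf, hfr⟩ := h.fs.smul_I hrJ hi₀ hi00 (hRI r hr i₀ hi₀)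
  intro i hi
  rw [hfr i hi]
  exact h.fs.ext hf Sc.id (h.IN hi₀) hi00 (by rw [← hfr i₀ hi₀]; exact hi₀R r hr) i (h.IN hi)

/-- **THE END** (bb OMEGA 20698, 21741) -/
theorem fin [Finite Y] [Finite V] : Fin V U T M := by
  obtain ⟨A, hA, hAH, hAM⟩ := h.s.opp
  have hBM : B ≤ M := h.BR.trans (h.a.RT.trans h.amb.TM)
  have hne : A ≠ B := fun h2 => hAM (by rw [h2]; exact hBM)
  have hgen := h.sd.gen h.hB h.sd.BH hA hAH hne.symm
  have hLH : B ⊔ A ≤ H := sup_le h.sd.BH hAH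
  have hum : UM U B A :=
    { mB := h.hB
      mB' := hA
      ne := hne.symm
      min := fun C hC D hD hCD hle => by
        rw [← hgen]
        exact (h.sd.gen hC (le_sup_left.trans (hle.trans hLH)) hD (le_sup_right.trans (hle.trans hLH)) hCD).symm }
  have hnn : ¬ A ≤ normalizer (B : Set Y) := by
    intro h1
    obtain ⟨a, ha, hane⟩ := h.not_norm hA hAH hne
    apply hane
    apply conj_of_mem
    intro b hb
    exact (mem_normalizer_iff.1 (h1 ha) b).1 hb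
  obtain ⟨Q₁, R₁, hL⟩ := hum.loc0 h.amb.cls hnn
  -- the stabiliser
  have hM : (normalizer (B : Set Y)).subgroupOf (B ⊔ A) = M.subgroupOf (B ⊔ A) := by
    ext x
    rw [mem_subgroupOf, mem_subgroupOf]
    have hxH : (x : Y) ∈ H := hLH x.2
    constructor
    · intro h1
      apply h.norm_le hxH
      apply conj_of_mem
      intro b hb
      exact (mem_normalizer_iff.1 h1 b).1 hb
    · intro h1
      have h2 : MulAut.conj (x : Y) • B ≤ M := conj_le_of h1 hBM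
      have hU := h.amb.cls.conj B h.hB (x : Y)
      have hUH : MulAut.conj (x : Y) • B ≤ H := conj_le_of hxH h.sd.BH
      have h3 := (h.s.le_M _ hU hUH).1 h2
      have h4 : MulAut.conj (x : Y) • B = B := by
        apply h.sd.one hU hUH h.hB h.sd.BH
        rw [h3, h.s.I_eq]
      rw [mem_normalizer_iff]
      intro b
      constructor
      · intro hb
        have := conj_mem_conj (g := (x : Y)) hb
        rwa [h4] at this
      · intro hb
        have h5 : (x : Y) * b * (x : Y)⁻¹ ∈ MulAut.conj (x : Y) • B := by rw [h4]; exact hb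
        rw [mem_conj] at h5
        have e : (x : Y)⁻¹ * ((x : Y) * b * (x : Y)⁻¹) * x = b := by group
        rwa [e] at h5
  rw [hM] at hL
  -- the Sylow subgroup
  have hR₁ : (R₁ : Subgroup (B ⊔ A : Subgroup Y)).map (B ⊔ A : Subgroup Y).subtype ≤ B := by
    obtain ⟨x, hx, hxR⟩ := conj_into_of_card h.a.RH h.a.R2
      (fun S hS hS2 => h.a.card_le h.a.bad.ne le_rfl hS hS2)
      ((map_subtype_le (R₁ : Subgroup (B ⊔ A : Subgroup Y))).trans hLH) (R₁.2.map _)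
    have hBP : B ≤ (R₁ : Subgroup (B ⊔ A : Subgroup Y)).map (B ⊔ A : Subgroup Y).subtype := by
      intro b hb
      exact ⟨⟨b, mem_sup_left hb⟩, hL.AR hb, rfl⟩
    have hBx : MulAut.conj x⁻¹ • B = B := by
      apply h.uniq _ (h.amb.cls.conj B h.hB _)
      intro y hy
      rw [mem_conj, inv_inv] at hy
      have h1 := hxR _ (hBP hy)
      have e : x⁻¹ * (x * y * x⁻¹) * x = y := by group
      rwa [e] at h1
    intro s hs
    have h1 := hxR s hs
    have hsJ : s ∈ JJ U H := by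
      rw [hgen]
      exact map_subtype_le _ hs
    have h2 : x⁻¹ * s * x ∈ JJ U H := by
      have := conj_JJ' h.amb.cls (H.inv_mem hx) hsJ
      rwa [inv_inv] at this
    have h3 := h.J_inf_R h1 h2
    rw [← hBx, mem_conj, inv_inv] at h3
    have e : x * (x⁻¹ * s * x) * x⁻¹ = s := by group
    rwa [e] at h3
  refine ⟨B ⊔ A, B, Q₁, R₁, h.hB, le_sup_left, h.BR.trans h.a.RT, fun h1 => hAM (le_sup_right.trans h1),
    hR₁.trans (h.BR.trans h.a.RT), hL, ?_, Or.inl ?_⟩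
  · rw [← hgen]; exact h.fxJ_bot
  · obtain ⟨q₀, hq₀, hq0⟩ := h.fs.exists_ne
    have hqL : q₀ ∈ (B ⊔ A : Subgroup Y) := mem_sup_left (h.s.QB hq₀)
    have hQn : (Q.subgroupOf (B ⊔ A)).Normal := by
      refine ⟨fun n hn g => ?_⟩
      rw [mem_subgroupOf] at hn ⊢
      exact h.s.Q_H g (hLH g.2) n hn
    have hQ2 : IsPGroup 2 (Q.subgroupOf (B ⊔ A)) :=
      ((h.amb.cls.mem B h.hB).isPGroup.to_le h.s.QB).comap_of_injective _ Subtype.coe_injective
    intro h1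
    have h2 : (⟨q₀, hqL⟩ : (B ⊔ A : Subgroup Y)) ∈ B.subgroupOf (B ⊔ A) ⊓ Q₁ :=
      ⟨h.s.QB hq₀, hL.core _ hQn hQ2 hq₀⟩
    rw [h1, mem_bot] at h2
    exact hq0 (congrArg Subtype.val h2)

end EndS

end Cfsg.Agent.Omega.NO1.TH
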