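import Cfsg.Agent.Omega.NO1.AB.Beta

/-!
# N1, THE END (bb OMEGA 20698, 21741, helper70, helper456): the field

One side of the amalgam: `J` centralises `Q ≤ B ≤ J`, is irreducible on `N`, `[v, q] ∈ N`, `[V, q] = N`, `C_V(q) = C_V(Q)`
for `1 ≠ q ∈ Q`, `I = C_N(B)`, `|Q| = |I| = c`.  `Sc J N f` : `f` is an additive map on `N` commuting with `J`.
Every such `f` is `m_b : [v, b₀] ↦ [v, b]`, `b ∈ Q`; they form a field.
-/

set_option autoImplicit false
set_option linter.unusedSectionVars false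

namespace Cfsg.Agent.Omega.NO1.TH

open Subgroup Cfsg.Agent.Omega.NO1.AB
open scoped Pointwise

universe u

variable {Y : Type u} [Group Y] {V : Type u} [AddCommGroup V] [DistribMulAction Y V]

/-- one side (module level) -/
structure FS (J B Q : Subgroup Y) (N I : AddSubgroup V) (c : ℕ) : Prop where
  two : ∀ v : V, v + v = 0
  NJ : ∀ j ∈ J, ∀ n ∈ N, j • n ∈ N
  irr : ∀ N₀ : AddSubgroup V, N₀ ≤ N → (∀ j ∈ J, ∀ n ∈ N₀, j • n ∈ N₀) → N₀ = ⊥ ∨ N₀ = N
  JQ : ∀ j ∈ J, ∀ q ∈ Q, j * q = q * j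
  BJ : B ≤ J
  QB : Q ≤ B
  card_Q : Nat.card Q = c
  card_I : Nat.card I = c
  mem_I : ∀ v : V, v ∈ I ↔ v ∈ N ∧ ∀ b ∈ B, b • v = v
  QN : ∀ q ∈ Q, ∀ n ∈ N, q • n = n
  VQ : ∀ q ∈ Q, ∀ v : V, q • v + v ∈ N
  onto : ∀ q ∈ Q, q ≠ 1 → ∀ n ∈ N, ∃ v : V, q • v + v = n
  fix : ∀ q ∈ Q, q ≠ 1 → ∀ v : V, q • v = v → ∀ q₂ ∈ Q, q₂ • v = v
  c_two : 2 ≤ c

/-- a scalar of `N` over `J` -/
structure Sc (J : Subgroup Y) (N : AddSubgroup V) (f : V → V) : Prop where
  mem : ∀ n ∈ N, f n ∈ N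
  add : ∀ n ∈ N, ∀ n₂ ∈ N, f (n + n₂) = f n + f n₂
  comm : ∀ j ∈ J, ∀ n ∈ N, f (j • n) = j • f n

namespace Sc

variable {J : Subgroup Y} {N : AddSubgroup V} {f g : V → V}

theorem zero' (hf : Sc J N f) : f 0 = 0 := by
  have h := hf.add 0 (zero_mem N) 0 (zero_mem N)
  rw [add_zero] at h
  have h2 : f 0 + 0 = f 0 + f 0 := by rw [add_zero]; exact h
  exact (add_left_cancel h2).symm

theorem comp (hf : Sc J N f) (hg : Sc J N g) : Sc J N (fun v => f (g v)) where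
  mem := fun n hn => hf.mem _ (hg.mem n hn)
  add := fun n hn n₂ hn₂ => by
    rw [hg.add n hn n₂ hn₂, hf.add _ (hg.mem n hn) _ (hg.mem n₂ hn₂)]
  comm := fun j hj n hn => by
    rw [hg.comm j hj n hn, hf.comm j hj _ (hg.mem n hn)]

theorem addd (hf : Sc J N f) (hg : Sc J N g) : Sc J N (fun v => f v + g v) where
  mem := fun n hn => add_mem (hf.mem n hn) (hg.mem n hn)
  add := fun n hn n₂ hn₂ => by
    rw [hg.add n hn n₂ hn₂, hf.add n hn n₂ hn₂]
    abel
  comm := fun j hj n hn => by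
    rw [hg.comm j hj n hn, hf.comm j hj n hn, smul_add]

theorem id : Sc J N (fun v => v) where
  mem := fun _ hn => hn
  add := fun _ _ _ _ => rfl
  comm := fun _ _ _ _ => rfl

theorem zero : Sc J N (fun _ => (0 : V)) where
  mem := fun _ _ => zero_mem N
  add := fun _ _ _ _ => (add_zero 0).symm
  comm := fun _ _ _ _ => (smul_zero _).symm

/-- the restriction to `N` -/
noncomputable def toEnd (hf : Sc J N f) : N →+ N where
  toFun n := ⟨f n, hf.mem n n.2⟩
  map_zero' := Subtype.ext hf.zero'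
  map_add' a b := Subtype.ext (hf.add a a.2 b b.2)

end Sc

/-- the ring of scalars -/
def ScRing (J : Subgroup Y) (N : AddSubgroup V) : Subring (AddMonoid.End N) where
  carrier := {φ | ∀ j ∈ J, ∀ n n₂ : N, (n₂ : V) = j • (n : V) → (φ n₂ : V) = j • (φ n : V)}
  mul_mem' := fun {a b} ha hb j hj n n₂ h => by
    exact ha j hj (b n) (b n₂) (hb j hj n n₂ h)
  one_mem' := fun j hj n n₂ h => h
  add_mem' := fun {a b} ha hb j hj n n₂ h => by
    change ((a n₂ + b n₂ : N) : V) = j • ((a n + b n : N) : V)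
    push_cast
    rw [smul_add, ha j hj n n₂ h, hb j hj n n₂ h]
  zero_mem' := fun j hj n n₂ h => by
    change ((0 : N) : V) = j • ((0 : N) : V)
    push_cast
    rw [smul_zero]
  neg_mem' := fun {a} ha j hj n n₂ h => by
    change ((-(a n₂) : N) : V) = j • ((-(a n) : N) : V)
    push_cast
    rw [smul_neg, ha j hj n n₂ h]

namespace FS

variable {J B Q : Subgroup Y} {N I : AddSubgroup V} {c : ℕ} (h : FS J B Q N I c)
include h

theorem IN : I ≤ N := fun v hv => ((h.mem_I v).1 hv).1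

/-- injectivity of scalars -/
theorem inj {f : V → V} (hf : Sc J N f) {n : V} (hn : n ∈ N) (hn0 : n ≠ 0) (hfn : f n = 0) :
    ∀ x ∈ N, f x = 0 := by
  let K : AddSubgroup V :=
    { carrier := {x | x ∈ N ∧ f x = 0}
      zero_mem' := ⟨zero_mem N, hf.zero'⟩
      add_mem' := fun {a b} ha hb => ⟨add_mem ha.1 hb.1, by rw [hf.add a ha.1 b hb.1, ha.2, hb.2, add_zero]⟩
      neg_mem' := fun {a} ha => by
        have e : -a = a := by
          have := h.two a
          exact neg_eq_of_add_eq_zero_left this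
        rw [e]; exact ha }
  have hK : K = ⊥ ∨ K = N := h.irr K (fun x hx => hx.1) (fun j hj x hx =>
    ⟨h.NJ j hj x hx.1, by rw [hf.comm j hj x hx.1, hx.2, smul_zero]⟩)
  rcases hK with hK | hK
  · exfalso
    apply hn0
    have : n ∈ K := ⟨hn, hfn⟩
    rw [hK, AddSubgroup.mem_bot] at this
    exact this
  · intro x hx
    have : x ∈ K := by rw [hK]; exact hx
    exact this.2

/-- two scalars equal at one non-zero vector -/
theorem ext {f g : V → V} (hf : Sc J N f) (hg : Sc J N g) {n : V} (hn : n ∈ N) (hn0 : n ≠ 0)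
    (hfg : f n = g n) : ∀ x ∈ N, f x = g x := by
  intro x hx
  have h1 := h.inj (hf.addd hg) hn hn0 (by rw [hfg]; exact h.two _) x hx
  have h2 : f x + g x = g x + g x := by rw [h1, h.two]
  exact add_right_cancel h2

/-- `m_b` -/
theorem exists_mb {b₀ b : Y} (hb₀ : b₀ ∈ Q) (hb0 : b₀ ≠ 1) (hb : b ∈ Q) :
    ∃ f, Sc J N f ∧ ∀ v : V, f (b₀ • v + v) = b • v + v := by
  classical
  have key : ∀ v v' : V, b₀ • v + v = b₀ • v' + v' → b • v + v = b • v' + v' := by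
    intro v v' hv
    have h1 : b₀ • (v + v') = v + v' := by
      rw [smul_add]
      have h2 : b₀ • v = b₀ • v' + v' + v := by
        rw [← hv, add_assoc, h.two, add_zero]
      rw [h2]
      have h3 := h.two (b₀ • v')
      calc b₀ • v' + v' + v + b₀ • v' = (b₀ • v' + b₀ • v') + (v + v') := by abel
        _ = v + v' := by rw [h3, zero_add]
    have h4 := h.fix b₀ hb₀ hb0 _ h1 b hb
    rw [smul_add] at h4
    have h5 : b • v = v + v' + b • v' := by
      rw [← h4, add_assoc, h.two, add_zero]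
    rw [h5]
    have h6 := h.two v
    calc v + v' + b • v' + v = (v + v) + (b • v' + v') := by abel
      _ = _ := by rw [h6, zero_add]
  refine ⟨fun n => if hn : ∃ v : V, b₀ • v + v = n then b • hn.choose + hn.choose else 0, ?_, ?_⟩
  · have hval : ∀ v : V, (if hn : ∃ v' : V, b₀ • v' + v' = b₀ • v + v then b • hn.choose + hn.choose else 0) =
        b • v + v := by
      intro v
      have hn : ∃ v' : V, b₀ • v' + v' = b₀ • v + v := ⟨v, rfl⟩
      rw [dif_pos hn]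
      exact key _ _ hn.choose_spec
    refine ⟨fun n hn => ?_, fun n hn n₂ hn₂ => ?_, fun j hj n hn => ?_⟩
    · obtain ⟨v, rfl⟩ := h.onto b₀ hb₀ hb0 n hn
      change (if hn : ∃ v' : V, b₀ • v' + v' = b₀ • v + v then b • hn.choose + hn.choose else 0) ∈ N
      rw [hval]
      exact h.VQ b hb v
    · obtain ⟨v, rfl⟩ := h.onto b₀ hb₀ hb0 n hn
      obtain ⟨v₂, rfl⟩ := h.onto b₀ hb₀ hb0 n₂ hn₂
      have e : b₀ • v + v + (b₀ • v₂ + v₂) = b₀ • (v + v₂) + (v + v₂) := by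
        rw [smul_add]; abel
      change (if hn : ∃ v' : V, b₀ • v' + v' = b₀ • v + v + (b₀ • v₂ + v₂) then b • hn.choose + hn.choose else 0) =
        (if hn : ∃ v' : V, b₀ • v' + v' = b₀ • v + v then b • hn.choose + hn.choose else 0) +
        (if hn : ∃ v' : V, b₀ • v' + v' = b₀ • v₂ + v₂ then b • hn.choose + hn.choose else 0)
      rw [e, hval, hval, hval, smul_add]; abel
    · obtain ⟨v, rfl⟩ := h.onto b₀ hb₀ hb0 n hn
      have e : j • (b₀ • v + v) = b₀ • (j • v) + j • v := by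
        rw [smul_add, ← mul_smul, ← mul_smul, h.JQ j hj b₀ hb₀]
      change (if hn : ∃ v' : V, b₀ • v' + v' = j • (b₀ • v + v) then b • hn.choose + hn.choose else 0) =
        j • (if hn : ∃ v' : V, b₀ • v' + v' = b₀ • v + v then b • hn.choose + hn.choose else 0)
      rw [e, hval, hval, smul_add, ← mul_smul, ← mul_smul, h.JQ j hj b hb]
  · intro v
    have hn : ∃ v' : V, b₀ • v' + v' = b₀ • v + v := ⟨v, rfl⟩
    change (if hn : ∃ v' : V, b₀ • v' + v' = b₀ • v + v then b • hn.choose + hn.choose else 0) = _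
    rw [dif_pos hn]
    exact key _ _ hn.choose_spec

/-- `[v, b b'] = [v, b] + [v, b']` -/
theorem add_Q {b b' : Y} (hb : b ∈ Q) (hb' : b' ∈ Q) (v : V) :
    (b * b') • v + v = (b • v + v) + (b' • v + v) := by
  have h1 := h.QN b hb _ (h.VQ b' hb' v)
  rw [smul_add, ← mul_smul] at h1
  have h2 : (b * b') • v = b' • v + v + b • v := by
    rw [← h1, add_assoc, h.two, add_zero]
  rw [h2]; abel

theorem exists_ne : ∃ b₀ ∈ Q, b₀ ≠ 1 := by
  by_contra hcon
  push Not at hcon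
  have h1 : Q = ⊥ := by
    rw [eq_bot_iff]
    intro x hx
    rw [Subgroup.mem_bot]
    exact hcon x hx
  have h2 := h.card_Q
  rw [h1, Subgroup.card_bot] at h2
  have := h.c_two
  omega

theorem exists_i0 : ∃ i ∈ I, i ≠ 0 := by
  by_contra hcon
  push Not at hcon
  have h1 : I = ⊥ := by
    rw [eq_bot_iff]
    intro x hx
    rw [AddSubgroup.mem_bot]
    exact hcon x hx
  have h2 := h.card_I
  rw [h1] at h2
  have h3 : Nat.card (⊥ : AddSubgroup V) = 1 := by simp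
  have := h.c_two
  omega

/-- scalars preserve `I` -/
theorem sc_I {f : V → V} (hf : Sc J N f) {i : V} (hi : i ∈ I) : f i ∈ I := by
  rw [h.mem_I] at hi ⊢
  refine ⟨hf.mem _ hi.1, fun b hb => ?_⟩
  rw [← hf.comm b (h.BJ hb) i hi.1, hi.2 b hb]

/-- a scalar which kills a non-zero `[v, b₀]` is zero; `b ≠ 1` : `m_b ≠ 0` -/
theorem mb_ne {b : Y} (hb : b ∈ Q) (hb1 : b ≠ 1) : ∃ v : V, b • v + v ≠ 0 := by
  obtain ⟨i, hi, hi0⟩ := h.exists_i0
  obtain ⟨v, hv⟩ := h.onto b hb hb1 i (h.IN hi)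
  exact ⟨v, by rw [hv]; exact hi0⟩

/-- **transitivity on `I`**: `f i₁ = i₂`, `f = m_b` -/
theorem exists_sc [Finite Y] [Finite V] {b₀ : Y} (hb₀ : b₀ ∈ Q) (hb0 : b₀ ≠ 1) {i₁ i₂ : V} (hi₁ : i₁ ∈ I)
    (h0 : i₁ ≠ 0) (hi₂ : i₂ ∈ I) :
    ∃ f, ∃ b ∈ Q, Sc J N f ∧ (∀ v : V, f (b₀ • v + v) = b • v + v) ∧ f i₁ = i₂ := by
  classical
  choose f hf using fun b : Q => h.exists_mb hb₀ hb0 b.2
  let g : Q → I := fun b => ⟨f b i₁, h.sc_I (hf b).1 hi₁⟩
  have hg : Function.Injective g := by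
    intro b b' hbb
    have h1 : f b i₁ = f b' i₁ := congrArg Subtype.val hbb
    have h2 := h.ext (hf b).1 (hf b').1 (h.IN hi₁) h0 h1
    by_contra hne
    have h3 : (b : Y) * b' ∈ Q := Q.mul_mem b.2 b'.2
    have h4 : ∀ v : V, ((b : Y) * b') • v + v = 0 := by
      intro v
      rw [h.add_Q b.2 b'.2, ← (hf b).2 v, ← (hf b').2 v, h2 _ (h.VQ b₀ hb₀ v), h.two]
    have h5 : (b : Y) * b' = 1 := by
      by_contra h6
      obtain ⟨v, hv⟩ := h.mb_ne h3 h6
      exact hv (h4 v)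
    have h7 : (b' : Y) * b' = 1 := by
      by_contra h6
      obtain ⟨v, hv⟩ := h.mb_ne (Q.mul_mem b'.2 b'.2) h6
      apply hv
      rw [h.add_Q b'.2 b'.2, h.two]
    apply hne
    apply Subtype.ext
    have h8 : (b : Y) * b' = b' * b' := by rw [h5, h7]
    exact mul_right_cancel h8
  have hcard : Nat.card Q = Nat.card I := by rw [h.card_Q, h.card_I]
  have hs : Function.Surjective g := by
    have := Fintype.ofFinite Q
    have := Fintype.ofFinite I
    rw [Nat.card_eq_fintype_card, Nat.card_eq_fintype_card] at hcard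
    exact ((Fintype.bijective_iff_injective_and_card g).2 ⟨hg, hcard⟩).2
  obtain ⟨b, hb⟩ := hs ⟨i₂, hi₂⟩
  exact ⟨f b, b, b.2, (hf b).1, (hf b).2, congrArg Subtype.val hb⟩

/-- every scalar is some `m_b` -/
theorem eq_mb [Finite Y] [Finite V] {f : V → V} (hf : Sc J N f) {b₀ : Y} (hb₀ : b₀ ∈ Q) (hb0 : b₀ ≠ 1) :
    ∃ b ∈ Q, ∀ v : V, f (b₀ • v + v) = b • v + v := by
  obtain ⟨i, hi, hi0⟩ := h.exists_i0
  obtain ⟨g, b, hb, hg, hgb, hgi⟩ := h.exists_sc hb₀ hb0 hi hi0 (h.sc_I hf hi)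
  refine ⟨b, hb, fun v => ?_⟩
  rw [← hgb v]
  exact h.ext hf hg (h.IN hi) hi0 hgi.symm _ (h.VQ b₀ hb₀ v)

/-- `b_f` : `[v, b_f] = f [v, b]` -/
theorem exists_bf [Finite Y] [Finite V] {f : V → V} (hf : Sc J N f) {b : Y} (hb : b ∈ Q) :
    ∃ b' ∈ Q, ∀ v : V, b' • v + v = f (b • v + v) := by
  by_cases hb1 : b = 1
  · refine ⟨1, Q.one_mem, fun v => ?_⟩
    rw [hb1, one_smul, h.two, hf.zero']
  · obtain ⟨b', hb', h1⟩ := h.eq_mb hf hb hb1
    exact ⟨b', hb', fun v => (h1 v).symm⟩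

/-- **the scalars commute** (Wedderburn) -/
theorem sc_comm [Finite Y] [Finite V] {f g : V → V} (hf : Sc J N f) (hg : Sc J N g) :
    ∀ n ∈ N, f (g n) = g (f n) := by
  classical
  obtain ⟨i, hi, hi0⟩ := h.exists_i0
  have hiN := h.IN hi
  -- elements of the ring
  have hin : ∀ {φ : AddMonoid.End N}, φ ∈ ScRing J N → Sc J N (fun v => if hv : v ∈ N then (φ ⟨v, hv⟩ : V) else 0) := by
    intro φ hφ
    refine ⟨fun n hn => ?_, fun n hn n₂ hn₂ => ?_, fun j hj n hn => ?_⟩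
    · rw [dif_pos hn]; exact (φ ⟨n, hn⟩).2
    · rw [dif_pos hn, dif_pos hn₂, dif_pos (add_mem hn hn₂)]
      have : (⟨n + n₂, add_mem hn hn₂⟩ : N) = ⟨n, hn⟩ + ⟨n₂, hn₂⟩ := rfl
      rw [this, map_add]; rfl
    · rw [dif_pos hn, dif_pos (h.NJ j hj n hn)]
      exact hφ j hj ⟨n, hn⟩ ⟨j • n, h.NJ j hj n hn⟩ rfl
  have hz : ∀ {φ : AddMonoid.End N}, φ ∈ ScRing J N → ∀ n : N, n ≠ 0 → φ n = 0 → φ = 0 := by
    intro φ hφ n hn h0
    have h1 := h.inj (hin hφ) n.2 (fun h2 => hn (Subtype.ext h2)) (by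
      rw [dif_pos n.2]
      exact congrArg Subtype.val h0)
    ext x
    have h2 := h1 x x.2
    rw [dif_pos x.2] at h2
    exact h2
  have : Finite (AddMonoid.End N) := Finite.of_injective (fun φ : AddMonoid.End N => (φ : N → N)) DFunLike.coe_injective
  have hnt : Nontrivial (ScRing J N) := by
    refine ⟨⟨0, 1, fun h1 => hi0 ?_⟩⟩
    have h2 : ((0 : ScRing J N) : AddMonoid.End N) ⟨i, hiN⟩ = ((1 : ScRing J N) : AddMonoid.End N) ⟨i, hiN⟩ := by
      rw [h1]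
    exact (congrArg Subtype.val h2).symm
  have hnz : NoZeroDivisors (ScRing J N) := by
    refine ⟨fun {a b} hab => ?_⟩
    by_cases hb : ((b : AddMonoid.End N)) ⟨i, hiN⟩ = 0
    · right
      apply Subtype.ext
      exact hz b.2 ⟨i, hiN⟩ (fun h2 => hi0 (congrArg Subtype.val h2)) hb
    · left
      apply Subtype.ext
      apply hz a.2 _ hb
      have h1 : ((a * b : ScRing J N) : AddMonoid.End N) ⟨i, hiN⟩ = 0 := by rw [hab]; rfl
      exact h1
  have hdom : IsDomain (ScRing J N) := NoZeroDivisors.to_isDomain _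
  have hfld := Finite.isDomain_to_isField (ScRing J N)
  have mk : ∀ {f : V → V} (hf : Sc J N f), (hf.toEnd : AddMonoid.End N) ∈ ScRing J N := by
    intro f hf j hj n n₂ hn
    change f n₂ = j • f n
    rw [hn, hf.comm j hj n n.2]
  have hc := hfld.mul_comm ⟨hf.toEnd, mk hf⟩ ⟨hg.toEnd, mk hg⟩
  intro n hn
  have h1 := congrArg (fun x : ScRing J N => (((x : AddMonoid.End N) ⟨n, hn⟩ : N) : V)) hc
  exact h1

/-- `j ∈ J` which preserves `I` acts on `I` as a scalar -/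
theorem smul_I [Finite Y] [Finite V] {j : Y} (hj : j ∈ J) {i₀ : V} (hi₀ : i₀ ∈ I) (h0 : i₀ ≠ 0)
    (hji : j • i₀ ∈ I) : ∃ f, Sc J N f ∧ ∀ i ∈ I, j • i = f i := by
  obtain ⟨b₀, hb₀, hb0⟩ := h.exists_ne
  obtain ⟨f, b, hb, hf, -, hfi⟩ := h.exists_sc hb₀ hb0 hi₀ h0 hji
  refine ⟨f, hf, fun i hi => ?_⟩
  obtain ⟨g, b', hb', hg, -, hgi⟩ := h.exists_sc hb₀ hb0 hi₀ h0 hi
  rw [← hgi, ← hg.comm j hj _ (h.IN hi₀), ← hfi, h.sc_comm hf hg _ (h.IN hi₀)]

end FS

end Cfsg.Agent.Omega.NO1.TH
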