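import Cfsg.Agent.Omega.NO1.TH.KOneA

/-!
# N1, the amalgam `(H, H^t)`, `k = 1` (bb OMEGA 20297, helper503): (5) and (8a)
-/

set_option autoImplicit false
set_option linter.unusedSectionVars false
set_option linter.unusedVariables false

namespace Cfsg.Agent.Omega.NO1.TH

open Subgroup Cfsg.Agent.Omega.NO1.AB
open scoped Pointwise

universe u

variable {Y : Type u} [Group Y] {V : Type u} [AddCommGroup V] [DistribMulAction Y V]

/-- `v ↦ [v, s]` -/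
def bk (s : Y) : V →+ V where
  toFun v := s • v + v
  map_zero' := by rw [smul_zero, add_zero]
  map_add' a b := by rw [smul_add]; abel

theorem bk_apply (s : Y) (v : V) : bk s v = s • v + v := rfl

namespace TwoK

variable [Finite Y] [Finite V] {U : Set (Subgroup Y)} {T : Sylow 2 Y} {M H H' R P P' : Subgroup Y}
  {D D' W₁ W₁' : AddSubgroup V} {c : ℕ} {t : Y} (h : TwoK V U T M H H' R P P' D D' W₁ W₁' c t)
include h

/-- `[v, s] ∈ W + F_B` for `s ∈ B ∩ Q`, when `|B ∩ Q| = c` -/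
theorem iso_aux {B : Subgroup Y} (hB : B ∈ U) (hE : WW V H R ≤ Ee V B)
    (hfree : ∀ w ∈ WW V H R, w ∉ fx V B → ∀ u ∈ B, u • w = w → u ∈ QQ H R)
    (hcf : Nat.card ↥(WW V H R ⊓ fx V B) = Nat.card W₁) (hc : Nat.card ↥(B ⊓ QQ H R) = c) (v : V) {s : Y}
    (hs : s ∈ B ⊓ QQ H R) : s • v + v ∈ WW V H R ⊔ fx V B := by
  have hm := h.amb.cls.mem B hB
  by_cases hv : v ∈ Ee V B
  · exact AddSubgroup.mem_sup_right (hv s hs.1)
  have h1 := card_pre hm h.amb.two hv (le_sup_right : fx V B ≤ WW V H R ⊔ fx V B) (sup_le hE hm.FE)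
  have h2 := card_sup_as (WW V H R) (fx V B)
  have h3 : Nat.card ↥(pre B v (WW V H R ⊔ fx V B)) = c := by
    have h4 : 0 < Nat.card ↥(fx V B) := Nat.card_pos
    have h5 : 0 < Nat.card W₁ := Nat.card_pos
    apply Nat.eq_of_mul_eq_mul_right (Nat.mul_pos h4 h5)
    rw [← mul_assoc, h1, ← hcf, h2, h.k.card_W, hcf]
    ring
  have h4 : pre B v (WW V H R ⊔ fx V B) ⊆ ((B ⊓ QQ H R : Subgroup Y) : Set Y) := by
    rintro u ⟨hu, hu2⟩
    refine ⟨hu, ?_⟩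
    obtain ⟨w, hw, f, hf, he⟩ := AddSubgroup.mem_sup.1 hu2
    by_cases hwB : w ∈ fx V B
    · have h5 : u = 1 := hm.inj v hv u hu (by rw [← he]; exact add_mem hwB hf)
      rw [h5]; exact one_mem _
    · apply hfree w hw hwB u hu
      have h5 : u • (u • v + v) = u • v + v := by
        rw [smul_add, ← mul_smul, hm.sq u hu, one_smul, add_comm]
      rw [← he, smul_add, hf u hu] at h5
      exact add_right_cancel h5
  have h5 : pre B v (WW V H R ⊔ fx V B) = ((B ⊓ QQ H R : Subgroup Y) : Set Y) := by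
    apply Set.eq_of_subset_of_ncard_le h4 _ (Set.toFinite _)
    have e1 : Set.ncard ((B ⊓ QQ H R : Subgroup Y) : Set Y) = Nat.card ↥(B ⊓ QQ H R) := rfl
    have e2 : Set.ncard (pre B v (WW V H R ⊔ fx V B)) = Nat.card ↥(pre B v (WW V H R ⊔ fx V B)) := rfl
    rw [e1, e2, h3, hc]
  have h6 : s ∈ pre B v (WW V H R ⊔ fx V B) := by rw [h5]; exact hs
  exact h6.2

theorem inf_fx {B : Subgroup Y} (hB : B ∈ U) (hBR : B ≤ R) (hBQ : ¬ B ≤ QQ H R) :
    WW V H R ⊓ fx V B = W₁ :=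
  le_antisymm (fun _ hw => h.fx_W₁ hB hBR hBQ hw.1 hw.2) (le_inf h.k.W₁W (h.W₁_fx hB hBR hBQ))

theorem iso_R {B : Subgroup Y} (hB : B ∈ U) (hBR : B ≤ R) (hBQ : ¬ B ≤ QQ H R)
    (hc : Nat.card ↥(B ⊓ QQ H R) = c) (v : V) {s : Y} (hs : s ∈ B ⊓ QQ H R) :
    s • v + v ∈ WW V H R ⊔ fx V B := by
  apply h.iso_aux hB (h.we B hB hBR) _ _ hc v hs
  · intro w hw hwB u hu hu0
    apply h.k.free u ((h.k.cover B hB hBR hBQ).1 hu) w hw
    · intro hw1
      exact hwB (h.W₁_fx hB hBR hBQ hw1)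
    · rw [hu0, h.vv0]; exact zero_mem _
  · rw [h.inf_fx hB hBR hBQ]

theorem iso_A {A : Subgroup Y} (hA : A ∈ U) (hAH : A ≤ H) (hAM : ¬ A ≤ M)
    (hc : Nat.card ↥(A ⊓ QQ H R) = c) (v : V) {s : Y} (hs : s ∈ A ⊓ QQ H R) :
    s • v + v ∈ WW V H R ⊔ fx V A :=
  h.iso_aux hA (h.a.WW_le_Ee h.amb h.we hA hAH)
    (fun w hw hwA u hu hu0 => h.free_A hA hAH hAM hw hwA hu hu0) (h.card_fx hA hAH hAM) hc v hs

theorem card_BQ {B : Subgroup Y} (hB : B ∈ U) (hBR : B ≤ R) (hBQ : ¬ B ≤ QQ H R) (hc : Nat.card B = c * c) :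
    Nat.card ↥(B ⊓ QQ H R) = c := by
  have h1 := h.card_memR hB hBR hBQ
  rw [hc] at h1
  exact (Nat.eq_of_mul_eq_mul_left h.c_pos h1).symm

theorem not_le_Q' (hQQ : QQ H R ⊓ QQ H' R = ⊥) {B : Subgroup Y} (hc : Nat.card ↥(B ⊓ QQ H R) = c) :
    ¬ B ≤ QQ H' R := by
  intro h1
  have h2 : B ⊓ QQ H R = ⊥ := by
    rw [eq_bot_iff, ← hQQ]
    exact fun b hb => ⟨hb.2, h1 hb.1⟩
  rw [h2, Subgroup.card_bot] at hc
  have := h.k.two_le
  omega

/-- `P = B Q` -/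
theorem cover_R {B : Subgroup Y} (hB : B ∈ U) (hBR : B ≤ R) (hBQ : ¬ B ≤ QQ H R) {p : Y} (hp : p ∈ P) :
    ∃ b ∈ B, ∃ q ∈ QQ H R, p = b * q := by
  have h1 : ∀ b ∈ B, ∀ q ∈ QQ H R, b * q * b⁻¹ ∈ QQ H R := fun b hb q hq => conj_mem_QQ (h.a.RH (hBR hb)) hq
  exact exists_mul_of_sup h1 ((h.k.cover B hB hBR hBQ).2 hp)

/-- `I ≤ I'` when `Q ∩ Q' = 1`, `|B| = c²` -/
theorem five_le (hQQ : QQ H R ⊓ QQ H' R = ⊥) {B : Subgroup Y} (hB : B ∈ U) (hBR : B ≤ R) (hBQ : ¬ B ≤ QQ H R)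
    (hBQ' : ¬ B ≤ QQ H' R) (hc : Nat.card B = c * c) : cmK P (WW V H R) ≤ cmK P' (WW V H' R) := by
  have hm := h.amb.cls.mem B hB
  have c1 := h.card_BQ hB hBR hBQ hc
  have c2 := h.swap.card_BQ hB hBR hBQ' hc
  -- `B = (B ∩ Q)(B ∩ Q')`
  have hprod : ∀ b ∈ B, ∃ s' ∈ B ⊓ QQ H' R, ∃ s ∈ B ⊓ QQ H R, b = s' * s := by
    let f : ↥(B ⊓ QQ H' R) × ↥(B ⊓ QQ H R) → B := fun p => ⟨(p.1 : Y) * (p.2 : Y), B.mul_mem p.1.2.1 p.2.2.1⟩
    have hinj : Function.Injective f := by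
      rintro ⟨⟨a, ha⟩, ⟨b, hb⟩⟩ ⟨⟨a', ha'⟩, ⟨b', hb'⟩⟩ he
      have h1 : a * b = a' * b' := congrArg Subtype.val he
      have h2 : a'⁻¹ * a = b' * b⁻¹ := by
        have : a'⁻¹ * (a * b) * b⁻¹ = a'⁻¹ * (a' * b') * b⁻¹ := by rw [h1]
        have e1 : a'⁻¹ * (a * b) * b⁻¹ = a'⁻¹ * a := by group
        have e2 : a'⁻¹ * (a' * b') * b⁻¹ = b' * b⁻¹ := by group
        rwa [e1, e2] at this
      have h3 : a'⁻¹ * a ∈ QQ H R ⊓ QQ H' R :=
        ⟨by rw [h2]; exact (QQ H R).mul_mem hb'.2 ((QQ H R).inv_mem hb.2),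
          (QQ H' R).mul_mem ((QQ H' R).inv_mem ha'.2) ha.2⟩
      rw [hQQ, mem_bot] at h3
      have h4 : a = a' := by
        have : a' * (a'⁻¹ * a) = a' * 1 := by rw [h3]
        rwa [mul_inv_cancel_left, mul_one] at this
      subst h4
      have h5 : b = b' := mul_left_cancel h1
      subst h5
      rfl
    have hcard : Nat.card (↥(B ⊓ QQ H' R) × ↥(B ⊓ QQ H R)) = Nat.card B := by
      rw [Nat.card_prod, c1, c2, hc]
    have hs := ((Nat.bijective_iff_injective_and_card f).2 ⟨hinj, hcard⟩).2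
    intro b hb
    obtain ⟨⟨s', s⟩, he⟩ := hs ⟨b, hb⟩
    exact ⟨s', s'.2, s, s.2, (congrArg Subtype.val he).symm⟩
  apply cm_le
  intro p hp w hw
  obtain ⟨b, hb, q, hq, rfl⟩ := h.cover_R hB hBR hBQ hp
  obtain ⟨s', hs', s, hs, rfl⟩ := hprod b hb
  have e : (s' * s * q) • w = s' • w := by
    rw [mul_smul, mul_smul, Amal.QQ_fix h.a h.amb hq hw, Amal.QQ_fix h.a h.amb hs.2 hw]
  rw [e]
  obtain ⟨v, hv⟩ := hm.ne
  obtain ⟨s₁, hs₁, h1⟩ := hm.surj v hv w (h.we B hB hBR hw)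
  have h2 := h.swap.iso_R hB hBR hBQ' c2 v hs'
  obtain ⟨w', hw', f, hf, he⟩ := AddSubgroup.mem_sup.1 h2
  have h3 : s' • v + v + w' ∈ fx V B := by
    rw [← he]
    have : w' + f + w' = f + (w' + w') := by abel
    rw [this, h.vv0, add_zero]
    exact hf
  rw [mem_sym hm h.amb.two hs₁ hs'.1 h1 h3]
  exact mem_cm ((h.k'.cover B hB hBR hBQ').1 hs₁) hw'

/-- `I = I'` in `F_A` is impossible -/
theorem no_common {A : Subgroup Y} (hAH : A ≤ H) (hAM : ¬ A ≤ M) (h1 : cmK P (WW V H R) ≤ cmK P' (WW V H' R))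
    (h2 : cmK P' (WW V H' R) ≤ fx V A) : False := by
  have hne : cmK P (WW V H R) ≠ ⊥ := by
    intro h3
    have h4 := h.W₁_le
    rw [h3, bot_sup_eq] at h4
    have h5 : W₁ = D := le_antisymm h4 h.k.DW
    have h6 := h.k.card_W₁
    rw [h5] at h6
    have h7 : 0 < Nat.card D := Nat.card_pos
    have h8 := h.k.two_le
    nlinarith
  obtain ⟨⟨w, hw⟩, hw1⟩ := AddSubgroup.ne_bot_iff_exists_ne_zero.1 hne
  have hw0 : w ≠ 0 := fun h2 => hw1 (Subtype.ext h2)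
  obtain ⟨v, hv, hv0, hvR⟩ := HE.exists_fixed h.amb.two h.a.R2 (cmK P (WW V H R))
    (fun r hr w hw => h.swap.cm_R hr hw) ⟨w, hw, hw0⟩
  apply hv0
  apply h.fix_zero
  · rw [← h.a.fx_inf hAH hAM]
    exact ⟨h2 (h1 hv), hvR⟩
  · rw [← h.a.fx_inf hAH hAM]
    exact ⟨h2 (h.t_cm hv), h.a.smul_V0 hvR⟩

/-- **(5)** -/
theorem five {A : Subgroup Y} (hA : A ∈ U) (hAH : A ≤ H) (hAM : ¬ A ≤ M) (hE : WW V H' R ≤ Ee V A)
    (hQQ : QQ H R ⊓ QQ H' R = ⊥) (hc : Nat.card A = c * c) : False := by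
  obtain ⟨x, hx, hxM, h1, h2, h3⟩ := h.exists_x hA hAH hAM
  have hc' : Nat.card ↥(MulAut.conj x • A) = c * c := by rw [conj_card]; exact hc
  have c1 := h.card_BQ h1 h2 h3 hc'
  exact h.no_common hAH hAM (h.five_le hQQ h1 h2 h3 (h.not_le_Q' hQQ c1) hc') (h.two_all hA hAH hAM hE).2.2.2.2


/-- `S = A ∩ Q = Q ∩ P'` is normalised by `H` -/
theorem S_norm (hQQ : QQ H R ⊓ QQ H' R = ⊥) {A : Subgroup Y} (hA : A ∈ U) (hAH : A ≤ H) (hAM : ¬ A ≤ M)
    (hP : A ⊓ QQ H R ≤ P') (hc : Nat.card ↥(A ⊓ QQ H R) = c) {x s : Y} (hx : x ∈ H) (hs : s ∈ A ⊓ QQ H R) :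
    x * s * x⁻¹ ∈ A ⊓ QQ H R := by
  have hm := h.amb.cls.mem A hA
  have h1 : A ⊓ QQ H R = P' ⊓ QQ H R := by
    apply eq_of_le_of_card_ge (le_inf hP inf_le_right)
    have h2 := card_le_of_index h.k'.QP (B := P' ⊓ QQ H R) inf_le_left h.k'.card_P
    have h3 : P' ⊓ QQ H R ⊓ QQ H' R = ⊥ := by
      rw [eq_bot_iff, ← hQQ]
      exact fun b hb => ⟨hb.1.2, hb.2⟩
    rw [h3, Subgroup.card_bot, mul_one] at h2
    rw [hc]
    exact h2
  let S : Subgroup Y :=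
    { carrier := {x | ∀ n ∈ A ⊓ QQ H R, x * n * x⁻¹ ∈ A ⊓ QQ H R ∧ x⁻¹ * n * x ∈ A ⊓ QQ H R}
      one_mem' := fun n hn => by simpa using hn
      mul_mem' := fun {x y} hx hy n hn => by
        constructor
        · have h1 := (hx _ (hy n hn).1).1
          have e : x * (y * n * y⁻¹) * x⁻¹ = x * y * n * (x * y)⁻¹ := by group
          rwa [e] at h1
        · have h1 := (hy _ (hx n hn).2).2
          have e : y⁻¹ * (x⁻¹ * n * x) * y = (x * y)⁻¹ * n * (x * y) := by group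
          rwa [e] at h1
      inv_mem' := fun {x} hx n hn => by
        rw [inv_inv]
        exact ⟨(hx n hn).2, (hx n hn).1⟩ }
  have h2 : H ≤ S := by
    apply h.gen_induct hAH hAM
    · intro r hr n hn
      rw [h1] at hn ⊢
      refine ⟨⟨h.k'.P_norm h.amb.two hr hn.1, conj_mem_QQ (h.a.RH hr) hn.2⟩, ?_⟩
      have h3 := h.k'.P_norm h.amb.two (R.inv_mem hr) hn.1
      have h4 := conj_mem_QQ (h.a.RH (R.inv_mem hr)) hn.2
      rw [inv_inv] at h3 h4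
      exact ⟨h3, h4⟩
    · intro a ha n hn
      have e1 : a * n * a⁻¹ = n := by rw [hm.comm a ha n hn.1]; group
      have e2 : a⁻¹ * n * a = n := by rw [mul_assoc, ← hm.comm a ha n hn.1]; group
      rw [e1, e2]
      exact ⟨hn, hn⟩
  exact (h2 hx s hs).1

/-- the case `[V, s] ∩ W ≰ D` : `I ∩ D = 0` -/
theorem cm_inf_of {A B : Subgroup Y} (hA : A ∈ U) (hAH : A ≤ H) (hAM : ¬ A ≤ M) (hB : B ∈ U) (hBR : B ≤ R)
    (hBQ : ¬ B ≤ QQ H R) (hc : Nat.card B = c * c) {x : Y} (hx : x ∈ H) (hxA : B = MulAut.conj x • A)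
    {s : Y} (hsA : s ∈ A ⊓ QQ H R) (hsB : s ∈ B ⊓ QQ H R) {v₁ : V} (h1 : s • v₁ + v₁ ∈ WW V H R)
    (h2 : s • v₁ + v₁ ∉ D) {v : V} (hv : v ∈ cmK P (WW V H R)) (hvD : v ∈ D) : v = 0 := by
  have hm := h.amb.cls.mem A hA
  have hmB := h.amb.cls.mem B hB
  have hWf : W₁ ≤ fx V B := h.W₁_fx hB hBR hBQ
  set X : AddSubgroup V := (bk s).range ⊔ D with hX
  -- commutators with `s`
  have comm : ∀ {b : Y}, b * s = s * b → ∀ u : V, b • (bk s u) + bk s u = bk s (b • u + u) := by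
    intro b hb u
    rw [bk_apply, bk_apply, smul_add, ← mul_smul, hb, mul_smul, smul_add]
    abel
  have hDA : D ≤ fx V A := h.D_fx hA hAH hAM
  have stepB : ∀ {b : Y}, b ∈ B → ∀ w ∈ X, b • w + w ∈ (bk s).range := by
    intro b hb w hw
    obtain ⟨_, ⟨u, rfl⟩, d, hd, rfl⟩ := AddSubgroup.mem_sup.1 hw
    have e : b • (bk s u + d) + (bk s u + d) = (b • bk s u + bk s u) + (b • d + d) := by rw [smul_add]; abel
    rw [e, comm (hmB.comm b hb s hsB.1), hWf (h.k.DW hd) b hb, h.vv0, add_zero]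
    exact ⟨_, rfl⟩
  have stepA : ∀ {b : Y}, b ∈ A → ∀ w ∈ X, b • w + w ∈ (bk s).range := by
    intro b hb w hw
    obtain ⟨_, ⟨u, rfl⟩, d, hd, rfl⟩ := AddSubgroup.mem_sup.1 hw
    have e : b • (bk s u + d) + (bk s u + d) = (b • bk s u + bk s u) + (b • d + d) := by rw [smul_add]; abel
    rw [e, comm (hm.comm b hb s hsA.1), hDA hd b hb, h.vv0, add_zero]
    exact ⟨_, rfl⟩
  have hDX : D ≤ X := le_sup_right
  have hRX : (bk s).range ≤ X := le_sup_left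
  have claimB : ∀ w ∈ WW V H R, w ∈ X → w ∉ W₁ → W₁ ≤ X := by
    intro w hw hwX hw1 x₁ hx₁
    obtain ⟨p, hp, h3⟩ := h.k.onto w hw hw1 x₁ hx₁
    obtain ⟨b, hb, q, hq, rfl⟩ := h.cover_R hB hBR hBQ hp
    rw [mul_smul, Amal.QQ_fix h.a h.amb hq hw] at h3
    have e : x₁ = (b • w + w) + (b • w + w + x₁) := by rw [← add_assoc, h.vv0, zero_add]
    rw [e]
    exact add_mem (hRX (stepB hb w hwX)) (hDX h3)
  have claimA : ∀ w ∈ WW V H R, w ∈ X → w ∉ fx V A → WW V H R ⊓ fx V A ≤ X := by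
    intro w hw hwX hwA x₂ hx₂
    have h3 : x • w ∉ W₁ := by
      intro h4
      apply hwA
      rw [← h.smul_mem_iff (x := x), ← hxA]
      exact hWf h4
    have h4 : x • x₂ ∈ W₁ := by
      apply h.fx_W₁ hB hBR hBQ (smul_mem_WW hx hx₂.1)
      rw [hxA, h.smul_mem_iff]
      exact hx₂.2
    obtain ⟨p, hp, h5⟩ := h.k.onto _ (smul_mem_WW hx hw) h3 _ h4
    obtain ⟨b, hb, q, hq, rfl⟩ := h.cover_R hB hBR hBQ hp
    rw [mul_smul, Amal.QQ_fix h.a h.amb hq (smul_mem_WW hx hw)] at h5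
    have hb' : x⁻¹ * b * x ∈ A := by rw [hxA, mem_conj] at hb; exact hb
    have h6 := h.k.D_H x⁻¹ (H.inv_mem hx) _ h5
    have e1 : x⁻¹ • (b • x • w + x • w + x • x₂) = (x⁻¹ * b * x) • w + w + x₂ := by
      rw [smul_add, smul_add, inv_smul_smul, inv_smul_smul, ← mul_smul, ← mul_smul]
    rw [e1] at h6
    have e : x₂ = ((x⁻¹ * b * x) • w + w) + ((x⁻¹ * b * x) • w + w + x₂) := by
      rw [← add_assoc, h.vv0, zero_add]
    rw [e]
    exact add_mem (hRX (stepA hb' w hwX)) (hDX h6)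
  have exW : ∃ w ∈ W₁, w ∉ D := by
    by_contra hcon
    push Not at hcon
    have h4 : W₁ = D := le_antisymm hcon h.k.DW
    have h5 := h.k.card_W₁
    rw [h4] at h5
    have h6 : 0 < Nat.card D := Nat.card_pos
    have h7 := h.k.two_le
    nlinarith
  have exF : ∃ w ∈ WW V H R ⊓ fx V A, w ∉ D := by
    by_contra hcon
    push Not at hcon
    have h4 : WW V H R ⊓ fx V A = D := le_antisymm hcon (le_inf (h.k.DW.trans h.k.W₁W) hDA)
    have h5 := h.k.card_W₁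
    rw [← h.card_fx hA hAH hAM, h4] at h5
    have h6 : 0 < Nat.card D := Nat.card_pos
    have h7 := h.k.two_le
    nlinarith
  have hWX : WW V H R ≤ X := by
    have h3 : W₁ ≤ X ∧ WW V H R ⊓ fx V A ≤ X := by
      have h4 : s • v₁ + v₁ ∈ X := hRX ⟨v₁, rfl⟩
      by_cases h5 : s • v₁ + v₁ ∈ W₁
      · have h6 := claimA _ h1 h4 (fun h7 => h2 (h.fix_D hA hAH hAM h5 h7))
        obtain ⟨w, hw, hwD⟩ := exF
        exact ⟨claimB w hw.1 (h6 hw) (fun h7 => hwD (h.fix_D hA hAH hAM h7 hw.2)), h6⟩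
      · have h6 := claimB _ h1 h4 h5
        obtain ⟨w, hw, hwD⟩ := exW
        exact ⟨h6, claimA w (h.k.W₁W hw) (h6 hw) (fun h7 => hwD (h.fix_D hA hAH hAM hw h7))⟩
    exact (h.W_le hA hAH hAM).trans (sup_le h3.1 h3.2)
  -- `I ≤ [E_B, s]`
  set ψ : Ee V B →+ V := (bk s).comp (Ee V B).subtype with hψ
  have hI : cmK P (WW V H R) ≤ ψ.range := by
    apply cm_le
    intro p hp w hw
    obtain ⟨b, hb, q, hq, rfl⟩ := h.cover_R hB hBR hBQ hp
    rw [mul_smul, Amal.QQ_fix h.a h.amb hq hw]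
    obtain ⟨_, ⟨u, rfl⟩, d, hd, rfl⟩ := AddSubgroup.mem_sup.1 (hWX hw)
    have e : b • (bk s u + d) + (bk s u + d) = (b • bk s u + bk s u) + (b • d + d) := by rw [smul_add]; abel
    rw [e, comm (hmB.comm b hb s hsB.1), hWf (h.k.DW hd) b hb, h.vv0, add_zero]
    exact ⟨⟨b • u + u, hmB.VB b hb u⟩, rfl⟩
  have hcI : Nat.card ↥(cmK P (WW V H R)) ≤ c := by
    refine (Nat.card_le_card_of_injective _ (AddSubgroup.inclusion_injective hI)).trans ?_
    have c1 := AddSubgroup.card_mul_index ψ.ker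
    rw [AddSubgroup.index_ker] at c1
    have hker : WW V H R ⊔ fx V B ≤ Ee V B := sup_le (h.we B hB hBR) hmB.FE
    have c2 : Nat.card ↥(WW V H R ⊔ fx V B) ≤ Nat.card ψ.ker := by
      let f : ↥(WW V H R ⊔ fx V B) → ψ.ker := fun w => ⟨⟨w, hker w.2⟩, by
        rw [AddMonoidHom.mem_ker]
        change s • (w : V) + (w : V) = 0
        obtain ⟨w₀, hw₀, f₀, hf₀, he⟩ := AddSubgroup.mem_sup.1 w.2
        rw [← he, smul_add, Amal.QQ_fix h.a h.amb hsB.2 hw₀, hf₀ s hsB.1, h.vv0]⟩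
      apply Nat.card_le_card_of_injective f
      intro w w' he
      apply Subtype.ext
      exact congrArg (fun z : ψ.ker => ((z : Ee V B) : V)) he
    have c3 := card_sup_as (WW V H R) (fx V B)
    rw [h.inf_fx hB hBR hBQ, h.k.card_W] at c3
    have c4 := hmB.card_E h.amb.two
    rw [hc] at c4
    have hW0 : 0 < Nat.card W₁ := Nat.card_pos
    have hF0 : 0 < Nat.card ↥(fx V B) := Nat.card_pos
    have c5 : Nat.card ↥(WW V H R ⊔ fx V B) = c * Nat.card ↥(fx V B) := by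
      apply Nat.eq_of_mul_eq_mul_right hW0
      rw [c3]; ring
    apply Nat.le_of_mul_le_mul_left _ (Nat.mul_pos h.c_pos hF0)
    calc c * Nat.card ↥(fx V B) * Nat.card ψ.range = Nat.card ↥(WW V H R ⊔ fx V B) * Nat.card ψ.range := by rw [c5]
      _ ≤ Nat.card ψ.ker * Nat.card ψ.range := Nat.mul_le_mul_right _ c2
      _ = Nat.card ↥(Ee V B) := c1
      _ = _ := by rw [c4]; ring
  have c1 := card_sup_as (cmK P (WW V H R)) D
  have c2 := Nat.card_le_card_of_injective _ (AddSubgroup.inclusion_injective h.W₁_le)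
  rw [h.k.card_W₁] at c2
  have hD0 : 0 < Nat.card D := Nat.card_pos
  have c3 : Nat.card ↥(cmK P (WW V H R) ⊓ D) ≤ 1 := by
    apply Nat.le_of_mul_le_mul_left _ (Nat.mul_pos h.c_pos hD0)
    calc c * Nat.card D * Nat.card ↥(cmK P (WW V H R) ⊓ D)
        ≤ Nat.card ↥(cmK P (WW V H R) ⊔ D) * Nat.card ↥(cmK P (WW V H R) ⊓ D) := Nat.mul_le_mul_right _ c2
      _ = Nat.card ↥(cmK P (WW V H R)) * Nat.card D := c1
      _ ≤ c * Nat.card D := Nat.mul_le_mul_right _ hcI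
      _ = _ := (mul_one _).symm
  have h4 : cmK P (WW V H R) ⊓ D = ⊥ := (AddSubgroup.card_le_one_iff_eq_bot _).1 c3
  have h5 : v ∈ cmK P (WW V H R) ⊓ D := ⟨hv, hvD⟩
  rw [h4, AddSubgroup.mem_bot] at h5
  exact h5


/-- the case `[V, s] ∩ W ≤ D` for all `s ∈ S` : `W' ≤ E_A` -/
theorem le_Ee_of {A B : Subgroup Y} (hA : A ∈ U) (hAH : A ≤ H) (hAM : ¬ A ≤ M) (hB : B ∈ U) (hBR : B ≤ R)
    (hBQ : ¬ B ≤ QQ H R) {x : Y} (hx : x ∈ H) (hxA : B = MulAut.conj x • A)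
    (hcA : Nat.card ↥(A ⊓ QQ H R) = c)
    (hSn : ∀ y ∈ H, ∀ s ∈ A ⊓ QQ H R, y * s * y⁻¹ ∈ A ⊓ QQ H R)
    (hcase : ∀ s ∈ A ⊓ QQ H R, ∀ v : V, s • v + v ∈ WW V H R → s • v + v ∈ D) : WW V H' R ≤ Ee V A := by
  have hm := h.amb.cls.mem A hA
  have hDA : D ≤ fx V A := h.D_fx hA hAH hAM
  have hcs : ∀ {s : Y}, s ∈ A ⊓ QQ H R → ∀ {r : Y}, r ∈ H → r⁻¹ * s * r ∈ A ⊓ QQ H R := by
    intro s hs r hr
    have := hSn r⁻¹ (H.inv_mem hr) s hs
    rwa [inv_inv] at this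
  -- the group `L`
  let L : Subgroup Y :=
    { carrier := {l | l ∈ H ∧ (∀ s ∈ A ⊓ QQ H R, l * s = s * l) ∧ (∀ d ∈ D, l • d = d) ∧
        ∀ s ∈ A ⊓ QQ H R, ∀ v : V, l • (s • v + v) + (s • v + v) ∈ D}
      one_mem' := ⟨H.one_mem, fun s _ => by rw [one_mul, mul_one], fun d _ => one_smul Y d, fun s _ v => by
        rw [one_smul, h.vv0]; exact zero_mem _⟩
      mul_mem' := by
        rintro l l' ⟨h1, h2, h3, h4⟩ ⟨h1', h2', h3', h4'⟩
        refine ⟨H.mul_mem h1 h1', fun s hs => ?_, fun d hd => ?_, fun s hs v => ?_⟩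
        · rw [mul_assoc, h2' s hs, ← mul_assoc, h2 s hs, mul_assoc]
        · rw [mul_smul, h3' d hd, h3 d hd]
        · have h5 := h4' s hs v
          have e : (l * l') • (s • v + v) + (s • v + v) =
              l • (l' • (s • v + v) + (s • v + v)) + (l • (s • v + v) + (s • v + v)) := by
            rw [mul_smul, smul_add l (l' • (s • v + v))]
            have : l • l' • (s • v + v) + l • (s • v + v) + (l • (s • v + v) + (s • v + v)) =
              l • l' • (s • v + v) + (l • (s • v + v) + l • (s • v + v)) + (s • v + v) := by abel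
            rw [this, h.vv0, add_zero]
          rw [e, h3 _ h5]
          exact add_mem h5 (h4 s hs v)
      inv_mem' := by
        rintro l ⟨h1, h2, h3, h4⟩
        refine ⟨H.inv_mem h1, fun s hs => ?_, fun d hd => ?_, fun s hs v => ?_⟩
        · have h5 := h2 s hs
          have e : l⁻¹ * (l * s) * l⁻¹ = l⁻¹ * (s * l) * l⁻¹ := by rw [h5]
          have e1 : l⁻¹ * (l * s) * l⁻¹ = s * l⁻¹ := by group
          have e2 : l⁻¹ * (s * l) * l⁻¹ = l⁻¹ * s := by group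
          rw [e1, e2] at e
          exact e.symm
        · rw [inv_smul_eq_iff, h3 d hd]
        · have h5 := h4 s hs v
          have e : l⁻¹ • (s • v + v) + (s • v + v) = l⁻¹ • (l • (s • v + v) + (s • v + v)) := by
            rw [smul_add l⁻¹ (l • (s • v + v)), inv_smul_smul, add_comm]
          rw [e]
          exact h.k.D_H _ (H.inv_mem h1) _ h5 }
  have hAL : A ≤ L := by
    intro a ha
    refine ⟨hAH ha, fun s hs => hm.comm a ha s hs.1, fun d hd => hDA hd a ha, fun s hs v => ?_⟩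
    have h1 := h.iso_A hA hAH hAM hcA v hs
    obtain ⟨w, hw, f, hf, he⟩ := AddSubgroup.mem_sup.1 h1
    have e : a • (s • v + v) + (s • v + v) = s • (a • v + v) + (a • v + v) := by
      rw [smul_add, smul_add, ← mul_smul, ← mul_smul, hm.comm a ha s hs.1]
      abel
    have h2 : a • (s • v + v) + (s • v + v) ∈ WW V H R := by
      rw [← he, smul_add, hf a ha]
      have : a • w + f + (w + f) = (a • w + w) + (f + f) := by abel
      rw [this, h.vv0, add_zero]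
      exact add_mem (smul_mem_WW (hAH ha) hw) hw
    rw [e] at h2 ⊢
    exact hcase s hs _ h2
  have hLR : ∀ r ∈ R, ∀ l ∈ L, r * l * r⁻¹ ∈ L := by
    rintro r hr l ⟨h1, h2, h3, h4⟩
    have hrH := h.a.RH hr
    refine ⟨H.mul_mem (H.mul_mem hrH h1) (H.inv_mem hrH), fun s hs => ?_, fun d hd => ?_, fun s hs v => ?_⟩
    · have h5 := h2 _ (hcs hs hrH)
      have e : r * (l * (r⁻¹ * s * r)) * r⁻¹ = r * (r⁻¹ * s * r * l) * r⁻¹ := by rw [h5]
      have e1 : r * (l * (r⁻¹ * s * r)) * r⁻¹ = r * l * r⁻¹ * s := by group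
      have e2 : r * (r⁻¹ * s * r * l) * r⁻¹ = s * (r * l * r⁻¹) := by group
      rwa [e1, e2] at e
    · rw [mul_smul, mul_smul, h3 _ (h.k.D_H _ (H.inv_mem hrH) d hd), smul_inv_smul]
    · have h5 := h4 _ (hcs hs hrH) (r⁻¹ • v)
      have e1 : (r⁻¹ * s * r) • r⁻¹ • v + r⁻¹ • v = r⁻¹ • (s • v + v) := by
        rw [smul_add, ← mul_smul, ← mul_smul]
        congr 2; group
      rw [e1] at h5
      have h6 := h.k.D_H r hrH _ h5
      have e2 : r • (l • r⁻¹ • (s • v + v) + r⁻¹ • (s • v + v)) =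
          (r * l * r⁻¹) • (s • v + v) + (s • v + v) := by
        rw [smul_add r (l • r⁻¹ • (s • v + v)), smul_inv_smul, ← mul_smul, ← mul_smul]
      rwa [e2] at h6
  have hHL : H ≤ R ⊔ L := by
    rw [← h.a.gen hAH hAM]
    exact sup_le le_sup_left (hAL.trans le_sup_right)
  obtain ⟨r, hr, l, hl, hxrl⟩ := exists_mul_of_sup hLR (hHL hx)
  -- `B₂ = B^{r⁻¹}`
  have hrH := h.a.RH hr
  have hB₂ : MulAut.conj r⁻¹ • B ∈ U := h.amb.cls.conj B hB r⁻¹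
  have hB₂R : MulAut.conj r⁻¹ • B ≤ R := by
    intro y hy
    rw [mem_conj, inv_inv] at hy
    have h1 := R.mul_mem (R.mul_mem (R.inv_mem hr) (hBR hy)) hr
    have e : r⁻¹ * (r * y * r⁻¹) * r = y := by group
    rwa [e] at h1
  have hB₂Q : ¬ MulAut.conj r⁻¹ • B ≤ QQ H R := by
    intro h1
    apply hBQ
    rw [conj_le_iff, inv_inv, h.conj_Q hrH] at h1
    exact h1
  have hmB₂ := h.amb.cls.mem _ hB₂
  have hAB₂ : ∀ a ∈ A, l * a * l⁻¹ ∈ MulAut.conj r⁻¹ • B := by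
    intro a ha
    rw [mem_conj, inv_inv, hxA, mem_conj, hxrl]
    have e : (r * l)⁻¹ * (r * (l * a * l⁻¹) * r⁻¹) * (r * l) = a := by group
    rwa [e]
  obtain ⟨s, hs, hs1⟩ : ∃ s ∈ A ⊓ QQ H R, s ≠ 1 := by
    by_contra hcon
    push Not at hcon
    have h1 : A ⊓ QQ H R = ⊥ := by
      rw [eq_bot_iff]
      intro s hs
      rw [mem_bot]
      exact hcon s hs
    rw [h1, Subgroup.card_bot] at hcA
    have := h.k.two_le
    omega
  have hsB₂ : s ∈ MulAut.conj r⁻¹ • B := by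
    have h1 : l⁻¹ * s * l = s := by
      rw [mul_assoc, ← hl.2.1 s hs]; group
    have h2 := hAB₂ s hs.1
    rw [hl.2.1 s hs] at h2
    have e : s * l * l⁻¹ = s := by group
    rwa [e] at h2
  intro v hv
  have hv2 : v ∈ Ee V (MulAut.conj r⁻¹ • B) := h.we' _ hB₂ hB₂R hv
  have hu : s • v + v ∈ fx V (MulAut.conj r⁻¹ • B) := hv2 s hsB₂
  have huA : s • v + v ∈ fx V A := by
    intro a ha
    have h1 := hAB₂ a ha
    have h2 := hl.2.2.2 s hs v
    have e1 : l • (s • v + v) = (s • v + v) + (l • (s • v + v) + (s • v + v)) := by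
      have : (s • v + v) + (l • (s • v + v) + (s • v + v)) =
        l • (s • v + v) + ((s • v + v) + (s • v + v)) := by abel
      rw [this, h.vv0, add_zero]
    have h3 : (l * a * l⁻¹) • (l • (s • v + v)) = l • (s • v + v) := by
      rw [e1, smul_add, hu _ h1, h.W₁_fx hB₂ hB₂R hB₂Q (h.k.DW h2) _ h1]
    have e2 : (l * a * l⁻¹) • (l • (s • v + v)) = l • a • (s • v + v) := by
      rw [← mul_smul, ← mul_smul]
      congr 1; group
    rw [e2, smul_left_cancel_iff] at h3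
    exact h3
  by_contra hvA
  exact hs1 (hm.inj v hvA s hs.1 huA)

/-- **(8a)** -/
theorem eight_a {A : Subgroup Y} (hA : A ∈ U) (hAH : A ≤ H) (hAM : ¬ A ≤ M) (hE : ¬ WW V H' R ≤ Ee V A)
    (hP : A ⊓ QQ H R ≤ P') (hP2 : P' ≤ (A ⊓ QQ H R) ⊔ QQ H' R) (hK : A ⊓ QQ H R ⊓ QQ H' R = ⊥)
    (hc : Nat.card ↥(A ⊓ QQ H R) = c) : WW V H' R ⊓ Ee V A ≤ W₁' := by
  have hm := h.amb.cls.mem A hA
  rintro y ⟨hy, hyE⟩
  by_contra hy1
  have hcA : Nat.card A = c * c := by rw [h.card_opp hA hAH hAM, hc]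
  have hmemK : ∀ s ∈ A, s ∈ QQ H R → s • y = y → s = 1 := by
    intro s hs hsQ hsy
    have h1 : s ∈ QQ H' R := by
      apply h.k'.free s (hP ⟨hs, hsQ⟩) y hy hy1
      rw [hsy, h.vv0]; exact zero_mem _
    have h2 : s ∈ A ⊓ QQ H R ⊓ QQ H' R := ⟨⟨hs, hsQ⟩, h1⟩
    rwa [hK, mem_bot] at h2
  obtain ⟨w₀, hw₀⟩ := hm.ne
  obtain ⟨u, hu, h1⟩ := hm.surj w₀ hw₀ y hyE
  have huy : u • y = y := mem_self hm hu h1
  have hu1 : u ≠ 1 := by
    rintro rfl
    rw [one_smul, h.vv0, zero_add] at h1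
    have h2 : A ⊓ QQ H R = ⊥ := by
      rw [eq_bot_iff]
      intro b hb
      rw [mem_bot]
      exact hmemK b hb.1 hb.2 (h1 b hb.1)
    rw [h2, Subgroup.card_bot] at hc
    have := h.k.two_le
    omega
  have huQ : u ∉ QQ H R := fun h2 => hu1 (hmemK u hu h2 huy)
  have hJ : ∀ x ∈ W₁', ∃ b ∈ A ⊓ QQ H R, b • y + y ∈ W₁' ∧ b • y + y + x ∈ D' := by
    intro x hx
    obtain ⟨p, hp, h2, h3⟩ := h.exists_onto hy hy1 hx
    obtain ⟨b, hb, q, hq, rfl⟩ := h.cover_mul hA hAH hAM hP2 hp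
    rw [mul_smul, Amal.QQ_fix h.a' h.amb hq hy] at h2 h3
    exact ⟨b, hb, h2, h3⟩
  have hQQ : QQ H R ⊓ QQ H' R = ⊥ := by
    apply h.four (hAH hu) (hm.sq u hu) (h.not_M hA hAH hAM hu huQ) hy hy1 huy
    intro x hx
    obtain ⟨b, hb, h2, h3⟩ := hJ x hx
    exact ⟨_, h2, h3, hyE b hb.1 u hu⟩
  obtain ⟨x, hx, hxM, h1', h2', h3'⟩ := h.exists_x hA hAH hAM
  obtain ⟨B, hBeq⟩ : ∃ B, B = MulAut.conj x • A := ⟨_, rfl⟩
  rw [← hBeq] at h1' h2' h3'
  have hcB : Nat.card B = c * c := by rw [hBeq, conj_card]; exact hcA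
  have c1 := h.card_BQ h1' h2' h3' hcB
  have hBQ' := h.not_le_Q' hQQ c1
  have hSn : ∀ z ∈ H, ∀ s ∈ A ⊓ QQ H R, z * s * z⁻¹ ∈ A ⊓ QQ H R := fun z hz s hs =>
    h.S_norm hQQ hA hAH hAM hP hc hz hs
  have le1 := h.five_le hQQ h1' h2' h3' hBQ' hcB
  have le2 := h.swap.five_le (by rw [inf_comm]; exact hQQ) h1' h2' hBQ' h3' hcB
  -- `I ∩ D = 0`
  have hID : ∀ v ∈ cmK P (WW V H R), v ∈ D → v = 0 := by
    by_cases hcase : ∀ s ∈ A ⊓ QQ H R, ∀ v : V, s • v + v ∈ WW V H R → s • v + v ∈ D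
    · exact absurd (h.le_Ee_of hA hAH hAM h1' h2' h3' hx hBeq hc hSn hcase) hE
    · push Not at hcase
      obtain ⟨s, hs, v₁, hv1, hv2⟩ := hcase
      have hsB' : s ∈ B := by
        rw [hBeq, mem_conj]
        have := hSn x⁻¹ (H.inv_mem hx) s hs
        rw [inv_inv] at this
        exact this.1
      have hsB : s ∈ B ⊓ QQ H R := ⟨hsB', hs.2⟩
      exact fun v hv hvD => h.cm_inf_of hA hAH hAM h1' h2' h3' hcB hx hBeq hs hsB hv1 hv2 hv hvD
  apply h.no_common hAH hAM le1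
  intro j hj
  obtain ⟨b, hb, h2, h3⟩ := hJ j (h.swap.cm_le_W₁ hj)
  have h4 : b • y + y ∈ cmK P' (WW V H' R) := mem_cm (hP hb) hy
  have h5 : t • (b • y + y + j) = 0 := hID _ (h.swap.t_cm (add_mem h4 hj)) (h.swap.t_D h3)
  rw [smul_eq_zero_iff_eq, HE.add_eq_zero' h.amb.two] at h5
  rw [← h5]
  exact hyE b hb.1

end TwoK

end Cfsg.Agent.Omega.NO1.TH
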