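import Cfsg.Agent.Omega.NO1.TH.KOneB
import Cfsg.Agent.Omega.NO1.TH.KOneC

/-!
# N1, the amalgam `(H, H^t)`, `k = 1` (bb OMEGA 20297, helper503): the theorem

`TwoK.main` : for every opposite member `A` : `W' ≰ E_A`, `A ∩ Q ∩ Q' = 1`, `|A ∩ Q| = c`, `|A| = c²`,
`P' = (A ∩ Q) Q'`, `W' ∩ E_A ≤ W₁'`; `TwoK.main_top` : with `|V : E_A|² ≤ |A|` also `|V : E_A| = c`, `V = W' + E_A`.
-/

set_option autoImplicit false
set_option linter.unusedSectionVars false

namespace Cfsg.Agent.Omega.NO1.TH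

open Subgroup Cfsg.Agent.Omega.NO1.AB
open scoped Pointwise

universe u

variable {Y : Type u} [Group Y] {V : Type u} [AddCommGroup V] [DistribMulAction Y V]

namespace TwoK

variable [Finite Y] [Finite V] {U : Set (Subgroup Y)} {T : Sylow 2 Y} {M H H' R P P' : Subgroup Y}
  {D D' W₁ W₁' : AddSubgroup V} {c : ℕ} {t : Y} (h : TwoK V U T M H H' R P P' D D' W₁ W₁' c t)
include h

theorem in15 {A : Subgroup Y} (hA : A ∈ U) (hAH : A ≤ H) (hAM : ¬ A ≤ M) (hE : WW V H' R ≤ Ee V A) :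
    In15 V H H' R P' W₁' c A where
  one_a := by
    rw [mul_comm, (h.one_aux hA hAH hAM hE).1, inf_comm (WW V H' R)]
  one_b := fun v hv hK => by
    rw [← h.one hA hAH hAM hE]
    exact ⟨fun k hk => hK k hk, hv⟩
  two_a := (h.two_all hA hAH hAM hE).1
  three := by
    refine ⟨cmK P (WW V H R), h.cm_le_W₁.trans h.k.W₁W, ?_, ?_⟩
    · intro x hx hxA
      have h1 : x ∈ cmK P (WW V H R) ⊓ fx V A := ⟨hx, hxA⟩
      rw [(h.two_inf hA hAH hAM hE hA hAH hAM).1, AddSubgroup.mem_bot] at h1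
      exact h1
    · intro v hv k hk
      apply h.three hA hAH hAM hE hk.1.2 hk.2
      exact hv
  four := by
    by_cases hQ : QQ H R ⊓ QQ H' R = ⊥
    · exact Or.inr hQ
    · refine Or.inl fun y hy hy1 u hu huy => ?_
      have huQ : u ∈ QQ H R := by
        by_contra huQ
        exact hQ (h.four_opp hA hAH hAM hE hu huQ hy hy1 huy)
      refine ⟨⟨hu, huQ⟩, ?_⟩
      apply h.k'.free u ((h.two_all hA hAH hAM hE).1 ⟨hu, huQ⟩) y hy hy1
      rw [huy, h.vv0]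
      exact zero_mem _
  five := fun hQQ hc => h.five hA hAH hAM hE hQQ hc

/-- **bb OMEGA 20297** -/
theorem main {A : Subgroup Y} (hA : A ∈ U) (hAH : A ≤ H) (hAM : ¬ A ≤ M) : Out8 V H H' R P' W₁' c A := by
  apply h.out (fun A hA hAH hAM hE => h.in15 hA hAH hAM hE) _ hA hAH hAM
  intro B hB hBH hBM hE hP y hy hyE
  obtain ⟨h1, h2, h3, -⟩ := h.eight hB hBH hBM hE
  refine h.eight_a hB hBH hBM hE hP ?_ h1 h2 ⟨hy, hyE⟩
  intro r hr
  obtain ⟨b, hb, q, hq, rfl⟩ := exists_mul_of_card h.k'.QP hP h.k'.card_P (by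
    rw [h1, Subgroup.card_bot, mul_one, h2]) hr
  exact mul_mem (mem_sup_left hb) (mem_sup_right hq)

/-- **bb OMEGA 20297**, `c = a`, `V = W' + E_A` -/
theorem main_top {A : Subgroup Y} (hA : A ∈ U) (hAH : A ≤ H) (hAM : ¬ A ≤ M) {a : ℕ}
    (hV : Nat.card V = a * Nat.card ↥(Ee V A)) (hpf : a * a ≤ Nat.card A) :
    a = c ∧ WW V H' R ⊔ Ee V A = ⊤ ∧ WW V H' R ⊓ Ee V A = W₁' := by
  have o := h.main hA hAH hAM
  have hm := h.amb.cls.mem A hA
  have h1 : a ≤ c := by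
    rw [o.cA] at hpf
    by_contra h2
    push Not at h2
    nlinarith [h.c_pos]
  have h2 := card_sup_as (WW V H' R) (Ee V A)
  have h3 : WW V H' R ⊓ Ee V A ≤ W₁' := fun y hy => o.cap y hy.1 hy.2
  have h4 := Nat.card_le_card_of_injective _ (AddSubgroup.inclusion_injective h3)
  have h5 : Nat.card ↥(WW V H' R ⊔ Ee V A) ≤ Nat.card V :=
    Nat.card_le_card_of_injective _ Subtype.val_injective
  have hE0 : 0 < Nat.card ↥(Ee V A) := Nat.card_pos
  have hW0 : 0 < Nat.card W₁' := Nat.card_pos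
  have hI0 : 0 < Nat.card ↥(WW V H' R ⊓ Ee V A) := Nat.card_pos
  rw [h.k'.card_W] at h2
  rw [hV] at h5
  have h6 : c ≤ a := by
    apply Nat.le_of_mul_le_mul_right _ (Nat.mul_pos hW0 hE0)
    calc c * (Nat.card W₁' * Nat.card ↥(Ee V A)) = c * Nat.card W₁' * Nat.card ↥(Ee V A) := by ring
      _ = Nat.card ↥(WW V H' R ⊔ Ee V A) * Nat.card ↥(WW V H' R ⊓ Ee V A) := h2.symm
      _ ≤ a * Nat.card ↥(Ee V A) * Nat.card W₁' := Nat.mul_le_mul h5 h4
      _ = _ := by ring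
  have h7 : a = c := le_antisymm h1 h6
  subst h7
  have h8 : Nat.card ↥(WW V H' R ⊔ Ee V A) = a * Nat.card ↥(Ee V A) ∧
      Nat.card ↥(WW V H' R ⊓ Ee V A) = Nat.card W₁' := by
    have h9 : a * Nat.card ↥(Ee V A) * Nat.card W₁' =
        Nat.card ↥(WW V H' R ⊔ Ee V A) * Nat.card ↥(WW V H' R ⊓ Ee V A) := by rw [h2]; ring
    have ha0 : 0 < a * Nat.card ↥(Ee V A) := Nat.mul_pos h.c_pos hE0
    constructor
    · apply le_antisymm h5
      apply Nat.le_of_mul_le_mul_right _ hW0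
      rw [h9]
      exact Nat.mul_le_mul_left _ h4
    · apply le_antisymm h4
      apply Nat.le_of_mul_le_mul_left _ ha0
      rw [h9]
      exact Nat.mul_le_mul_right _ h5
  refine ⟨rfl, ?_, ?_⟩
  · apply eq_of_le_as le_top
    have : Nat.card ↥(⊤ : AddSubgroup V) = Nat.card V := AddSubgroup.card_top
    rw [this, h8.1, hV]
  · exact eq_of_le_as h3 h8.2.ge

end TwoK

end Cfsg.Agent.Omega.NO1.TH
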