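import Cfsg.Agent.Omega.NO1.TH.EndTwoF
import Cfsg.Agent.Omega.NO1.TH.KOneOut
import Cfsg.Agent.Omega.NO1.TH.StarTwo
import Cfsg.Agent.Omega.NO1.TH.Stmt

/-!
# N1, BETA, `a = 2` (FrTwo): `k = 1` (helper817)

`exists_out` : a conjugate of a member `B ≤ R`, `B ≰ Q`, outside `M`.
`KOne.exists_in` : `KOne` and `|V : E_B| = 2` give the situation `In` of `EndTwoM.lean`.
`In.star2` : `C_V(H) ≠ 0` gives helper85's `StarTwo`.
`star2_of_kOne` : the result for `k = 1`, `a = 2`.
-/

set_option autoImplicit false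
set_option linter.unusedSectionVars false

namespace Cfsg.Agent.Omega.NO1.TH.ET

open Subgroup Cfsg.Agent.Omega.NO1.AB
open scoped Pointwise

universe u

variable {Y : Type u} [Group Y] {V : Type u} [AddCommGroup V] [DistribMulAction Y V]

variable {U : Set (Subgroup Y)} {T : Sylow 2 Y} {M H R : Subgroup Y} {t : Y}

/-- a conjugate outside `M` -/
theorem exists_out [Finite Y] [Finite V] (a : Amal U T M H R t) (h : Amb V U T M) {B : Subgroup Y} (hBR : B ≤ R)
    (hBQ : ¬ B ≤ QQ H R) : ∃ g ∈ H, ¬ MulAut.conj g • B ≤ M := by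
  have : Fact (Nat.Prime 2) := ⟨Nat.prime_two⟩
  by_contra hcon
  push Not at hcon
  obtain ⟨P, hP⟩ := a.exists_syl
  let J : Subgroup H := normalClosure ((B.subgroupOf H : Subgroup H) : Set H)
  have hBJ : B.subgroupOf H ≤ J := subset_normalClosure
  have hJM : J ≤ M.subgroupOf H := by
    apply (closure_le _).2
    intro x hx
    obtain ⟨b, hb, hc⟩ := Group.mem_conjugatesOfSet_iff.1 hx
    obtain ⟨y, rfl⟩ := isConj_iff.1 hc
    exact hcon y y.2 (conj_mem_conj (g := (y : Y)) (mem_subgroupOf.1 hb))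
  have h2 := frattini_inf P J
  have hJn : J.Normal := normalClosure_normal
  by_cases h3 : normalizer (((P : Subgroup H) ⊓ J : Subgroup H) : Set H) = ⊤
  · have h4 : ((P : Subgroup H) ⊓ J).Normal := normalizer_eq_top_iff.1 h3
    apply hBQ
    intro b hb x hx
    have hbP : (⟨b, a.RH (hBR hb)⟩ : H) ∈ (P : Subgroup H) ⊓ J := by
      refine ⟨?_, hBJ (mem_subgroupOf.2 hb)⟩
      change (⟨b, a.RH (hBR hb)⟩ : H) ∈ (P : Subgroup H)
      rw [hP]
      exact mem_subgroupOf.2 (hBR hb)
    have h5 := (h4.conj_mem _ hbP ⟨x, hx⟩).1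
    rw [hP] at h5
    exact h5
  · set N := normalizer (((P : Subgroup H) ⊓ J : Subgroup H) : Set H) with hN
    have hle : R ≤ N.map H.subtype := by
      intro r hr
      refine ⟨⟨r, a.RH hr⟩, ?_, rfl⟩
      have hrP : (⟨r, a.RH hr⟩ : H) ∈ P := by
        change (⟨r, a.RH hr⟩ : H) ∈ (P : Subgroup H)
        rw [hP]; exact mem_subgroupOf.2 hr
      rw [hN, SetLike.mem_coe, mem_normalizer_iff]
      intro y
      constructor
      · rintro ⟨hy1, hy2⟩
        exact ⟨(P : Subgroup H).mul_mem ((P : Subgroup H).mul_mem hrP hy1) ((P : Subgroup H).inv_mem hrP),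
          hJn.conj_mem y hy2 _⟩
      · rintro ⟨hy1, hy2⟩
        refine ⟨?_, ?_⟩
        · have := (P : Subgroup H).mul_mem ((P : Subgroup H).mul_mem ((P : Subgroup H).inv_mem hrP) hy1) hrP
          have e : (⟨r, a.RH hr⟩ : H)⁻¹ * (⟨r, a.RH hr⟩ * y * (⟨r, a.RH hr⟩ : H)⁻¹) * ⟨r, a.RH hr⟩ = y := by group
          rwa [e] at this
        · have := hJn.conj_mem _ hy2 (⟨r, a.RH hr⟩ : H)⁻¹
          have e : (⟨r, a.RH hr⟩ : H)⁻¹ * (⟨r, a.RH hr⟩ * y * (⟨r, a.RH hr⟩ : H)⁻¹) * (⟨r, a.RH hr⟩ : H)⁻¹⁻¹ = y := by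
            group
          rwa [e] at this
    have hlt : N.map H.subtype < H := by
      refine lt_of_le_of_ne (map_subtype_le _) fun h5 => h3 ?_
      rw [eq_top_iff]
      intro x _
      have h6 : (x : Y) ∈ N.map H.subtype := by rw [h5]; exact x.2
      obtain ⟨n, hn, hnx⟩ := h6
      have : n = x := Subtype.ext hnx
      rwa [← this]
    have h5 := a.uniq _ hle hlt
    apply Amal.H_not_le a h
    intro x hx
    have h7 : (⟨x, hx⟩ : H) ∈ N ⊔ J := by rw [h2]; exact mem_top _
    have h8 : (N ⊔ J).map H.subtype ≤ M := by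
      rw [Subgroup.map_sup]
      refine sup_le h5 ?_
      rintro _ ⟨y, hy, rfl⟩
      exact hJM hy
    exact h8 ⟨_, h7, rfl⟩

/-- `KOne` with `|V : E_B| = 2` -/
theorem exists_in [Finite Y] [Finite V] {P : Subgroup Y} {D W₁ : AddSubgroup V} {c : ℕ} (amb : Amb V U T M)
    (a : Amal U T M H R t) (k : KOne V U M H R P D W₁ c) (we : WE V U H R) (ind : ∀ B ∈ U, (Ee V B).index = 2)
    (noff : ∀ A : Subgroup Y, (∀ x ∈ A, ∀ y ∈ A, x * y = y * x) → (∀ x ∈ A, x * x = 1) → A ≠ ⊥ →
      Nat.card A < (fx V A).index) : ∃ (B : Subgroup Y) (g : Y), In V U T M H R t B g := by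
  have h2 := amb.two
  obtain ⟨B, hB, hBR, hBQ⟩ := Amal.exists_not_QQ a amb
  obtain ⟨g, hg, hM⟩ := exists_out a amb hBR hBQ
  have hA := amb.cls.conj B hB g
  have hAH : MulAut.conj g • B ≤ H := by
    intro y hy
    rw [mem_conj] at hy
    have := H.mul_mem (H.mul_mem hg (a.RH (hBR hy))) (H.inv_mem hg)
    have e : g * (g⁻¹ * y * g) * g⁻¹ = y := by group
    rwa [e] at this
  have tk := k.twoK amb a we
  have o := tk.main hA hAH hM
  have hc : 2 = c := by
    refine (tk.main_top hA hAH hM (a := 2) ?_ ?_).1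
    · have h3 := (Ee V (MulAut.conj g • B)).card_mul_index
      rw [ind _ hA] at h3
      rw [← h3, mul_comm]
    · rw [o.cA]
      exact Nat.mul_le_mul k.two_le k.two_le
  subst hc
  -- `R = P`
  have hRP : R ≤ P := by
    intro x hx
    apply k.mem_P x hx
    intro w hw
    by_cases hwD : w ∈ D
    · exact add_mem (k.D_H x (a.RH hx) w hwD) hwD
    · refine add_mem_of k.DW k.card_W₁ (k.W₁_R x hx w hw) hw (fun h3 => hwD ?_) hwD
      have h4 := k.D_H x⁻¹ (H.inv_mem (a.RH hx)) _ h3
      rwa [inv_smul_smul] at h4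
  have hPR : P = R := le_antisymm k.PR hRP
  subst hPR
  have hPQ : ¬ P ≤ QQ H P := by
    intro h3
    have h4 := k.card_P
    have h5 : QQ H P = P := le_antisymm k.QP h3
    rw [h5] at h4
    have h6 : 0 < Nat.card P := Nat.card_pos
    omega
  have hW1 : W₁ = fx V P := by
    apply le_antisymm
    · exact fun w hw x hx => k.P_fix x hx w hw
    · intro w hw
      by_contra h3
      apply hPQ
      intro x hx
      apply k.free x hx w (fx_le_WW hw) h3
      rw [hw x hx, h2]
      exact zero_mem _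
  have hD : D = fx V H := by
    apply le_antisymm
    · intro w hw
      have h3 : w ∈ fx V P := by rw [← hW1]; exact k.DW hw
      exact fun x hx => k.D_fix w hw h3 x hx
    · intro w hw
      have h3 : w ∈ W₁ := by rw [hW1]; exact a.C_le hw
      have h4 : ∃ x ∈ H, x ∉ M := by
        by_contra hcon
        push Not at hcon
        exact Amal.H_not_le a amb hcon
      obtain ⟨x, hx, hxM⟩ := h4
      exact k.opp x hx hxM w h3 (by rw [hw x hx]; exact h3)
  subst hW1
  subst hD
  have hQ' : QQ (MulAut.conj t • H) P = MulAut.conj t • QQ H P := tk.Q'_eq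
  have hW' : WW V (MulAut.conj t • H) P = t • WW V H P := tk.W'_eq
  refine ⟨B, g, ?_⟩
  exact
    { amb := amb
      a := a
      o :=
        { nat := fun x hx hxR r hr h3 => k.free r hr x hx hxR h3
          root := fun x hx r hr => k.P_comm r hr x hx
          cV := k.card_W₁
          cW := k.card_W
          cR := k.card_P }
      we := we
      BU := hB
      BR := hBR
      BQ := hBQ
      gH := hg
      gM := hM
      out :=
        { cap := fun y hy hyE => by
            have h3 := o.cap y (by rw [hW']; exact hy) hyE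
            rw [mem_smul_as] at h3
            have := a.smul_V0 h3
            rwa [smul_inv_smul] at this
          inf := by
            have h3 := o.K
            rwa [hQ'] at h3
          cB := o.cB
          cA := o.cA }
      ind := ind B hB
      noff := noff }

namespace In

variable {B : Subgroup Y} {g : Y}

/-- **`C_V(H) ≠ 0`** gives `StarTwo` -/
theorem star2 [Finite Y] [Finite V] (i : In V U T M H R t B g) : Star2 V U T M := by
  have h : fx V H ≠ ⊥ := fun h => i.bot h
  obtain ⟨z, b, k⟩ := i.exists_K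
  have h2 := i.amb.two
  have h4 : 1 < Nat.card (fx V H) := by
    rw [← AddSubgroup.one_lt_card_iff_ne_bot] at h
    exact h
  have h5 := k.card_C
  have hC2 : Nat.card (fx V H) = 2 := by omega
  have h3 : ∃ w ∈ fx V H, w ≠ 0 := by
    by_contra hcon
    push Not at hcon
    apply h
    rw [eq_bot_iff]
    exact fun x hx => (AddSubgroup.mem_bot).2 (hcon x hx)
  obtain ⟨w, hw, hw0⟩ := h3
  have hV : Nat.card V = 32 := by rw [k.card_V, hC2]
  have hV1 : Nat.card (Kn.V1 h2 t g z) ≤ 16 := by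
    have e1 := card_tw (h2 := h2) (z := z)
    have e2 := card_tw (h2 := h2) (z := g • z)
    have e3 := card_tw (h2 := h2) (z := t • g • z)
    have e4 := card_tw (h2 := h2) (z := g • t • g • z)
    calc _ ≤ Nat.card ↥(tw h2 z ⊔ tw h2 (g • z) ⊔ tw h2 (t • g • z)) * Nat.card (tw h2 (g • t • g • z)) :=
          card_sup_le _ _
      _ ≤ (Nat.card ↥(tw h2 z ⊔ tw h2 (g • z)) * Nat.card (tw h2 (t • g • z))) * 2 :=
          Nat.mul_le_mul (card_sup_le _ _) e4
      _ ≤ ((Nat.card (tw h2 z) * Nat.card (tw h2 (g • z))) * 2) * 2 :=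
          Nat.mul_le_mul_right _ (Nat.mul_le_mul (card_sup_le _ _) e3)
      _ ≤ ((2 * 2) * 2) * 2 :=
          Nat.mul_le_mul_right _ (Nat.mul_le_mul_right _ (Nat.mul_le_mul e1 e2))
      _ = 16 := by norm_num
  have hinf : Kn.V1 h2 t g z ⊓ fx V H = ⊥ := by
    have h6 := card_sup_as (Kn.V1 h2 t g z) (fx V H)
    rw [k.sup_top, AddSubgroup.card_top, hV, hC2] at h6
    have h7 : Nat.card ↥(Kn.V1 h2 t g z ⊓ fx V H) ≤ 1 := by omega
    have h8 : 0 < Nat.card ↥(Kn.V1 h2 t g z ⊓ fx V H) := Nat.card_pos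
    exact (AddSubgroup.card_eq_one).1 (by omega)
  refine ⟨H, B, b, t, w, Kn.V1 h2 t g z, ?_⟩
  exact
    { mem := i.BU
      card := i.card_B
      ind := i.ind
      cardF := by rw [k.B_eq, i.o.cV, hC2]
      BT := i.BR.trans i.a.RT
      BH := i.BR.trans i.a.RH
      bB := by rw [k.B_eq]; exact QQ_le k.bQ
      core := by
        intro N hN hN2 hNH n hn hnB
        apply k.Q_elts
        apply le_QQ (N := N) _ hNH hn
        -- `N ≤ R`
        have h6 : IsPGroup 2 ↥(N ⊔ R) := by
          have h7 : N ⊔ R ≤ H := sup_le hN i.a.RH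
          have hRn : R ≤ normalizer (N : Set Y) := by
            intro r hr
            rw [mem_normalizer_iff]
            intro y
            refine ⟨fun hy => hNH r (i.a.RH hr) y hy, fun hy => ?_⟩
            have := hNH r⁻¹ (H.inv_mem (i.a.RH hr)) _ hy
            have e : r⁻¹ * (r * y * r⁻¹) * r⁻¹⁻¹ = y := by group
            rwa [e] at this
          exact hN2.to_sup_of_normal_left' i.a.R2 hRn
        have h7 := i.a.card_le i.a.bad.ne le_rfl (sup_le hN i.a.RH) h6
        have h8 : R = N ⊔ R := eq_of_le_of_card_ge le_sup_right h7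
        rw [h8]
        exact le_sup_left
      w0 := hw0
      wH := fun x hx => hw x hx
      tT := i.a.t_T
      tB := by rw [k.B_eq]; exact i.a.t_norm
      tb := fun h6 => k.cQ (by rw [h6]; exact k.bQ)
      tw := fun h7 => hw0 (Amal.C_inf i.a i.amb hw (by rw [h7]; exact hw))
      ΦH := fun x hx p hp => k.V1_inv hx hp
      Φw := fun h6 => hw0 (by
        have h7 : w ∈ Kn.V1 h2 t g z ⊓ fx V H := ⟨h6, hw⟩
        rwa [hinf, AddSubgroup.mem_bot] at h7)
      ΦE := fun h6 => k.v_not (h6 k.v_V1)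
      HM := Amal.H_not_le i.a i.amb }

end In

/-- **`k = 1`, `a = 2`** -/
theorem star2_of_kOne [Finite Y] [Finite V] {P : Subgroup Y} {D W₁ : AddSubgroup V} {c : ℕ} (w : World V U T M 2)
    (a : Amal U T M H R t) (k : KOne V U M H R P D W₁ c) (we : WE V U H R) : Star2 V U T M := by
  obtain ⟨B, g, i⟩ := exists_in w.toAmb a k we w.ind w.noff
  exact i.star2

end Cfsg.Agent.Omega.NO1.TH.ET
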