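import Cfsg.Agent.Omega.NO1.TH.KOneC
import Cfsg.Agent.LieRecognition.FieldSemilinear

/-!
# N1, the amalgam, `k = 1`: elementary abelian subgroups of `R⟨φ⟩ ≤ ΓL₂(F)` (bb OMEGA 20297, fill-in (d))

`SemiL.ea` : `|A| ≤ c |A ∩ Q|`; `SemiL.fld` : in the case of equality and `A ≰ P` : `c = 4`, `A ∩ P ≰ Q`, `|R| ≤ 2 |P|`.
-/

set_option autoImplicit false
set_option linter.unusedSectionVars false

namespace Cfsg.Agent.Omega.NO1.TH

open Subgroup Cfsg.Agent.Omega.NO1.AB
open scoped Pointwise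

universe u

variable {Y : Type u} [Group Y] {V : Type u} [AddCommGroup V] [DistribMulAction Y V]

/-- `R` acts semilinearly on the line `W₁ / D`, with coordinate `f`. -/
structure SemiL (V : Type u) [AddCommGroup V] [DistribMulAction Y V] (R P Q : Subgroup Y) (W W₁ D : AddSubgroup V)
    (F : Type) [Field F] (f : V → F) : Prop where
  two : ∀ v : V, v + v = 0
  R2 : IsPGroup 2 R
  QP : Q ≤ P
  PR : P ≤ R
  DW : D ≤ W₁
  W₁W : W₁ ≤ W
  W_R : ∀ r ∈ R, ∀ w ∈ W, r • w ∈ W
  W₁_R : ∀ r ∈ R, ∀ w ∈ W₁, r • w ∈ W₁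
  D_R : ∀ r ∈ R, ∀ w ∈ D, r • w ∈ D
  add : ∀ v ∈ W₁, ∀ w ∈ W₁, f (v + w) = f v + f w
  surj : ∀ a : F, ∃ w ∈ W₁, f w = a
  ker : ∀ w ∈ W₁, f w = 0 ↔ w ∈ D
  semi : ∀ r ∈ R, ∀ μ : F, ∃ τ : F, ∀ w ∈ W₁, ∀ w' ∈ W₁, f w' = μ * f w → f (r • w') = τ * f (r • w)
  mem_P : ∀ x ∈ R, (∀ w ∈ W₁, x • w + w ∈ D) → x ∈ P
  P_fix : ∀ x ∈ P, ∀ w ∈ W₁, x • w + w ∈ D
  P_comm : ∀ x ∈ P, ∀ w ∈ W, x • w + w ∈ W₁
  free : ∀ x ∈ P, ∀ w ∈ W, w ∉ W₁ → x • w + w ∈ D → x ∈ Q
  card_W : Nat.card W = Nat.card F * Nat.card W₁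
  card_W₁ : Nat.card W₁ = Nat.card F * Nat.card D
  card_P : Nat.card P = Nat.card F * Nat.card Q

/-- a proper fixed subfield is small -/
theorem card_fixed_sq (F : Type) [Field F] [Finite F] (σ : F ≃+* F) (hσ : σ ≠ 1) :
    Nat.card {x : F // σ x = x} * Nat.card {x : F // σ x = x} ≤ Nat.card F := by
  obtain ⟨θ, hθ⟩ : ∃ θ, σ θ ≠ θ := by
    by_contra hcon
    push Not at hcon
    exact hσ (RingEquiv.ext hcon)
  rw [← Nat.card_prod]
  apply Nat.card_le_card_of_injective (fun p : {x : F // σ x = x} × {x : F // σ x = x} => (p.1 : F) + (p.2 : F) * θ)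
  rintro ⟨⟨x, hx⟩, ⟨y, hy⟩⟩ ⟨⟨x', hx'⟩, ⟨y', hy'⟩⟩ he
  have he' : x + y * θ = x' + y' * θ := he
  have h1 : y = y' := by
    by_contra hne
    have h2 : y - y' ≠ 0 := sub_ne_zero.2 hne
    have h3 : (y - y') * θ = x' - x := by
      have := he'
      linear_combination this
    have h4 : (y - y') * σ θ = x' - x := by
      have h5 := congrArg σ h3
      rwa [map_mul, map_sub, map_sub, hy, hy', hx, hx'] at h5
    exact hθ (mul_left_cancel₀ h2 (h4.trans h3.symm))
  subst h1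
  have h2 : x = x' := add_right_cancel he'
  subst h2
  rfl

/-- `|Aut(𝔽₄)| ≤ 2` -/
theorem card_aut_four (F : Type) [Field F] [Finite F] (hF : Nat.card F = 4) : Nat.card (F ≃+* F) ≤ 2 := by
  classical
  have : Fintype F := Fintype.ofFinite F
  -- `ω ≠ 0, 1`
  obtain ⟨ω, hω0, hω1⟩ : ∃ ω : F, ω ≠ 0 ∧ ω ≠ 1 := by
    by_contra hcon
    push Not at hcon
    have h1 : (Finset.univ : Finset F) ⊆ {0, 1} := by
      intro x _
      rw [Finset.mem_insert, Finset.mem_singleton]
      by_cases hx : x = 0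
      · exact Or.inl hx
      · exact Or.inr (hcon x hx)
    have h2 := Finset.card_le_card h1
    have h3 : (Finset.univ : Finset F).card = 4 := by rw [Finset.card_univ, ← Nat.card_eq_fintype_card, hF]
    have h4 : ({0, 1} : Finset F).card ≤ 2 := Finset.card_le_two
    omega
  have hω2 : ω + 1 ≠ ω := by
    intro h1
    exact one_ne_zero (add_eq_left.1 h1)
  have h2F : (2 : F) = 0 := by
    have h1 : ((Nat.card F : ℕ) : F) = 0 := by
      rw [Nat.card_eq_fintype_card]
      exact Nat.cast_card_eq_zero F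
    rw [hF] at h1
    have h2 : (2 : F) * 2 = 0 := by
      have : ((4 : ℕ) : F) = 2 * 2 := by norm_num
      rw [← this]; exact h1
    rcases mul_eq_zero.1 h2 with h3 | h3 <;> exact h3
  have h10 : ω + 1 ≠ 0 := by
    intro h1
    apply hω1
    have : ω = -1 := eq_neg_of_add_eq_zero_left h1
    rw [this]
    have : (-1 : F) = 1 := by
      have h3 : (1 : F) + 1 = 0 := by
        have : (1 : F) + 1 = 2 := by norm_num
        rw [this, h2F]
      exact neg_eq_of_add_eq_zero_left h3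
    exact this
  have h11 : ω + 1 ≠ 1 := by
    intro h1
    exact hω0 (add_eq_right.1 h1)
  have huniv : (Finset.univ : Finset F) = {0, 1, ω, ω + 1} := by
    symm
    apply Finset.eq_of_subset_of_card_le (Finset.subset_univ _)
    have h3 : (Finset.univ : Finset F).card = 4 := by rw [Finset.card_univ, ← Nat.card_eq_fintype_card, hF]
    rw [h3]
    rw [Finset.card_insert_of_notMem, Finset.card_insert_of_notMem, Finset.card_insert_of_notMem,
      Finset.card_singleton]
    · rw [Finset.mem_singleton]; exact hω2.symm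
    · rw [Finset.mem_insert, Finset.mem_singleton]; push Not; exact ⟨hω1.symm, h11.symm⟩
    · rw [Finset.mem_insert, Finset.mem_insert, Finset.mem_singleton]; push Not
      exact ⟨zero_ne_one, hω0.symm, h10.symm⟩
  -- `σ ↦ σ ω ∈ {ω, ω + 1}`
  have key : ∀ σ : F ≃+* F, σ ω = ω ∨ σ ω = ω + 1 := by
    intro σ
    have h1 : σ ω ∈ (Finset.univ : Finset F) := Finset.mem_univ _
    rw [huniv, Finset.mem_insert, Finset.mem_insert, Finset.mem_insert, Finset.mem_singleton] at h1
    rcases h1 with h1 | h1 | h1 | h1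
    · exact absurd ((map_eq_zero_iff σ σ.injective).1 h1) hω0
    · exact absurd ((map_eq_one_iff σ σ.injective).1 h1) hω1
    · exact Or.inl h1
    · exact Or.inr h1
  let g : (F ≃+* F) → Bool := fun σ => decide (σ ω = ω)
  have hg : Function.Injective g := by
    intro σ τ he
    have h1 : σ ω = τ ω := by
      by_cases h2 : σ ω = ω
      · have h3 : g τ = true := by rw [← he]; exact decide_eq_true h2
        rw [h2, of_decide_eq_true h3]
      · have h3 : ¬ τ ω = ω := by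
          intro h4
          apply h2
          have h5 : g σ = true := by rw [he]; exact decide_eq_true h4
          exact of_decide_eq_true h5
        rcases key σ with h5 | h5
        · exact absurd h5 h2
        · rcases key τ with h6 | h6
          · exact absurd h6 h3
          · rw [h5, h6]
    apply RingEquiv.ext
    intro x
    have h2 : x ∈ (Finset.univ : Finset F) := Finset.mem_univ _
    rw [huniv, Finset.mem_insert, Finset.mem_insert, Finset.mem_insert, Finset.mem_singleton] at h2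
    rcases h2 with h2 | h2 | h2 | h2
    · rw [h2, map_zero, map_zero]
    · rw [h2, map_one, map_one]
    · rw [h2, h1]
    · rw [h2, map_add, map_add, h1, map_one, map_one]
  have h1 := Nat.card_le_card_of_injective g hg
  have h2 : Nat.card Bool = 2 := by rw [Nat.card_eq_fintype_card]; rfl
  omega

namespace SemiL

variable [Finite Y] [Finite V] {R P Q : Subgroup Y} {W W₁ D : AddSubgroup V} {F : Type} [Field F] [Finite F]
  {f : V → F} (h : SemiL V R P Q W W₁ D F f)
include h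

theorem f_zero : f 0 = 0 := (h.ker 0 (zero_mem _)).2 (zero_mem _)

theorem ff (x : F) : x + x = 0 := by
  obtain ⟨w, hw, rfl⟩ := h.surj x
  rw [← h.add w hw w hw, h.two, h.f_zero]

/-- a section -/
noncomputable def sec (a : F) : V := (h.surj a).choose

theorem sec_mem (a : F) : h.sec a ∈ W₁ := (h.surj a).choose_spec.1

theorem f_sec (a : F) : f (h.sec a) = a := (h.surj a).choose_spec.2

/-- the action of `r` on the line -/
noncomputable def ph (r : Y) (a : F) : F := f (r • h.sec a)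

theorem f_eq_of_add {v w : V} (hv : v ∈ W₁) (hw : w ∈ W₁) (h1 : v + w ∈ D) : f v = f w := by
  have h2 := (h.ker _ (add_mem hv hw)).2 h1
  rw [h.add v hv w hw] at h2
  have h3 : f v = - f w := eq_neg_of_add_eq_zero_left h2
  have h4 : - f w = f w := neg_eq_of_add_eq_zero_left (h.ff (f w))
  rw [h3, h4]

theorem ph_eq {r : Y} (hr : r ∈ R) {w : V} (hw : w ∈ W₁) : f (r • w) = h.ph r (f w) := by
  apply h.f_eq_of_add (h.W₁_R r hr w hw) (h.W₁_R r hr _ (h.sec_mem _))
  rw [← smul_add]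
  apply h.D_R r hr
  rw [← h.ker _ (add_mem hw (h.sec_mem _)), h.add w hw _ (h.sec_mem _), h.f_sec, h.ff]

theorem ph_add {r : Y} (hr : r ∈ R) (a b : F) : h.ph r (a + b) = h.ph r a + h.ph r b := by
  have h1 := h.ph_eq hr (add_mem (h.sec_mem a) (h.sec_mem b))
  rw [h.add _ (h.sec_mem a) _ (h.sec_mem b), h.f_sec, h.f_sec, smul_add,
    h.add _ (h.W₁_R r hr _ (h.sec_mem a)) _ (h.W₁_R r hr _ (h.sec_mem b))] at h1
  exact h1.symm

theorem ph_zero {r : Y} (hr : r ∈ R) : h.ph r 0 = 0 := by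
  have h1 := h.ph_add hr 0 0
  rw [add_zero] at h1
  exact left_eq_add.1 h1

theorem ph_mul {r s : Y} (hr : r ∈ R) (hs : s ∈ R) (a : F) : h.ph (r * s) a = h.ph r (h.ph s a) := by
  change f ((r * s) • h.sec a) = _
  rw [mul_smul, h.ph_eq hr (h.W₁_R s hs _ (h.sec_mem a))]
  rfl

theorem ph_one (a : F) : h.ph 1 a = a := by
  change f ((1 : Y) • h.sec a) = a
  rw [one_smul, h.f_sec]

theorem ph_ne {r : Y} (hr : r ∈ R) {a : F} (ha : a ≠ 0) : h.ph r a ≠ 0 := by
  intro h1
  apply ha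
  have h2 := h.ph_mul (R.inv_mem hr) hr a
  rw [inv_mul_cancel, h.ph_one, h1, h.ph_zero (R.inv_mem hr)] at h2
  exact h2

theorem ph_semi {r : Y} (hr : r ∈ R) (μ : F) : h.ph r μ * h.ph r 1 = h.ph r 1 * h.ph r μ ∧
    ∀ a, h.ph r (μ * a) = h.ph r μ * (h.ph r 1)⁻¹ * h.ph r a := by
  refine ⟨mul_comm _ _, fun a => ?_⟩
  obtain ⟨τ, hτ⟩ := h.semi r hr μ
  have key : ∀ a, h.ph r (μ * a) = τ * h.ph r a := fun a =>
    hτ _ (h.sec_mem a) _ (h.sec_mem (μ * a)) (by rw [h.f_sec, h.f_sec])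
  have h1 := key 1
  rw [mul_one] at h1
  have h2 := h.ph_ne hr one_ne_zero
  rw [key a, h1, mul_assoc τ, mul_inv_cancel₀ h2, mul_one]

/-- the field automorphism -/
noncomputable def sg (r : R) : F →+* F where
  toFun a := (h.ph r 1)⁻¹ * h.ph r a
  map_one' := inv_mul_cancel₀ (h.ph_ne r.2 one_ne_zero)
  map_zero' := by rw [h.ph_zero r.2, mul_zero]
  map_add' a b := by rw [h.ph_add r.2, mul_add]
  map_mul' a b := by
    rw [(h.ph_semi r.2 a).2 b]
    ring

theorem ph_sg (r : R) (a : F) : h.ph r a = h.ph r 1 * h.sg r a := by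
  change _ = h.ph r 1 * ((h.ph r 1)⁻¹ * h.ph r a)
  rw [← mul_assoc, mul_inv_cancel₀ (h.ph_ne r.2 one_ne_zero), one_mul]

theorem sg_mul (r s : R) (a : F) : h.sg (r * s) a = h.sg r (h.sg s a) := by
  have h1 := h.ph_mul r.2 s.2 a
  have h2 := h.ph_mul r.2 s.2 1
  change (h.ph ((r : Y) * (s : Y)) 1)⁻¹ * h.ph ((r : Y) * (s : Y)) a = _
  have hr := h.ph_ne r.2 (one_ne_zero (α := F))
  have hs := h.ph_ne s.2 (one_ne_zero (α := F))
  rw [h1, h2, h.ph_sg s a, h.ph_sg r (h.ph s 1 * h.sg s a), h.ph_sg r (h.ph s 1), map_mul]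
  have h3 : h.sg r (h.ph s 1) ≠ 0 := by
    rw [Ne, map_eq_zero]
    exact hs
  field_simp

theorem sg_bij (r : R) : Function.Bijective (h.sg r) :=
  (Finite.injective_iff_bijective).1 (h.sg r).injective

/-- `R → Aut(F)` -/
noncomputable def ch : R →* (F ≃+* F) where
  toFun r := RingEquiv.ofBijective (h.sg r) (h.sg_bij r)
  map_one' := by
    apply RingEquiv.ext
    intro a
    change (h.ph (1 : Y) 1)⁻¹ * h.ph (1 : Y) a = a
    rw [h.ph_one, h.ph_one, inv_one, one_mul]
  map_mul' r s := by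
    apply RingEquiv.ext
    intro a
    exact h.sg_mul r s a

theorem ch_apply (r : R) (a : F) : h.ch r a = h.sg r a := rfl

theorem ph_pow {r : R} (hr : h.ch r = 1) (n : ℕ) (a : F) : h.ph ((r : Y) ^ n) a = (h.ph r 1) ^ n * a := by
  induction n generalizing a with
  | zero => rw [pow_zero, pow_zero, h.ph_one, one_mul]
  | succ n ih =>
    rw [pow_succ, h.ph_mul (pow_mem r.2 n) r.2, ih, h.ph_sg r a, ← h.ch_apply, hr, pow_succ]
    change h.ph r 1 ^ n * (h.ph r 1 * a) = _
    ring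

theorem ker_ch {r : R} (hr : h.ch r = 1) : (r : Y) ∈ P := by
  obtain ⟨n, hn⟩ := h.R2 r
  have hn' : (r : Y) ^ 2 ^ n = 1 := by
    have := congrArg Subtype.val hn
    simpa using this
  have h1 := h.ph_pow hr (2 ^ n) 1
  rw [hn', h.ph_one, mul_one] at h1
  -- `κ = 1`
  have h2 : h.ph r 1 = 1 := by
    have hchar : CharP F 2 := by
      have h3 : (2 : F) = 0 := by
        have := h.ff (1 : F)
        rw [one_add_one_eq_two] at this
        exact this
      have : CharP F (ringChar F) := ringChar.charP F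
      have h4 : ringChar F ∣ 2 := (ringChar.spec F 2).1 (by exact_mod_cast h3)
      have h5 : ringChar F ≠ 1 := by
        intro h6
        have h7 : ((1 : ℕ) : F) = 0 := (ringChar.spec F 1).2 (by rw [h6])
        rw [Nat.cast_one] at h7
        exact one_ne_zero h7
      have h6 : ringChar F = 2 := by
        rcases (Nat.dvd_prime Nat.prime_two).1 h4 with h7 | h7
        · exact absurd h7 h5
        · exact h7
      rw [← h6]; exact this
    have : Fact (Nat.Prime 2) := ⟨Nat.prime_two⟩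
    have h3 : (h.ph r 1 - 1) ^ 2 ^ n = 0 := by
      rw [sub_pow_char_pow, one_pow, ← h1, sub_self]
    have h4 := pow_eq_zero_iff (n := 2 ^ n) (by positivity) |>.1 h3
    exact sub_eq_zero.1 h4
  apply h.mem_P _ r.2
  intro w hw
  rw [← h.ker _ (add_mem (h.W₁_R _ r.2 w hw) hw), h.add _ (h.W₁_R _ r.2 w hw) w hw, h.ph_eq r.2 hw,
    h.ph_sg r, ← h.ch_apply, hr, h2]
  change 1 * f w + f w = 0
  rw [one_mul, h.ff]

theorem ph_P {x : Y} (hx : x ∈ P) (a : F) : h.ph x a = a := by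
  have h1 := h.P_fix x hx _ (h.sec_mem a)
  have h2 := h.f_eq_of_add (h.W₁_R x (h.PR hx) _ (h.sec_mem a)) (h.sec_mem a) h1
  change f (x • h.sec a) = a
  rw [h2, h.f_sec]

theorem ch_P {r : R} (hr : (r : Y) ∈ P) : h.ch r = 1 := by
  apply RingEquiv.ext
  intro a
  change (h.ph r 1)⁻¹ * h.ph r a = a
  rw [h.ph_P hr, h.ph_P hr, inv_one, one_mul]

theorem ker_eq : h.ch.ker = P.subgroupOf R := by
  ext r
  rw [MonoidHom.mem_ker, mem_subgroupOf]
  exact ⟨fun h1 => h.ker_ch h1, fun h1 => h.ch_P h1⟩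

/-- `|A| ≤ 2 |A ∩ P|` -/
theorem card_le_two {A : Subgroup Y} (hAR : A ≤ R) (hA : ElAb A) : Nat.card A ≤ 2 * Nat.card ↥(A ⊓ P) := by
  classical
  let ψ : A →* (F ≃+* F) := h.ch.comp (Subgroup.inclusion hAR)
  have hcyc : IsCyclic (F ≃+* F) := Cfsg.Agent.LieRecognition.FieldSemilinear.isCyclic_ringAut F
  have : Finite (F ≃+* F) := Finite.of_injective (fun σ : F ≃+* F => (σ : F → F)) DFunLike.coe_injective
  have : Fintype (F ≃+* F) := Fintype.ofFinite _
  have h1 : Nat.card ψ.range ≤ 2 := by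
    have h2 := IsCyclic.card_pow_eq_one_le (α := F ≃+* F) (n := 2) (by norm_num)
    refine le_trans ?_ h2
    rw [← Fintype.card_coe, ← Nat.card_eq_fintype_card]
    apply Nat.card_le_card_of_injective (fun σ : ψ.range =>
      (⟨(σ : F ≃+* F), by
        rw [Finset.mem_filter]
        refine ⟨Finset.mem_univ _, ?_⟩
        obtain ⟨a, ha⟩ := σ.2
        rw [← ha, ← map_pow]
        have h3 : a ^ 2 = 1 := by
          apply Subtype.ext
          change (a : Y) ^ 2 = 1
          rw [pow_two]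
          exact hA.2 a a.2
        rw [h3, map_one]⟩ : {x // x ∈ Finset.univ.filter (fun x : F ≃+* F => x ^ 2 = 1)}))
    intro σ τ he
    apply Subtype.ext
    exact congrArg (fun z : {x // x ∈ Finset.univ.filter (fun x : F ≃+* F => x ^ 2 = 1)} => (z : F ≃+* F)) he
  have h2 := Subgroup.card_mul_index ψ.ker
  rw [Subgroup.index_ker] at h2
  have h3 : Nat.card ψ.ker = Nat.card ↥(A ⊓ P) := by
    apply Nat.card_congr
    exact
      { toFun := fun a => ⟨((a : A) : Y), (a : A).2, h.ker_ch (r := ⟨((a : A) : Y), hAR (a : A).2⟩) a.2⟩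
        invFun := fun a => ⟨⟨(a : Y), a.2.1⟩, h.ch_P (r := ⟨(a : Y), hAR a.2.1⟩) a.2.2⟩
        left_inv := fun a => rfl
        right_inv := fun a => rfl }
  rw [h3] at h2
  rw [← h2, mul_comm]
  exact Nat.mul_le_mul_right _ h1

/-- the fixed points of `a` on the line -/
theorem card_fix_sq {a : Y} (ha : a ∈ R) (haP : a ∉ P) :
    Nat.card {x : F // h.ph a x = x} * Nat.card {x : F // h.ph a x = x} ≤ Nat.card F ∧ 4 ≤ Nat.card F := by
  have h1 : h.ch ⟨a, ha⟩ ≠ 1 := fun h2 => haP (h.ker_ch (r := ⟨a, ha⟩) h2)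
  have h2 := card_fixed_sq F (h.ch ⟨a, ha⟩) h1
  have h3 : Nat.card {x : F // h.ph a x = x} ≤ Nat.card {x : F // h.ch ⟨a, ha⟩ x = x} := by
    by_cases h4 : ∃ x₀ : F, x₀ ≠ 0 ∧ h.ph a x₀ = x₀
    · obtain ⟨x₀, hx0, hx⟩ := h4
      have h5 : h.ph a x₀ = h.ph a 1 * h.ch ⟨a, ha⟩ x₀ := h.ph_sg ⟨a, ha⟩ x₀
      apply Nat.card_le_card_of_injective (fun y : {x : F // h.ph a x = x} =>
        (⟨(y : F) / x₀, by
          have h6 : h.ph a (y : F) = h.ph a 1 * h.ch ⟨a, ha⟩ (y : F) := h.ph_sg ⟨a, ha⟩ (y : F)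
          rw [y.2] at h6
          rw [hx] at h5
          have h7 : h.ph a 1 ≠ 0 := h.ph_ne ha one_ne_zero
          have h8 : h.ch ⟨a, ha⟩ x₀ ≠ 0 := by
            intro h9
            rw [h9, mul_zero] at h5
            exact hx0 h5
          rw [map_div₀]
          conv_rhs => rw [h6, h5]
          rw [mul_div_mul_left _ _ h7]⟩ : {x : F // h.ch ⟨a, ha⟩ x = x}))
      rintro ⟨y, hy⟩ ⟨z, hz⟩ he
      have h9 : y / x₀ = z / x₀ := congrArg Subtype.val he
      apply Subtype.ext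
      exact (div_left_inj' hx0).1 h9
    · push Not at h4
      have h5 : Nat.card {x : F // h.ph a x = x} ≤ 1 := by
        rw [Finite.card_le_one_iff_subsingleton]
        refine ⟨?_⟩
        rintro ⟨y, hy⟩ ⟨z, hz⟩
        have hy0 : y = 0 := by
          by_contra hne
          exact h4 y hne hy
        have hz0 : z = 0 := by
          by_contra hne
          exact h4 z hne hz
        apply Subtype.ext
        change y = z
        rw [hy0, hz0]
      have h6 : 0 < Nat.card {x : F // h.ch ⟨a, ha⟩ x = x} := by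
        have : Nonempty {x : F // h.ch ⟨a, ha⟩ x = x} := ⟨⟨0, map_zero _⟩⟩
        exact Nat.card_pos
      omega
  have h4 : 2 ≤ Nat.card {x : F // h.ch ⟨a, ha⟩ x = x} := by
    have h5 : Nat.card Bool ≤ Nat.card {x : F // h.ch ⟨a, ha⟩ x = x} := by
      apply Nat.card_le_card_of_injective (fun b : Bool =>
        if b then (⟨1, map_one _⟩ : {x : F // h.ch ⟨a, ha⟩ x = x}) else ⟨0, map_zero _⟩)
      intro b b' he
      cases b <;> cases b'
      · rfl
      · exfalso
        have h6 : (0 : F) = 1 := congrArg Subtype.val he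
        exact zero_ne_one h6
      · exfalso
        have h6 : (1 : F) = 0 := congrArg Subtype.val he
        exact one_ne_zero h6
      · rfl
    have h6 : Nat.card Bool = 2 := by rw [Nat.card_eq_fintype_card]; rfl
    omega
  constructor
  · exact (Nat.mul_le_mul h3 h3).trans h2
  · nlinarith

/-- `|W||D| ≤ |{w ∈ W : [w, a] ∈ D}|²` -/
theorem card_Kr {a : Y} (ha : a ∈ R) (haa : a * a = 1) :
    Nat.card W * Nat.card D ≤ Nat.card ↥(D.comap (bk a) ⊓ W) * Nat.card ↥(D.comap (bk a) ⊓ W) := by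
  let θ : W →+ V := (bk a).comp W.subtype
  have h1 := AddSubgroup.card_mul_index (D.comap θ)
  rw [AddSubgroup.index_comap] at h1
  have h2 : Nat.card ↥(D.comap θ) = Nat.card ↥(D.comap (bk a) ⊓ W) := by
    apply Nat.card_congr
    exact
      { toFun := fun w => ⟨((w : W) : V), w.2, (w : W).2⟩
        invFun := fun w => ⟨⟨(w : V), w.2.2⟩, w.2.1⟩
        left_inv := fun w => rfl
        right_inv := fun w => rfl }
  rw [h2] at h1
  -- `I₁ ⊔ D ≤ Kr`
  have h3 : θ.range ⊔ D ≤ D.comap (bk a) ⊓ W := by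
    refine sup_le ?_ ?_
    · rintro _ ⟨w, rfl⟩
      change bk a (w : V) ∈ D.comap (bk a) ⊓ W
      refine ⟨?_, ?_⟩
      · change a • (a • (w : V) + (w : V)) + (a • (w : V) + (w : V)) ∈ D
        rw [smul_add, ← mul_smul, haa, one_smul]
        have e : (w : V) + a • (w : V) + (a • (w : V) + (w : V)) = (w : V) + (w : V) + (a • (w : V) + a • (w : V)) := by
          abel
        rw [e, h.two, h.two, add_zero]
        exact zero_mem _
      · exact add_mem (h.W_R a ha w w.2) w.2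
    · intro d hd
      exact ⟨add_mem (h.D_R a ha d hd) hd, h.W₁W (h.DW hd)⟩
  have h4 := Nat.card_le_card_of_injective _ (AddSubgroup.inclusion_injective h3)
  have h5 := card_sup_as θ.range D
  have h6 := AddSubgroup.relIndex_mul_relIndex ⊥ (D ⊓ θ.range) θ.range bot_le inf_le_right
  rw [AddSubgroup.relIndex_bot_left, AddSubgroup.relIndex_bot_left, AddSubgroup.inf_relIndex_right] at h6
  rw [inf_comm] at h5
  have h7 : 0 < Nat.card ↥(D ⊓ θ.range) := Nat.card_pos
  have h8 : Nat.card ↥(θ.range ⊔ D) = D.relIndex θ.range * Nat.card D := by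
    apply Nat.eq_of_mul_eq_mul_right h7
    rw [h5, ← h6]; ring
  rw [← h1, mul_assoc]
  apply Nat.mul_le_mul_left
  rw [← h8]
  exact h4

theorem card_Kr_W₁ {a : Y} (ha : a ∈ R) :
    Nat.card ↥(D.comap (bk a) ⊓ W₁) ≤ Nat.card {x : F // h.ph a x = x} * Nat.card D := by
  let θ : ↥(D.comap (bk a) ⊓ W₁) →+ F :=
    { toFun := fun w => f (w : V)
      map_zero' := h.f_zero
      map_add' := fun v w => h.add _ v.2.2 _ w.2.2 }
  have h1 := AddSubgroup.card_mul_index θ.ker
  rw [AddSubgroup.index_ker] at h1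
  rw [← h1, mul_comm]
  apply Nat.mul_le_mul
  · apply Nat.card_le_card_of_injective (fun x : θ.range => (⟨(x : F), by
      obtain ⟨w, hw⟩ := x.2
      rw [← hw]
      change h.ph a (f (w : V)) = f (w : V)
      rw [← h.ph_eq ha w.2.2]
      exact h.f_eq_of_add (h.W₁_R a ha _ w.2.2) w.2.2 w.2.1⟩ : {x : F // h.ph a x = x}))
    intro x y he
    apply Subtype.ext
    exact congrArg (fun z : {x : F // h.ph a x = x} => (z : F)) he
  · apply Nat.card_le_card_of_injective (fun x : θ.ker => (⟨((x : ↥(D.comap (bk a) ⊓ W₁)) : V), by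
      rw [← h.ker _ (x : ↥(D.comap (bk a) ⊓ W₁)).2.2]
      exact x.2⟩ : D))
    intro x y he
    apply Subtype.ext
    apply Subtype.ext
    exact congrArg (fun z : D => (z : V)) he

theorem exists_Kr {a : Y} (ha : a ∈ R) (haa : a * a = 1) (haP : a ∉ P) :
    ∃ x ∈ W, x ∉ W₁ ∧ a • x + x ∈ D := by
  by_contra hcon
  push Not at hcon
  have h1 : D.comap (bk a) ⊓ W ≤ D.comap (bk a) ⊓ W₁ := by
    rintro w ⟨hw1, hw2⟩
    refine ⟨hw1, ?_⟩
    by_contra h2
    exact hcon w hw2 h2 hw1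
  have h2 := Nat.card_le_card_of_injective _ (AddSubgroup.inclusion_injective h1)
  have h3 := h.card_Kr ha haa
  have h4 := h.card_Kr_W₁ ha
  obtain ⟨h5, h6⟩ := h.card_fix_sq ha haP
  have hD : 0 < Nat.card D := Nat.card_pos
  set n := Nat.card {x : F // h.ph a x = x} with hn
  set d := Nat.card D with hd
  set q := Nat.card F with hq
  rw [h.card_W, h.card_W₁] at h3
  have h7 : q * (q * d) * d ≤ n * d * (n * d) :=
    h3.trans (Nat.mul_le_mul (h2.trans h4) (h2.trans h4))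
  have h8 : q * q * (d * d) ≤ q * (d * d) := by
    calc q * q * (d * d) = q * (q * d) * d := by ring
      _ ≤ n * d * (n * d) := h7
      _ = n * n * (d * d) := by ring
      _ ≤ q * (d * d) := Nat.mul_le_mul_right _ h5
  have h9 : q * q ≤ q := Nat.le_of_mul_le_mul_right h8 (Nat.mul_pos hD hD)
  nlinarith

/-- `|A ∩ P| ≤ n |A ∩ Q|` -/
theorem card_inf_P {A : Subgroup Y} (hAR : A ≤ R) (hA : ElAb A) {a : Y} (ha : a ∈ A) (haP : a ∉ P) :
    Nat.card ↥(A ⊓ P) ≤ Nat.card {x : F // h.ph a x = x} * Nat.card ↥(A ⊓ Q) := by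
  obtain ⟨x, hx, hx1, hxa⟩ := h.exists_Kr (hAR ha) (hA.2 a ha) haP
  let θ : ↥(A ⊓ P) →* Multiplicative F :=
    { toFun := fun p => Multiplicative.ofAdd (f ((p : Y) • x + x))
      map_one' := by
        change Multiplicative.ofAdd (f ((1 : Y) • x + x)) = 1
        rw [one_smul, h.two, h.f_zero]
        rfl
      map_mul' := fun p p' => by
        change Multiplicative.ofAdd (f (((p : Y) * (p' : Y)) • x + x)) = _
        rw [← ofAdd_add]
        congr 1
        have hp := h.P_comm _ p.2.2 x hx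
        have hp' := h.P_comm _ p'.2.2 x hx
        rw [← h.add _ hp _ hp']
        apply h.f_eq_of_add (h.P_comm _ (mul_mem p.2.2 p'.2.2) x hx) (add_mem hp hp')
        have e : ((p : Y) * (p' : Y)) • x + x + ((p : Y) • x + x + ((p' : Y) • x + x)) =
            (p : Y) • ((p' : Y) • x + x) + ((p' : Y) • x + x) := by
          rw [smul_add, ← mul_smul]
          have : ((p : Y) * (p' : Y)) • x + x + ((p : Y) • x + x + ((p' : Y) • x + x)) =
            ((p : Y) * (p' : Y)) • x + (p : Y) • x + ((p' : Y) • x + x) + (x + x) := by abel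
          rw [this, h.two, add_zero]
        rw [e]
        exact h.P_fix _ p.2.2 _ hp' }
  have h1 := Subgroup.card_mul_index θ.ker
  rw [Subgroup.index_ker] at h1
  rw [← h1, mul_comm]
  apply Nat.mul_le_mul
  · apply Nat.card_le_card_of_injective (fun z : θ.range => (⟨Multiplicative.toAdd (z : Multiplicative F), by
      obtain ⟨p, hp⟩ := z.2
      rw [← hp]
      change h.ph a (f ((p : Y) • x + x)) = f ((p : Y) • x + x)
      have hp' := h.P_comm _ p.2.2 x hx
      rw [← h.ph_eq (hAR ha) hp']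
      apply h.f_eq_of_add (h.W₁_R a (hAR ha) _ hp') hp'
      have e : a • ((p : Y) • x + x) + ((p : Y) • x + x) = (p : Y) • (a • x + x) + (a • x + x) := by
        rw [smul_add, smul_add, ← mul_smul, ← mul_smul, hA.1 a ha p p.2.1]
        abel
      rw [e]
      exact add_mem (h.D_R _ (hAR p.2.1) _ hxa) hxa⟩ : {x : F // h.ph a x = x}))
    intro z z' he
    apply Subtype.ext
    exact Multiplicative.toAdd.injective (congrArg (fun z : {x : F // h.ph a x = x} => (z : F)) he)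
  · apply Nat.card_le_card_of_injective (fun z : θ.ker => (⟨((z : ↥(A ⊓ P)) : Y), (z : ↥(A ⊓ P)).2.1, by
      apply h.free _ (z : ↥(A ⊓ P)).2.2 x hx hx1
      rw [← h.ker _ (h.P_comm _ (z : ↥(A ⊓ P)).2.2 x hx)]
      have h2 : θ (z : ↥(A ⊓ P)) = 1 := z.2
      exact Multiplicative.ofAdd.injective h2⟩ : ↥(A ⊓ Q)))
    intro z z' he
    apply Subtype.ext
    apply Subtype.ext
    exact congrArg (fun w : ↥(A ⊓ Q) => (w : Y)) he

theorem card_P_le {A : Subgroup Y} (hAP : A ≤ P) : Nat.card A ≤ Nat.card F * Nat.card ↥(A ⊓ Q) :=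
  card_le_of_index h.QP hAP h.card_P

theorem sq_le {A : Subgroup Y} (hAR : A ≤ R) (hA : ElAb A) (hAP : ¬ A ≤ P) :
    Nat.card A * Nat.card A ≤ 4 * Nat.card F * (Nat.card ↥(A ⊓ Q) * Nat.card ↥(A ⊓ Q)) ∧ 4 ≤ Nat.card F := by
  obtain ⟨a, ha, haP⟩ := SetLike.not_le_iff_exists.1 hAP
  have h1 := h.card_le_two hAR hA
  have h2 := h.card_inf_P hAR hA ha haP
  obtain ⟨h3, h4⟩ := h.card_fix_sq (hAR ha) haP
  refine ⟨?_, h4⟩
  set n := Nat.card {x : F // h.ph a x = x} with hn
  have h5 : Nat.card A ≤ 2 * (n * Nat.card ↥(A ⊓ Q)) := h1.trans (Nat.mul_le_mul_left _ h2)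
  calc Nat.card A * Nat.card A ≤ 2 * (n * Nat.card ↥(A ⊓ Q)) * (2 * (n * Nat.card ↥(A ⊓ Q))) := Nat.mul_le_mul h5 h5
    _ = 4 * (n * n) * (Nat.card ↥(A ⊓ Q) * Nat.card ↥(A ⊓ Q)) := by ring
    _ ≤ 4 * Nat.card F * (Nat.card ↥(A ⊓ Q) * Nat.card ↥(A ⊓ Q)) :=
      Nat.mul_le_mul_right _ (Nat.mul_le_mul_left _ h3)

/-- **`|A| ≤ c |A ∩ Q|`** -/
theorem ea {A : Subgroup Y} (hAR : A ≤ R) (hA : ElAb A) : Nat.card A ≤ Nat.card F * Nat.card ↥(A ⊓ Q) := by
  by_cases hAP : A ≤ P
  · exact h.card_P_le hAP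
  · obtain ⟨h1, h2⟩ := h.sq_le hAR hA hAP
    apply Nat.mul_self_le_mul_self_iff.1
    calc Nat.card A * Nat.card A ≤ 4 * Nat.card F * (Nat.card ↥(A ⊓ Q) * Nat.card ↥(A ⊓ Q)) := h1
      _ ≤ Nat.card F * Nat.card F * (Nat.card ↥(A ⊓ Q) * Nat.card ↥(A ⊓ Q)) :=
        Nat.mul_le_mul_right _ (Nat.mul_le_mul_right _ h2)
      _ = _ := by ring

/-- the exceptional case -/
theorem fld {A : Subgroup Y} (hAR : A ≤ R) (hA : ElAb A) (hAP : ¬ A ≤ P)
    (hc : Nat.card A = Nat.card F * Nat.card ↥(A ⊓ Q)) :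
    Nat.card F = 4 ∧ ¬ A ⊓ P ≤ Q ∧ Nat.card R ≤ 2 * Nat.card P := by
  obtain ⟨h1, h2⟩ := h.sq_le hAR hA hAP
  have hm : 0 < Nat.card ↥(A ⊓ Q) := Nat.card_pos
  have h3 : Nat.card F = 4 := by
    apply le_antisymm _ h2
    rw [hc] at h1
    have h4 : Nat.card F * Nat.card F * (Nat.card ↥(A ⊓ Q) * Nat.card ↥(A ⊓ Q)) ≤
        4 * Nat.card F * (Nat.card ↥(A ⊓ Q) * Nat.card ↥(A ⊓ Q)) := by
      calc _ = Nat.card F * Nat.card ↥(A ⊓ Q) * (Nat.card F * Nat.card ↥(A ⊓ Q)) := by ring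
        _ ≤ _ := h1
    have h5 := Nat.le_of_mul_le_mul_right h4 (Nat.mul_pos hm hm)
    exact Nat.le_of_mul_le_mul_right h5 (by omega)
  refine ⟨h3, fun h4 => ?_, ?_⟩
  · have h5 : A ⊓ P ≤ A ⊓ Q := le_inf inf_le_left h4
    have h6 := Nat.card_le_card_of_injective _ (Subgroup.inclusion_injective h5)
    have h7 := h.card_le_two hAR hA
    rw [hc, h3] at h7
    omega
  · have h4 := Subgroup.card_mul_index h.ch.ker
    rw [Subgroup.index_ker, h.ker_eq] at h4
    have h5 : Nat.card ↥(P.subgroupOf R) = Nat.card P := Nat.card_congr (subgroupOfEquivOfLe h.PR).toEquiv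
    rw [h5] at h4
    rw [← h4, mul_comm]
    apply Nat.mul_le_mul_right
    have : Finite (F ≃+* F) := Finite.of_injective (fun σ : F ≃+* F => (σ : F → F)) DFunLike.coe_injective
    exact (Nat.card_le_card_of_injective _ Subtype.val_injective).trans (card_aut_four F h3)

end SemiL

end Cfsg.Agent.Omega.NO1.TH
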