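import Cfsg.Agent.Omega.NO1.TH.K.Def
import Cfsg.Agent.Omega.NO1.TH.SemiLin

/-!
# N1, the amalgam: `KOne` from `KNat` with `k = 1` (field automorphisms allowed)
-/

set_option autoImplicit false
set_option linter.unusedSectionVars false
set_option linter.unusedVariables false

namespace Cfsg.Agent.Omega.NO1.TH

open Subgroup Cfsg.Agent.Omega.NO1.AB Cfsg.Agent.Lib.SL2Mat
open Cfsg.Agent.Omega.NatPair (ap)
open Cfsg.Agent.Omega.NO1.TH.K (Acts KNat)
open scoped Pointwise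

universe u

variable {Y : Type u} [Group Y] {V : Type u} [AddCommGroup V] [DistribMulAction Y V]

/-- The situation. -/
structure Nt (V : Type u) [AddCommGroup V] [DistribMulAction Y V] (U : Set (Subgroup Y)) (T : Sylow 2 Y)
    (M H R P : Subgroup Y) (F : Type) [Field F] (co : V → Fin 1 → Fin 2 → F) (t : Y) (D W₁ : AddSubgroup V) :
    Prop where
  amb : Amb V U T M
  a : Amal U T M H R t
  we : WE V U H R
  K : KNat V H R F 1 co
  mem_D : ∀ w, w ∈ D ↔ w ∈ WW V H R ∧ co w = 0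
  mem_W₁ : ∀ w, w ∈ W₁ ↔ w ∈ WW V H R ∧ co w 0 1 = 0
  mem_P : ∀ x, x ∈ P ↔ x ∈ R ∧ ∀ w ∈ W₁, x • w + w ∈ D

theorem exists_Nt {U : Set (Subgroup Y)} {T : Sylow 2 Y} {M H R : Subgroup Y} {F : Type} [Field F]
    {co : V → Fin 1 → Fin 2 → F} {t : Y} (amb : Amb V U T M) (a : Amal U T M H R t) (we : WE V U H R)
    (K : KNat V H R F 1 co) : ∃ (P : Subgroup Y) (D W₁ : AddSubgroup V), Nt V U T M H R P F co t D W₁ := by
  have h0 : co 0 = 0 := by
    have h1 := K.add 0 (zero_mem _) 0 (zero_mem _)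
    rw [add_zero] at h1
    exact left_eq_add.1 h1
  have hneg : ∀ v : V, -v = v := fun v => neg_eq_of_add_eq_zero_left (amb.two v)
  let D : AddSubgroup V :=
    { carrier := {w | w ∈ WW V H R ∧ co w = 0}
      zero_mem' := ⟨zero_mem _, h0⟩
      add_mem' := fun {v w} hv hw => ⟨add_mem hv.1 hw.1, by rw [K.add v hv.1 w hw.1, hv.2, hw.2, add_zero]⟩
      neg_mem' := fun {v} hv => by
        change -v ∈ WW V H R ∧ co (-v) = 0
        rw [hneg]; exact hv }
  let W₁ : AddSubgroup V :=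
    { carrier := {w | w ∈ WW V H R ∧ co w 0 1 = 0}
      zero_mem' := ⟨zero_mem _, by rw [h0]; rfl⟩
      add_mem' := fun {v w} hv hw => ⟨add_mem hv.1 hw.1, by
        rw [K.add v hv.1 w hw.1, Pi.add_apply, Pi.add_apply, hv.2, hw.2, add_zero]⟩
      neg_mem' := fun {v} hv => by
        change -v ∈ WW V H R ∧ co (-v) 0 1 = 0
        rw [hneg]; exact hv }
  have hD : ∀ x ∈ H, ∀ w ∈ D, x • w ∈ D := by
    rintro x hx w ⟨hw, hw0⟩
    refine ⟨smul_mem_WW hx hw, ?_⟩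
    obtain ⟨σ, hσ⟩ := K.perm x hx
    funext i
    have h1 := (hσ w hw 0).2 (by rw [hw0]; rfl)
    rw [Subsingleton.elim i (σ 0)]
    exact h1
  have hW : ∀ x ∈ R, ∀ w ∈ W₁, x • w ∈ W₁ := by
    rintro x hx w ⟨hw, hw0⟩
    refine ⟨smul_mem_WW (a.RH hx) hw, ?_⟩
    obtain ⟨σ, hσ⟩ := K.line x hx
    have h1 := (hσ w hw 0).2 hw0
    rw [Subsingleton.elim (σ 0) 0] at h1
    exact h1
  let P : Subgroup Y :=
    { carrier := {x | x ∈ R ∧ ∀ w ∈ W₁, x • w + w ∈ D}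
      one_mem' := ⟨R.one_mem, fun w _ => by rw [one_smul, amb.two]; exact zero_mem _⟩
      mul_mem' := fun {x y} hx hy => ⟨R.mul_mem hx.1 hy.1, fun w hw => by
        have e : (x * y) • w + w = (x • (y • w) + y • w) + (y • w + w) := by
          rw [mul_smul]
          have : x • y • w + y • w + (y • w + w) = x • y • w + (y • w + y • w) + w := by abel
          rw [this, amb.two, add_zero]
        rw [e]
        exact add_mem (hx.2 _ (hW y hy.1 w hw)) (hy.2 w hw)⟩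
      inv_mem' := fun {x} hx => ⟨R.inv_mem hx.1, fun w hw => by
        have e : x⁻¹ • w + w = x⁻¹ • (x • w + w) := by
          rw [smul_add, inv_smul_smul, add_comm]
        rw [e]
        exact hD _ (H.inv_mem (a.RH hx.1)) _ (hx.2 w hw)⟩ }
  exact ⟨P, D, W₁, amb, a, we, K, fun _ => Iff.rfl, fun _ => Iff.rfl, fun _ => Iff.rfl⟩

namespace Nt

variable [Finite Y] [Finite V] {U : Set (Subgroup Y)} {T : Sylow 2 Y} {M H R P : Subgroup Y} {F : Type} [Field F]
  [Finite F] {co : V → Fin 1 → Fin 2 → F} {t : Y} {D W₁ : AddSubgroup V}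
  (n : Nt V U T M H R P F co t D W₁)
include n

theorem co_zero : co 0 = 0 := by
  have h1 := n.K.add 0 (zero_mem _) 0 (zero_mem _)
  rw [add_zero] at h1
  exact left_eq_add.1 h1

theorem ff (x : F) : x + x = 0 := by
  obtain ⟨v, hv, h1⟩ := n.K.surj (fun _ _ => x)
  have h2 := n.K.add v hv v hv
  rw [n.amb.two, n.co_zero, h1] at h2
  exact (congrFun (congrFun h2 0) 0).symm

theorem co_add_eq {v w : V} (hv : v ∈ WW V H R) (hw : w ∈ WW V H R) : co (v + w) = 0 ↔ co v = co w := by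
  rw [n.K.add v hv w hw]
  constructor
  · intro h
    funext i j
    have h1 : co v i j + co w i j = 0 := congrFun (congrFun h i) j
    have h2 := eq_neg_of_add_eq_zero_left h1
    rw [h2]
    exact neg_eq_of_add_eq_zero_left (n.ff _)
  · intro h
    rw [h]
    funext i j
    exact n.ff _

theorem add_mem_D {v w : V} (hv : v ∈ WW V H R) (hw : w ∈ WW V H R) : v + w ∈ D ↔ co v = co w := by
  rw [n.mem_D, n.co_add_eq hv hw]
  exact ⟨fun h => h.2, fun h => ⟨add_mem hv hw, h⟩⟩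

omit [Finite Y] [Finite V] [Finite F] n in
theorem co_ext {x y : Fin 1 → Fin 2 → F} (h0 : x 0 0 = y 0 0) (h1 : x 0 1 = y 0 1) : x = y := by
  funext i j
  have hi : i = 0 := Subsingleton.elim _ _
  subst hi
  fin_cases j
  · exact h0
  · exact h1

theorem D_H {x : Y} (hx : x ∈ H) {w : V} (hw : w ∈ D) : x • w ∈ D := by
  rw [n.mem_D] at hw ⊢
  refine ⟨smul_mem_WW hx hw.1, ?_⟩
  obtain ⟨σ, hσ⟩ := n.K.perm x hx
  funext i
  have h1 := (hσ w hw.1 0).2 (by rw [hw.2]; rfl)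
  rw [Subsingleton.elim i (σ 0)]
  exact h1

theorem W₁_R {x : Y} (hx : x ∈ R) {w : V} (hw : w ∈ W₁) : x • w ∈ W₁ := by
  rw [n.mem_W₁] at hw ⊢
  refine ⟨smul_mem_WW (n.a.RH hx) hw.1, ?_⟩
  obtain ⟨σ, hσ⟩ := n.K.line x hx
  have h1 := (hσ w hw.1 0).2 hw.2
  rwa [Subsingleton.elim (σ 0) 0] at h1

theorem DW : D ≤ W₁ := fun w hw => by
  rw [n.mem_D] at hw
  rw [n.mem_W₁, hw.2]
  exact ⟨hw.1, rfl⟩

theorem W₁W : W₁ ≤ WW V H R := fun w hw => ((n.mem_W₁ w).1 hw).1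

theorem mem_D_iff {w : V} (hw : w ∈ W₁) : w ∈ D ↔ co w 0 0 = 0 := by
  rw [n.mem_W₁] at hw
  rw [n.mem_D]
  constructor
  · intro h; rw [h.2]; rfl
  · intro h; exact ⟨hw.1, co_ext h hw.2⟩

/-- a vector with given coordinates -/
theorem exists_co (x y : F) : ∃ v ∈ WW V H R, co v 0 0 = x ∧ co v 0 1 = y := by
  obtain ⟨v, hv, h1⟩ := n.K.surj (fun _ => ![x, y])
  exact ⟨v, hv, by rw [h1]; rfl, by rw [h1]; rfl⟩

/-- elements trivial in the coordinates are in `Q` -/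
theorem mem_Q {x : Y} (hx : x ∈ R) (h1 : ∀ w ∈ WW V H R, co (x • w) = co w) : x ∈ QQ H R :=
  n.K.triv x hx fun w hw => (n.co_add_eq (smul_mem_WW (n.a.RH hx) hw) hw).2 (h1 w hw)

end Nt

/-- `x` acts as `up b` on the coordinates -/
def CUp (V : Type u) [AddCommGroup V] [DistribMulAction Y V] (H R : Subgroup Y) {F : Type} [Field F]
    (co : V → Fin 1 → Fin 2 → F) (x : Y) (b : F) : Prop :=
  ∀ w ∈ WW V H R, co (x • w) 0 0 = co w 0 0 + b * co w 0 1 ∧ co (x • w) 0 1 = co w 0 1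

theorem CUp.of_acts {H R : Subgroup Y} {F : Type} [Field F] {co : V → Fin 1 → Fin 2 → F} {x : Y} {b : F}
    (h : Acts V H R co x fun _ => up b) : CUp V H R co x b := by
  intro w hw
  have h1 := h.1 w hw 0
  rw [h1]
  constructor
  · rw [NatPair.ap_zero', up_00, up_01, one_mul]
  · rw [NatPair.ap_one', up_10, up_11, zero_mul, zero_add, one_mul]

namespace Nt

variable [Finite Y] [Finite V] {U : Set (Subgroup Y)} {T : Sylow 2 Y} {M H R P : Subgroup Y} {F : Type} [Field F]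
  [Finite F] {co : V → Fin 1 → Fin 2 → F} {t : Y} {D W₁ : AddSubgroup V}
  (n : Nt V U T M H R P F co t D W₁)
include n

theorem up_Q {x : Y} (hx : x ∈ R) (h1 : CUp V H R co x 0) : x ∈ QQ H R := by
  apply n.mem_Q hx
  intro w hw
  obtain ⟨h2, h3⟩ := h1 w hw
  rw [zero_mul, add_zero] at h2
  exact co_ext h2 h3

theorem up_P {x : Y} (hx : x ∈ R) {b : F} (h1 : CUp V H R co x b) : x ∈ P := by
  rw [n.mem_P]
  refine ⟨hx, fun w hw => ?_⟩
  rw [n.mem_W₁] at hw
  rw [n.add_mem_D (smul_mem_WW (n.a.RH hx) hw.1) hw.1]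
  obtain ⟨h2, h3⟩ := h1 w hw.1
  rw [hw.2, mul_zero, add_zero] at h2
  exact co_ext h2 h3

theorem up_mul {x y : Y} (hx : x ∈ H) (hy : y ∈ H) {b c : F} (h1 : CUp V H R co x b) (h2 : CUp V H R co y c) :
    CUp V H R co (x * y) (b + c) := by
  intro w hw
  obtain ⟨h3, h4⟩ := h2 w hw
  obtain ⟨h5, h6⟩ := h1 (y • w) (smul_mem_WW hy hw)
  rw [mul_smul, h5, h6, h3, h4]
  exact ⟨by ring, rfl⟩

theorem up_inv {x : Y} (hx : x ∈ H) {b : F} (h1 : CUp V H R co x b) : CUp V H R co x⁻¹ b := by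
  intro w hw
  obtain ⟨h3, h4⟩ := h1 (x⁻¹ • w) (smul_mem_WW (H.inv_mem hx) hw)
  rw [smul_inv_smul] at h3 h4
  refine ⟨?_, h4.symm⟩
  rw [h3, h4, add_assoc, n.ff, add_zero]

/-- offenders act as the full root group -/
theorem off1 {A : Subgroup Y} (hAR : A ≤ R) (hA : ElAb A) (hAQ : ¬ A ≤ QQ H R)
    (hle : Nat.card ↥(A ⊓ QQ H R) * Nat.card ↥(WW V H R) ≤ Nat.card A * Nat.card ↥(fx V A ⊓ WW V H R)) :
    (∀ x ∈ A, ∃ b, CUp V H R co x b) ∧ ∀ b, ∃ x ∈ A, CUp V H R co x b := by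
  obtain ⟨I, h1, h2⟩ := n.K.off A hAR hA hAQ hle
  have h0 : (0 : Fin 1) ∈ I := by
    by_contra h3
    apply hAQ
    intro x hx
    obtain ⟨b, hb, hbx⟩ := h1 x hx
    have hb0 : b 0 = 0 := hb 0 h3
    have e : (fun i => up (b i)) = fun _ : Fin 1 => up (0 : F) := by
      funext i
      rw [Subsingleton.elim i 0, hb0]
    rw [e] at hbx
    exact n.up_Q (hAR hx) (CUp.of_acts hbx)
  refine ⟨fun x hx => ?_, fun b => ?_⟩
  · obtain ⟨b, hb, hbx⟩ := h1 x hx
    have e : (fun i => up (b i)) = fun _ : Fin 1 => up (b 0) := by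
      funext i
      rw [Subsingleton.elim i 0]
    rw [e] at hbx
    exact ⟨b 0, CUp.of_acts hbx⟩
  · obtain ⟨x, hx, hbx⟩ := h2 (fun _ => b) (fun i hi => absurd (by rwa [Subsingleton.elim i 0]) hi)
    exact ⟨x, hx, CUp.of_acts hbx⟩

theorem card_up {A : Subgroup Y} (hAR : A ≤ R) (h1 : ∀ x ∈ A, ∃ b, CUp V H R co x b)
    (h2 : ∀ b, ∃ x ∈ A, CUp V H R co x b) : Nat.card A = Nat.card F * Nat.card ↥(A ⊓ QQ H R) := by
  obtain ⟨v, hv, hv0, hv1⟩ := n.exists_co 0 1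
  have key : ∀ {x : Y} {b : F}, CUp V H R co x b → co (x • v) 0 0 = b := by
    intro x b hx
    rw [(hx v hv).1, hv0, hv1, zero_add, mul_one]
  let θ : A →* Multiplicative F :=
    { toFun := fun x => Multiplicative.ofAdd (co ((x : Y) • v) 0 0)
      map_one' := by
        change Multiplicative.ofAdd (co ((1 : Y) • v) 0 0) = 1
        rw [one_smul, hv0]; rfl
      map_mul' := fun x y => by
        change Multiplicative.ofAdd (co (((x : Y) * (y : Y)) • v) 0 0) = _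
        obtain ⟨b, hb⟩ := h1 x x.2
        obtain ⟨c, hc⟩ := h1 y y.2
        rw [← ofAdd_add, key hb, key hc,
          key (n.up_mul (n.a.RH (hAR x.2)) (n.a.RH (hAR y.2)) hb hc)] }
  have hs : Function.Surjective θ := by
    intro b
    obtain ⟨x, hx, hb⟩ := h2 (Multiplicative.toAdd b)
    refine ⟨⟨x, hx⟩, ?_⟩
    change Multiplicative.ofAdd (co (x • v) 0 0) = b
    rw [key hb]
    rfl
  have h3 := Subgroup.card_mul_index θ.ker
  rw [Subgroup.index_ker, MonoidHom.range_eq_top.2 hs, Subgroup.card_top] at h3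
  have h4 : Nat.card θ.ker = Nat.card ↥(A ⊓ QQ H R) := by
    apply Nat.card_congr
    exact
      { toFun := fun x => ⟨((x : A) : Y), (x : A).2, by
          obtain ⟨b, hb⟩ := h1 _ (x : A).2
          have h5 : Multiplicative.ofAdd (co (((x : A) : Y) • v) 0 0) = 1 := x.2
          have h6 : b = 0 := by
            rw [key hb] at h5
            exact Multiplicative.ofAdd.injective h5
          rw [h6] at hb
          exact n.up_Q (hAR (x : A).2) hb⟩
        invFun := fun x => ⟨⟨(x : Y), x.2.1⟩, by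
          change Multiplicative.ofAdd (co ((x : Y) • v) 0 0) = 1
          rw [Amal.QQ_fix n.a n.amb x.2.2 hv, hv0]; rfl⟩
        left_inv := fun x => rfl
        right_inv := fun x => rfl }
  rw [← h3, h4, mul_comm]
  rfl

theorem card_W : Nat.card ↥(WW V H R) = Nat.card F * Nat.card W₁ := by
  let θ : WW V H R →+ F :=
    { toFun := fun w => co (w : V) 0 1
      map_zero' := by
        change co (0 : V) 0 1 = 0
        rw [n.co_zero]; rfl
      map_add' := fun v w => by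
        change co ((v : V) + (w : V)) 0 1 = _
        rw [n.K.add _ v.2 _ w.2]; rfl }
  have hs : Function.Surjective θ := by
    intro y
    obtain ⟨v, hv, -, h1⟩ := n.exists_co 0 y
    exact ⟨⟨v, hv⟩, h1⟩
  have h3 := AddSubgroup.card_mul_index θ.ker
  rw [AddSubgroup.index_ker, AddMonoidHom.range_eq_top.2 hs, AddSubgroup.card_top] at h3
  have h4 : Nat.card θ.ker = Nat.card W₁ := by
    apply Nat.card_congr
    exact
      { toFun := fun x => ⟨((x : WW V H R) : V), (n.mem_W₁ _).2 ⟨(x : WW V H R).2, x.2⟩⟩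
        invFun := fun x => ⟨⟨(x : V), n.W₁W x.2⟩, ((n.mem_W₁ _).1 x.2).2⟩
        left_inv := fun x => rfl
        right_inv := fun x => rfl }
  rw [← h3, h4, mul_comm]

theorem card_W₁ : Nat.card W₁ = Nat.card F * Nat.card D := by
  let θ : W₁ →+ F :=
    { toFun := fun w => co (w : V) 0 0
      map_zero' := by
        change co (0 : V) 0 0 = 0
        rw [n.co_zero]; rfl
      map_add' := fun v w => by
        change co ((v : V) + (w : V)) 0 0 = _
        rw [n.K.add _ (n.W₁W v.2) _ (n.W₁W w.2)]; rfl }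
  have hs : Function.Surjective θ := by
    intro y
    obtain ⟨v, hv, h0, h1⟩ := n.exists_co y 0
    exact ⟨⟨v, (n.mem_W₁ _).2 ⟨hv, h1⟩⟩, h0⟩
  have h3 := AddSubgroup.card_mul_index θ.ker
  rw [AddSubgroup.index_ker, AddMonoidHom.range_eq_top.2 hs, AddSubgroup.card_top] at h3
  have h4 : Nat.card θ.ker = Nat.card D := by
    apply Nat.card_congr
    exact
      { toFun := fun x => ⟨((x : W₁) : V), (n.mem_D_iff (x : W₁).2).2 x.2⟩
        invFun := fun x => ⟨⟨(x : V), n.DW x.2⟩, (n.mem_D_iff (n.DW x.2)).1 x.2⟩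
        left_inv := fun x => rfl
        right_inv := fun x => rfl }
  rw [← h3, h4, mul_comm]

/-! ### The root group -/

/-- the coordinates of `x • w`, from `lo 1` -/
theorem P_cup {x : Y} (hx : x ∈ P) : ∃ b, CUp V H R co x b := by
  have hxR : x ∈ R := ((n.mem_P x).1 hx).1
  have hxH : x ∈ H := n.a.RH hxR
  have hW : ∀ w ∈ WW V H R, x • w ∈ WW V H R := fun w hw => smul_mem_WW hxH hw
  -- `x` fixes the coordinates of the elements of `W₁`
  have hfix : ∀ w ∈ W₁, co (x • w) = co w := fun w hw =>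
    (n.add_mem_D (hW w (n.W₁W hw)) (n.W₁W hw)).1 (((n.mem_P x).1 hx).2 w hw)
  -- step 1 : the second coordinate is multiplied by a constant
  obtain ⟨μ, hμ⟩ : ∃ μ : F, ∀ w ∈ WW V H R, co (x • w) 0 1 = μ * co w 0 1 := by
    obtain ⟨r, hr, hrA⟩ := n.K.unip (fun _ => 1)
    have hrU := CUp.of_acts hrA
    obtain ⟨B, hB⟩ := n.K.norm x hxH r (n.a.RH hr) _ hrA.1
    have hB' : ∀ w ∈ WW V H R, co (x • r • w) 0 = ap (B 0) (co (x • w) 0) := by
      intro w hw
      have h1 := hB (x • w) (hW w hw) 0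
      rw [mul_smul, mul_smul, inv_smul_smul] at h1
      exact h1
    -- the line
    obtain ⟨e, he, he0, he1⟩ := n.exists_co 1 0
    have heW₁ : e ∈ W₁ := (n.mem_W₁ e).2 ⟨he, he1⟩
    have h2 : co (x • r • e) = co (x • e) := by
      have h3 : r • e ∈ W₁ := n.W₁_R hr heW₁
      rw [hfix _ h3, hfix _ heW₁]
      apply co_ext
      · rw [(hrU e he).1, he1, mul_zero, add_zero]
      · exact (hrU e he).2
    have h3 := hB' e he
    rw [h2, hfix e heW₁] at h3
    have h30 := congrFun h3 0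
    have h31 := congrFun h3 1
    rw [NatPair.ap_zero', he0, he1, mul_zero, add_zero, mul_one] at h30
    rw [NatPair.ap_one', he0, he1, mul_zero, add_zero, mul_one] at h31
    -- a general vector
    have h4 : ∀ w ∈ WW V H R, co w 0 1 = ent (B 0) 0 1 * co (x • w) 0 1 := by
      intro w hw
      have hrw : r • w ∈ WW V H R := smul_mem_WW (n.a.RH hr) hw
      have h5 : r • w + w ∈ WW V H R := add_mem hrw hw
      have h6 : r • w + w ∈ W₁ := by
        refine (n.mem_W₁ _).2 ⟨h5, ?_⟩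
        rw [n.K.add _ hrw _ hw, Pi.add_apply, Pi.add_apply, (hrU w hw).2, n.ff]
      have h7 := hfix _ h6
      rw [smul_add, n.K.add _ (hW _ hrw) _ (hW _ hw), n.K.add _ hrw _ hw] at h7
      have h8 : co (x • r • w) 0 0 + co (x • w) 0 0 = co (r • w) 0 0 + co w 0 0 :=
        congrFun (congrFun h7 0) 0
      have h9 := congrFun (hB' w hw) 0
      rw [NatPair.ap_zero', ← h30, one_mul] at h9
      rw [h9, (hrU w hw).1, one_mul] at h8
      have e1 : co (x • w) 0 0 + ent (B 0) 0 1 * co (x • w) 0 1 + co (x • w) 0 0 =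
          ent (B 0) 0 1 * co (x • w) 0 1 + (co (x • w) 0 0 + co (x • w) 0 0) := by ring
      have e2 : co w 0 0 + co w 0 1 + co w 0 0 = co w 0 1 + (co w 0 0 + co w 0 0) := by ring
      rw [e1, e2, n.ff, n.ff, add_zero, add_zero] at h8
      exact h8.symm
    have hne : ent (B 0) 0 1 ≠ 0 := by
      intro h5
      obtain ⟨v, hv, -, hv1⟩ := n.exists_co 0 1
      have h6 := h4 v hv
      rw [h5, zero_mul, hv1] at h6
      exact one_ne_zero h6
    refine ⟨(ent (B 0) 0 1)⁻¹, fun w hw => ?_⟩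
    rw [h4 w hw, inv_mul_cancel_left₀ hne]
  -- `μ = 1`
  have hμ1 : μ = 1 := by
    have h1 : ∀ m : ℕ, ∀ w ∈ WW V H R, co (x ^ m • w) 0 1 = μ ^ m * co w 0 1 := by
      intro m
      induction m with
      | zero => intro w _; rw [pow_zero, pow_zero, one_smul, one_mul]
      | succ m ih =>
        intro w hw
        rw [pow_succ, mul_smul, ih _ (hW w hw), hμ w hw, pow_succ, mul_assoc]
    obtain ⟨m, hm⟩ := n.a.R2 ⟨x, hxR⟩
    have hm' : x ^ 2 ^ m = 1 := by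
      have := congrArg Subtype.val hm
      simpa using this
    obtain ⟨v, hv, -, hv1⟩ := n.exists_co 0 1
    have h2 := h1 (2 ^ m) v hv
    rw [hm', one_smul, hv1, mul_one] at h2
    have hchar : CharP F 2 := by
      have h3 : (2 : F) = 0 := by
        have := n.ff (1 : F)
        rw [one_add_one_eq_two] at this
        exact this
      have : CharP F (ringChar F) := ringChar.charP F
      have h4 : ringChar F ∣ 2 := (ringChar.spec F 2).1 (by exact_mod_cast h3)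
      have h5 : ringChar F ≠ 1 := by
        intro h6
        have h7 : ((1 : ℕ) : F) = 0 := (ringChar.spec F 1).2 (by rw [h6])
        rw [Nat.cast_one] at h7
        exact one_ne_zero h7
      have h6 : ringChar F = 2 := by
        rcases (Nat.dvd_prime Nat.prime_two).1 h4 with h7 | h7
        · exact absurd h7 h5
        · exact h7
      rw [← h6]; exact this
    have : Fact (Nat.Prime 2) := ⟨Nat.prime_two⟩
    have h3 : (μ - 1) ^ 2 ^ m = 0 := by
      rw [sub_pow_char_pow, one_pow, ← h2, sub_self]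
    have h4 := pow_eq_zero_iff (n := 2 ^ m) (by positivity) |>.1 h3
    exact sub_eq_zero.1 h4
  subst hμ1
  have h2nd : ∀ w ∈ WW V H R, co (x • w) 0 1 = co w 0 1 := fun w hw => by rw [hμ w hw, one_mul]
  -- step 2 : the first coordinate
  obtain ⟨g, hg, hgA⟩ := n.K.lift (fun _ => lo 1)
  obtain ⟨B, hB⟩ := n.K.norm x hxH g hg _ hgA.1
  have hB' : ∀ w ∈ WW V H R, co w 0 0 + co w 0 1 =
      ent (B 0) 1 0 * co (x • w) 0 0 + ent (B 0) 1 1 * co w 0 1 := by
    intro w hw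
    have h1 := hB (x • w) (hW w hw) 0
    rw [mul_smul, mul_smul, inv_smul_smul] at h1
    have h2 := congrFun h1 1
    rw [NatPair.ap_one', h2nd _ (smul_mem_WW hg hw), h2nd w hw] at h2
    have h3 := congrFun (hgA.1 w hw 0) 1
    rw [NatPair.ap_one', lo_10, lo_11, one_mul, one_mul] at h3
    rw [← h2, h3]
  have h10 : ent (B 0) 1 0 = 1 := by
    obtain ⟨e, he, he0, he1⟩ := n.exists_co 1 0
    have h1 := hB' e he
    rw [hfix e ((n.mem_W₁ e).2 ⟨he, he1⟩), he0, he1, mul_one, mul_zero, add_zero, add_zero] at h1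
    exact h1.symm
  refine ⟨1 - ent (B 0) 1 1, fun w hw => ⟨?_, h2nd w hw⟩⟩
  have h1 := hB' w hw
  rw [h10, one_mul] at h1
  linear_combination -h1

theorem QP : QQ H R ≤ P := by
  intro x hx
  rw [n.mem_P]
  refine ⟨QQ_le hx, fun w hw => ?_⟩
  rw [Amal.QQ_fix n.a n.amb hx (n.W₁W hw), n.amb.two]
  exact zero_mem _

theorem PR : P ≤ R := fun x hx => ((n.mem_P x).1 hx).1

theorem P_comm {x : Y} (hx : x ∈ P) {w : V} (hw : w ∈ WW V H R) : x • w + w ∈ W₁ := by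
  obtain ⟨b, hb⟩ := n.P_cup hx
  have hxw : x • w ∈ WW V H R := smul_mem_WW (n.a.RH (n.PR hx)) hw
  refine (n.mem_W₁ _).2 ⟨add_mem hxw hw, ?_⟩
  rw [n.K.add _ hxw _ hw, Pi.add_apply, Pi.add_apply, (hb w hw).2, n.ff]

theorem free {x : Y} (hx : x ∈ P) {w : V} (hw : w ∈ WW V H R) (hw1 : w ∉ W₁) (h1 : x • w + w ∈ D) :
    x ∈ QQ H R := by
  obtain ⟨b, hb⟩ := n.P_cup hx
  have hxw : x • w ∈ WW V H R := smul_mem_WW (n.a.RH (n.PR hx)) hw
  rw [n.add_mem_D hxw hw] at h1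
  have h2 := (hb w hw).1
  rw [h1] at h2
  have h3 : b * co w 0 1 = 0 := (left_eq_add.1 h2)
  have h4 : co w 0 1 ≠ 0 := fun h5 => hw1 ((n.mem_W₁ w).2 ⟨hw, h5⟩)
  have h5 : b = 0 := (mul_eq_zero.1 h3).resolve_right h4
  rw [h5] at hb
  exact n.up_Q (n.PR hx) hb

theorem exists_up (b : F) : ∃ x ∈ P, CUp V H R co x b := by
  obtain ⟨r, hr, hrA⟩ := n.K.unip (fun _ => b)
  exact ⟨r, n.up_P hr (CUp.of_acts hrA), CUp.of_acts hrA⟩

theorem onto {w : V} (hw : w ∈ WW V H R) (hw1 : w ∉ W₁) {v : V} (hv : v ∈ W₁) : ∃ x ∈ P, x • w + w + v ∈ D := by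
  have h4 : co w 0 1 ≠ 0 := fun h5 => hw1 ((n.mem_W₁ w).2 ⟨hw, h5⟩)
  obtain ⟨x, hx, hb⟩ := n.exists_up (co v 0 0 / co w 0 1)
  refine ⟨x, hx, ?_⟩
  have hxw : x • w ∈ WW V H R := smul_mem_WW (n.a.RH (n.PR hx)) hw
  rw [n.add_mem_D (add_mem hxw hw) (n.W₁W hv), n.K.add _ hxw _ hw]
  apply co_ext
  · rw [Pi.add_apply, Pi.add_apply, (hb w hw).1, div_mul_cancel₀ _ h4]
    have e : co w 0 0 + co v 0 0 + co w 0 0 = co v 0 0 + (co w 0 0 + co w 0 0) := by ring
    rw [e, n.ff, add_zero]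
  · rw [Pi.add_apply, Pi.add_apply, (hb w hw).2, n.ff, ((n.mem_W₁ v).1 hv).2]

theorem card_P : Nat.card P = Nat.card F * Nat.card ↥(QQ H R) := by
  have h1 := n.card_up n.PR (fun x hx => n.P_cup hx) n.exists_up
  rwa [inf_eq_right.2 n.QP] at h1

/-- `up b`-elements differ by elements of `Q` -/
theorem up_cancel {x y : Y} (hx : x ∈ R) (hy : y ∈ R) {b : F} (h1 : CUp V H R co x b) (h2 : CUp V H R co y b) :
    x⁻¹ * y ∈ QQ H R := by
  apply n.up_Q (R.mul_mem (R.inv_mem hx) hy)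
  have h3 := n.up_mul (H.inv_mem (n.a.RH hx)) (n.a.RH hy) (n.up_inv (n.a.RH hx) h1) h2
  rwa [n.ff] at h3

theorem le_of_up {A : Subgroup Y} (hAR : A ≤ R) (h1 : ∀ x ∈ A, ∃ b, CUp V H R co x b)
    (h2 : ∀ b, ∃ x ∈ A, CUp V H R co x b) : A ≤ P ∧ P ≤ A ⊔ QQ H R := by
  refine ⟨fun x hx => ?_, fun x hx => ?_⟩
  · obtain ⟨b, hb⟩ := h1 x hx
    exact n.up_P (hAR hx) hb
  · obtain ⟨b, hb⟩ := n.P_cup hx
    obtain ⟨y, hy, hyb⟩ := h2 b
    have h3 := n.up_cancel (hAR hy) (n.PR hx) hyb hb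
    have h4 := (A ⊔ QQ H R).mul_mem (mem_sup_left hy) (mem_sup_right h3)
    rwa [mul_inv_cancel_left] at h4

theorem exactOff {A : Subgroup Y} (hAR : A ≤ R) (hA : ElAb A) (hAQ : ¬ A ≤ QQ H R)
    (hle : Nat.card ↥(A ⊓ QQ H R) * Nat.card ↥(WW V H R) ≤ Nat.card A * Nat.card ↥(fx V A ⊓ WW V H R)) :
    A ≤ P ∧ P ≤ A ⊔ QQ H R := by
  obtain ⟨h1, h2⟩ := n.off1 hAR hA hAQ hle
  exact n.le_of_up hAR h1 h2

theorem mem_elab {B : Subgroup Y} (hB : B ∈ U) : ElAb B := ⟨(n.amb.cls.mem B hB).comm, (n.amb.cls.mem B hB).sq⟩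

theorem mem_up {B : Subgroup Y} (hB : B ∈ U) (hBR : B ≤ R) (hBQ : ¬ B ≤ QQ H R) :
    (∀ x ∈ B, ∃ b, CUp V H R co x b) ∧ ∀ b, ∃ x ∈ B, CUp V H R co x b := by
  apply n.off1 hBR (n.mem_elab hB) hBQ
  have h1 := Amal.exact' n.a n.amb n.we hB (hBR.trans n.a.RH)
  rw [inf_comm (fx V B), ← h1, mul_comm]

theorem cover {B : Subgroup Y} (hB : B ∈ U) (hBR : B ≤ R) (hBQ : ¬ B ≤ QQ H R) : B ≤ P ∧ P ≤ B ⊔ QQ H R := by
  obtain ⟨h1, h2⟩ := n.mem_up hB hBR hBQ
  exact n.le_of_up hBR h1 h2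

theorem P_fix {x : Y} (hx : x ∈ P) {w : V} (hw : w ∈ W₁) : x • w = w := by
  obtain ⟨B, hB, hBR, hBQ⟩ := n.a.exists_not_QQ n.amb
  obtain ⟨h1, h2⟩ := n.mem_up hB hBR hBQ
  -- `W ∩ F_B = W₁`
  have h3 : WW V H R ⊓ fx V B = W₁ := by
    have h4 : WW V H R ⊓ fx V B ≤ W₁ := by
      intro v hv
      obtain ⟨y, hy, hyb⟩ := h2 1
      refine (n.mem_W₁ v).2 ⟨hv.1, ?_⟩
      have h5 := (hyb v hv.1).1
      rw [(mem_fx.1 hv.2) y hy, one_mul] at h5
      exact left_eq_add.1 h5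
    have h5 := Amal.exact' n.a n.amb n.we hB (hBR.trans n.a.RH)
    rw [n.card_up hBR h1 h2, n.card_W] at h5
    have h6 : Nat.card W₁ = Nat.card ↥(WW V H R ⊓ fx V B) := by
      have hF : 0 < Nat.card F := Nat.card_pos
      have hBQ : 0 < Nat.card ↥(B ⊓ QQ H R) := Nat.card_pos
      apply Nat.eq_of_mul_eq_mul_left (Nat.mul_pos hF hBQ)
      rw [← h5]
      ring
    exact AddSubgroup.eq_of_le_of_card_ge h4 h6.le
  obtain ⟨b, hb⟩ := n.P_cup hx
  obtain ⟨y, hy, hyb⟩ := h2 b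
  have h4 := n.up_cancel (hBR hy) (n.PR hx) hyb hb
  have h5 : w ∈ WW V H R ⊓ fx V B := by rw [h3]; exact hw
  have e : x • w = y • (y⁻¹ * x) • w := by rw [← mul_smul, mul_inv_cancel_left]
  rw [e, Amal.QQ_fix n.a n.amb h4 h5.1, (mem_fx.1 h5.2) y hy]

theorem D_fix {w : V} (hw : w ∈ D) (hR : ∀ r ∈ R, r • w = w) {x : Y} (hx : x ∈ H) : x • w = w := by
  have h1 : H ⊓ MulAction.stabilizer Y w = H := by
    apply n.K.gen
    · exact le_inf n.a.RH fun r hr => MulAction.mem_stabilizer_iff.2 (hR r hr)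
    · exact inf_le_left
    · intro h hh A hA
      exact ⟨hh, MulAction.mem_stabilizer_iff.2 (hA.2 w ((n.mem_D w).1 hw).1 ((n.mem_D w).1 hw).2)⟩
  rw [← h1] at hx
  exact MulAction.mem_stabilizer_iff.1 hx.2

/-! ### The points -/

/-- one vector of `W₁ ∖ D` decides -/
theorem line_all {x : Y} (hx : x ∈ H) {w : V} (hw : w ∈ W₁) (hwD : w ∉ D) (hxw : x • w ∈ W₁) {v : V} (hv : v ∈ W₁) :
    x • v ∈ W₁ := by
  by_contra hcon
  have hW : ∀ w ∈ WW V H R, x • w ∈ WW V H R := fun w hw => smul_mem_WW hx hw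
  have hxwD : x • w ∉ D := by
    intro h1
    apply hwD
    have h2 := n.D_H (H.inv_mem hx) h1
    rwa [inv_smul_smul] at h2
  have hlam : co (x • w) 0 0 ≠ 0 := fun h1 => hxwD ((n.mem_D_iff hxw).2 h1)
  have hlam1 : co (x • w) 0 1 = 0 := ((n.mem_W₁ _).1 hxw).2
  have hb : co (x • v) 0 1 ≠ 0 := fun h1 => hcon ((n.mem_W₁ _).2 ⟨hW v (n.W₁W hv), h1⟩)
  obtain ⟨r, hr, hrA⟩ := n.K.unip (fun _ => 1)
  have hrU := CUp.of_acts hrA
  obtain ⟨B, hB⟩ := n.K.norm x hx r (n.a.RH hr) _ hrA.1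
  have hB' : ∀ w ∈ WW V H R, co (x • r • w) 0 = ap (B 0) (co (x • w) 0) := by
    intro w hw
    have h1 := hB (x • w) (hW w hw) 0
    rw [mul_smul, mul_smul, inv_smul_smul] at h1
    exact h1
  -- `x r w ≡ x w` for `w ∈ W₁`
  have hfix : ∀ u ∈ W₁, co (x • r • u) = co (x • u) := by
    intro u hu
    have hru : r • u ∈ WW V H R := smul_mem_WW (n.a.RH hr) (n.W₁W hu)
    rw [← n.add_mem_D (hW _ hru) (hW _ (n.W₁W hu)), ← smul_add]
    apply n.D_H hx
    rw [n.add_mem_D hru (n.W₁W hu)]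
    apply co_ext
    · rw [(hrU u (n.W₁W hu)).1, ((n.mem_W₁ u).1 hu).2, mul_zero, add_zero]
    · exact (hrU u (n.W₁W hu)).2
  have h1 := hB' w (n.W₁W hw)
  rw [hfix w hw] at h1
  have h10 := congrFun h1 0
  have h11 := congrFun h1 1
  rw [NatPair.ap_zero', hlam1, mul_zero, add_zero] at h10
  rw [NatPair.ap_one', hlam1, mul_zero, add_zero] at h11
  have e00 : ent (B 0) 0 0 = 1 := by
    have h2 : ent (B 0) 0 0 * co (x • w) 0 0 = 1 * co (x • w) 0 0 := by rw [one_mul]; exact h10.symm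
    exact mul_right_cancel₀ hlam h2
  have e10 : ent (B 0) 1 0 = 0 := (mul_eq_zero.1 h11.symm).resolve_right hlam
  have e11 : ent (B 0) 1 1 = 1 := by
    have h2 := det_eq (B 0)
    rw [e00, e10, one_mul, mul_zero, sub_zero] at h2
    exact h2
  have h2 := hB' v (n.W₁W hv)
  rw [hfix v hv] at h2
  have h20 := congrFun h2 0
  rw [NatPair.ap_zero', e00, one_mul] at h20
  have e01 : ent (B 0) 0 1 = 0 := (mul_eq_zero.1 (left_eq_add.1 h20)).resolve_right hb
  -- `B = 1`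
  obtain ⟨u, hu, hu0, hu1⟩ := n.exists_co 0 1
  have hru : r • u ∈ WW V H R := smul_mem_WW (n.a.RH hr) hu
  have h3 : co (x • r • u) = co (x • u) := by
    have h4 := hB' u hu
    apply co_ext
    · rw [h4, NatPair.ap_zero', e00, e01, one_mul, zero_mul, add_zero]
    · rw [h4, NatPair.ap_one', e10, e11, one_mul, zero_mul, zero_add]
  rw [← n.add_mem_D (hW _ hru) (hW _ hu), ← smul_add] at h3
  have h4 := n.D_H (H.inv_mem hx) h3
  rw [inv_smul_smul, n.add_mem_D hru hu] at h4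
  have h5 := (hrU u hu).1
  rw [h4, hu1, mul_one] at h5
  exact one_ne_zero (left_eq_add.1 h5)

/-- the stabilizer of `W₁` in `H` -/
theorem exists_stab : ∃ S : Subgroup Y, (∀ x, x ∈ S ↔ x ∈ H ∧ ∀ w ∈ W₁, x • w ∈ W₁) ∧ S ≤ M := by
  have hinv : ∀ x : Y, (∀ w ∈ W₁, x • w ∈ W₁) → ∀ w ∈ W₁, x⁻¹ • w ∈ W₁ := by
    intro x hx w hw
    let f : W₁ → W₁ := fun v => ⟨x • (v : V), hx v v.2⟩
    have hf : Function.Injective f := by
      intro u v he
      have h1 : x • (u : V) = x • (v : V) := congrArg Subtype.val he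
      exact Subtype.ext (smul_left_cancel x h1)
    obtain ⟨v, hv⟩ := (Finite.injective_iff_surjective.1 hf) ⟨w, hw⟩
    have h1 : x • (v : V) = w := congrArg Subtype.val hv
    rw [← h1, inv_smul_smul]
    exact v.2
  let S : Subgroup Y :=
    { carrier := {x | x ∈ H ∧ ∀ w ∈ W₁, x • w ∈ W₁}
      one_mem' := ⟨H.one_mem, fun w hw => by rwa [one_smul]⟩
      mul_mem' := fun {x y} hx hy => ⟨H.mul_mem hx.1 hy.1, fun w hw => by
        rw [mul_smul]; exact hx.2 _ (hy.2 w hw)⟩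
      inv_mem' := fun {x} hx => ⟨H.inv_mem hx.1, hinv x hx.2⟩ }
  refine ⟨S, fun x => Iff.rfl, ?_⟩
  apply n.a.uniq S
  · intro r hr
    exact ⟨n.a.RH hr, fun w hw => n.W₁_R hr hw⟩
  · refine lt_of_le_of_ne (fun x hx => hx.1) ?_
    intro h1
    obtain ⟨g, hg, hgA⟩ := n.K.lift (fun _ => lo 1)
    obtain ⟨e, he, he0, he1⟩ := n.exists_co 1 0
    rw [← h1] at hg
    have h2 := hg.2 e ((n.mem_W₁ e).2 ⟨he, he1⟩)
    have h3 := ((n.mem_W₁ _).1 h2).2
    have h4 := congrFun (hgA.1 e he 0) 1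
    rw [h3, NatPair.ap_one', lo_10, lo_11, he0, he1, one_mul, mul_zero, add_zero] at h4
    exact zero_ne_one h4

theorem opp {x : Y} (hx : x ∈ H) (hxM : x ∉ M) {w : V} (hw : w ∈ W₁) (hxw : x • w ∈ W₁) : w ∈ D := by
  by_contra hwD
  obtain ⟨S, hS, hSM⟩ := n.exists_stab
  exact hxM (hSM ((hS x).2 ⟨hx, fun v hv => n.line_all hx hw hwD hxw hv⟩))

theorem RM : R ≤ M := n.a.RT.trans n.amb.TM

theorem stab {x : Y} (hx : x ∈ H) (hxM : x ∈ M) {w : V} (hw : w ∈ W₁) : x • w ∈ W₁ := by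
  by_contra hcon
  obtain ⟨S, hS, hSM⟩ := n.exists_stab
  apply n.a.bad.not_le 1
  rw [map_one, one_smul]
  have hwD : w ∉ D := fun h1 => hcon (n.DW (n.D_H hx h1))
  have hxW : x • w ∈ WW V H R := smul_mem_WW hx (n.W₁W hw)
  have hb : co (x • w) 0 1 ≠ 0 := fun h1 => hcon ((n.mem_W₁ _).2 ⟨hxW, h1⟩)
  have hw0 : co w 0 1 = 0 := ((n.mem_W₁ w).1 hw).2
  have h1 : H ⊓ M = H := by
    apply n.K.gen
    · exact le_inf n.a.RH n.RM
    · exact inf_le_left
    · intro h hh A hA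
      refine ⟨hh, ?_⟩
      by_cases hhS : h • w ∈ W₁
      · exact hSM ((hS h).2 ⟨hh, fun v hv => n.line_all hh hw hwD hhS hv⟩)
      have hhW : h • w ∈ WW V H R := smul_mem_WW hh (n.W₁W hw)
      have hb' : co (h • w) 0 1 ≠ 0 := fun h1 => hhS ((n.mem_W₁ _).2 ⟨hhW, h1⟩)
      obtain ⟨p, hp, hpb⟩ := n.exists_up (co (h • w) 0 0 / co (h • w) 0 1 + co (x • w) 0 0 / co (x • w) 0 1)
      have hpR := n.PR hp
      have hpW : p • x • w ∈ WW V H R := smul_mem_WW (n.a.RH hpR) hxW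
      -- `co (p x w) = (b / b') co (h w)`
      have e0 : co (p • x • w) 0 0 = co (x • w) 0 1 / co (h • w) 0 1 * co (h • w) 0 0 := by
        rw [(hpb _ hxW).1, add_mul, div_mul_cancel₀ _ hb]
        have e : co (x • w) 0 0 + (co (h • w) 0 0 / co (h • w) 0 1 * co (x • w) 0 1 + co (x • w) 0 0) =
          co (x • w) 0 1 / co (h • w) 0 1 * co (h • w) 0 0 + (co (x • w) 0 0 + co (x • w) 0 0) := by
          field_simp
          ring
        rw [e, n.ff, add_zero]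
      have e1 : co (p • x • w) 0 1 = co (x • w) 0 1 / co (h • w) 0 1 * co (h • w) 0 1 := by
        rw [(hpb _ hxW).2, div_mul_cancel₀ _ hb']
      -- `h⁻¹ p x w`
      have hu : h⁻¹ • p • x • w ∈ WW V H R := smul_mem_WW (H.inv_mem hh) hpW
      have h2 : ap (A 0) (co (h⁻¹ • p • x • w) 0) =
          ap (A 0) ((co (x • w) 0 1 / co (h • w) 0 1) • co w 0) := by
        rw [← hA.1 _ hu 0, smul_inv_smul, NatPair.ap_smul, ← hA.1 _ (n.W₁W hw) 0]
        apply NatPair.ext2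
        · rw [Pi.smul_apply, smul_eq_mul, e0]
        · rw [Pi.smul_apply, smul_eq_mul, e1]
      have h3 : co (h⁻¹ • p • x • w) 0 = (co (x • w) 0 1 / co (h • w) 0 1) • co w 0 := by
        have h4 := congrArg (ap (A 0)⁻¹) h2
        rwa [NatPair.ap_inv_ap, NatPair.ap_inv_ap] at h4
      have h4 : (h⁻¹ * p * x) • w ∈ W₁ := by
        rw [mul_smul, mul_smul]
        refine (n.mem_W₁ _).2 ⟨hu, ?_⟩
        rw [h3, Pi.smul_apply, hw0, smul_zero]
      have hmem : h⁻¹ * p * x ∈ H := H.mul_mem (H.mul_mem (H.inv_mem hh) (n.a.RH hpR)) hx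
      have h5 := hSM ((hS _).2 ⟨hmem, fun v hv => n.line_all hmem hw hwD h4 hv⟩)
      have h6 := M.mul_mem (M.mul_mem (n.RM hpR) hxM) (M.inv_mem h5)
      have e : p * x * (h⁻¹ * p * x)⁻¹ = h := by group
      rwa [e] at h6
  rw [← h1]
  exact inf_le_right

/-! ### The line is semilinear -/

theorem semiL : SemiL V R P (QQ H R) (WW V H R) W₁ D F (fun v => co v 0 0) where
  two := n.amb.two
  R2 := n.a.R2
  QP := n.QP
  PR := n.PR
  DW := n.DW
  W₁W := n.W₁W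
  W_R := fun r hr w hw => smul_mem_WW (n.a.RH hr) hw
  W₁_R := fun r hr w hw => n.W₁_R hr hw
  D_R := fun r hr w hw => n.D_H (n.a.RH hr) hw
  add := fun v hv w hw => by
    rw [n.K.add _ (n.W₁W hv) _ (n.W₁W hw)]
    rfl
  surj := fun a => by
    obtain ⟨v, hv, h0, h1⟩ := n.exists_co a 0
    exact ⟨v, (n.mem_W₁ v).2 ⟨hv, h1⟩, h0⟩
  ker := fun w hw => (n.mem_D_iff hw).symm
  semi := by
    intro r hr μ
    have hrH := n.a.RH hr
    have hW : ∀ w ∈ WW V H R, r • w ∈ WW V H R := fun w hw => smul_mem_WW hrH hw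
    by_cases hμ : μ = 0
    · refine ⟨0, fun w hw w' hw' h1 => ?_⟩
      rw [zero_mul]
      rw [hμ, zero_mul] at h1
      have h2 := n.D_H hrH ((n.mem_D_iff hw').2 h1)
      exact (n.mem_D_iff (n.W₁_R hr hw')).1 h2
    · obtain ⟨g, hg, hgA⟩ := n.K.lift (fun _ => dg μ hμ)
      obtain ⟨B, hB⟩ := n.K.norm r hrH g hg _ hgA.1
      refine ⟨ent (B 0) 0 0, fun w hw w' hw' h1 => ?_⟩
      have hgw : g • w ∈ WW V H R := smul_mem_WW hg (n.W₁W hw)
      have h2 : co w' = co (g • w) := by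
        have h3 := hgA.1 w (n.W₁W hw) 0
        apply co_ext
        · rw [h3, NatPair.ap_zero', dg_00, dg_01, zero_mul, add_zero]
          exact h1
        · rw [h3, NatPair.ap_one', dg_10, dg_11, zero_mul, zero_add, ((n.mem_W₁ w).1 hw).2, mul_zero]
          exact ((n.mem_W₁ w').1 hw').2
      rw [← n.add_mem_D (n.W₁W hw') hgw] at h2
      have h3 := n.D_H hrH h2
      rw [smul_add, n.add_mem_D (hW _ (n.W₁W hw')) (hW _ hgw)] at h3
      change co (r • w') 0 0 = ent (B 0) 0 0 * co (r • w) 0 0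
      rw [h3]
      have h4 := hB (r • w) (hW w (n.W₁W hw)) 0
      rw [mul_smul, mul_smul, inv_smul_smul] at h4
      rw [h4, NatPair.ap_zero', ((n.mem_W₁ _).1 (n.W₁_R hr hw)).2, mul_zero, add_zero]
  mem_P := fun x hx h1 => (n.mem_P x).2 ⟨hx, h1⟩
  P_fix := fun x hx w hw => ((n.mem_P x).1 hx).2 w hw
  P_comm := fun x hx w hw => n.P_comm hx hw
  free := fun x hx w hw hw1 h1 => n.free hx hw hw1 h1
  card_W := n.card_W
  card_W₁ := n.card_W₁
  card_P := n.card_P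

/-- **`KOne`** -/
theorem kone : KOne V U M H R P D W₁ (Nat.card F) where
  two_le := Finite.one_lt_card
  DW := n.DW
  W₁W := n.W₁W
  D_H := fun x hx w hw => n.D_H hx hw
  W₁_R := fun x hx w hw => n.W₁_R hx hw
  QP := n.QP
  PR := n.PR
  mem_P := fun x hx h1 => (n.mem_P x).2 ⟨hx, h1⟩
  P_fix := fun x hx w hw => n.P_fix hx hw
  P_comm := fun x hx w hw => n.P_comm hx hw
  free := fun x hx w hw hw1 h1 => n.free hx hw hw1 h1
  onto := fun w hw hw1 v hv => n.onto hw hw1 hv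
  card_W := n.card_W
  card_W₁ := n.card_W₁
  card_P := n.card_P
  D_fix := fun w hw hR x hx => n.D_fix hw hR hx
  opp := fun x hx hxM w hw hxw => n.opp hx hxM hw hxw
  stab := fun x hx hxM w hw => n.stab hx hxM hw
  cover := fun B hB hBR hBQ => n.cover hB hBR hBQ
  noOver := n.K.noOver
  exactOff := fun A hAR hA hAQ hle => n.exactOff hAR hA hAQ hle
  ea := fun A hAR hA => n.semiL.ea hAR hA
  fld := fun A hAR hA hAP hc => n.semiL.fld hAR hA hAP hc

end Nt

/-- **`KOne` from `KNat` with `k = 1`** -/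
theorem KOne.of_KNat [Finite Y] [Finite V] {U : Set (Subgroup Y)} {T : Sylow 2 Y} {M H R : Subgroup Y} {F : Type}
    [Field F] [Finite F] {co : V → Fin 1 → Fin 2 → F} {t : Y} (amb : Amb V U T M) (a : Amal U T M H R t)
    (we : WE V U H R) (K : KNat V H R F 1 co) :
    ∃ (P : Subgroup Y) (D W₁ : AddSubgroup V), KOne V U M H R P D W₁ (Nat.card F) := by
  obtain ⟨P, D, W₁, n⟩ := exists_Nt amb a we K
  exact ⟨P, D, W₁, n.kone⟩

/-- the same, with the coordinates: `D = {co = 0}`, `W₁ = {co w 0 1 = 0}` -/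
theorem KOne.of_KNat' [Finite Y] [Finite V] {U : Set (Subgroup Y)} {T : Sylow 2 Y} {M H R : Subgroup Y} {F : Type}
    [Field F] [Finite F] {co : V → Fin 1 → Fin 2 → F} {t : Y} (amb : Amb V U T M) (a : Amal U T M H R t)
    (we : WE V U H R) (K : KNat V H R F 1 co) :
    ∃ (P : Subgroup Y) (D W₁ : AddSubgroup V), KOne V U M H R P D W₁ (Nat.card F) ∧
      (∀ w, w ∈ D ↔ w ∈ WW V H R ∧ co w = 0) ∧ (∀ w, w ∈ W₁ ↔ w ∈ WW V H R ∧ co w 0 1 = 0) ∧
        ∀ x, x ∈ P ↔ x ∈ R ∧ ∀ w ∈ W₁, x • w + w ∈ D := by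
  obtain ⟨P, D, W₁, n⟩ := exists_Nt amb a we K
  exact ⟨P, D, W₁, n.kone, n.mem_D, n.mem_W₁, n.mem_P⟩

end Cfsg.Agent.Omega.NO1.TH
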