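import Cfsg.Agent.Omega.NO1.TH.Chain
import Cfsg.Agent.Omega.NO1.TH.KOneOf
import Cfsg.Agent.Omega.NO1.TH.EndTwoK

/-!
# N1, one component: socket (1) of `Chain.lean` (natural type, `k = 1`)

`exists_twoK` : `TwoK` with `c = a` from the hypotheses of `SockOne`.  `EndFour Out` : the end for `a ≥ 4`
(bb OMEGA 20698, 21741) over `TwoK`.  `sockOne` : `a = 2` by helper817 (`Star2`), `a ≥ 4` by `EndFour`.
-/

set_option autoImplicit false
set_option linter.unusedSectionVars false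

namespace Cfsg.Agent.Omega.NO1.TH

open Subgroup Cfsg.Agent.Omega.NO1.AB Cfsg.Agent.Omega.FFBr
open scoped Pointwise

universe u

/-- `KOne` from `AbsNat` with `k = 1` -/
theorem KOne.of_absNat {Y V : Type u} [Group Y] [Finite Y] [AddCommGroup V] [Finite V] [DistribMulAction Y V]
    {U : Set (Subgroup Y)} {T : Sylow 2 Y} {M H R : Subgroup Y} {t : Y} (amb : Amb V U T M) (a : Amal U T M H R t)
    (we : WE V U H R) {P : Sylow 2 (XH V H R)} {M₁ : Subgroup (XH V H R)} (hA : Abs (XH V H R) (Wm V H R) P M₁)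
    (hP : ∀ x : XH V H R, x ∈ P ↔ ∃ r : H, (r : Y) ∈ R ∧ pr V H R r = x) (hno : ANoOver (XH V H R) (Wm V H R))
    {F : Type} [Field F] [Finite F] (N : AbsNat F (P : Subgroup (XH V H R)) (Wm V H R) 1) :
    ∃ (P' : Subgroup Y) (D W₁ : AddSubgroup V), KOne V U M H R P' D W₁ (Nat.card F) :=
  KOne.of_KNat amb a we (K.KNat.of_abs amb a hA hP hno N)

/-- a world with `|V : E_B| = a` : `c = a` -/
theorem TwoK.card_eq {Y V : Type u} [Group Y] [Finite Y] [AddCommGroup V] [Finite V] [DistribMulAction Y V]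
    {U : Set (Subgroup Y)} {T : Sylow 2 Y} {M H H' R P P' : Subgroup Y} {D D' W₁ W₁' : AddSubgroup V} {c a : ℕ}
    {t : Y} (w : World V U T M a) (h : TwoK V U T M H H' R P P' D D' W₁ W₁' c t) : a = c := by
  obtain ⟨B, hB, hBR, hBQ⟩ := h.a.exists_not_QQ h.amb
  obtain ⟨g, hg, hgM⟩ := ET.exists_out h.a h.amb hBR hBQ
  have hA : MulAut.conj g • B ∈ U := h.amb.cls.conj B hB g
  have hAH : MulAut.conj g • B ≤ H := by
    intro y hy
    rw [mem_conj] at hy
    have h1 := H.mul_mem (H.mul_mem hg (h.a.RH (hBR hy))) (H.inv_mem hg)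
    have e : g * (g⁻¹ * y * g) * g⁻¹ = y := by group
    rwa [e] at h1
  refine (h.main_top hA hAH hgM (a := a) ?_ ?_).1
  · have h1 := (Ee V (MulAut.conj g • B)).card_mul_index
    rw [w.ind _ hA] at h1
    rw [← h1, mul_comm]
  · have h1 := w.pf _ hA
    rwa [pow_two] at h1

/-- **`TwoK`** with `c = a` -/
theorem exists_twoK {Y V : Type u} [Group Y] [Finite Y] [AddCommGroup V] [Finite V] [DistribMulAction Y V]
    {U : Set (Subgroup Y)} {T : Sylow 2 Y} {M H R : Subgroup Y} {t : Y} {a : ℕ} (w : World V U T M a)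
    (am : Amal U T M H R t) (we : WE V U H R) {P : Sylow 2 (XH V H R)} {M₁ : Subgroup (XH V H R)}
    (hA : Abs (XH V H R) (Wm V H R) P M₁)
    (hP : ∀ x : XH V H R, x ∈ P ↔ ∃ r : H, (r : Y) ∈ R ∧ pr V H R r = x) (hno : ANoOver (XH V H R) (Wm V H R))
    {F : Type} [Field F] [Finite F] (N : AbsNat F (P : Subgroup (XH V H R)) (Wm V H R) 1) :
    Nat.card F = a ∧ ∃ (P' : Subgroup Y) (D W₁ : AddSubgroup V), KOne V U M H R P' D W₁ a ∧
      TwoK V U T M H (MulAut.conj t • H) R P' (MulAut.conj t • P') D (t • D) W₁ (t • W₁) a t := by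
  obtain ⟨P', D, W₁, k⟩ := KOne.of_absNat w.toAmb am we hA hP hno N
  have h1 := k.twoK w.toAmb am we
  have h2 := h1.card_eq w
  rw [← h2] at h1 k
  exact ⟨h2.symm, P', D, W₁, k, h1⟩

/-- the end for `a ≥ 4` (bb OMEGA 20698, 21741) -/
def EndFour (Out : OutT.{u}) : Prop :=
  ∀ (Y V : Type u) [Group Y] [Finite Y] [AddCommGroup V] [Finite V] [DistribMulAction Y V] (U : Set (Subgroup Y))
    (T : Sylow 2 Y) (M : Subgroup Y) (a : ℕ), World V U T M a → 4 ≤ a →
      ∀ (H H' R P P' : Subgroup Y) (D D' W₁ W₁' : AddSubgroup V) (t : Y),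
        TwoK V U T M H H' R P P' D D' W₁ W₁' a t → Out Y V U T M

/-- **socket (1)** -/
theorem sockOne {Out : OutT.{u}}
    (h2 : ∀ (Y V : Type u) [Group Y] [Finite Y] [AddCommGroup V] [Finite V] [DistribMulAction Y V]
      (U : Set (Subgroup Y)) (T : Sylow 2 Y) (M : Subgroup Y), Star2 V U T M → Out Y V U T M)
    (h4 : EndFour Out) : SockOne Out := by
  intro Y V _ _ _ _ _ U T M a w H R t am we P M₁ hA hP hno F _ _ _ N
  obtain ⟨hc, P', D, W₁, k, h1⟩ := exists_twoK w am we hA hP hno N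
  by_cases ha : a = 2
  · subst ha
    exact h2 Y V U T M (ET.star2_of_kOne w am k we)
  · refine h4 Y V U T M a w ?_ H _ R P' _ D _ W₁ _ t h1
    have h5 := w.two_le
    -- `a` is a power of `2`
    have : Fintype F := Fintype.ofFinite F
    obtain ⟨⟨n, hn0⟩, -, hn⟩ := FiniteField.card F 2
    rw [← Nat.card_eq_fintype_card, hc] at hn
    have hn' : a = 2 ^ n := hn
    match n, hn0, hn' with
    | 1, _, h6 => exact absurd (by rw [h6, pow_one]) ha
    | n + 2, _, h6 =>
      have h7 : 1 ≤ 2 ^ n := Nat.one_le_two_pow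
      rw [h6, pow_add]
      omega

end Cfsg.Agent.Omega.NO1.TH
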