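import Cfsg.Agent.Omega.NO1.TH.EndThree
import Cfsg.Agent.Omega.NO1.TH.EndC
import Cfsg.Agent.Omega.NO1.TH.SockOne

/-!
# N1, the amalgam `(H, H^t)`, `k = 1`, `a ≥ 4`: the output (bb OMEGA 20698, 21741, helper70, helper456)

`TwoK.fin` : `Fin` from `TwoK` in a world with `a ≥ 4`; `endFour` : the socket `EndFour` of `SockOne.lean`.
-/

set_option autoImplicit false
set_option linter.unusedSectionVars false

namespace Cfsg.Agent.Omega.NO1.TH

open Subgroup Cfsg.Agent.Omega.NO1.AB
open scoped Pointwise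

universe u

/-- **THE END**, `k = 1`, `a ≥ 4` -/
theorem TwoK.fin {Y V : Type u} [Group Y] [Finite Y] [AddCommGroup V] [Finite V] [DistribMulAction Y V]
    {U : Set (Subgroup Y)} {T : Sylow 2 Y} {M H H' R P P' : Subgroup Y} {D D' W₁ W₁' : AddSubgroup V} {c a : ℕ}
    {t : Y} (w : World V U T M a) (ha : 4 ≤ a) (h : TwoK V U T M H H' R P P' D D' W₁ W₁' c t) : Fin V U T M := by
  obtain ⟨-, B, Q, Q', N, N', I, e⟩ := h.endS ha w.ind w.pf w.noff
  exact e.fin

/-- **the socket `EndFour`** -/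
theorem endFour {Out : OutT.{u}}
    (hout : ∀ (Y V : Type u) [Group Y] [Finite Y] [AddCommGroup V] [Finite V] [DistribMulAction Y V]
      (U : Set (Subgroup Y)) (T : Sylow 2 Y) (M : Subgroup Y), Fin V U T M → Out Y V U T M) : EndFour Out := by
  intro Y V _ _ _ _ _ U T M a w ha H H' R P P' D D' W₁ W₁' t h
  exact hout Y V U T M (h.fin w ha)

end Cfsg.Agent.Omega.NO1.TH
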