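import Cfsg.Agent.Omega.NO1.TH.EndF

/-!
# N1, THE END (bb OMEGA 20698, 21741, helper70, helper456): (Ex) and the THEOREM

Both sides `(J, Q, N)`, `(J', Q', N')` of the amalgam, `B = Q Q'`, `N ∩ N' = I`.
`TS.norm` : `g ∈ J'` which normalises `B` normalises `Q`.
-/

set_option autoImplicit false
set_option linter.unusedSectionVars false

namespace Cfsg.Agent.Omega.NO1.TH

open Subgroup Cfsg.Agent.Omega.NO1.AB
open scoped Pointwise

universe u

variable {Y : Type u} [Group Y] {V : Type u} [AddCommGroup V] [DistribMulAction Y V]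

/-- both sides -/
structure TS (J J' B Q Q' : Subgroup Y) (N N' I E F : AddSubgroup V) (c : ℕ) : Prop where
  s : FS J B Q N I c
  s' : FS J' B Q' N' I c
  mem : Mem B E F
  BQQ : ∀ b ∈ B, ∃ q ∈ Q, ∃ q' ∈ Q', b = q * q'
  QQ1 : ∀ q ∈ Q, q ∈ Q' → q = 1
  NB : ∀ b ∈ B, ∀ n ∈ N, b • n + n ∈ I
  NB' : ∀ b ∈ B, ∀ n ∈ N', b • n + n ∈ I
  reg : ∀ q ∈ Q', q ≠ 1 → ∀ n ∈ N, q • n = n → n ∈ I
  reg' : ∀ q ∈ Q, q ≠ 1 → ∀ n ∈ N', q • n = n → n ∈ I
  out : ∀ w, w ∉ E → ∀ q ∈ Q, q ≠ 1 → q • w + w ∉ I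
  out' : ∀ w, w ∉ E → ∀ q ∈ Q', q ≠ 1 → q • w + w ∉ I
  EX : ∀ v ∈ E, ∃ x x' : V, (∀ q ∈ Q, q • x = x) ∧ (∀ q ∈ Q', q • x' = x') ∧ v = x + x'
  XE : ∀ v : V, (∀ q ∈ Q, q • v = v) → v ∈ E
  XE' : ∀ v : V, (∀ q ∈ Q', q • v = v) → v ∈ E

namespace TS

variable {J J' B Q Q' : Subgroup Y} {N N' I E F : AddSubgroup V} {c : ℕ}
  (h : TS J J' B Q Q' N N' I E F c)
include h

theorem swap : TS J' J B Q' Q N' N I E F c where
  s := h.s'
  s' := h.s
  mem := h.mem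
  BQQ := fun b hb => by
    obtain ⟨q, hq, q', hq', rfl⟩ := h.BQQ b hb
    exact ⟨q', hq', q, hq, h.mem.comm _ (h.s.QB hq) _ (h.s'.QB hq')⟩
  QQ1 := fun q hq hq' => h.QQ1 q hq' hq
  NB := h.NB'
  NB' := h.NB
  reg := h.reg'
  reg' := h.reg
  out := h.out'
  out' := h.out
  EX := fun v hv => by
    obtain ⟨x, x', h1, h2, rfl⟩ := h.EX v hv
    exact ⟨x', x, h2, h1, add_comm _ _⟩
  XE := h.XE'
  XE' := h.XE

/-- `[v, x, y] = [v, y, x]` -/
theorem symm {x y : Y} (hx : x ∈ B) (hy : y ∈ B) (v : V) :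
    y • (x • v + v) + (x • v + v) = x • (y • v + v) + (y • v + v) := by
  rw [smul_add, smul_add, ← mul_smul, ← mul_smul, h.mem.comm x hx y hy]
  abel

/-- `v + v' = 0` means equality -/
theorem eq_of_add {v v' : V} (hv : v + v' = 0) : v = v' := by
  have h1 : v + v' = v' + v' := by rw [hv, h.s.two]
  exact add_right_cancel h1

/-- `[w, Q, b'] = I` for `w ∉ E`, `1 ≠ b' ∈ Q'` -/
theorem surj_I [Finite Y] [Finite V] {w : V} (hw : w ∉ E) {b' : Y} (hb' : b' ∈ Q') (hb1 : b' ≠ 1) {i : V} (hi : i ∈ I) :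
    ∃ b ∈ Q, b • (b' • w + w) + (b' • w + w) = i := by
  have hn : b' • w + w ∈ N' := h.s'.VQ b' hb' w
  have hnI := h.out' w hw b' hb' hb1
  let g : Q → I := fun b => ⟨(b : Y) • (b' • w + w) + (b' • w + w), h.NB' b (h.s.QB b.2) _ hn⟩
  have hg : Function.Injective g := by
    intro b b₂ hbb
    have h1 : (b : Y) • (b' • w + w) + (b' • w + w) = (b₂ : Y) • (b' • w + w) + (b' • w + w) :=
      congrArg Subtype.val hbb
    have h2 := add_right_cancel h1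
    by_contra hne
    apply hnI
    apply h.reg' ((b₂ : Y)⁻¹ * b) (Q.mul_mem (Q.inv_mem b₂.2) b.2) _ _ hn
    · rw [mul_smul, inv_smul_eq_iff]; exact h2
    · intro h3
      apply hne
      apply Subtype.ext
      exact (inv_mul_eq_one.1 h3).symm
  have hcard : Nat.card Q = Nat.card I := by rw [h.s.card_Q, h.s.card_I]
  have hs : Function.Surjective g := by
    have := Fintype.ofFinite Q
    have := Fintype.ofFinite I
    rw [Nat.card_eq_fintype_card, Nat.card_eq_fintype_card] at hcard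
    exact ((Fintype.bijective_iff_injective_and_card g).2 ⟨hg, hcard⟩).2
  obtain ⟨b, hb⟩ := hs ⟨i, hi⟩
  exact ⟨b, b.2, congrArg Subtype.val hb⟩

/-- **(Ex)**, first form -/
theorem ex_aux [Finite Y] [Finite V] {f : V → V} (hf : Sc J N f) {w : V} (hw : w ∉ E) :
    ∃ f', Sc J' N' f' ∧ (∀ i ∈ I, f i = f' i) ∧ ∃ wm : V, (∀ b ∈ Q, b • wm + wm = f (b • w + w)) ∧
      ∀ b ∈ Q', b • wm + wm = f' (b • w + w) := by
  obtain ⟨b₀, hb₀, hb0⟩ := h.s.exists_ne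
  obtain ⟨d₀, hd₀, hd0⟩ := h.s'.exists_ne
  -- `v₁`
  obtain ⟨v₁, hv₁⟩ := h.s.onto b₀ hb₀ hb0 _ (hf.mem _ (h.s.VQ b₀ hb₀ w))
  have hv₁' : ∀ b ∈ Q, b • v₁ + v₁ = f (b • w + w) := by
    intro b hb
    obtain ⟨m, hm, hmb⟩ := h.s.exists_mb hb₀ hb0 hb
    rw [← hmb v₁, hv₁, h.s.sc_comm hm hf _ (h.s.VQ b₀ hb₀ w), hmb w]
  -- `m'`
  have hn : d₀ • w + w ∈ N' := h.s'.VQ d₀ hd₀ w
  have hnI := h.out' w hw d₀ hd₀ hd0
  have hi₁ := h.NB' b₀ (h.s.QB hb₀) _ hn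
  have hi₁0 : b₀ • (d₀ • w + w) + (d₀ • w + w) ≠ 0 := by
    intro h1
    exact hnI (h.reg' b₀ hb₀ hb0 _ hn (h.eq_of_add h1))
  have hn₂ : d₀ • v₁ + v₁ ∈ N' := h.s'.VQ d₀ hd₀ v₁
  obtain ⟨f', -, -, hf', -, hfi⟩ := h.s'.exists_sc hd₀ hd0 hi₁ hi₁0 (h.NB' b₀ (h.s.QB hb₀) _ hn₂)
  have h1 : f' (d₀ • w + w) + (d₀ • v₁ + v₁) ∈ I := by
    apply h.reg' b₀ hb₀ hb0 _ (add_mem (hf'.mem _ hn) hn₂)
    have h2 : b₀ • f' (d₀ • w + w) + f' (d₀ • w + w) = b₀ • (d₀ • v₁ + v₁) + (d₀ • v₁ + v₁) := by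
      rw [← hfi, hf'.add _ (h.s'.NJ _ (h.s'.BJ (h.s.QB hb₀)) _ hn) _ hn, hf'.comm _ (h.s'.BJ (h.s.QB hb₀)) _ hn]
    apply h.eq_of_add
    rw [smul_add]
    calc b₀ • f' (d₀ • w + w) + b₀ • (d₀ • v₁ + v₁) + (f' (d₀ • w + w) + (d₀ • v₁ + v₁))
        = (b₀ • f' (d₀ • w + w) + f' (d₀ • w + w)) + (b₀ • (d₀ • v₁ + v₁) + (d₀ • v₁ + v₁)) := by abel
      _ = 0 := by rw [h2, h.s.two]
  obtain ⟨v₂, hv₂⟩ := h.s'.onto d₀ hd₀ hd0 _ (hf'.mem _ hn)
  have hv₂' : ∀ b ∈ Q', b • v₂ + v₂ = f' (b • w + w) := by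
    intro b hb
    obtain ⟨m, hm, hmb⟩ := h.s'.exists_mb hd₀ hd0 hb
    rw [← hmb v₂, hv₂, h.s'.sc_comm hm hf' _ hn, hmb w]
  have hE : v₁ + v₂ ∈ E := by
    by_contra hE
    apply h.out' _ hE d₀ hd₀ hd0
    rw [← hv₂] at h1
    have e : d₀ • (v₁ + v₂) + (v₁ + v₂) = d₀ • v₂ + v₂ + (d₀ • v₁ + v₁) := by
      rw [smul_add]; abel
    rw [e]; exact h1
  obtain ⟨x, x', hx, hx', hxx⟩ := h.EX _ hE
  have hwm : v₁ + x = v₂ + x' := by
    apply h.eq_of_add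
    calc v₁ + x + (v₂ + x') = (v₁ + v₂) + (x + x') := by abel
      _ = 0 := by rw [hxx, h.s.two]
  have hA : ∀ b ∈ Q, b • (v₁ + x) + (v₁ + x) = f (b • w + w) := by
    intro b hb
    rw [smul_add, hx b hb, ← hv₁' b hb]
    have := h.s.two x
    calc b • v₁ + x + (v₁ + x) = b • v₁ + v₁ + (x + x) := by abel
      _ = _ := by rw [this, add_zero]
  have hB : ∀ b ∈ Q', b • (v₁ + x) + (v₁ + x) = f' (b • w + w) := by
    intro b hb
    rw [hwm, smul_add, hx' b hb, ← hv₂' b hb]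
    have := h.s.two x'
    calc b • v₂ + x' + (v₂ + x') = b • v₂ + v₂ + (x' + x') := by abel
      _ = _ := by rw [this, add_zero]
  refine ⟨f', hf', ?_, v₁ + x, hA, hB⟩
  intro i hi
  obtain ⟨b, hb, rfl⟩ := h.surj_I hw hd₀ hd0 hi
  have hbB := h.s.QB hb
  have hdB := h.s'.QB hd₀
  have hnb := h.s.VQ b hb w
  -- `m [w, b, b'] = [m [w, b], b']`
  have h3 : f (b • (d₀ • w + w) + (d₀ • w + w)) = d₀ • f (b • w + w) + f (b • w + w) := by
    rw [← h.symm hbB hdB w, hf.add _ (h.s.NJ _ (h.s.BJ hdB) _ hnb) _ hnb, hf.comm _ (h.s.BJ hdB) _ hnb]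
  have h4 : f' (b • (d₀ • w + w) + (d₀ • w + w)) = b • f' (d₀ • w + w) + f' (d₀ • w + w) := by
    rw [hf'.add _ (h.s'.NJ _ (h.s'.BJ hbB) _ hn) _ hn, hf'.comm _ (h.s'.BJ hbB) _ hn]
  rw [h3, h4, ← hA b hb, ← hB d₀ hd₀]
  exact h.symm hbB hdB _

/-- the scalar of the other side -/
theorem exists_sc' [Finite Y] [Finite V] {f : V → V} (hf : Sc J N f) :
    ∃ f', Sc J' N' f' ∧ ∀ i ∈ I, f i = f' i := by
  obtain ⟨w, hw⟩ := h.mem.ne
  obtain ⟨f', hf', h1, -⟩ := h.ex_aux hf hw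
  exact ⟨f', hf', h1⟩

/-- **(Ex)** -/
theorem ex [Finite Y] [Finite V] {f f' : V → V} (hf : Sc J N f) (hf' : Sc J' N' f') (hff : ∀ i ∈ I, f i = f' i)
    {w : V} (hw : w ∉ E) :
    ∃ wm : V, (∀ b ∈ Q, b • wm + wm = f (b • w + w)) ∧ ∀ b ∈ Q', b • wm + wm = f' (b • w + w) := by
  obtain ⟨f₂, hf₂, h1, wm, hA, hB⟩ := h.ex_aux hf hw
  obtain ⟨i, hi, hi0⟩ := h.s'.exists_i0
  refine ⟨wm, hA, fun b hb => ?_⟩
  rw [hB b hb]
  apply h.s'.ext hf₂ hf' (h.s'.IN hi) hi0 _ _ (h.s'.VQ b hb w)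
  rw [← h1 i hi, ← hff i hi]

/-- **THEOREM**: `g ∈ J'` normalises `B` ⟹ `g` normalises `Q` -/
theorem norm [Finite Y] [Finite V] (hc : 3 ≤ c) {g : Y} (hg : g ∈ J') (hgB : ∀ b ∈ B, g * b * g⁻¹ ∈ B)
    (hgE : ∀ v, v ∉ E → g • v ∉ E) : ∀ q ∈ Q, g * q * g⁻¹ ∈ Q := by
  have two := h.s.two
  -- a scalar different from 0, 1
  obtain ⟨i₀, hi₀, hi₀0⟩ := h.s.exists_i0
  obtain ⟨i₂, hi₂, hi₂0, hi₂1⟩ : ∃ i₂ ∈ I, i₂ ≠ 0 ∧ i₂ ≠ i₀ := by
    by_contra hcon
    push Not at hcon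
    have h1 : (I : Set V) ⊆ {0, i₀} := by
      intro x hx
      by_cases hx0 : x = 0
      · left; exact hx0
      · right; exact hcon x hx hx0
    have h2 : Nat.card I ≤ 2 := by
      have h3 := Set.ncard_le_ncard h1 (Set.toFinite _)
      have h4 : ({0, i₀} : Set V).ncard ≤ 2 := Set.ncard_insert_le _ _ |>.trans (by simp)
      have h5 : Nat.card I = (I : Set V).ncard := rfl
      omega
    rw [h.s.card_I] at h2
    omega
  obtain ⟨b₀, hb₀, hb0⟩ := h.s.exists_ne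
  obtain ⟨f, -, -, hf, -, hfi⟩ := h.s.exists_sc hb₀ hb0 hi₀ hi₀0 hi₂
  -- `f` and `f + 1` are injective
  have finj : ∀ n ∈ N, f n = 0 → n = 0 := by
    intro n hn hn0
    by_contra hne
    apply hi₂0
    rw [← hfi]
    exact h.s.inj hf hn hne hn0 _ (h.s.IN hi₀)
  have finj1 : ∀ n ∈ N, f n + n = 0 → n = 0 := by
    intro n hn hn0
    by_contra hne
    apply hi₂1
    have h1 := h.s.inj (hf.addd Sc.id) hn hne hn0 _ (h.s.IN hi₀)
    rw [← hfi]
    exact h.eq_of_add h1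
  obtain ⟨f', hf', hff⟩ := h.exists_sc' hf
  obtain ⟨w, hw⟩ := h.mem.ne
  have hgw := hgE w hw
  obtain ⟨wm, hwA, hwB⟩ := h.ex hf hf' hff hw
  obtain ⟨vm, hvA, hvB⟩ := h.ex hf hf' hff hgw
  obtain ⟨x', hx'⟩ : ∃ x' : V, x' = g • wm + vm := ⟨_, rfl⟩
  have hcm : ∀ b ∈ Q', ∀ v : V, b • g • v = g • b • v := by
    intro b hb v
    rw [← mul_smul, ← mul_smul, h.s'.JQ g hg b hb]
  have hxQ : ∀ b ∈ Q', b • x' = x' := by
    intro b hb
    apply h.eq_of_add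
    have h1 : b • g • wm + g • wm = b • vm + vm := by
      rw [hcm b hb, ← smul_add, hwB b hb, hvB b hb, ← hf'.comm g hg _ (h.s'.VQ b hb w), smul_add, hcm b hb]
    rw [hx', smul_add]
    calc b • g • wm + b • vm + (g • wm + vm) = (b • g • wm + g • wm) + (b • vm + vm) := by abel
      _ = 0 := by rw [h1, two]
  have hxE := h.XE' x' hxQ
  have hgwm : g • wm = vm + x' := by
    rw [hx']
    calc g • wm = g • wm + (vm + vm) := by rw [two, add_zero]
      _ = _ := by abel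
  -- the basic equations for `b ∈ Q`, `g b g⁻¹ = b₁ b₁'`
  have hconj : ∀ (b : Y) (v : V), g • (b • v + v) = (g * b * g⁻¹) • g • v + g • v := by
    intro b v
    rw [smul_add, ← mul_smul, ← mul_smul]
    congr 2
    group
  have lin : ∀ b ∈ Q, ∀ bf ∈ Q, (∀ v : V, bf • v + v = f (b • v + v)) → ∀ b₁ ∈ Q, ∀ b₁' ∈ Q',
      g * b * g⁻¹ = b₁ * b₁' → ∀ β ∈ Q, (∀ v : V, β • v + v = f (b₁ • v + v)) → ∀ β' ∈ Q',
      (∀ v : V, β' • v + v = f' (b₁' • v + v)) → g * bf * g⁻¹ = β * β' := by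
    intro b hb bf hbf hbfv b₁ hb₁ b₁' hb₁' hgb β hβ hβv β' hβ' hβv'
    have hB1 := h.s.QB hb₁
    have hB1' := h.s'.QB hb₁'
    have hBβ := h.s.QB hβ
    have hBβ' := h.s'.QB hβ'
    have h1 : g • (bf • w + w) = (b₁ * b₁') • (vm + x') + (vm + x') := by
      rw [hbfv w, ← hwA b hb, hconj, hgb, hgwm]
    rw [hconj] at h1
    -- mod `F`
    have h2 : (g * bf * g⁻¹) • g • w + g • w + ((β * β') • g • w + g • w) ∈ F := by
      rw [h1]
      have e1 : (b₁ * b₁') • (vm + x') + (vm + x') =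
          (b₁ • (b₁' • vm + vm) + (b₁' • vm + vm)) + (b₁' • vm + vm) + (b₁ • vm + vm) +
            ((b₁ * b₁') • x' + x') := by
        rw [mul_smul, mul_smul, smul_add, smul_add, smul_add]
        have h3 := two (b₁ • vm)
        have h4 := two (b₁' • vm)
        have h5 := two vm
        calc b₁ • b₁' • vm + b₁ • b₁' • x' + (vm + x')
            = b₁ • b₁' • vm + vm + (b₁ • b₁' • x' + x') + 0 + 0 + 0 := by abel
          _ = b₁ • b₁' • vm + vm + (b₁ • b₁' • x' + x') + (b₁ • vm + b₁ • vm) + (b₁' • vm + b₁' • vm) +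
              (vm + vm) := by rw [h3, h4, h5]
          _ = _ := by abel
      have e2 : (β * β') • g • w + g • w =
          (β • (β' • g • w + g • w) + (β' • g • w + g • w)) + (β' • g • w + g • w) + (β • g • w + g • w) := by
        rw [mul_smul, smul_add]
        have h3 := two (β • g • w)
        have h4 := two (β' • g • w)
        have h5 := two (g • w)
        calc β • β' • g • w + g • w = β • β' • g • w + g • w + 0 + 0 + 0 := by abel
          _ = β • β' • g • w + g • w + (β • g • w + β • g • w) + (β' • g • w + β' • g • w) +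
              (g • w + g • w) := by rw [h3, h4, h5]
          _ = _ := by abel
      rw [e1, e2, hvA b₁ hb₁, hvB b₁' hb₁', ← hβv, ← hβv']
      have h6 := h.mem.EB b₁ hB1 _ (h.mem.VB β' hBβ' (g • w))
      have h7 := h.mem.EB β hBβ _ (h.mem.VB β' hBβ' (g • w))
      have h8 := h.mem.EB (b₁ * b₁') (B.mul_mem hB1 hB1') _ hxE
      have e3 : b₁ • (β' • g • w + g • w) + (β' • g • w + g • w) + (β' • g • w + g • w) + (β • g • w + g • w) +
          ((b₁ * b₁') • x' + x') +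
          (β • (β' • g • w + g • w) + (β' • g • w + g • w) + (β' • g • w + g • w) + (β • g • w + g • w)) =
          (b₁ • (β' • g • w + g • w) + (β' • g • w + g • w)) +
          (β • (β' • g • w + g • w) + (β' • g • w + g • w)) + ((b₁ * b₁') • x' + x') +
          ((β' • g • w + g • w) + (β' • g • w + g • w)) + ((β • g • w + g • w) + (β • g • w + g • w)) := by
        abel
      rw [e3, two (β' • g • w + g • w), two (β • g • w + g • w), add_zero, add_zero]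
      exact add_mem (add_mem h6 h7) h8
    -- injectivity
    have hgbf := hgB bf (h.s.QB hbf)
    have hββ := B.mul_mem hBβ hBβ'
    have h3 : (g * bf * g⁻¹ * (β * β')) • g • w + g • w ∈ F := by
      have h4 := h.mem.EB (g * bf * g⁻¹) hgbf _ (h.mem.VB (β * β') hββ (g • w))
      have e : (g * bf * g⁻¹ * (β * β')) • g • w + g • w =
          ((g * bf * g⁻¹) • ((β * β') • g • w + g • w) + ((β * β') • g • w + g • w)) +
            ((g * bf * g⁻¹) • g • w + g • w + ((β * β') • g • w + g • w)) := by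
        rw [mul_smul, smul_add]
        have h5 := two ((β * β') • g • w)
        have h6 := two ((g * bf * g⁻¹) • g • w)
        have h7 := two (g • w)
        calc (g * bf * g⁻¹) • (β * β') • g • w + g • w
            = (g * bf * g⁻¹) • (β * β') • g • w + g • w + 0 + 0 + 0 := by abel
          _ = (g * bf * g⁻¹) • (β * β') • g • w + g • w + ((β * β') • g • w + (β * β') • g • w) +
              ((g * bf * g⁻¹) • g • w + (g * bf * g⁻¹) • g • w) + (g • w + g • w) := by rw [h5, h6, h7]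
          _ = _ := by abel
      rw [e]
      exact add_mem h4 h2
    have h4 := h.mem.inj _ hgw _ (B.mul_mem hgbf hββ) h3
    have h5 := h.mem.sq _ hββ
    exact mul_right_cancel (h4.trans h5.symm)
  -- equation (*)
  have star : ∀ b ∈ Q, ∀ b₁ ∈ Q, ∀ b₁' ∈ Q', g * b * g⁻¹ = b₁ * b₁' →
      f (f (b₁' • (b₁ • g • w + g • w) + (b₁ • g • w + g • w))) +
        f (b₁' • (b₁ • g • w + g • w) + (b₁ • g • w + g • w)) = b₁ • x' + x' := by
    intro b hb b₁ hb₁ b₁' hb₁' hgb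
    have hB1 := h.s.QB hb₁
    have hB1' := h.s'.QB hb₁'
    obtain ⟨bf, hbf, hbfv⟩ := h.s.exists_bf hf hb
    obtain ⟨β, hβ, hβv⟩ := h.s.exists_bf hf hb₁
    obtain ⟨β', hβ', hβv'⟩ := h.s'.exists_bf hf' hb₁'
    have hBβ := h.s.QB hβ
    have hBβ' := h.s'.QB hβ'
    have hl := lin b hb bf hbf hbfv b₁ hb₁ b₁' hb₁' hgb β hβ hβv β' hβ' hβv'
    set n₁ := b₁ • g • w + g • w with hn₁
    set n₁' := b₁' • g • w + g • w with hn₁'
    have hN1 : n₁ ∈ N := h.s.VQ b₁ hb₁ _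
    have hN1' : n₁' ∈ N' := h.s'.VQ b₁' hb₁' _
    set φ := b₁' • n₁ + n₁ with hφ
    have hφI : φ ∈ I := h.NB b₁' hB1' _ hN1
    have hφ' : b₁ • n₁' + n₁' = φ := (h.symm hB1 hB1' (g • w)).symm
    have h1 : g • (bf • w + w) = (b₁ * b₁') • (vm + x') + (vm + x') := by
      rw [hbfv w, ← hwA b hb, hconj, hgb, hgwm]
    rw [hconj, hl] at h1
    -- (i)
    have hi : (β * β') • g • w + g • w = f (f φ) + f' n₁' + f n₁ := by
      have e : (β * β') • g • w + g • w = (β • (β' • g • w + g • w) + (β' • g • w + g • w)) +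
          (β' • g • w + g • w) + (β • g • w + g • w) := by
        rw [mul_smul, smul_add]
        have h3 := two (β • g • w)
        have h4 := two (β' • g • w)
        have h5 := two (g • w)
        calc β • β' • g • w + g • w = β • β' • g • w + g • w + 0 + 0 + 0 := by abel
          _ = β • β' • g • w + g • w + (β • g • w + β • g • w) + (β' • g • w + β' • g • w) +
              (g • w + g • w) := by rw [h3, h4, h5]
          _ = _ := by abel
      have e2 : β • (β' • g • w + g • w) + (β' • g • w + g • w) = f (f φ) := by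
        rw [hβv' (g • w), ← hf'.comm β (h.s'.BJ hBβ) _ hN1', ← hf'.add _ (h.s'.NJ β (h.s'.BJ hBβ) _ hN1') _ hN1',
          hn₁', ← h.symm hBβ hB1' (g • w), hβv (g • w), ← hf.comm b₁' (h.s.BJ hB1') _ hN1,
          ← hf.add _ (h.s.NJ _ (h.s.BJ hB1') _ hN1) _ hN1]
        exact (hff _ (h.s.sc_I hf hφI)).symm
      rw [e, e2, hβv (g • w), hβv' (g • w)]
    -- (ii)
    have hii : (b₁ * b₁') • (vm + x') + (vm + x') = f' n₁' + f φ + f n₁ + (b₁ • x' + x') := by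
      have h3 := hvA b₁ hb₁
      have h4 := hvB b₁' hb₁'
      have e : (b₁ * b₁') • (vm + x') + (vm + x') =
          b₁ • (b₁' • vm + vm) + (b₁ • vm + vm) + (b₁ • x' + x') := by
        rw [mul_smul, smul_add, hxQ b₁' hb₁', smul_add, smul_add]
        have h5 := two (b₁ • vm)
        calc b₁ • b₁' • vm + b₁ • x' + (vm + x') = b₁ • b₁' • vm + vm + (b₁ • x' + x') + 0 := by abel
          _ = b₁ • b₁' • vm + vm + (b₁ • x' + x') + (b₁ • vm + b₁ • vm) := by rw [h5]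
          _ = _ := by abel
      rw [e, h3, h4, ← hn₁, ← hn₁', ← hf'.comm b₁ (h.s'.BJ hB1) _ hN1']
      have e2 : b₁ • n₁' = n₁' + φ := by
        rw [← hφ']
        have := two n₁'
        calc b₁ • n₁' = b₁ • n₁' + (n₁' + n₁') := by rw [this, add_zero]
          _ = _ := by abel
      rw [e2, hf'.add _ hN1' _ (h.s'.IN hφI), ← hff φ hφI]
    rw [hi, hii] at h1
    have h6 := two (f φ)
    have h7 := two (f' n₁')
    have h8 := two (f n₁)
    calc f (f φ) + f φ = (f (f φ) + f' n₁' + f n₁) + (f φ + f' n₁' + f n₁) := by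
          have : (f (f φ) + f' n₁' + f n₁) + (f φ + f' n₁' + f n₁) =
            f (f φ) + f φ + (f' n₁' + f' n₁') + (f n₁ + f n₁) := by abel
          rw [this, h7, h8, add_zero, add_zero]
      _ = (f' n₁' + f φ + f n₁ + (b₁ • x' + x')) + (f φ + f' n₁' + f n₁) := by rw [h1]
      _ = (f φ + f φ) + (f' n₁' + f' n₁') + (f n₁ + f n₁) + (b₁ • x' + x') := by abel
      _ = b₁ • x' + x' := by rw [h6, h7, h8]; simp
  -- end
  intro b hb
  obtain ⟨b₁, hb₁, b₁', hb₁', hgb⟩ := h.BQQ _ (hgB b (h.s.QB hb))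
  have hB1 := h.s.QB hb₁
  have hB1' := h.s'.QB hb₁'
  obtain ⟨bf, hbf, hbfv⟩ := h.s.exists_bf hf hb
  obtain ⟨β, hβ, hβv⟩ := h.s.exists_bf hf hb₁
  obtain ⟨β', hβ', hβv'⟩ := h.s'.exists_bf hf' hb₁'
  have hBβ := h.s.QB hβ
  have hBβ' := h.s'.QB hβ'
  have hl := lin b hb bf hbf hbfv b₁ hb₁ b₁' hb₁' hgb β hβ hβv β' hβ' hβv'
  have s1 := star b hb b₁ hb₁ b₁' hb₁' hgb
  have s2 := star bf hbf β hβ β' hβ' hl
  set n₁ := b₁ • g • w + g • w with hn₁
  have hN1 : n₁ ∈ N := h.s.VQ b₁ hb₁ _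
  set φ := b₁' • n₁ + n₁ with hφ
  have hφI : φ ∈ I := h.NB b₁' hB1' _ hN1
  have hφN := h.s.IN hφI
  have hφ2 : β' • (β • g • w + g • w) + (β • g • w + g • w) = f (f φ) := by
    have hN1' : b₁' • g • w + g • w ∈ N' := h.s'.VQ b₁' hb₁' _
    have hfn : f n₁ ∈ N := hf.mem _ hN1
    -- `[gw, β, β'] = [f n₁, β'] = f [n₁, β']`
    rw [hβv (g • w), ← hn₁, ← hf.comm β' (h.s.BJ hBβ') _ hN1, ← hf.add _ (h.s.NJ _ (h.s.BJ hBβ') _ hN1) _ hN1]
    congr 1
    rw [hn₁, h.symm hB1 hBβ' (g • w), hβv' (g • w), ← hf'.comm b₁ (h.s'.BJ hB1) _ hN1',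
      ← hf'.add _ (h.s'.NJ _ (h.s'.BJ hB1) _ hN1') _ hN1', ← h.symm hB1 hB1' (g • w)]
    exact (hff φ hφI).symm
  rw [hφ2, hβv x', ← s1] at s2
  -- `f⁴ φ + f³ φ = f (f² φ + f φ)`
  have hf1 := hf.mem _ hφN
  have hf2 := hf.mem _ hf1
  have hf3 := hf.mem _ hf2
  have hf4 := hf.mem _ hf3
  rw [hf.add _ hf2 _ hf1] at s2
  have s3 : f (f (f (f φ) + φ)) = 0 := by
    rw [hf.add _ hf2 _ hφN, hf.add _ hf3 _ hf1]
    have h6 := two (f (f (f φ)))
    calc f (f (f (f φ))) + f (f φ) = (f (f (f (f φ))) + f (f (f φ))) + (f (f (f φ)) + f (f φ)) := by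
          have : (f (f (f (f φ))) + f (f (f φ))) + (f (f (f φ)) + f (f φ)) =
            f (f (f (f φ))) + f (f φ) + (f (f (f φ)) + f (f (f φ))) := by abel
          rw [this, h6, add_zero]
      _ = 0 := by rw [s2, two]
  have s4 := finj _ (add_mem hf2 hφN) (finj _ (hf.mem _ (add_mem hf2 hφN)) s3)
  have s5 : f φ + φ = 0 := by
    apply finj1 _ (add_mem hf1 hφN)
    rw [hf.add _ hf1 _ hφN]
    have h6 := two (f φ)
    calc f (f φ) + f φ + (f φ + φ) = f (f φ) + φ + (f φ + f φ) := by abel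
      _ = 0 := by rw [s4, h6, add_zero]
  have s6 := finj1 _ hφN s5
  by_cases hb11 : b₁ = 1
  · -- `g b g⁻¹ = b₁' ∈ Q'`
    rw [hb11, one_mul] at hgb
    have h1 := h.s'.JQ g hg b₁' hb₁'
    rw [← hgb] at h1
    have h2 : g * b * g⁻¹ = b := by
      have h3 : g * (g * b * g⁻¹) = g * b := by rw [h1]; group
      exact mul_left_cancel h3
    rw [h2]; exact hb
  · have h1 : n₁ ∉ I := h.out _ hgw b₁ hb₁ hb11
    have h2 : b₁' = 1 := by
      by_contra h3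
      exact h1 (h.reg b₁' hb₁' h3 _ hN1 (h.eq_of_add s6))
    rw [hgb, h2, mul_one]
    exact hb₁

end TS

end Cfsg.Agent.Omega.NO1.TH
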