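import Cfsg.Agent.Omega.NO1.TH.EndG
import Cfsg.Agent.Omega.NO1.TH.EndDef

/-!
# N1, THE END (bb OMEGA 20698, 21741, helper70, helper456): one side

`JJ U H` : the group generated by the members in `H`.  `Sd.one` : **(M1)** a member in `H` is determined by its point
`N ∩ F_A`; `Sd.trans` : `J` is transitive on `I - 0`; `Sd.gen` : `J = ⟨A₁, A₂⟩`; `Sd.split` : `F_B = I + C_V(J)`.
-/

set_option autoImplicit false
set_option linter.unusedSectionVars false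

namespace Cfsg.Agent.Omega.NO1.TH

open Subgroup Cfsg.Agent.Omega.NO1.AB
open scoped Pointwise

universe u

variable {Y : Type u} [Group Y] {V : Type u} [AddCommGroup V] [DistribMulAction Y V]

/-- the group generated by the members in `H` -/
def JJ (U : Set (Subgroup Y)) (H : Subgroup Y) : Subgroup Y :=
  ⨆ A : {A : Subgroup Y // A ∈ U ∧ A ≤ H}, (A : Subgroup Y)

theorem le_JJ {U : Set (Subgroup Y)} {H A : Subgroup Y} (hA : A ∈ U) (hAH : A ≤ H) : A ≤ JJ U H :=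
  le_iSup (fun A : {A : Subgroup Y // A ∈ U ∧ A ≤ H} => (A : Subgroup Y)) ⟨A, hA, hAH⟩

theorem JJ_le_of {U : Set (Subgroup Y)} {H K : Subgroup Y} (h : ∀ A ∈ U, A ≤ H → A ≤ K) : JJ U H ≤ K :=
  iSup_le fun A => h A A.2.1 A.2.2

theorem JJ_le {U : Set (Subgroup Y)} {H : Subgroup Y} : JJ U H ≤ H := JJ_le_of fun _ _ h => h

theorem conj_JJ {U : Set (Subgroup Y)} (hc : Cls V U) {H : Subgroup Y} (x : Y) {j : Y} (hj : j ∈ JJ U H) :
    x * j * x⁻¹ ∈ JJ U (MulAut.conj x • H) := by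
  have h1 : JJ U H ≤ MulAut.conj x⁻¹ • JJ U (MulAut.conj x • H) := by
    apply JJ_le_of
    intro A hA hAH
    rw [← conj_le_iff]
    exact le_JJ (hc.conj A hA x) (conj_le_conj x hAH)
  have h2 := h1 hj
  rw [mem_conj, inv_inv] at h2
  exact h2

theorem conj_JJ' {U : Set (Subgroup Y)} [Finite Y] (hc : Cls V U) {H : Subgroup Y} {x : Y} (hx : x ∈ H) {j : Y}
    (hj : j ∈ JJ U H) : x * j * x⁻¹ ∈ JJ U H := by
  have h1 := conj_JJ hc x hj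
  rwa [conj_of_mem (K := H) (x := x) fun k hk => H.mul_mem (H.mul_mem hx hk) (H.inv_mem hx)] at h1

theorem mem_fx_JJ {U : Set (Subgroup Y)} {H : Subgroup Y} {v : V} (h : ∀ A ∈ U, A ≤ H → v ∈ fx V A) :
    v ∈ fx V (JJ U H) := by
  have h1 : JJ U H ≤ MulAction.stabilizer Y v := JJ_le_of fun A hA hAH a ha => h A hA hAH a ha
  exact fun j hj => h1 hj

theorem conj_le_of {H A : Subgroup Y} {x : Y} (hx : x ∈ H) (hA : A ≤ H) : MulAut.conj x • A ≤ H := by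
  intro y hy
  rw [mem_conj] at hy
  have h2 := mul_mem (mul_mem hx (hA hy)) (inv_mem hx)
  have e : x * (x⁻¹ * y * x) * x⁻¹ = y := by group
  rwa [e] at h2

/-- one side with the class of members -/
structure Sd (V : Type u) [AddCommGroup V] [DistribMulAction Y V] (U : Set (Subgroup Y)) (M H B Q : Subgroup Y)
    (N I : AddSubgroup V) (c : ℕ) : Prop where
  cls : Cls V U
  faith : ∀ y : Y, (∀ v : V, y • v = v) → y = 1
  s : Side V U M H B Q N I c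
  hB : B ∈ U
  BH : B ≤ H
  c3 : 3 ≤ c

namespace Sd

variable {U : Set (Subgroup Y)} {M H B Q : Subgroup Y} {N I : AddSubgroup V} {c : ℕ}
  (h : Sd V U M H B Q N I c)
include h

theorem two (v : V) : v + v = 0 := h.cls.two v

theorem eq_of_add {v v' : V} (hv : v + v' = 0) : v = v' := by
  have h1 : v + v' = v' + v' := by rw [hv, h.two]
  exact add_right_cancel h1

theorem add_eq {v v' w : V} (hv : v + v' = w) : v = w + v' := by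
  rw [← hv, add_assoc, h.two, add_zero]

theorem exists_ne0 {A : Subgroup Y} (hA : A ∈ U) (hAH : A ≤ H) : ∃ i ∈ N ⊓ fx V A, i ≠ 0 := by
  by_contra hcon
  push Not at hcon
  have h1 : N ⊓ fx V A = ⊥ := by
    rw [eq_bot_iff]
    intro x hx
    rw [AddSubgroup.mem_bot]
    exact hcon x hx
  have h2 := h.s.card_pt A hA hAH
  rw [h1] at h2
  have h3 : Nat.card (⊥ : AddSubgroup V) = 1 := by simp
  have := h.c3
  omega

theorem exists_out {A : Subgroup Y} (hA : A ∈ U) (hAH : A ≤ H) : ∃ n ∈ N, n ∉ fx V A := by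
  by_contra hcon
  push Not at hcon
  have h1 : N ⊓ fx V A = N := inf_eq_left.2 hcon
  have h2 := h.s.card_pt A hA hAH
  rw [h1, h.s.card_N] at h2
  have := h.c3
  nlinarith

theorem not_mem {A A₂ : Subgroup Y} (hop : N ⊓ fx V A ⊓ fx V A₂ = ⊥) {n : V} (hn : n ∈ N) (hnA : n ∈ fx V A)
    (hn0 : n ≠ 0) : n ∉ fx V A₂ := by
  intro h1
  apply hn0
  have h2 : n ∈ N ⊓ fx V A ⊓ fx V A₂ := ⟨⟨hn, hnA⟩, h1⟩
  rw [hop, AddSubgroup.mem_bot] at h2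
  exact h2

omit h in
theorem op_symm {A A₂ : Subgroup Y} (hop : N ⊓ fx V A ⊓ fx V A₂ = ⊥) : N ⊓ fx V A₂ ⊓ fx V A = ⊥ := by
  rw [inf_right_comm]; exact hop

theorem sup_eq [Finite V] {A A₂ : Subgroup Y} (hA : A ∈ U) (hAH : A ≤ H) (hA₂ : A₂ ∈ U) (hAH₂ : A₂ ≤ H)
    (hop : N ⊓ fx V A ⊓ fx V A₂ = ⊥) : N ⊓ fx V A ⊔ N ⊓ fx V A₂ = N := by
  apply eq_of_le_as (sup_le inf_le_left inf_le_left)
  have h1 := card_sup_as (N ⊓ fx V A) (N ⊓ fx V A₂)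
  have h2 : N ⊓ fx V A ⊓ (N ⊓ fx V A₂) = ⊥ := by
    rw [eq_bot_iff, ← hop]
    exact le_inf inf_le_left (inf_le_right.trans inf_le_right)
  have h3 : Nat.card (⊥ : AddSubgroup V) = 1 := by simp
  rw [h2, h.s.card_pt A hA hAH, h.s.card_pt A₂ hA₂ hAH₂, h3, mul_one] at h1
  rw [h.s.card_N, h1]

/-- an opposite member -/
theorem exists_op {A : Subgroup Y} (hA : A ∈ U) (hAH : A ≤ H) :
    ∃ A₂ ∈ U, A₂ ≤ H ∧ N ⊓ fx V A ⊓ fx V A₂ = ⊥ := by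
  obtain ⟨A₁, hA₁, hAH₁, hAM⟩ := h.s.opp
  have h1 : N ⊓ fx V A₁ ≠ I := fun h2 => hAM ((h.s.le_M A₁ hA₁ hAH₁).2 h2)
  by_cases h2 : N ⊓ fx V A = I
  · refine ⟨A₁, hA₁, hAH₁, ?_⟩
    rcases h.s.pt A hA hAH A₁ hA₁ hAH₁ with h3 | h3
    · exact absurd (h3.symm.trans h2) h1
    · exact h3
  · refine ⟨B, h.hB, h.BH, ?_⟩
    rcases h.s.pt A hA hAH B h.hB h.BH with h3 | h3
    · exact absurd (h3.trans h.s.I_eq) h2
    · exact h3

/-- `J` centralises `Q` -/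
theorem JQ {j : Y} (hj : j ∈ JJ U H) {q : Y} (hq : q ∈ Q) : j * q = q * j := by
  have h1 : JJ U H ≤ centralizer (Q : Set Y) := by
    apply JJ_le_of
    intro A hA hAH a ha
    rw [mem_centralizer_iff]
    intro y hy
    exact (h.cls.mem A hA).comm _ (h.s.Q_le A hA hAH hy) _ ha
  have h2 := h1 hj
  rw [mem_centralizer_iff] at h2
  exact (h2 q hq).symm

/-- `J` is irreducible on `N` -/
theorem irr [Finite V] (N₀ : AddSubgroup V) (h0 : N₀ ≤ N) (hJ : ∀ j ∈ JJ U H, ∀ n ∈ N₀, j • n ∈ N₀) :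
    N₀ = ⊥ ∨ N₀ = N := by
  by_cases hbot : N₀ = ⊥
  · exact Or.inl hbot
  right
  obtain ⟨n, hn, hn0⟩ : ∃ n ∈ N₀, n ≠ 0 := by
    by_contra hcon
    push Not at hcon
    exact hbot (eq_bot_iff.2 fun x hx => AddSubgroup.mem_bot.2 (hcon x hx))
  have key : ∀ A ∈ U, A ≤ H → (∃ n ∈ N₀, n ∉ fx V A) → N ⊓ fx V A ≤ N₀ := by
    rintro A hA hAH ⟨n, hn, hnA⟩ i hi
    obtain ⟨a, ha, hai⟩ := h.s.reg A hA hAH n (h0 hn) hnA i hi
    rw [← hai]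
    exact add_mem (hJ a (le_JJ hA hAH ha) n hn) hn
  obtain ⟨A₂, hA₂, hAH₂, hop⟩ := h.exists_op h.hB h.BH
  have hsup := h.sup_eq h.hB h.BH hA₂ hAH₂ hop
  apply le_antisymm h0
  have h1 : N ⊓ fx V B ≤ N₀ ∨ N ⊓ fx V A₂ ≤ N₀ := by
    by_cases hnB : n ∈ fx V B
    · right
      exact key A₂ hA₂ hAH₂ ⟨n, hn, h.not_mem hop (h0 hn) hnB hn0⟩
    · left
      exact key B h.hB h.BH ⟨n, hn, hnB⟩
  rw [← hsup]
  rcases h1 with h1 | h1
  · refine sup_le h1 (key A₂ hA₂ hAH₂ ?_)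
    obtain ⟨i, hi, hi0⟩ := h.exists_ne0 h.hB h.BH
    exact ⟨i, h1 hi, h.not_mem hop hi.1 hi.2 hi0⟩
  · refine sup_le (key B h.hB h.BH ?_) h1
    obtain ⟨i, hi, hi0⟩ := h.exists_ne0 hA₂ hAH₂
    exact ⟨i, h1 hi, h.not_mem (op_symm hop) hi.1 hi.2 hi0⟩

/-- the field structure for each member -/
theorem fs [Finite V] {A : Subgroup Y} (hA : A ∈ U) (hAH : A ≤ H) : FS (JJ U H) A Q N (N ⊓ fx V A) c where
  two := h.two
  NJ := fun j hj n hn => h.s.N_H j (JJ_le hj) n hn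
  irr := h.irr
  JQ := fun j hj q hq => h.JQ hj hq
  BJ := le_JJ hA hAH
  QB := h.s.Q_le A hA hAH
  card_Q := h.s.card_Q
  card_I := h.s.card_pt A hA hAH
  mem_I := fun v => Iff.rfl
  QN := h.s.fix
  VQ := h.s.comm
  onto := h.s.onto
  fix := fun q hq hq1 v hv q₂ hq₂ => by
    obtain ⟨n, hn, f, hf, rfl⟩ := AddSubgroup.mem_sup.1 (h.s.cent q hq hq1 v hv)
    rw [smul_add, h.s.fix q₂ hq₂ n hn, hf q₂ (h.s.QB hq₂)]
  c_two := by have := h.c3; omega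

/-- `N = EE n + I_A` for `n ∈ N - I_A` -/
theorem span [Finite Y] [Finite V] {A : Subgroup Y} (hA : A ∈ U) (hAH : A ≤ H) {n x : V} (hn : n ∈ N)
    (hnA : n ∉ fx V A) (hx : x ∈ N) : ∃ f, Sc (JJ U H) N f ∧ x + f n ∈ N ⊓ fx V A := by
  have fs := h.fs hA hAH
  obtain ⟨i, hi, hi0⟩ := h.exists_ne0 hA hAH
  obtain ⟨b, hb, hbi⟩ := h.s.reg A hA hAH n hn hnA i hi
  have hbQ : b ∉ Q := by
    intro h1
    apply hi0
    rw [← hbi, h.s.fix b h1 n hn, h.two]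
  have hi₂ : b • x + x ∈ N ⊓ fx V A := ⟨add_mem (h.s.N_H b (hAH hb) x hx) hx, h.s.comm_A A hA hAH b hb x hx⟩
  obtain ⟨b₀, hb₀, hb0⟩ := fs.exists_ne
  obtain ⟨f, -, -, hf, -, hfi⟩ := fs.exists_sc hb₀ hb0 hi hi0 hi₂
  refine ⟨f, hf, ?_⟩
  have hfn := hf.mem n hn
  refine ⟨add_mem hx hfn, ?_⟩
  by_contra h1
  apply hbQ
  apply h.s.free A hA hAH b hb _ (add_mem hx hfn) h1
  apply h.eq_of_add
  have h2 : b • f n + f n = b • x + x := by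
    rw [← hfi, ← hbi, hf.add _ (h.s.N_H b (hAH hb) n hn) _ hn, hf.comm b (le_JJ hA hAH hb) n hn]
  rw [smul_add]
  calc b • x + b • f n + (x + f n) = (b • x + x) + (b • f n + f n) := by abel
    _ = 0 := by rw [h2, h.two]

/-- **(M1)**, one inclusion -/
theorem one_le [Finite Y] [Finite V] {A A₂ : Subgroup Y} (hA : A ∈ U) (hAH : A ≤ H) (hA₂ : A₂ ∈ U) (hAH₂ : A₂ ≤ H)
    (hp : N ⊓ fx V A = N ⊓ fx V A₂) : A ≤ A₂ := by
  intro u hu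
  obtain ⟨n, hn, hnA⟩ := h.exists_out hA hAH
  have hnA₂ : n ∉ fx V A₂ := by
    intro h1
    apply hnA
    have h2 : n ∈ N ⊓ fx V A₂ := ⟨hn, h1⟩
    rw [← hp] at h2
    exact h2.2
  have hi : u • n + n ∈ N ⊓ fx V A := ⟨add_mem (h.s.N_H u (hAH hu) n hn) hn, h.s.comm_A A hA hAH u hu n hn⟩
  have hi₂ : u • n + n ∈ N ⊓ fx V A₂ := by rw [← hp]; exact hi
  obtain ⟨a, ha, hau⟩ := h.s.reg A₂ hA₂ hAH₂ n hn hnA₂ _ hi₂
  have hau' : a • n = u • n := add_right_cancel hau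
  obtain ⟨k, hk⟩ : ∃ k : Y, k = a⁻¹ * u := ⟨_, rfl⟩
  have hkn : k • n = n := by
    rw [hk, mul_smul, inv_smul_eq_iff, hau']
  have huJ := le_JJ hA hAH hu
  have haJ := le_JJ hA₂ hAH₂ ha
  have hkJ : k ∈ JJ U H := by
    rw [hk]; exact mul_mem (inv_mem haJ) huJ
  have hfix : ∀ v : V, u • v = v → a • v = v → k • v = v := by
    intro v h1 h2
    rw [hk, mul_smul, inv_smul_eq_iff, h1, h2]
  have hkN : ∀ x ∈ N, k • x = x := by
    intro x hx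
    obtain ⟨f, hf, hp1⟩ := h.span hA hAH hn hnA hx
    have hp2 : x + f n ∈ N ⊓ fx V A₂ := by rw [← hp]; exact hp1
    have h1 := hfix _ (hp1.2 u hu) (hp2.2 a ha)
    rw [smul_add, ← hf.comm k hkJ n hn, hkn] at h1
    exact add_right_cancel h1
  -- `k⁴ = 1`
  obtain ⟨q₀, hq₀, hq0⟩ := (h.fs hA hAH).exists_ne
  have hVX : ∀ v : V, k • v + v ∈ N ⊔ fx V A := by
    intro v
    rw [h.s.NF A hA hAH]
    apply h.s.cent q₀ hq₀ hq0
    rw [smul_add, ← mul_smul, ← h.JQ hkJ hq₀, mul_smul]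
    have h1 := hkN _ (h.s.comm q₀ hq₀ v)
    rw [smul_add] at h1
    apply h.eq_of_add
    calc k • q₀ • v + q₀ • v + (k • v + v) = (k • q₀ • v + k • v) + (q₀ • v + v) := by abel
      _ = 0 := by rw [h1, h.two]
  have hXN : ∀ x ∈ N ⊔ fx V A, k • x + x ∈ N := by
    intro x hx
    obtain ⟨n₁, hn₁, f, hf, rfl⟩ := AddSubgroup.mem_sup.1 hx
    have hf2 : f ∈ N ⊔ fx V A₂ := by
      rw [h.s.NF A₂ hA₂ hAH₂, ← h.s.NF A hA hAH]
      exact AddSubgroup.mem_sup_right hf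
    obtain ⟨n₂, hn₂, f₂, hf₂, hff⟩ := AddSubgroup.mem_sup.1 hf2
    have h1 : k • f + f ∈ N := by
      have h2 : k • f = a⁻¹ • f := by
        rw [hk, mul_smul, hf u hu]
      rw [h2, ← hff, smul_add, hf₂ a⁻¹ (inv_mem ha)]
      have h3 : a⁻¹ • n₂ + f₂ + (n₂ + f₂) = a⁻¹ • n₂ + n₂ := by
        have := h.two f₂
        calc a⁻¹ • n₂ + f₂ + (n₂ + f₂) = a⁻¹ • n₂ + n₂ + (f₂ + f₂) := by abel
          _ = _ := by rw [this, add_zero]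
      rw [h3]
      exact add_mem (h.s.N_H _ (inv_mem (hAH₂ ha)) _ hn₂) hn₂
    rw [smul_add, hkN n₁ hn₁]
    have h3 : n₁ + k • f + (n₁ + f) = k • f + f := by
      have := h.two n₁
      calc n₁ + k • f + (n₁ + f) = k • f + f + (n₁ + n₁) := by abel
        _ = _ := by rw [this, add_zero]
    rw [h3]; exact h1
  have hk4 : k ^ 2 ^ 2 = 1 := by
    apply h.faith
    intro v
    have hs : ∀ w : V, (k * k) • w = w + (k • (k • w + w) + (k • w + w)) := by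
      intro w
      rw [mul_smul, smul_add]
      have h1 := h.two (k • w)
      have h2 := h.two w
      calc k • k • w = k • k • w + 0 + 0 := by rw [add_zero, add_zero]
        _ = k • k • w + (k • w + k • w) + (w + w) := by rw [h1, h2]
        _ = _ := by abel
    obtain ⟨y, hy⟩ : ∃ y : V, y = k • (k • v + v) + (k • v + v) := ⟨_, rfl⟩
    have hyN : y ∈ N := by rw [hy]; exact hXN _ (hVX v)
    have hky : k • y = y := hkN y hyN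
    have e : k ^ 2 ^ 2 = (k * k) * (k * k) := by
      change k ^ 4 = _
      simp only [pow_succ, pow_zero, one_mul, mul_assoc]
    rw [e, mul_smul, hs v, ← hy, smul_add, hs v, ← hy, mul_smul, hky, hky]
    rw [add_assoc, h.two, add_zero]
  have hkQ : k ∈ Q := by
    apply h.s.ker k (JJ_le hkJ) ⟨2, hk4⟩ hkN
    intro v hv
    exact hfix v (hv A hA hAH u hu) (hv A₂ hA₂ hAH₂ a ha)
  have : u = a * k := by rw [hk]; group
  rw [this]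
  exact mul_mem ha (h.s.Q_le A₂ hA₂ hAH₂ hkQ)

/-- **(M1)** -/
theorem one [Finite Y] [Finite V] {A A₂ : Subgroup Y} (hA : A ∈ U) (hAH : A ≤ H) (hA₂ : A₂ ∈ U) (hAH₂ : A₂ ≤ H)
    (hp : N ⊓ fx V A = N ⊓ fx V A₂) : A = A₂ := by
  apply eq_of_le_of_card_ge (h.one_le hA hAH hA₂ hAH₂ hp)
  obtain ⟨y, hy⟩ := h.cls.eq A hA A₂ hA₂
  rw [hy, conj_card]

/-- a common non-zero vector of two points -/
theorem one' [Finite Y] [Finite V] {A A₂ : Subgroup Y} (hA : A ∈ U) (hAH : A ≤ H) (hA₂ : A₂ ∈ U) (hAH₂ : A₂ ≤ H)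
    {i : V} (hi : i ∈ N) (hi0 : i ≠ 0) (h1 : i ∈ fx V A) (h2 : i ∈ fx V A₂) : A = A₂ := by
  rcases h.s.pt A hA hAH A₂ hA₂ hAH₂ with h3 | h3
  · exact h.one hA hAH hA₂ hAH₂ h3
  · exact absurd h2 (h.not_mem h3 hi h1 hi0)

theorem op_of_ne [Finite Y] [Finite V] {A A₂ : Subgroup Y} (hA : A ∈ U) (hAH : A ≤ H) (hA₂ : A₂ ∈ U) (hAH₂ : A₂ ≤ H)
    (hne : A ≠ A₂) : N ⊓ fx V A ⊓ fx V A₂ = ⊥ := by
  rcases h.s.pt A hA hAH A₂ hA₂ hAH₂ with h3 | h3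
  · exact absurd (h.one hA hAH hA₂ hAH₂ h3) hne
  · exact h3

/-- `x i ∈ I_A`, `0 ≠ i ∈ I_A` : `x` normalises `A` -/
theorem norm_of [Finite Y] [Finite V] {A : Subgroup Y} (hA : A ∈ U) (hAH : A ≤ H) {x : Y} (hx : x ∈ H) {i : V}
    (hi : i ∈ N ⊓ fx V A) (hi0 : i ≠ 0) (hxi : x • i ∈ fx V A) : MulAut.conj x • A = A := by
  apply h.one' (h.cls.conj A hA x) (conj_le_of hx hAH) hA hAH (h.s.N_H x hx i hi.1) _ _ hxi
  · intro h1
    apply hi0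
    rw [← smul_zero x, smul_left_cancel_iff] at h1
    exact h1
  · rw [fx_conj]
    exact smul_mem_smul_as hi.2

/-- a third point -/
theorem exists_third [Finite Y] [Finite V] {A : Subgroup Y} (hA : A ∈ U) (hAH : A ≤ H) :
    ∃ A₁ ∈ U, A₁ ≤ H ∧ ∃ A₃ ∈ U, A₃ ≤ H ∧ N ⊓ fx V A ⊓ fx V A₁ = ⊥ ∧ N ⊓ fx V A ⊓ fx V A₃ = ⊥ ∧
      N ⊓ fx V A₁ ⊓ fx V A₃ = ⊥ := by
  obtain ⟨A₁, hA₁, hAH₁, hop⟩ := h.exists_op hA hAH
  obtain ⟨n, hn, hn0⟩ := h.exists_ne0 hA₁ hAH₁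
  obtain ⟨i, hi, hi0⟩ := h.exists_ne0 hA hAH
  have hnA := h.not_mem (op_symm hop) hn.1 hn.2 hn0
  obtain ⟨b, hb, hbi⟩ := h.s.reg A hA hAH n hn.1 hnA i hi
  have hb' : b • n = i + n := h.add_eq hbi
  have hbH := hAH hb
  have hA₃ := h.cls.conj A₁ hA₁ b
  have hAH₃ : MulAut.conj b • A₁ ≤ H := conj_le_of hbH hAH₁
  have hm : i + n ∈ fx V (MulAut.conj b • A₁) := by
    rw [← hb', fx_conj]; exact smul_mem_smul_as hn.2
  have hin : i + n ∈ N := add_mem hi.1 hn.1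
  have hin0 : i + n ≠ 0 := fun h1 => hnA (by rw [← h.eq_of_add h1]; exact hi.2)
  refine ⟨A₁, hA₁, hAH₁, _, hA₃, hAH₃, hop, ?_, ?_⟩
  · rcases h.s.pt A hA hAH _ hA₃ hAH₃ with h3 | h3
    · exfalso
      have h4 : i + n ∈ N ⊓ fx V (MulAut.conj b • A₁) := ⟨hin, hm⟩
      rw [← h3] at h4
      apply hnA
      have h5 := (fx V A).add_mem hi.2 h4.2
      rw [← add_assoc, h.two, zero_add] at h5
      exact h5
    · exact h3
  · rcases h.s.pt A₁ hA₁ hAH₁ _ hA₃ hAH₃ with h3 | h3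
    · exfalso
      have h4 : i + n ∈ N ⊓ fx V (MulAut.conj b • A₁) := ⟨hin, hm⟩
      rw [← h3] at h4
      have h5 := (fx V A₁).add_mem h4.2 hn.2
      rw [add_assoc, h.two, add_zero] at h5
      exact h.not_mem hop hi.1 hi.2 hi0 h5
    · exact h3

/-- `J` is transitive on `I_A - 0` -/
theorem trans [Finite Y] [Finite V] {A : Subgroup Y} (hA : A ∈ U) (hAH : A ≤ H) {i₁ i₂ : V} (h1 : i₁ ∈ N ⊓ fx V A)
    (h10 : i₁ ≠ 0) (h2 : i₂ ∈ N ⊓ fx V A) (h20 : i₂ ≠ 0) : ∃ j ∈ JJ U H, j • i₁ = i₂ := by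
  obtain ⟨A₁, hA₁, hAH₁, A₃, hA₃, hAH₃, ho1, ho3, ho13⟩ := h.exists_third hA hAH
  have hs := h.sup_eq hA₁ hAH₁ hA₃ hAH₃ ho13
  have h12 : i₁ + i₂ ∈ N ⊓ fx V A₁ ⊔ N ⊓ fx V A₃ := by
    rw [hs]; exact add_mem h1.1 h2.1
  obtain ⟨x, hx, y, hy, hxy⟩ := AddSubgroup.mem_sup.1 h12
  obtain ⟨a₁, ha₁, ha₁x⟩ := h.s.reg A₁ hA₁ hAH₁ i₁ h1.1 (h.not_mem ho1 h1.1 h1.2 h10) x hx
  have e1 : a₁ • i₁ = x + i₁ := h.add_eq ha₁x
  have e2 : x + i₁ = y + i₂ := by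
    apply h.eq_of_add
    calc x + i₁ + (y + i₂) = (x + y) + (i₁ + i₂) := by abel
      _ = 0 := by rw [hxy, h.two]
  have hout : x + i₁ ∉ fx V A₃ := by
    intro h3
    rw [e2] at h3
    have h4 := (fx V A₃).add_mem hy.2 h3
    rw [← add_assoc, h.two, zero_add] at h4
    exact h.not_mem ho3 h2.1 h2.2 h20 h4
  obtain ⟨a₃, ha₃, ha₃y⟩ := h.s.reg A₃ hA₃ hAH₃ (x + i₁) (add_mem hx.1 h1.1) hout y hy
  refine ⟨a₃ * a₁, mul_mem (le_JJ hA₃ hAH₃ ha₃) (le_JJ hA₁ hAH₁ ha₁), ?_⟩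
  rw [mul_smul, e1, h.add_eq ha₃y, e2, ← add_assoc, h.two, zero_add]

/-- `J = ⟨A₁, A₂⟩` -/
theorem gen [Finite Y] [Finite V] {A₁ A₂ : Subgroup Y} (hA₁ : A₁ ∈ U) (hAH₁ : A₁ ≤ H) (hA₂ : A₂ ∈ U) (hAH₂ : A₂ ≤ H)
    (hne : A₁ ≠ A₂) : JJ U H = A₁ ⊔ A₂ := by
  apply le_antisymm _ (sup_le (le_JJ hA₁ hAH₁) (le_JJ hA₂ hAH₂))
  apply JJ_le_of
  intro A hA hAH
  by_cases h1 : A = A₁
  · rw [h1]; exact le_sup_left
  by_cases h2 : A = A₂
  · rw [h2]; exact le_sup_right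
  have o1 := h.op_of_ne hA hAH hA₁ hAH₁ h1
  have o2 := h.op_of_ne hA hAH hA₂ hAH₂ h2
  have o12 := h.op_of_ne hA₁ hAH₁ hA₂ hAH₂ hne
  obtain ⟨n, hn, hn0⟩ := h.exists_ne0 hA₂ hAH₂
  have hs := h.sup_eq hA₁ hAH₁ hA hAH (op_symm o1)
  have hn' : n ∈ N ⊓ fx V A₁ ⊔ N ⊓ fx V A := by rw [hs]; exact hn.1
  obtain ⟨i, hi, x, hx, hix⟩ := AddSubgroup.mem_sup.1 hn'
  have hnA₁ := h.not_mem (op_symm o12) hn.1 hn.2 hn0
  obtain ⟨b, hb, hbi⟩ := h.s.reg A₁ hA₁ hAH₁ n hn.1 hnA₁ i hi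
  have hbn : b • n = x := by
    rw [h.add_eq hbi, ← hix, ← add_assoc, h.two, zero_add]
  have hx0 : x ≠ 0 := by
    rintro rfl
    apply hnA₁
    rw [← hix, add_zero]
    exact hi.2
  have h3 : MulAut.conj b • A₂ = A := by
    apply h.one' (h.cls.conj A₂ hA₂ b) (conj_le_of (hAH₁ hb) hAH₂) hA hAH hx.1 hx0 _ hx.2
    rw [← hbn, fx_conj]
    exact smul_mem_smul_as hn.2
  rw [← h3]
  exact conj_le_of (mem_sup_left hb) le_sup_right

/-- `F_B = I_B + C_V(J)` -/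
theorem split [Finite Y] [Finite V] {A : Subgroup Y} (hA : A ∈ U) (hAH : A ≤ H) {v : V} (hv : v ∈ fx V A) :
    ∃ i ∈ N ⊓ fx V A, v + i ∈ fx V (JJ U H) := by
  obtain ⟨A₁, hA₁, hAH₁, hop⟩ := h.exists_op hA hAH
  have hne : A ≠ A₁ := by
    rintro rfl
    obtain ⟨i, hi, hi0⟩ := h.exists_ne0 hA hAH
    exact h.not_mem hop hi.1 hi.2 hi0 hi.2
  have h1 : v ∈ N ⊔ fx V A₁ := by
    rw [h.s.NF A₁ hA₁ hAH₁, ← h.s.NF A hA hAH]
    exact AddSubgroup.mem_sup_right hv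
  obtain ⟨n, hn, f, hf, rfl⟩ := AddSubgroup.mem_sup.1 h1
  have hs := h.sup_eq hA hAH hA₁ hAH₁ hop
  rw [← hs] at hn
  obtain ⟨i, hi, i₁, hi₁, rfl⟩ := AddSubgroup.mem_sup.1 hn
  refine ⟨i, hi, ?_⟩
  have h2 : i + i₁ + f + i ∈ fx V A := add_mem hv hi.2
  have h3 : i + i₁ + f + i ∈ fx V A₁ := by
    have : i + i₁ + f + i = i₁ + f := by
      have := h.two i
      calc i + i₁ + f + i = i₁ + f + (i + i) := by abel
        _ = _ := by rw [this, add_zero]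
    rw [this]
    exact add_mem hi₁.2 hf
  have h4 : JJ U H ≤ MulAction.stabilizer Y (i + i₁ + f + i) := by
    rw [h.gen hA hAH hA₁ hAH₁ hne]
    exact sup_le (fun a ha => h2 a ha) fun a ha => h3 a ha
  exact fun j hj => h4 hj

end Sd

end Cfsg.Agent.Omega.NO1.TH
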