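import Cfsg.Agent.Omega.NO1.TH.EndB

/-!
# N1, the amalgam `(H, H^t)`, `k = 1`: THE END, (3) (bb OMEGA 20698, 21741)

`TwoE.endS` : `EndS` from `TwoE`.
-/

set_option autoImplicit false
set_option linter.unusedSectionVars false
set_option linter.unusedVariables false

namespace Cfsg.Agent.Omega.NO1.TH

open Subgroup Cfsg.Agent.Omega.NO1.AB
open scoped Pointwise

universe u

variable {Y : Type u} [Group Y] {V : Type u} [AddCommGroup V] [DistribMulAction Y V]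

/-- `TwoE` with the two modules `N`, `N'` and a member `B ≤ R`, `B ≰ Q` -/
structure TwoEN (V : Type u) [AddCommGroup V] [DistribMulAction Y V] (U : Set (Subgroup Y)) (T : Sylow 2 Y)
    (M H H' R P P' : Subgroup Y) (D D' W₁ W₁' : AddSubgroup V) (c : ℕ) (t : Y) (N N' : AddSubgroup V)
    (B : Subgroup Y) : Prop
    extends TwoE V U T M H H' R P P' D D' W₁ W₁' c t where
  n : HasN V U H R P D W₁ c N
  n' : HasN V U H' R P' D' W₁' c N'
  hB : B ∈ U
  hBR : B ≤ R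
  hBQ : ¬ B ≤ QQ H R
  hBQ' : ¬ B ≤ QQ H' R

theorem TwoEN.swap {U : Set (Subgroup Y)} {T : Sylow 2 Y} {M H H' R P P' : Subgroup Y} {D D' W₁ W₁' : AddSubgroup V}
    {c : ℕ} {t : Y} {N N' : AddSubgroup V} {B : Subgroup Y} (h : TwoEN V U T M H H' R P P' D D' W₁ W₁' c t N N' B) :
    TwoEN V U T M H' H R P' P D' D W₁' W₁ c t N' N B :=
  { h.toTwoE.swap with
    n := h.n'
    n' := h.n
    hB := h.hB
    hBR := h.hBR
    hBQ := h.hBQ'
    hBQ' := h.hBQ }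

theorem TwoE.twoN [Finite Y] [Finite V] {U : Set (Subgroup Y)} {T : Sylow 2 Y} {M H H' R P P' : Subgroup Y}
    {D D' W₁ W₁' : AddSubgroup V} {c : ℕ} {t : Y} (h : TwoE V U T M H H' R P P' D D' W₁ W₁' c t) :
    ∃ (N N' : AddSubgroup V) (B : Subgroup Y), TwoEN V U T M H H' R P P' D D' W₁ W₁' c t N N' B := by
  obtain ⟨N, hN⟩ := h.exists_N
  obtain ⟨N', hN'⟩ := h.swap.exists_N
  obtain ⟨B, hB, hBR, hBQ⟩ := Amal.exists_not_QQ h.a h.amb
  exact ⟨N, N', B, { h with n := hN, n' := hN', hB := hB, hBR := hBR, hBQ := hBQ, hBQ' := h.not_Q' hB hBR hBQ }⟩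

namespace TwoEN

variable [Finite Y] [Finite V] {U : Set (Subgroup Y)} {T : Sylow 2 Y} {M H H' R P P' : Subgroup Y}
  {D D' W₁ W₁' : AddSubgroup V} {c : ℕ} {t : Y} {N N' : AddSubgroup V} {B : Subgroup Y}
  (h : TwoEN V U T M H H' R P P' D D' W₁ W₁' c t N N' B)
include h

theorem BH : B ≤ H := h.hBR.trans h.a.RH

theorem B_P : B ≤ P := (h.k.cover B h.hB h.hBR h.hBQ).1

theorem smul_N {x : Y} (hx : x ∈ H) : x • N = N := smul_of_mem fun w hw => h.n.inv x hx w hw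

/-- `[v, b] ∈ N` for `b ∈ B ∩ Q` -/
theorem comm_N {b : Y} (hb : b ∈ B) (hbQ : b ∈ QQ H R) (v : V) : b • v + v ∈ N := by
  by_cases hb1 : b = 1
  · rw [hb1, one_smul, h.two]; exact zero_mem _
  · rw [← h.n.range B h.hB h.BH h.hBQ b hb hbQ hb1]
    exact ⟨v, rfl⟩

/-- `N' = t N` -/
theorem N'_eq : N' = t • N := by
  obtain ⟨A, hA, hAH, hAM⟩ := h.exists_A
  have hAQ := h.not_Q hAM
  obtain ⟨b, hb, hbQ, hb1⟩ := h.exists_b hA hAH hAQ
  rw [← h.n.range A hA hAH hAQ b hb hbQ hb1, ← h.range_conj]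
  symm
  apply h.n'.range (MulAut.conj t • A) (h.amb.cls.conj A hA t)
  · rw [h.H'_eq]; exact conj_le_conj t hAH
  · rw [h.Q'_eq, conj_le_conj_iff]; exact hAQ
  · exact conj_mem_conj hb
  · exact h.t_Q hbQ
  · intro h5
    apply hb1
    have h6 : t⁻¹ * (t * b * t⁻¹) * t = 1 := by rw [h5]; group
    have e : t⁻¹ * (t * b * t⁻¹) * t = b := by group
    rwa [e] at h6

theorem N_ne : N ≠ N' := by
  intro h1
  have h2 : N = ⊥ := by
    apply h.a.no_sub' h.amb h.n.inv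
    · intro w hw
      have h3 : t • w ∈ t • N := smul_mem_smul_as hw
      rwa [← h.N'_eq, ← h1] at h3
    · exact h.hB
    · exact h.n.le.trans (h.a.WW_le_Ee h.amb h.we h.hB h.BH)
  have h3 := h.n.card
  rw [h2] at h3
  have h4 : Nat.card ↥(⊥ : AddSubgroup V) = 1 := AddSubgroup.card_bot
  rw [h4] at h3
  have := h.four
  nlinarith

theorem QQB : B ⊓ QQ H R ⊓ (B ⊓ QQ H' R) = ⊥ := by
  by_contra hi
  obtain ⟨⟨b, hb⟩, hb1'⟩ := ne_bot_iff_exists_ne_one.1 hi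
  have hb1 : b ≠ 1 := fun h2 => hb1' (Subtype.ext h2)
  apply h.N_ne
  rw [← h.n.range B h.hB h.BH h.hBQ b hb.1.1 hb.1.2 hb1,
    ← h.n'.range B h.hB h.swap.BH h.hBQ' b hb.2.1 hb.2.2 hb1]

theorem mulB {u : Y} (hu : u ∈ B) : ∃ q ∈ B ⊓ QQ H R, ∃ q' ∈ B ⊓ QQ H' R, u = q * q' :=
  h.mul_of_bot h.hB h.hBR h.hBQ h.QQB hu

/-- `[V, B] ≤ N + N'` -/
theorem comm_Sig {u : Y} (hu : u ∈ B) (v : V) : u • v + v ∈ N ⊔ N' := by
  obtain ⟨q, hq, q', hq', rfl⟩ := h.mulB hu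
  have e : (q * q') • v + v = (q • q' • v + q' • v) + (q' • v + v) := by
    rw [mul_smul]
    have e1 : q • q' • v + q' • v + (q' • v + v) = q • q' • v + v + (q' • v + q' • v) := by abel
    rw [e1, h.two, add_zero]
  rw [e]
  exact AddSubgroup.add_mem_sup (h.comm_N hq.1 hq.2 _) (h.swap.comm_N hq'.1 hq'.2 v)

/-- `N ∩ F_B = I` -/
theorem N_F : N ⊓ fx V B = cmK P (WW V H R) := by
  apply le_antisymm
  · rw [← h.n.inf₁]
    exact le_inf inf_le_left fun v hv => h.fx_W₁ h.hB h.hBR h.hBQ (h.n.le hv.1) hv.2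
  · exact le_inf h.n.I_le (h.cm_le_W₁.trans (h.W₁_fx h.hB h.hBR h.hBQ))

/-- `N ∩ N' = I` -/
theorem NN' : N ⊓ N' = cmK P (WW V H R) := by
  apply le_antisymm
  · rw [← h.N_F]
    refine le_inf inf_le_left ?_
    intro v hv u hu
    obtain ⟨q, hq, q', hq', rfl⟩ := h.mulB hu
    rw [mul_smul, Amal.QQ_fix h.a' h.amb hq'.2 (h.n'.le hv.2), Amal.QQ_fix h.a h.amb hq.2 (h.n.le hv.1)]
  · refine le_inf h.n.I_le ?_
    rw [h.cm_eq']
    exact h.n'.I_le

/-- `N ∩ C(b') ≤ I` for `b' ∈ B - Q` -/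
theorem mem_I_of {n : V} (hn : n ∈ N) {b : Y} (hb : b ∈ B) (hbQ : b ∉ QQ H R) (h1 : b • n = n) :
    n ∈ cmK P (WW V H R) := by
  rw [← h.n.inf₁]
  refine ⟨hn, ?_⟩
  by_contra h2
  apply hbQ
  apply h.k.free b (h.B_P hb) n (h.n.le hn) h2
  rw [h1, h.two]
  exact zero_mem _

/-- `(N + N') ∩ F_B = I` -/
theorem Sig_F : (N ⊔ N') ⊓ fx V B = cmK P (WW V H R) := by
  apply le_antisymm
  · rintro v ⟨hv, hvF⟩
    obtain ⟨x, hx, y, hy, rfl⟩ := AddSubgroup.mem_sup.1 hv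
    apply add_mem
    · obtain ⟨b, hb, hbQ, hb1⟩ := h.swap.exists_b h.hB h.swap.BH h.hBQ'
      have hbQ2 : b ∉ QQ H R := by
        intro h2
        have h3 : b ∈ B ⊓ QQ H R ⊓ (B ⊓ QQ H' R) := ⟨⟨hb, h2⟩, ⟨hb, hbQ⟩⟩
        rw [h.QQB, mem_bot] at h3
        exact hb1 h3
      apply h.mem_I_of hx hb hbQ2
      have h2 := hvF b hb
      rw [smul_add, Amal.QQ_fix h.a' h.amb hbQ (h.n'.le hy)] at h2
      exact add_right_cancel h2
    · rw [h.cm_eq']
      obtain ⟨b, hb, hbQ, hb1⟩ := h.exists_b h.hB h.BH h.hBQ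
      have hbQ2 : b ∉ QQ H' R := by
        intro h2
        have h3 : b ∈ B ⊓ QQ H R ⊓ (B ⊓ QQ H' R) := ⟨⟨hb, hbQ⟩, ⟨hb, h2⟩⟩
        rw [h.QQB, mem_bot] at h3
        exact hb1 h3
      apply h.swap.mem_I_of hy hb hbQ2
      have h2 := hvF b hb
      rw [smul_add, Amal.QQ_fix h.a h.amb hbQ (h.n.le hx)] at h2
      exact add_left_cancel h2
  · rw [← h.N_F]
    exact inf_le_inf_right _ le_sup_left

/-- `E_B = N + N' + F_B` -/
theorem E_eq : Ee V B = N ⊔ N' ⊔ fx V B := by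
  have hm := h.amb.cls.mem B h.hB
  symm
  apply eq_of_le_as
  · refine sup_le (sup_le ?_ ?_) hm.FE
    · exact h.n.le.trans (h.a.WW_le_Ee h.amb h.we h.hB h.BH)
    · exact h.n'.le.trans (h.a'.WW_le_Ee h.amb h.we' h.hB h.swap.BH)
  · have h1 := card_sup_as N N'
    rw [h.NN', h.n.card, h.n'.card, h.card_I] at h1
    have h2 := card_sup_as (N ⊔ N') (fx V B)
    rw [h.Sig_F, h.card_I] at h2
    have h3 : Nat.card ↥(N ⊔ N') = c * c * c := by
      apply Nat.eq_of_mul_eq_mul_right h.c_pos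
      rw [h1]; ring
    rw [h3] at h2
    rw [hm.card_E h.two, h.card_A' h.hB h.BH h.hBQ]
    apply le_of_eq
    apply Nat.eq_of_mul_eq_mul_right h.c_pos
    rw [h2]; ring

/-- `Q ≤ P'` -/
theorem Q_le_P' : QQ H R ≤ P' := by
  intro q hq
  apply h.k'.mem_P q (QQ_le hq)
  intro w hw
  rw [← h.swap.W₁_eq_sup] at hw
  obtain ⟨d, hd, i, hi, rfl⟩ := AddSubgroup.mem_sup.1 hw
  rw [← h.cm_eq'] at hi
  have e : q • (d + i) + (d + i) = q • d + d := by
    rw [smul_add, Amal.QQ_fix h.a h.amb hq (h.n.le (h.n.I_le hi))]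
    have e : q • d + i + (d + i) = q • d + d + (i + i) := by abel
    rw [e, h.two, add_zero]
  rw [e]
  exact add_mem (h.k'.D_H q (h.a'.RH (QQ_le hq)) d hd) hd

/-- `Q ∩ Q'` centralises `N'^x` -/
theorem fix_conj {x : Y} (hx : x ∈ H) (hxM : x ∉ M) {y : Y} (hy : y ∈ QQ H R) (hy' : y ∈ QQ H' R) {n : V}
    (hn : n ∈ N') : y • x • n = x • n := by
  -- `[x n', y] ∈ x I` for all `n' ∈ N'`, `x ∈ H`
  have key : ∀ z ∈ H, ∀ m ∈ N', y • z • m + z • m ∈ z • cmK P (WW V H R) := by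
    intro z hz m hm
    have h1 : z⁻¹ * y * z ∈ QQ H R := by
      have := conj_mem_QQ (H.inv_mem hz) hy
      rwa [inv_inv] at this
    rw [mem_smul_as]
    have e : z⁻¹ • (y • z • m + z • m) = (z⁻¹ * y * z) • m + m := by
      simp only [smul_add, ← mul_smul]
      rw [inv_mul_cancel, one_smul, mul_assoc]
    rw [e, h.cm_eq', ← h.n'.inf₁]
    refine ⟨add_mem (h.n'.inv _ (h.a'.RH (QQ_le h1)) m hm) hm, ?_⟩
    exact h.k'.P_comm _ (h.Q_le_P' h1) m (h.n'.le hm)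
  obtain ⟨u, hu, huQ⟩ := SetLike.not_le_iff_exists.1 h.hBQ
  have huH := h.BH hu
  -- `[u x n, y] = [x n, y]`
  have h1 : y • (u • x • n + x • n) = u • x • n + x • n := by
    obtain ⟨a, ha, b, hb, hab⟩ := AddSubgroup.mem_sup.1 (h.comm_Sig hu (x • n))
    rw [← hab, smul_add, Amal.QQ_fix h.a h.amb hy (h.n.le ha), Amal.QQ_fix h.a' h.amb hy' (h.n'.le hb)]
  set z := y • x • n + x • n with hz
  have h2 : z = y • (u * x) • n + (u * x) • n := by
    rw [mul_smul]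
    rw [smul_add] at h1
    have h3 : y • u • x • n + u • x • n + (y • x • n + x • n) = 0 := by
      have e : y • u • x • n + u • x • n + (y • x • n + x • n) =
        (y • u • x • n + y • x • n) + (u • x • n + x • n) := by abel
      rw [e, h1, h.two]
    exact ((HE.add_eq_zero' h.two).1 h3).symm
  have h3 := key x hx n hn
  have h4 := key (u * x) (H.mul_mem huH hx) n hn
  rw [← h2] at h4
  rw [← hz] at h3
  -- `z ∈ x I ∩ u x I`
  rw [← smul_smul_as, mem_smul_as] at h4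
  have huu : u⁻¹ = u := by
    rw [inv_eq_iff_mul_eq_one]
    exact (h.amb.cls.mem B h.hB).sq u hu
  rw [huu] at h4
  have h5 : ∀ w, w ∈ x • cmK P (WW V H R) → w ∈ W₁ → w = 0 := by
    intro w hw hw1
    have h6 : x⁻¹ • w ∈ D := by
      rw [mem_smul_as] at hw
      exact h.k.opp x hx hxM _ (h.cm_le_W₁ hw) (by rw [smul_inv_smul]; exact hw1)
    rw [mem_smul_as] at hw
    have h7 : x⁻¹ • w ∈ cmK P (WW V H R) ⊓ D := ⟨hw, h6⟩
    rw [h.I_aux.2, AddSubgroup.mem_bot, smul_eq_zero_iff_eq] at h7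
    exact h7
  have hzW : z ∈ WW V H R := by
    rw [mem_smul_as] at h3
    have h6 := smul_mem_WW hx (h.n.le (h.n.I_le h3))
    rwa [smul_inv_smul] at h6
  have h6 : u • z + z = 0 := h5 _ (add_mem h4 h3) (h.k.P_comm u (h.B_P hu) z hzW)
  have h7 : z ∈ W₁ := by
    by_contra h8
    apply huQ
    apply h.k.free u (h.B_P hu) z hzW h8
    rw [h6]
    exact zero_mem _
  exact (HE.add_eq_zero' h.two).1 (h5 z h3 h7)

/-- **`Q ∩ Q' = 1`** -/
theorem QQ' : QQ H R ⊓ QQ H' R = ⊥ := by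
  obtain ⟨x, hx, hxU, hxH, hxM'⟩ := h.exists_opp h.hB h.BH h.hBQ
  have hxM : x ∉ M := by
    intro h1
    apply hxM'
    rw [conj_le_iff]
    intro y hy
    rw [mem_conj, inv_inv]
    exact M.mul_mem (M.mul_mem h1 (h.RM (h.hBR hy))) (M.inv_mem h1)
  have hR : ∀ r ∈ R, ∀ q ∈ QQ H R ⊓ QQ H' R, r * q * r⁻¹ ∈ QQ H R ⊓ QQ H' R := fun r hr q hq =>
    ⟨conj_mem_QQ (h.a.RH hr) hq.1, conj_mem_QQ (h.a'.RH hr) hq.2⟩
  have hB : ∀ r ∈ MulAut.conj x • B, ∀ q ∈ QQ H R ⊓ QQ H' R, r * q * r⁻¹ ∈ QQ H R ⊓ QQ H' R := by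
    intro r hr q hq
    have h1 : r * q * r⁻¹ ∈ QQ H R := conj_mem_QQ (hxH hr) hq.1
    refine ⟨h1, ?_⟩
    -- it centralises `N'`
    have h2 : ∀ n ∈ N', (r * q * r⁻¹) • n = n := by
      intro n hn
      have hr2 : r⁻¹ ∈ MulAut.conj x • B := (MulAut.conj x • B).inv_mem hr
      have hr3 := hr2
      rw [mem_conj] at hr3
      -- `r⁻¹ n = n + x (..)`
      have h3 := h.comm_Sig hr3 (x⁻¹ • n)
      obtain ⟨a, ha, b, hb, hab⟩ := AddSubgroup.mem_sup.1 h3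
      have h4 : r⁻¹ • n = n + (x • a + x • b) := by
        rw [← smul_add, hab, smul_add]
        simp only [← mul_smul]
        rw [mul_inv_cancel, one_smul]
        have e : x * (x⁻¹ * r⁻¹ * x * x⁻¹) = r⁻¹ := by group
        rw [e, add_comm (r⁻¹ • n), ← add_assoc, h.two, zero_add]
      have h5 : q • (n + (x • a + x • b)) = n + (x • a + x • b) := by
        rw [smul_add, smul_add, Amal.QQ_fix h.a' h.amb hq.2 (h.n'.le hn), h.fix_conj hx hxM hq.1 hq.2 hb,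
          Amal.QQ_fix h.a h.amb hq.1 (h.n.le (h.n.inv x hx a ha))]
      rw [mul_smul, mul_smul, h4, h5, ← h4, smul_inv_smul]
    obtain ⟨n, hn, hn1⟩ : ∃ n ∈ N', n ∉ W₁' := by
      by_contra hcon
      push Not at hcon
      have h3 : N' ≤ cmK P' (WW V H' R) := by
        rw [← h.n'.inf₁]
        exact le_inf le_rfl hcon
      have h4 := Nat.card_le_card_of_injective _ (AddSubgroup.inclusion_injective h3)
      rw [h.n'.card, h.swap.card_I] at h4
      have := h.four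
      nlinarith
    apply h.k'.free _ (h.Q_le_P' h1) n (h.n'.le hn) hn1
    rw [h2 n hn, h.two]
    exact zero_mem _
  have hH : ∀ r ∈ H, ∀ q ∈ QQ H R ⊓ QQ H' R, r * q * r⁻¹ ∈ QQ H R ⊓ QQ H' R := by
    have hle : H ≤ normalizer ((QQ H R ⊓ QQ H' R : Subgroup Y) : Set Y) := by
      refine h.gen_induct hxH hxM' ?_ ?_
      · intro r hr
        rw [mem_normalizer_iff]
        intro q
        refine ⟨fun hq => hR r hr q hq, fun hq => ?_⟩
        have h2 := hR r⁻¹ (R.inv_mem hr) _ hq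
        have e : r⁻¹ * (r * q * r⁻¹) * r⁻¹⁻¹ = q := by group
        rwa [e] at h2
      · intro r hr
        rw [mem_normalizer_iff]
        intro q
        refine ⟨fun hq => hB r hr q hq, fun hq => ?_⟩
        have h2 := hB r⁻¹ ((MulAut.conj x • B).inv_mem hr) _ hq
        have e : r⁻¹ * (r * q * r⁻¹) * r⁻¹⁻¹ = q := by group
        rwa [e] at h2
    intro r hr q hq
    exact (mem_normalizer_iff.1 (hle hr) q).1 hq
  apply h.a.no_inv h.amb.core (h.a.R2.to_le (inf_le_left.trans QQ_le)) hH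
  · intro y hy
    refine ⟨?_, h.t_Q hy.1⟩
    have h1 := h.swap.t_Q hy.2
    exact h1
  · intro y hy
    refine ⟨h.t_Q_inv hy.2, ?_⟩
    exact h.swap.t_Q_inv hy.1

/-- `Q ≤ B` -/
theorem Q_le_B : QQ H R ≤ B := by
  have h1 : Nat.card ↥(QQ H R) ≤ c := by
    -- `Q × Q' → P'`
    have h2 : Function.Injective (fun p : ↥(QQ H R) × ↥(QQ H' R) =>
        (⟨(p.1 : Y) * p.2, P'.mul_mem (h.Q_le_P' p.1.2) (h.k'.QP p.2.2)⟩ : P')) := by
      rintro ⟨a, b⟩ ⟨a', b'⟩ hab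
      have h4 : (a : Y) * b = a' * b' := congrArg Subtype.val hab
      have h5 : (a' : Y)⁻¹ * a = b' * (b : Y)⁻¹ := by
        rw [eq_mul_inv_iff_mul_eq, mul_assoc, h4]; group
      have h6 : (a' : Y)⁻¹ * a ∈ QQ H R ⊓ QQ H' R := ⟨(QQ H R).mul_mem ((QQ H R).inv_mem a'.2) a.2, by
        rw [h5]; exact (QQ H' R).mul_mem b'.2 ((QQ H' R).inv_mem b.2)⟩
      rw [h.QQ', mem_bot] at h6
      have h7 : (a : Y) = a' := (inv_mul_eq_one.1 h6).symm
      rw [h6] at h5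
      have h8 : (b : Y) = b' := (mul_inv_eq_one.1 h5.symm).symm
      exact Prod.ext (Subtype.ext h7) (Subtype.ext h8)
    have h3 := Nat.card_le_card_of_injective _ h2
    rw [Nat.card_prod, h.k'.card_P] at h3
    exact Nat.le_of_mul_le_mul_right h3 Nat.card_pos
  have h2 : B ⊓ QQ H R = QQ H R := by
    apply eq_of_le_of_card_ge inf_le_right
    rw [h.card_AQ h.hB h.BH h.hBQ]
    exact h1
  rw [← h2]
  exact inf_le_left

theorem card_Q : Nat.card ↥(QQ H R) = c := by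
  rw [← h.card_AQ h.hB h.BH h.hBQ, inf_eq_right.2 h.Q_le_B]

/-- `B` is the only member in `R` -/
theorem uniq {A : Subgroup Y} (hA : A ∈ U) (hAR : A ≤ R) : A = B := by
  have hAH := hAR.trans h.a.RH
  have hAQ : ¬ A ≤ QQ H R := by
    intro h1
    obtain ⟨y, hy⟩ := h.amb.cls.eq B h.hB A hA
    have h2 : Nat.card A = c * c := by rw [hy, conj_card, h.card_A' h.hB h.BH h.hBQ]
    have h3 := Nat.card_le_card_of_injective _ (inclusion_injective h1)
    rw [h2, h.card_Q] at h3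
    have := h.four
    nlinarith
  have hAQ' := h.not_Q' hA hAR hAQ
  have h1 : QQ H R ≤ A := by
    have h2 : A ⊓ QQ H R = QQ H R := by
      apply eq_of_le_of_card_ge inf_le_right
      rw [h.card_AQ hA hAH hAQ, h.card_Q]
    rw [← h2]
    exact inf_le_left
  have h1' : QQ H' R ≤ A := by
    have h2 : A ⊓ QQ H' R = QQ H' R := by
      apply eq_of_le_of_card_ge inf_le_right
      rw [h.swap.card_AQ hA (hAR.trans h.a'.RH) hAQ', h.swap.card_Q]
    rw [← h2]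
    exact inf_le_left
  symm
  apply eq_of_le_of_card_ge
  · intro u hu
    obtain ⟨q, hq, q', hq', rfl⟩ := h.mulB hu
    exact A.mul_mem (h1 hq.2) (h1' hq'.2)
  · rw [h.card_A' h.hB h.BH h.hBQ, h.card_A' hA hAH hAQ]

/-- the members in `H` are the `H`-conjugates of `B` -/
theorem exists_conjB {A : Subgroup Y} (hA : A ∈ U) (hAH : A ≤ H) : ∃ x ∈ H, A = MulAut.conj x • B := by
  obtain ⟨x, hx, h1, h2⟩ := h.a.exists_conj h.amb hA hAH
  refine ⟨x⁻¹, H.inv_mem hx, ?_⟩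
  rw [← h.uniq h1 h2, conj_inv_smul']

theorem not_Q_of {A : Subgroup Y} (hA : A ∈ U) (hAH : A ≤ H) : ¬ A ≤ QQ H R := by
  obtain ⟨x, hx, rfl⟩ := h.exists_conjB hA hAH
  exact h.conj_not_Q hx h.hBQ

theorem Q_le_mem {A : Subgroup Y} (hA : A ∈ U) (hAH : A ≤ H) : QQ H R ≤ A := by
  obtain ⟨x, hx, rfl⟩ := h.exists_conjB hA hAH
  intro q hq
  rw [mem_conj]
  have h1 := conj_mem_QQ (H.inv_mem hx) hq
  rw [inv_inv] at h1
  exact h.Q_le_B h1

theorem P_eq_B : P = B := by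
  obtain ⟨h1, h2⟩ := h.k.cover B h.hB h.hBR h.hBQ
  rw [sup_eq_left.2 h.Q_le_B] at h2
  exact le_antisymm h2 h1

theorem D_fxB : D ≤ fx V B := h.k.DW.trans (h.W₁_fx h.hB h.hBR h.hBQ)

theorem D_fxA {A : Subgroup Y} (hA : A ∈ U) (hAH : A ≤ H) : D ≤ fx V A := by
  obtain ⟨x, hx, rfl⟩ := h.exists_conjB hA hAH
  intro v hv
  rw [fx_conj, mem_smul_as]
  exact h.D_fxB (h.k.D_H _ (H.inv_mem hx) v hv)

theorem fixq {q : Y} (hq : q ∈ QQ H R) (hq1 : q ≠ 1) {v : V} (hv : q • v = v) : v ∈ N ⊔ fx V B := by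
  have h1 := h.cent_b h.hB h.BH h.hBQ (h.Q_le_B hq) hq hq1 hv
  rw [← h.n.sup] at h1
  exact (sup_le (sup_le (h.D_fxB.trans le_sup_right) le_sup_left) le_sup_right : D ⊔ N ⊔ fx V B ≤ N ⊔ fx V B) h1

theorem exists_q : ∃ q ∈ QQ H R, q ≠ 1 := by
  obtain ⟨b, hb, hbQ, hb1⟩ := h.exists_b h.hB h.BH h.hBQ
  exact ⟨b, hbQ, hb1⟩

theorem NF {A : Subgroup Y} (hA : A ∈ U) (hAH : A ≤ H) : N ⊔ fx V A = N ⊔ fx V B := by
  obtain ⟨q, hq, hq1⟩ := h.exists_q
  apply le_antisymm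
  · intro v hv
    apply h.fixq hq hq1
    obtain ⟨n, hn, f, hf, rfl⟩ := AddSubgroup.mem_sup.1 hv
    rw [smul_add, Amal.QQ_fix h.a h.amb hq (h.n.le hn), hf q (h.Q_le_mem hA hAH hq)]
  · intro v hv
    have h1 : q • v = v := by
      obtain ⟨n, hn, f, hf, rfl⟩ := AddSubgroup.mem_sup.1 hv
      rw [smul_add, Amal.QQ_fix h.a h.amb hq (h.n.le hn), hf q (h.Q_le_B hq)]
    obtain ⟨x, hx, rfl⟩ := h.exists_conjB hA hAH
    have h2 : x⁻¹ * q * x ∈ QQ H R := by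
      have := conj_mem_QQ (H.inv_mem hx) hq
      rwa [inv_inv] at this
    have h3 : x⁻¹ * q * x ≠ 1 := by
      intro h4
      apply hq1
      have e : x * (x⁻¹ * q * x) * x⁻¹ = q := by group
      rw [← e, h4]; group
    have h4 : (x⁻¹ * q * x) • x⁻¹ • v = x⁻¹ • v := by
      rw [← mul_smul, mul_inv_cancel_right, mul_smul, h1]
    obtain ⟨n, hn, f, hf, hnf⟩ := AddSubgroup.mem_sup.1 (h.fixq h2 h3 h4)
    have h5 : v = x • n + x • f := by
      rw [← smul_add, hnf, smul_inv_smul]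
    rw [h5, fx_conj]
    exact AddSubgroup.add_mem_sup (h.n.inv x hx n hn) (smul_mem_smul_as hf)

theorem pt_eq {x : Y} (hx : x ∈ H) : N ⊓ fx V (MulAut.conj x • B) = x • cmK P (WW V H R) := by
  rw [← h.N_F, smul_inf_as, h.smul_N hx, fx_conj]

theorem smul_I {x : Y} (hx : x ∈ H) (hxM : x ∈ M) : x • cmK P (WW V H R) = cmK P (WW V H R) := by
  rw [← h.n.inf₁, smul_inf_as, h.smul_N hx, h.smul_W₁ hx hxM]

theorem I_or {x : Y} (hx : x ∈ H) : x • cmK P (WW V H R) = cmK P (WW V H R) ∨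
    cmK P (WW V H R) ⊓ x • cmK P (WW V H R) = ⊥ := by
  by_cases hxM : x ∈ M
  · exact Or.inl (h.smul_I hx hxM)
  · exact Or.inr (h.I_inf hx hxM)

/-- one side -/
theorem side : Side V U M H B (QQ H R) N (cmK P (WW V H R)) c where
  QB := h.Q_le_B
  card_Q := h.card_Q
  Q_H := fun x hx q hq => conj_mem_QQ hx hq
  Q_le := fun A hA hAH => h.Q_le_mem hA hAH
  N_H := h.n.inv
  card_N := h.n.card
  card_I := h.card_I
  I_eq := h.N_F
  comm := fun q hq v => h.comm_N (h.Q_le_B hq) hq v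
  onto := fun q hq hq1 n hn => by
    rw [← h.n.range B h.hB h.BH h.hBQ q (h.Q_le_B hq) hq hq1] at hn
    obtain ⟨v, rfl⟩ := hn
    exact ⟨v, rfl⟩
  cent := fun q hq hq1 v hv => h.fixq hq hq1 hv
  fix := fun q hq n hn => Amal.QQ_fix h.a h.amb hq (h.n.le hn)
  NF := fun A hA hAH => h.NF hA hAH
  card_pt := fun A hA hAH => by
    obtain ⟨x, hx, rfl⟩ := h.exists_conjB hA hAH
    rw [h.pt_eq hx, card_smul_as, h.card_I]
  comm_A := fun A hA hAH a ha n hn => h.a.WW_le_Ee h.amb h.we hA hAH (h.n.le hn) a ha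
  reg := fun A hA hAH n hn hnF i hi => by
    obtain ⟨x, hx, rfl⟩ := h.exists_conjB hA hAH
    rw [h.pt_eq hx, mem_smul_as] at hi
    rw [fx_conj, mem_smul_as] at hnF
    have h1 := h.n.inv _ (H.inv_mem hx) n hn
    obtain ⟨p, hp, h2⟩ := h.k.onto (x⁻¹ • n) (h.n.le h1) (fun h3 => hnF (h.W₁_fx h.hB h.hBR h.hBQ h3)) (x⁻¹ • i)
      (h.cm_le_W₁ hi)
    have h3 : p • x⁻¹ • n + x⁻¹ • n + x⁻¹ • i ∈ D ⊓ N :=
      ⟨h2, add_mem (add_mem (h.n.inv p (h.a.RH (h.k.PR hp)) _ h1) h1) (h.n.I_le hi)⟩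
    rw [h.n.inf, AddSubgroup.mem_bot] at h3
    have h4 := (HE.add_eq_zero' h.two).1 h3
    refine ⟨x * p * x⁻¹, conj_mem_conj (h.P_eq_B ▸ hp), ?_⟩
    have e : (x * p * x⁻¹) • n + n = x • (p • x⁻¹ • n + x⁻¹ • n) := by
      simp only [smul_add, ← mul_smul]
      rw [mul_inv_cancel, one_smul, mul_assoc]
    rw [e, h4, smul_inv_smul]
  free := fun A hA hAH a ha n hn hnF h1 => h.cent hA hAH (h.not_Q_of hA hAH) (h.n.le hn) hnF ha h1
  pt := fun A hA hAH A₂ hA₂ hA₂H => by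
    obtain ⟨x, hx, rfl⟩ := h.exists_conjB hA hAH
    obtain ⟨y, hy, rfl⟩ := h.exists_conjB hA₂ hA₂H
    rw [h.pt_eq hx, h.pt_eq hy]
    rcases h.I_or (H.mul_mem (H.inv_mem hx) hy) with h1 | h1
    · left
      conv_lhs => rw [← h1]
      rw [smul_smul_as, mul_inv_cancel_left]
    · right
      rw [eq_bot_iff]
      rintro v ⟨hv, hvF⟩
      have h2 : v ∈ N ⊓ fx V (MulAut.conj y • B) := by
        refine ⟨?_, hvF⟩
        have hv' : v ∈ x • cmK P (WW V H R) := hv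
        rw [mem_smul_as] at hv'
        have h3 := h.n.inv x hx _ (h.n.I_le hv')
        rwa [smul_inv_smul] at h3
      rw [h.pt_eq hy, mem_smul_as] at h2
      have hv' : v ∈ x • cmK P (WW V H R) := hv
      rw [mem_smul_as] at hv'
      have h3 : x⁻¹ • v ∈ cmK P (WW V H R) ⊓ (x⁻¹ * y) • cmK P (WW V H R) := by
        refine ⟨hv', ?_⟩
        change x⁻¹ • v ∈ (x⁻¹ * y) • cmK P (WW V H R)
        rw [mem_smul_as, ← mul_smul]
        have e : (x⁻¹ * y)⁻¹ * x⁻¹ = y⁻¹ := by group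
        rwa [e]
      rw [h1, AddSubgroup.mem_bot, smul_eq_zero_iff_eq] at h3
      exact h3
  le_M := fun A hA hAH => by
    constructor
    · intro hAM
      have h1 := h.WF_M hA hAH (h.not_Q_of hA hAH) hAM
      rw [← h.n.inf₁, ← h1]
      apply le_antisymm
      · exact le_inf inf_le_left (le_inf (inf_le_left.trans h.n.le) inf_le_right)
      · exact le_inf inf_le_left (inf_le_right.trans inf_le_right)
    · intro h1
      obtain ⟨x, hx, rfl⟩ := h.exists_conjB hA hAH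
      rw [h.pt_eq hx] at h1
      have hxM : x ∈ M := by
        by_contra hxM
        have h2 := h.I_inf hx hxM
        rw [h1, inf_idem] at h2
        have h3 := h.card_I
        have h4 : Nat.card ↥(⊥ : AddSubgroup V) = 1 := AddSubgroup.card_bot
        rw [h2, h4] at h3
        have := h.four
        omega
      intro y hy
      rw [mem_conj] at hy
      have h2 := M.mul_mem (M.mul_mem hxM (h.RM (h.hBR hy))) (M.inv_mem hxM)
      have e : x * (x⁻¹ * y * x) * x⁻¹ = y := by group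
      rwa [e] at h2
  opp := h.exists_A
  ker := fun x hx hx2 hN hF => by
    have h1 : IsPGroup 2 (zpowers x) := by
      intro g
      obtain ⟨k, hk⟩ := hx2
      refine ⟨k, ?_⟩
      obtain ⟨g, n, rfl⟩ := g
      apply Subtype.ext
      change (x ^ n) ^ 2 ^ k = 1
      rw [← zpow_natCast, zpow_comm, zpow_natCast, hk, one_zpow]
    obtain ⟨g, hg, hgR⟩ := conj_into h.a.RH h.a.R2 (fun R' h1 h2 => h.a.card_le h.a.bad.ne le_rfl h1 h2)
      (zpowers_le.2 hx) h1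
    have h2 : g * x * g⁻¹ ∈ R := hgR (conj_mem_conj (mem_zpowers x))
    have h3 : ∀ w ∈ WW V H R, x • w = w := by
      intro w hw
      rw [← h.n.sup] at hw
      obtain ⟨d, hd, n, hn, rfl⟩ := AddSubgroup.mem_sup.1 hw
      rw [smul_add, hN n hn, hF d fun A hA hAH => h.D_fxA hA hAH hd]
    have h4 : g * x * g⁻¹ ∈ QQ H R := by
      rw [Amal.mem_QQ_iff h.a h.amb h2]
      intro w hw
      rw [mul_smul, mul_smul, h3 _ (smul_mem_WW (H.inv_mem hg) hw), smul_inv_smul]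
    have h5 := conj_mem_QQ (H.inv_mem hg) h4
    have e : g⁻¹ * (g * x * g⁻¹) * g⁻¹⁻¹ = x := by group
    rwa [e] at h5

/-- **THE END, (3')**: both sides. -/
theorem endS : EndS V U T M H H' R B (QQ H R) (QQ H' R) N N' (cmK P (WW V H R)) c t where
  amb := h.amb
  a := h.a
  a' := h.a'
  four := h.four
  s := h.side
  s' := by
    rw [h.cm_eq']
    exact h.swap.side
  H'_eq := h.H'_eq
  H_eq := h.H_eq
  Q'_eq := h.Q'_eq
  Q_eq := h.swap.Q'_eq
  N'_eq := h.N'_eq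
  N_eq := h.swap.N'_eq
  hB := h.hB
  BR := h.hBR
  uniq := fun A hA hAR => h.uniq hA hAR
  tB := by
    have h1 : MulAut.conj t • B ≤ R := by
      intro y hy
      rw [mem_conj] at hy
      have h2 := h.a.t_norm _ (h.hBR hy)
      have e : t * (t⁻¹ * y * t) * t⁻¹ = y := by group
      rwa [e] at h2
    have h2 := h.uniq (h.amb.cls.conj B h.hB t) h1
    intro b hb
    rw [← h2]
    exact conj_mem_conj hb
  QQ' := h.QQ'
  mul := fun b hb => by
    obtain ⟨q, hq, q', hq', rfl⟩ := h.mulB hb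
    exact ⟨q, hq.2, q', hq'.2, rfl⟩
  NN' := h.NN'
  E_eq := h.E_eq
  P_eq := fun r hr hI => by
    rw [← h.P_eq_B]
    apply h.k.mem_P r hr
    intro w hw
    rw [← h.W₁_eq_sup] at hw
    obtain ⟨d, hd, i, hi, rfl⟩ := AddSubgroup.mem_sup.1 hw
    have e : r • (d + i) + (d + i) = r • d + d := by
      rw [smul_add, hI i hi]
      have e : r • d + i + (d + i) = r • d + d + (i + i) := by abel
      rw [e, h.two, add_zero]
    rw [e]
    exact add_mem (h.k.D_H r (h.a.RH hr) d hd) hd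
  card_V := h.ind B h.hB

end TwoEN

/-- **THE END, (0')-(3')** (bb OMEGA 20698, 21741): from 503's theorem (#20297) to `EndS`. -/
theorem TwoE.endS [Finite Y] [Finite V] {U : Set (Subgroup Y)} {T : Sylow 2 Y} {M H H' R P P' : Subgroup Y}
    {D D' W₁ W₁' : AddSubgroup V} {c : ℕ} {t : Y} (h : TwoE V U T M H H' R P P' D D' W₁ W₁' c t) :
    ∃ (B Q Q' : Subgroup Y) (N N' I : AddSubgroup V), EndS V U T M H H' R B Q Q' N N' I c t := by
  obtain ⟨N, N', B, hn⟩ := h.twoN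
  exact ⟨B, QQ H R, QQ H' R, N, N', _, hn.endS⟩

/-- the same with `|V : E_A| = a`, `a ≥ 4`, (PF) -/
theorem TwoK.endS [Finite Y] [Finite V] {U : Set (Subgroup Y)} {T : Sylow 2 Y} {M H H' R P P' : Subgroup Y}
    {D D' W₁ W₁' : AddSubgroup V} {c : ℕ} {t : Y} (h : TwoK V U T M H H' R P P' D D' W₁ W₁' c t) {a : ℕ}
    (ha : 4 ≤ a) (hind : ∀ A ∈ U, (Ee V A).index = a) (hpf : ∀ A ∈ U, a ^ 2 ≤ Nat.card A)
    (hnoff : ∀ A : Subgroup Y, (∀ x ∈ A, ∀ y ∈ A, x * y = y * x) → (∀ x ∈ A, x * x = 1) → A ≠ ⊥ →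
      Nat.card A < (fx V A).index) :
    a = c ∧ ∃ (B Q Q' : Subgroup Y) (N N' I : AddSubgroup V), EndS V U T M H H' R B Q Q' N N' I c t := by
  have hV : ∀ A ∈ U, Nat.card V = a * Nat.card ↥(Ee V A) := fun A hA => by
    rw [← hind A hA, AddSubgroup.index_mul_card]
  obtain ⟨A, hA, hAH, hAM⟩ := h.exists_A
  obtain ⟨h1, -, -⟩ := h.main_top hA hAH hAM (hV A hA) (by rw [← sq]; exact hpf A hA)
  subst h1
  exact ⟨rfl, TwoE.endS { h with four := ha, ind := hV, noff := fun A hA hne => hnoff A hA.1 hA.2 hne }⟩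

end Cfsg.Agent.Omega.NO1.TH
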