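import Cfsg.Agent.Omega.NO1.TH.EndTwoM

/-!
# N1, BETA, `a = 2` (FrTwo): the END of the amalgam `(H, H^t)` for `k = 1` (bb OMEGA 20939, helper817), last part

`In.bot` : `C_V(H) = 0` is impossible.  `In.endC` : the configuration with `C_V(H) ≠ 0` (`|V| = 32`).
`In.false` : contradiction if `V` is irreducible.
-/

set_option autoImplicit false
set_option linter.unusedSectionVars false

namespace Cfsg.Agent.Omega.NO1.TH.ET

open Subgroup Cfsg.Agent.Omega.NO1.AB
open scoped Pointwise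

universe u

variable {Y : Type u} [Group Y] {V : Type u} [AddCommGroup V] [DistribMulAction Y V]

namespace Kn

variable {U : Set (Subgroup Y)} {T : Sylow 2 Y} {M H R : Subgroup Y} {t : Y} {B : Subgroup Y} {g : Y} {z : V} {b : Y}
variable [Finite Y] [Finite V] (i : Kn V U T M H R t B g z b)
include i

theorem cQ : t * b * t⁻¹ ∉ QQ H R := fun h => i.bQ' (mem_conj.2 (i.tQ.1 h))

theorem cR : t * b * t⁻¹ ∈ R := i.a.t_norm _ (QQ_le i.bQ)

theorem cc : t * b * t⁻¹ * (t * b * t⁻¹) = 1 := by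
  have e1 : t * b * t⁻¹ * (t * b * t⁻¹) = t * (b * b) * t⁻¹ := by group
  rw [e1, i.bb]; group

theorem R_cases {r : Y} (hr : r ∈ R) : r ∈ QQ H R ∨ t * b * t⁻¹ * r ∈ QQ H R := by
  by_cases h : r ∈ QQ H R
  · exact Or.inl h
  · exact Or.inr (mul_mem_of QQ_le i.o.cR i.cR hr i.cQ h)

/-- an element of `D` centralised by `R`: so are its `H`-conjugates -/
theorem cen_conj {d : Y} (hd : InD i.amb.two H R g z d) (hc : ∀ r ∈ R, Commute d r) {x : Y} (hx : x ∈ H) :
    ∀ r ∈ R, Commute (x * d * x⁻¹) r := by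
  have hQ : ∀ q ∈ QQ H R, Commute (x * d * x⁻¹) q := by
    intro q hq
    have h1 : x⁻¹ * q * x ∈ QQ H R := by
      have := conj_mem_QQ (H.inv_mem hx) hq
      rwa [inv_inv] at this
    have h3 : d * (x⁻¹ * q * x) = (x⁻¹ * q * x) * d := hc _ (QQ_le h1)
    have e1 : x * d * x⁻¹ * q = x * (d * (x⁻¹ * q * x)) * x⁻¹ := by group
    have e2 : q * (x * d * x⁻¹) = x * ((x⁻¹ * q * x) * d) * x⁻¹ := by group
    change x * d * x⁻¹ * q = q * (x * d * x⁻¹)
    rw [e1, e2, h3]
  intro r hr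
  rcases i.R_cases hr with h3 | h3
  · exact hQ r h3
  · have h4 : Commute (x * d * x⁻¹) (t * b * t⁻¹) := i.D_comm (i.D_conj hd hx) i.D_b
    have h5 := h4.mul_right (hQ _ h3)
    rwa [← mul_assoc, i.cc, one_mul] at h5

theorem eq_b {d : Y} (hd : InD i.amb.two H R g z d) (hc : ∀ r ∈ R, Commute d r) (h1 : d ≠ 1) : d = b := by
  rcases i.D_cen hd (fun u hu => by
    rw [mem_conj] at hu
    have h3 : g⁻¹ * d * g⁻¹⁻¹ * (g⁻¹ * u * g) = (g⁻¹ * u * g) * (g⁻¹ * d * g⁻¹⁻¹) :=
      i.cen_conj hd hc (H.inv_mem i.gH) _ (i.BR hu)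
    have e1 : d * u = g * (g⁻¹ * d * g⁻¹⁻¹ * (g⁻¹ * u * g)) * g⁻¹ := by group
    have e2 : u * d = g * ((g⁻¹ * u * g) * (g⁻¹ * d * g⁻¹⁻¹)) * g⁻¹ := by group
    rw [e1, e2, h3]) with h3 | h3
  · exact absurd h3 h1
  · exact h3

/-- `b` is central in `R` -/
theorem b_cen : ∀ r ∈ R, Commute b r := by
  have : Fact (Nat.Prime 2) := ⟨Nat.prime_two⟩
  have h2 := i.amb.two
  let N' : Subgroup R :=
    { carrier := {d | InD h2 H R g z (d : Y)}
      one_mem' := ⟨one_mem _, fun v => by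
        change (1 : Y) • v + v ∈ _
        rw [one_smul, h2]; exact zero_mem _⟩
      mul_mem' := fun {x y} hx hy => i.D_mul hx hy
      inv_mem' := fun {x} hx => i.D_inv hx }
  have hN : N'.Normal := ⟨fun d hd x => i.D_conj hd (i.a.RH x.2)⟩
  have hne : N' ≠ ⊥ := by
    intro h3
    have h4 : (⟨b, QQ_le i.bQ⟩ : R) ∈ N' := i.D_b
    rw [h3, mem_bot] at h4
    exact i.b1 (congrArg Subtype.val h4)
  have hnil : Group.IsNilpotent R := i.a.R2.isNilpotent
  have h3 := Cfsg.Agent.Lib.NormalAbelian.normal_inf_center_ne_bot N' hne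
  obtain ⟨⟨d, hd⟩, hd1⟩ := Subgroup.ne_bot_iff_exists_ne_one.1 h3
  have hdc : ∀ r ∈ R, Commute (d : Y) r := by
    intro r hr
    have h4 := mem_center_iff.1 hd.2 ⟨r, hr⟩
    exact (congrArg Subtype.val h4).symm
  have h4 : (d : Y) = b := i.eq_b hd.1 hdc (fun h5 => hd1 (Subtype.ext (Subtype.ext h5)))
  rwa [h4] at hdc

/-- `b` is central in `H` -/
theorem b_cenH {x : Y} (hx : x ∈ H) : x * b * x⁻¹ = b := by
  apply i.eq_b (i.D_conj i.D_b hx) (i.cen_conj i.D_b i.b_cen hx)
  intro h3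
  apply i.b1
  have e1 : b = x⁻¹ * (x * b * x⁻¹) * x := by group
  rw [e1, h3]; group

/-- `b' = t b t⁻¹` is central in `R` -/
theorem c_cen : ∀ r ∈ R, Commute (t * b * t⁻¹) r := by
  intro r hr
  have h3 : b * (t⁻¹ * r * t) = (t⁻¹ * r * t) * b := i.b_cen _ (i.a.symm_smul hr)
  have e1 : t * b * t⁻¹ * r = t * (b * (t⁻¹ * r * t)) * t⁻¹ := by group
  have e2 : r * (t * b * t⁻¹) = t * ((t⁻¹ * r * t) * b) * t⁻¹ := by group
  change t * b * t⁻¹ * r = r * (t * b * t⁻¹)
  rw [e1, e2, h3]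

/-- `t b' t⁻¹ = b` -/
theorem tct : t * (t * b * t⁻¹) * t⁻¹ = b := by
  have h3 : b * (t * t) = (t * t) * b := i.b_cen _ i.a.t_sq
  have e1 : t * (t * b * t⁻¹) * t⁻¹ = ((t * t) * b) * (t * t)⁻¹ := by group
  rw [e1, ← h3]; group

/-- `Q ∩ Q^t = 1` -/
theorem K_bot : QQ H R ⊓ MulAut.conj t • QQ H R = ⊥ := by
  set K := QQ H R ⊓ MulAut.conj t • QQ H R with hK
  have memK : ∀ y, y ∈ K ↔ y ∈ QQ H R ∧ t⁻¹ * y * t ∈ QQ H R := fun y => by
    rw [hK, mem_inf, mem_conj]
  apply i.a.no_inv i.amb.core (N := K) ((Amal.QQ2 i.a i.amb).to_le inf_le_left)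
  · let L : Subgroup Y :=
      { carrier := {x | ∀ y ∈ K, x * y * x⁻¹ ∈ K ∧ x⁻¹ * y * x ∈ K}
        one_mem' := fun y hy => by simpa using hy
        mul_mem' := fun {x x'} hx hx' y hy => by
          have e1 : x * x' * y * (x * x')⁻¹ = x * (x' * y * x'⁻¹) * x⁻¹ := by group
          have e2 : (x * x')⁻¹ * y * (x * x') = x'⁻¹ * (x⁻¹ * y * x) * x' := by group
          rw [e1, e2]
          exact ⟨(hx _ (hx' y hy).1).1, (hx' _ (hx y hy).2).2⟩
        inv_mem' := fun {x} hx y hy => by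
          rw [inv_inv]
          exact ⟨(hx y hy).2, (hx y hy).1⟩ }
    have hR : R ≤ L := by
      have key : ∀ r ∈ R, ∀ y ∈ K, r * y * r⁻¹ ∈ K := by
        intro r hr y hy
        rw [memK] at hy ⊢
        refine ⟨conj_mem_QQ (i.a.RH hr) hy.1, ?_⟩
        have h3 := conj_mem_QQ (i.a.RH (i.a.symm_smul hr)) hy.2
        have e1 : t⁻¹ * r * t * (t⁻¹ * y * t) * (t⁻¹ * r * t)⁻¹ = t⁻¹ * (r * y * r⁻¹) * t := by group
        rwa [e1] at h3
      intro r hr y hy
      refine ⟨key r hr y hy, ?_⟩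
      have := key r⁻¹ (R.inv_mem hr) y hy
      rwa [inv_inv] at this
    have hc : g * (t * b * t⁻¹) * g⁻¹ ∈ L := by
      have key : ∀ y ∈ K, Commute (g * (t * b * t⁻¹) * g⁻¹) y := by
        intro y hy
        have h1 : g⁻¹ * y * g ∈ QQ H R := by
          have := conj_mem_QQ (H.inv_mem i.gH) ((memK y).1 hy).1
          rwa [inv_inv] at this
        have h3 : t * b * t⁻¹ * (g⁻¹ * y * g) = (g⁻¹ * y * g) * (t * b * t⁻¹) := i.c_cen _ (QQ_le h1)
        have e1 : g * (t * b * t⁻¹) * g⁻¹ * y = g * (t * b * t⁻¹ * (g⁻¹ * y * g)) * g⁻¹ := by group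
        have e2 : y * (g * (t * b * t⁻¹) * g⁻¹) = g * ((g⁻¹ * y * g) * (t * b * t⁻¹)) * g⁻¹ := by group
        change g * (t * b * t⁻¹) * g⁻¹ * y = y * (g * (t * b * t⁻¹) * g⁻¹)
        rw [e1, e2, h3]
      intro y hy
      have h3 := key y hy
      constructor
      · have h4 : g * (t * b * t⁻¹) * g⁻¹ * y = y * (g * (t * b * t⁻¹) * g⁻¹) := h3
        rw [h4, mul_assoc, mul_inv_cancel, mul_one]
        exact hy
      · have h4 : g * (t * b * t⁻¹) * g⁻¹ * y = y * (g * (t * b * t⁻¹) * g⁻¹) := h3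
        rw [mul_assoc, ← h4, ← mul_assoc, inv_mul_cancel, one_mul]
        exact hy
    have hA : MulAut.conj g • B ≤ L := by
      intro u hu
      rw [mem_conj] at hu
      rcases i.R_cases (i.BR hu) with h3 | h3
      · have h4 := conj_mem_QQ i.gH h3
        have e1 : g * (g⁻¹ * u * g) * g⁻¹ = u := by group
        rw [e1] at h4
        exact hR (QQ_le h4)
      · have h4 := conj_mem_QQ i.gH h3
        have h5 := L.mul_mem hc (hR (QQ_le h4))
        have e1 : g * (t * b * t⁻¹) * g⁻¹ * (g * (t * b * t⁻¹ * (g⁻¹ * u * g)) * g⁻¹) =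
            g * (t * b * t⁻¹ * (t * b * t⁻¹)) * g⁻¹ * u := by group
        rw [e1, i.cc, mul_one, mul_inv_cancel, one_mul] at h5
        exact h5
    have hH : H ≤ L := by
      rw [← i.a.gen i.AH i.gM]
      exact sup_le hR hA
    exact fun x hx y hy => (hH hx y hy).1
  · intro y hy
    rw [memK] at hy ⊢
    refine ⟨i.tQ.2 hy.2, ?_⟩
    have e1 : t⁻¹ * (t * y * t⁻¹) * t = y := by group
    rw [e1]; exact hy.1
  · intro y hy
    rw [memK] at hy ⊢
    refine ⟨hy.2, ?_⟩
    have h3 := conj_mem_QQ (H.inv_mem (i.a.RH i.a.t_sq)) hy.1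
    have e1 : (t * t)⁻¹ * y * (t * t)⁻¹⁻¹ = t⁻¹ * (t⁻¹ * y * t) * t := by
      rw [inv_inv, mul_inv_rev]; simp only [mul_assoc]
    rwa [e1] at h3

theorem Q_elts {q : Y} (hq : q ∈ QQ H R) : q = 1 ∨ q = b := by
  by_cases h : q ∈ MulAut.conj t • QQ H R
  · left
    have h3 : q ∈ QQ H R ⊓ MulAut.conj t • QQ H R := ⟨hq, h⟩
    rwa [i.K_bot, mem_bot] at h3
  · right
    have h3 : q * b ∈ MulAut.conj t • QQ H R :=
      mul_mem_of (One.conj_QQ_le i.a) (by rw [conj_card]; exact i.o.cR) (QQ_le hq) (QQ_le i.bQ) h i.bQ'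
    have h4 : q * b ∈ QQ H R ⊓ MulAut.conj t • QQ H R := ⟨mul_mem hq i.bQ, h3⟩
    rw [i.K_bot, mem_bot] at h4
    have h5 : q * b * b = b := by rw [h4, one_mul]
    rwa [mul_assoc, i.bb, mul_one] at h5

theorem R_elts {r : Y} (hr : r ∈ R) : r = 1 ∨ r = b ∨ r = t * b * t⁻¹ ∨ r = t * b * t⁻¹ * b := by
  rcases i.R_cases hr with h3 | h3
  · rcases i.Q_elts h3 with h4 | h4
    · exact Or.inl h4
    · exact Or.inr (Or.inl h4)
  · have e1 : r = t * b * t⁻¹ * (t * b * t⁻¹ * r) := by rw [← mul_assoc, i.cc, one_mul]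
    rcases i.Q_elts h3 with h4 | h4
    · right; right; left
      rw [e1, h4, mul_one]
    · right; right; right
      rw [e1, h4]

theorem B_eq : B = R := by
  apply eq_of_le_of_card_ge i.BR
  rw [i.card_B, i.o.cR]
  have h3 : Nat.card ↥(QQ H R) ≤ 2 := by
    have h4 : ((QQ H R : Subgroup Y) : Set Y) ⊆ {1, b} := fun q hq => i.Q_elts hq
    change Nat.card ((QQ H R : Subgroup Y) : Set Y) ≤ 2
    rw [Nat.card_coe_set_eq]
    refine (Set.ncard_le_ncard h4 (Set.toFinite _)).trans ?_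
    exact (Set.ncard_insert_le _ _).trans (by rw [Set.ncard_singleton])
  omega

theorem card_V : Nat.card V = 16 * Nat.card (fx V H) := by
  have hm := i.amb.cls.mem B i.BU
  have h3 := (Ee V B).card_mul_index
  rw [i.ind, hm.card_E i.amb.two, i.card_B] at h3
  have h4 : Nat.card ↥(fx V B) = 2 * Nat.card (fx V H) := by
    rw [← i.o.cV, i.B_eq]
  rw [← h3, h4]; ring

theorem card_C : Nat.card (fx V H) ≤ 2 := by
  have h3 : fx V H ⊓ t • fx V H = ⊥ := by
    rw [eq_bot_iff]
    rintro x ⟨hx, hx'⟩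
    rw [AddSubgroup.mem_bot]
    have hx'' : x ∈ t • fx V H := hx'
    rw [mem_smul_as] at hx''
    apply Amal.C_inf i.a i.amb hx
    rwa [← i.a.inv_smul_V0 (i.a.C_le hx)]
  have h4 := card_sup_as (fx V H) (t • fx V H)
  rw [h3, AddSubgroup.card_bot, mul_one, card_smul_as] at h4
  have h5 : Nat.card ↥(fx V H ⊔ t • fx V H) ≤ Nat.card (fx V R) := by
    apply Nat.card_le_card_of_injective _ (AddSubgroup.inclusion_injective (sup_le i.a.C_le _))
    intro x hx
    rw [mem_smul_as] at hx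
    have := i.a.smul_V0 (i.a.C_le hx)
    rwa [smul_inv_smul] at this
  rw [h4, i.o.cV] at h5
  exact Nat.le_of_mul_le_mul_right h5 Nat.card_pos

/-! ### `V₁` -/

/-- `⟨z, gz, tgz, gtgz⟩` -/
def V1 (h2 : ∀ v : V, v + v = 0) (t g : Y) (z : V) : AddSubgroup V :=
  tw h2 z ⊔ tw h2 (g • z) ⊔ tw h2 (t • g • z) ⊔ tw h2 (g • t • g • z)

theorem z_V1 : z ∈ V1 i.amb.two t g z :=
  (le_sup_left.trans (le_sup_left.trans le_sup_left) : tw i.amb.two z ≤ V1 i.amb.two t g z) (Or.inr rfl)

theorem gz_V1 : g • z ∈ V1 i.amb.two t g z :=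
  (le_sup_right.trans (le_sup_left.trans le_sup_left) : tw i.amb.two (g • z) ≤ V1 i.amb.two t g z) (Or.inr rfl)

theorem tgz_V1 : t • g • z ∈ V1 i.amb.two t g z :=
  (le_sup_right.trans le_sup_left : tw i.amb.two (t • g • z) ≤ V1 i.amb.two t g z) (Or.inr rfl)

theorem v_V1 : g • t • g • z ∈ V1 i.amb.two t g z :=
  (le_sup_right : tw i.amb.two (g • t • g • z) ≤ V1 i.amb.two t g z) (Or.inr rfl)

/-- commutators of `b'` -/
theorem cc_cases (v : V) : (t * b * t⁻¹) • v + v = 0 ∨ (t * b * t⁻¹) • v + v = z ∨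
    (t * b * t⁻¹) • v + v = t • g • z ∨ (t * b * t⁻¹) • v + v = t • g • z + z := by
  have e1 : (t * b * t⁻¹) • v + v = t • (b • t⁻¹ • v + t⁻¹ • v) := by
    rw [smul_add, smul_inv_smul, mul_smul, mul_smul]
  rw [e1]
  rcases Jn.mem_N.1 (i.cbN (t⁻¹ • v)) with h6 | h6 | h6 | h6 <;> rw [h6]
  · left; rw [smul_zero]
  · right; left; exact i.tz
  · right; right; left; rfl
  · right; right; right; rw [smul_add, i.tz]

theorem comm_H : ∀ x ∈ H, ∀ v : V, x • v + v ∈ V1 i.amb.two t g z := by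
  have h2 := i.amb.two
  let K : Subgroup Y :=
    { carrier := {x | ∀ v : V, x • v + v ∈ V1 h2 t g z}
      one_mem' := fun v => by rw [one_smul, h2]; exact zero_mem _
      mul_mem' := fun {x y} hx hy v => by
        have h3 := add_mem (hx (y • v)) (hy v)
        have e1 : x • y • v + y • v + (y • v + v) = x • y • v + v + (y • v + y • v) := by abel
        rw [e1, h2, add_zero] at h3
        rwa [mul_smul]
      inv_mem' := fun {x} hx v => by
        have h3 := hx (x⁻¹ • v)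
        rw [smul_inv_smul, add_comm] at h3
        exact h3 }
  have hb : b ∈ K := by
    intro v
    rcases Jn.mem_N.1 (i.cbN v) with h6 | h6 | h6 | h6 <;> rw [h6]
    · exact zero_mem _
    · exact i.z_V1
    · exact i.gz_V1
    · exact add_mem i.gz_V1 i.z_V1
  have hc : t * b * t⁻¹ ∈ K := by
    intro v
    rcases i.cc_cases v with h6 | h6 | h6 | h6 <;> rw [h6]
    · exact zero_mem _
    · exact i.z_V1
    · exact i.tgz_V1
    · exact add_mem i.tgz_V1 i.z_V1
  have hgc : g * (t * b * t⁻¹) * g⁻¹ ∈ K := by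
    intro v
    have e1 : (g * (t * b * t⁻¹) * g⁻¹) • v + v = g • ((t * b * t⁻¹) • g⁻¹ • v + g⁻¹ • v) := by
      rw [smul_add, smul_inv_smul, ← mul_smul, ← mul_smul, mul_assoc]
    rw [e1]
    rcases i.cc_cases (g⁻¹ • v) with h6 | h6 | h6 | h6 <;> rw [h6]
    · rw [smul_zero]; exact zero_mem _
    · exact i.gz_V1
    · exact i.v_V1
    · rw [smul_add]; exact add_mem i.v_V1 i.gz_V1
  have hR : R ≤ K := by
    intro r hr
    rcases i.R_elts hr with rfl | rfl | rfl | rfl
    · exact one_mem _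
    · exact hb
    · exact hc
    · exact mul_mem hc hb
  have hA : MulAut.conj g • B ≤ K := by
    intro u hu
    rw [mem_conj] at hu
    have e1 : u = g * (g⁻¹ * u * g) * g⁻¹ := by group
    rcases i.R_elts (i.BR hu) with h3 | h3 | h3 | h3 <;> rw [e1, h3]
    · rw [mul_one, mul_inv_cancel]; exact one_mem _
    · rw [i.b_cenH i.gH]; exact hb
    · exact hgc
    · have e2 : g * (t * b * t⁻¹ * b) * g⁻¹ = g * (t * b * t⁻¹) * g⁻¹ * (g * b * g⁻¹) := by group
      rw [e2, i.b_cenH i.gH]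
      exact mul_mem hgc hb
  have hH : H ≤ K := by
    rw [← i.a.gen i.AH i.gM]
    exact sup_le hR hA
  exact fun x hx v => hH hx v

theorem V1_inv {x : Y} (hx : x ∈ H) {v : V} (hv : v ∈ V1 i.amb.two t g z) : x • v ∈ V1 i.amb.two t g z := by
  have h3 := add_mem (i.comm_H x hx v) hv
  rwa [add_assoc, i.amb.two, add_zero] at h3

/-- `V₁ ≰ E_U` -/
theorem v_not : g • t • g • z ∉ Ee V B := by
  intro h1
  have h3 : V1 i.amb.two t g z ≤ Ee V B := by
    refine sup_le (sup_le (sup_le ?_ ?_) ?_) ?_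
    · rintro x (rfl | rfl)
      · exact zero_mem _
      · exact i.we B i.BU i.BR (fx_le_WW i.zR)
    · rintro x (rfl | rfl)
      · exact zero_mem _
      · exact i.we B i.BU i.BR i.gzW
    · rintro x (rfl | rfl)
      · exact zero_mem _
      · exact Amal.tW_le_Ee i.a i.amb i.we i.BU i.BR i.tgz.1
    · rintro x (rfl | rfl)
      · exact zero_mem _
      · exact h1
  have h4 := h3 (i.V1_inv (H.inv_mem i.gH) i.tgz_V1)
  apply i.tgzE
  rw [Ee_conj, mem_smul_as]
  exact h4

/-- `V = V₁ + C` -/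
theorem sup_top : V1 i.amb.two t g z ⊔ fx V H = ⊤ := by
  have h2 := i.amb.two
  rw [eq_top_iff]
  have hm := i.amb.cls.mem B i.BU
  have hE : Ee V B ≤ V1 h2 t g z ⊔ fx V H := by
    intro e he
    obtain ⟨u, hu, h3⟩ := hm.surj _ i.v_not e he
    have h4 := AddSubgroup.mem_sup_left (T := fx V H) (i.comm_H u (i.a.RH (i.BR hu)) (g • t • g • z))
    have h5 : u • (g • t • g • z) + g • t • g • z + e ∈ V1 h2 t g z ⊔ fx V H := by
      have h6 : u • (g • t • g • z) + g • t • g • z + e ∈ fx V R := by rwa [← i.B_eq]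
      by_cases h7 : u • (g • t • g • z) + g • t • g • z + e ∈ fx V H
      · exact AddSubgroup.mem_sup_right h7
      · have h8 := add_mem_of i.a.C_le i.o.cV h6 i.zR h7 i.zH
        have h9 := add_mem (AddSubgroup.mem_sup_right (S := V1 h2 t g z) h8)
          (AddSubgroup.mem_sup_left (T := fx V H) i.z_V1)
        rwa [add_assoc, h2, add_zero] at h9
    have h6 := add_mem h4 h5
    have e1 : u • (g • t • g • z) + g • t • g • z + (u • (g • t • g • z) + g • t • g • z + e) =
        (u • (g • t • g • z) + g • t • g • z) + (u • (g • t • g • z) + g • t • g • z) + e := by abel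
    rwa [e1, h2, zero_add] at h6
  intro x _
  by_cases hx : x ∈ Ee V B
  · exact hE hx
  · have h3 : x + g • t • g • z ∈ Ee V B :=
      (AddSubgroup.add_mem_iff_of_index_two i.ind).2 ⟨fun h4 => absurd h4 hx, fun h4 => absurd h4 i.v_not⟩
    have h4 := add_mem (hE h3) (AddSubgroup.mem_sup_left (T := fx V H) i.v_V1)
    rwa [add_assoc, h2, add_zero] at h4

/-- **(E6)** the right `t` -/
theorem exists_r : ∃ r ∈ R, r * t * (r * t) = 1 ∧
    ((r * t) • (g • t • g • z) = g • t • g • z ∨ (r * t) • (g • t • g • z) = g • t • g • z + z) := by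
  have h2 := i.amb.two
  have hm := i.amb.cls.mem B i.BU
  set v := g • t • g • z with hv
  have hvE : v ∉ Ee V B := i.v_not
  have hconj : MulAut.conj t • B = B := by
    rw [i.B_eq]
    exact conj_of_mem i.a.t_norm
  have htv : t • v ∉ Ee V B := by
    intro h3
    apply hvE
    rw [← hconj, Ee_conj, mem_smul_as, inv_smul_smul] at h3
    exact h3
  have h3 : t • v + v ∈ Ee V B :=
    (AddSubgroup.add_mem_iff_of_index_two i.ind).2 ⟨fun h4 => absurd h4 htv, fun h4 => absurd h4 hvE⟩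
  obtain ⟨r, hr, h4⟩ := hm.surj v hvE _ h3
  have hrR := i.BR hr
  have hrr := hm.sq r hr
  have h5 : r • v + t • v ∈ fx V B := by
    have e1 : r • v + v + (t • v + v) = r • v + t • v + (v + v) := by abel
    rwa [e1, h2, add_zero] at h4
  -- `f = [v, rt]`
  have hf : (r * t) • v + v ∈ fx V B := by
    have h6 := h5 r hr
    rw [smul_add, ← mul_smul, hrr, one_smul, ← mul_smul] at h6
    have h7 : (r * t) • v + v = v + (r * t) • v := add_comm _ _
    rw [h7, h6]
    exact h5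
  have hfR : (r * t) • v + v ∈ fx V R := by rwa [← i.B_eq]
  set f := (r * t) • v + v with hfdef
  have htf : (r * t) • f = t • f := by
    rw [mul_smul]
    exact i.a.smul_V0 hfR r hrR
  have hrt : (r * t) • v = v + f := by
    rw [hfdef]
    have e1 : v + ((r * t) • v + v) = (r * t) • v + (v + v) := by abel
    rw [e1, h2, add_zero]
  have hsq : r * t * (r * t) ∈ R := by
    have h6 := R.mul_mem (R.mul_mem hrR (i.a.t_norm _ hrR)) i.a.t_sq
    have e1 : r * (t * r * t⁻¹) * (t * t) = r * t * (r * t) := by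
      simp only [mul_assoc, inv_mul_cancel_left]
    rwa [e1] at h6
  have hsqv : (r * t * (r * t)) • v + v = f + t • f := by
    rw [mul_smul, hrt, smul_add, hrt, htf]
    have e1 : v + f + t • f + v = (v + v) + (f + t • f) := by abel
    rw [e1, h2, zero_add]
  have h1 : r * t * (r * t) = 1 := by
    apply hm.inj v hvE _ (by rw [i.B_eq]; exact hsq)
    rw [hsqv, i.B_eq]
    exact add_mem hfR (i.a.smul_V0 hfR)
  have htf' : t • f = f := by
    rw [h1, one_smul, h2] at hsqv
    exact ((HE.add_eq_zero' h2).1 hsqv.symm).symm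
  refine ⟨r, hrR, h1, ?_⟩
  rw [hrt]
  by_cases hfC : f ∈ fx V H
  · left
    have := Amal.C_inf i.a i.amb hfC (by rw [htf']; exact hfC)
    rw [this, add_zero]
  · right
    have h6 := add_mem_of i.a.C_le i.o.cV hfR i.zR hfC i.zH
    have h7 := Amal.C_inf i.a i.amb h6 (by rw [smul_add, htf', i.tz]; exact h6)
    rw [(HE.add_eq_zero' h2).1 h7]

/-- the last step: `V₁ = V` is impossible -/
theorem fin (top : V1 i.amb.two t g z = ⊤) : False := by
  have h2 := i.amb.two
  obtain ⟨r, hr, hrt, hv⟩ := i.exists_r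
  have htR : r * t ∉ R := by
    intro h3
    apply i.a.t_not
    have := R.mul_mem (R.inv_mem hr) h3
    rwa [inv_mul_cancel_left] at this
  have hmB := i.amb.cls.mem B i.BU
  have hRcomm : ∀ x ∈ R, ∀ y ∈ R, x * y = y * x := by
    intro x hx y hy
    rw [← i.B_eq] at hx hy
    exact hmB.comm x hx y hy
  have hbR := QQ_le i.bQ
  have htb : t * b = t * b * t⁻¹ * t := by group
  have htc : t * (t * b * t⁻¹) = b * t := by
    have h3 := i.tct
    have h4 : t * (t * b * t⁻¹) = t * (t * b * t⁻¹) * t⁻¹ * t := by group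
    rw [h4, h3]
  -- `t₁ g z ∈ t g z + {0, z}`
  have hrn : (r * t) • g • z = t • g • z ∨ (r * t) • g • z = t • g • z + z := by
    rw [mul_smul]
    rcases i.ctW hr i.tgz.1 with h3 | h3
    · left; exact (HE.add_eq_zero' h2).1 h3
    · right
      rw [i.tz] at h3
      have := add_swap h2 h3
      rw [this, add_comm]
  have bn : b • g • z = g • z := Amal.QQ_fix i.a i.amb i.bQ i.gzW
  have cn : (t * b * t⁻¹) • g • z = g • z + z := by
    have h3 := i.cWz _ i.cR i.cQ _ i.gzW i.gzR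
    have := add_swap h2 h3
    rw [this]
  have bz : b • z = z := i.zR b hbR
  have cz : (t * b * t⁻¹) • z = z := i.zR _ i.cR
  have tz : (r * t) • z = z := by
    rw [mul_smul, i.tz]; exact i.zR r hr
  have hrtb : r * t * b = t * b * t⁻¹ * (r * t) := by
    have h3 := hRcomm r hr _ i.cR
    have e1 : r * t * b = r * (t * b * t⁻¹) * t := by group
    rw [e1, h3, mul_assoc]
  have hrtc : r * t * (t * b * t⁻¹) = b * (r * t) := by
    rw [mul_assoc, htc, ← mul_assoc, hRcomm r hr _ hbR, mul_assoc]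
  have bn' : b • (r * t) • g • z = (r * t) • g • z + z := by
    rw [← mul_smul, ← hrtc, mul_smul, cn, smul_add, tz]
  have cn' : (t * b * t⁻¹) • (r * t) • g • z = (r * t) • g • z := by
    rw [← mul_smul, ← hrtb, mul_smul, bn]
  have hb1 : b ≠ 1 := i.b1
  have hc1 : t * b * t⁻¹ ≠ 1 := by
    intro h3
    apply i.cQ
    rw [h3]; exact one_mem _
  have hzF : z ∈ fx V B := fx_mono i.BR i.zR
  have hbB : b ∈ B := by rw [i.B_eq]; exact hbR
  have hcB : t * b * t⁻¹ ∈ B := by rw [i.B_eq]; exact i.cR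
  have bvF : b • (g • t • g • z) + g • t • g • z ∉ fx V B := fun h3 => hb1 (hmB.inj _ i.v_not b hbB h3)
  have cvF : (t * b * t⁻¹) • (g • t • g • z) + g • t • g • z ∉ fx V B :=
    fun h3 => hc1 (hmB.inj _ i.v_not _ hcB h3)
  have bv : b • (g • t • g • z) + g • t • g • z = g • z ∨ b • (g • t • g • z) + g • t • g • z = g • z + z := by
    rcases Jn.mem_N.1 (i.cbN (g • t • g • z)) with h6 | h6 | h6 | h6
    · exfalso; apply bvF; rw [h6]; exact zero_mem _
    · exfalso; apply bvF; rw [h6]; exact hzF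
    · exact Or.inl h6
    · exact Or.inr h6
  have cv : (t * b * t⁻¹) • (g • t • g • z) + g • t • g • z = (r * t) • g • z ∨
      (t * b * t⁻¹) • (g • t • g • z) + g • t • g • z = (r * t) • g • z + z := by
    rcases i.cc_cases (g • t • g • z) with h6 | h6 | h6 | h6
    · exfalso; apply cvF; rw [h6]; exact zero_mem _
    · exfalso; apply cvF; rw [h6]; exact hzF
    · rcases hrn with h7 | h7
      · left; rw [h6, h7]
      · right; rw [h6, h7, add_assoc, h2, add_zero]
    · rcases hrn with h7 | h7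
      · right; rw [h6, h7]
      · left; rw [h6, h7]
  refine last h2 i.amb.faith i.noff (b := b) (c := t * b * t⁻¹) (t := r * t) i.bb i.cc
    (hRcomm b hbR _ i.cR) hrt hrtb hrtc (fun h3 => htR (by rw [h3]; exact one_mem _)) ?_
    (fun h3 => htR (by rw [← h3]; exact R.mul_mem hbR i.cR)) bz cz tz bn cn rfl bn' cn' bv cv hv i.z0 ?_ ?_ ?_
  · intro h3
    apply i.cQ
    have h4 : t * b * t⁻¹ = b := by
      have : b * (b * (t * b * t⁻¹)) = b * 1 := by rw [h3]
      rwa [← mul_assoc, i.bb, one_mul, mul_one] at this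
    rw [h4]; exact i.bQ
  · intro h3
    have h4 := (HE.add_eq_zero' h2).1 h3
    rw [← h4, cn] at cn'
    apply i.z0
    have : g • z + z = g • z + 0 := by rw [add_zero]; exact cn'
    exact add_left_cancel this
  · intro h3
    have h4 : (r * t) • g • z = g • z + z := by
      have : g • z + (g • z + (r * t) • g • z) = g • z + z := by rw [h3]
      rwa [← add_assoc, h2, zero_add] at this
    rw [h4, smul_add, cn, cz, add_assoc, h2, add_zero] at cn'
    apply i.z0
    have : g • z + z = g • z + 0 := by rw [add_zero]; exact cn'.symm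
    exact add_left_cancel this
  · have h3 : V1 h2 t g z ≤ tw h2 z ⊔ tw h2 (g • z) ⊔ tw h2 ((r * t) • g • z) ⊔ tw h2 (g • t • g • z) := by
      have hz : z ∈ tw h2 z ⊔ tw h2 (g • z) ⊔ tw h2 ((r * t) • g • z) ⊔ tw h2 (g • t • g • z) :=
        (le_sup_left.trans (le_sup_left.trans le_sup_left) : tw h2 z ≤ _) (Or.inr rfl)
      have hn : (r * t) • g • z ∈ tw h2 z ⊔ tw h2 (g • z) ⊔ tw h2 ((r * t) • g • z) ⊔ tw h2 (g • t • g • z) :=
        (le_sup_right.trans le_sup_left : tw h2 ((r * t) • g • z) ≤ _) (Or.inr rfl)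
      refine sup_le (sup_le (sup_le ?_ ?_) ?_) ?_
      · exact le_sup_left.trans (le_sup_left.trans le_sup_left)
      · exact le_sup_right.trans (le_sup_left.trans le_sup_left)
      · rintro x (rfl | rfl)
        · exact zero_mem _
        · have h8 : t • g • z = (r * t) • g • z ∨ t • g • z = (r * t) • g • z + z := by
            rcases hrn with h7 | h7
            · exact Or.inl h7.symm
            · right; rw [h7, add_assoc, h2, add_zero]
          rcases h8 with h8 | h8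
          · have h9 := hn
            rw [← h8] at h9 ⊢
            exact h9
          · have h9 := add_mem hn hz
            rw [← h8] at h9
            exact h9
      · exact le_sup_right
    intro x
    apply h3
    rw [top]
    exact AddSubgroup.mem_top x

theorem V1_t {x : V} (hx : x ∈ V1 i.amb.two t g z) : t • x ∈ V1 i.amb.two t g z := by
  have h2 := i.amb.two
  obtain ⟨r, hr, hrt, hv⟩ := i.exists_r
  let φ : V →+ V :=
    { toFun := fun v => t • v
      map_zero' := smul_zero t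
      map_add' := fun a b => smul_add t a b }
  have h3 : V1 h2 t g z ≤ (V1 h2 t g z).comap φ := by
    refine sup_le (sup_le (sup_le ?_ ?_) ?_) ?_
    · rintro x (rfl | rfl)
      · exact zero_mem _
      · change t • x ∈ V1 h2 t g x
        rw [i.tz]; exact i.z_V1
    · rintro x (rfl | rfl)
      · exact zero_mem _
      · exact i.tgz_V1
    · rintro x (rfl | rfl)
      · exact zero_mem _
      · change t • t • g • z ∈ V1 h2 t g z
        rw [← mul_smul]
        exact i.V1_inv (i.a.RH i.a.t_sq) i.gz_V1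
    · rintro x (rfl | rfl)
      · exact zero_mem _
      · change t • g • t • g • z ∈ V1 h2 t g z
        have h4 : (r * t) • (g • t • g • z) ∈ V1 h2 t g z := by
          rcases hv with h5 | h5 <;> rw [h5]
          · exact i.v_V1
          · exact add_mem i.v_V1 i.z_V1
        have h5 := i.V1_inv (H.inv_mem (i.a.RH hr)) h4
        rwa [mul_smul, inv_smul_smul] at h5
  exact h3 hx

/-- `V₁` is `Y`-invariant -/
theorem V1_Y (y : Y) {x : V} (hx : x ∈ V1 i.amb.two t g z) : y • x ∈ V1 i.amb.two t g z := by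
  let K : Subgroup Y :=
    { carrier := {x | ∀ v ∈ V1 i.amb.two t g z, x • v ∈ V1 i.amb.two t g z ∧ x⁻¹ • v ∈ V1 i.amb.two t g z}
      one_mem' := fun v hv => by rw [inv_one, one_smul]; exact ⟨hv, hv⟩
      mul_mem' := fun {x y} hx hy v hv => by
        rw [mul_inv_rev, mul_smul, mul_smul]
        exact ⟨(hx _ (hy v hv).1).1, (hy _ (hx v hv).2).2⟩
      inv_mem' := fun {x} hx v hv => by
        rw [inv_inv]
        exact ⟨(hx v hv).2, (hx v hv).1⟩ }
  have h3 : (⊤ : Subgroup Y) ≤ K := by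
    rw [← i.a.top]
    refine sup_le (fun x hx v hv => ⟨i.V1_inv hx hv, i.V1_inv (H.inv_mem hx) hv⟩) ?_
    rw [zpowers_le]
    intro v hv
    refine ⟨i.V1_t hv, ?_⟩
    have h4 : t⁻¹ • v = (t * t)⁻¹ • t • v := by
      rw [← mul_smul]; congr 1; group
    rw [h4]
    exact i.V1_inv (H.inv_mem (i.a.RH i.a.t_sq)) (i.V1_t hv)
  exact (h3 (mem_top y) x hx).1

theorem irr_false (hirr : ∀ W : AddSubgroup V, (∀ y : Y, ∀ w ∈ W, y • w ∈ W) → W = ⊥ ∨ W = ⊤) : False := by
  rcases hirr _ (fun y w hw => i.V1_Y y hw) with h3 | h3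
  · apply i.z0
    have h4 := i.z_V1
    rwa [h3, AddSubgroup.mem_bot] at h4
  · exact i.fin h3

end Kn

namespace In

variable {U : Set (Subgroup Y)} {T : Sylow 2 Y} {M H R : Subgroup Y} {t : Y} {B : Subgroup Y} {g : Y}
variable [Finite Y] [Finite V] (i : In V U T M H R t B g)
include i

theorem exists_K : ∃ (z : V) (b : Y), Kn V U T M H R t B g z b := by
  obtain ⟨z, h1, h3, h4, h5, h6⟩ := i.exists_z
  have j : Jn V U T M H R t B g z := { i with zR := h1, zH := h3, cW := h4, cWz := h5, cE := h6 }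
  obtain ⟨b, h7, h8, h9, h10⟩ := j.exists_b
  exact ⟨z, b, { j with bA := h7, bQ := h8, bQ' := h9, b1 := h10 }⟩

/-- **`C_V(H) = 0` is impossible** -/
theorem bot (h : fx V H = ⊥) : False := by
  obtain ⟨z, b, k⟩ := i.exists_K
  have h3 := k.sup_top
  rw [h, sup_bot_eq] at h3
  exact k.fin h3

/-- **`C_V(H) ≠ 0`**: `|V| = 32` -/
theorem endC (h : fx V H ≠ ⊥) : Nat.card V = 32 ∧ B = R ∧ Nat.card B = 4 ∧ (∀ r ∈ B, t * r * t⁻¹ ∈ B) ∧
    ∃ w ∈ fx V B, t • w ≠ w := by
  obtain ⟨z, b, k⟩ := i.exists_K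
  have h3 : ∃ w ∈ fx V H, w ≠ 0 := by
    by_contra hcon
    push Not at hcon
    apply h
    rw [eq_bot_iff]
    exact fun x hx => (AddSubgroup.mem_bot).2 (hcon x hx)
  obtain ⟨w, hw, hw0⟩ := h3
  have h4 : 1 < Nat.card (fx V H) := by
    rw [← AddSubgroup.one_lt_card_iff_ne_bot] at h
    exact h
  have h5 := k.card_C
  have h6 := k.card_V
  refine ⟨by rw [h6]; omega, k.B_eq, i.card_B, ?_, w, fx_mono (i.BR.trans i.a.RH) hw, fun h7 => hw0 ?_⟩
  · rw [k.B_eq]; exact i.a.t_norm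
  · exact Amal.C_inf i.a i.amb hw (by rw [h7]; exact hw)

/-- **at the top** -/
theorem false (hirr : ∀ W : AddSubgroup V, (∀ y : Y, ∀ w ∈ W, y • w ∈ W) → W = ⊥ ∨ W = ⊤) : False := by
  obtain ⟨z, b, k⟩ := i.exists_K
  exact k.irr_false hirr

end In

end Cfsg.Agent.Omega.NO1.TH.ET
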