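import Cfsg.Agent.Omega.NO1.TH.EndTwo

/-!
# N1, BETA, `a = 2` (FrTwo): the END of the amalgam `(H, H^t)` for `k = 1` (bb OMEGA 20939, helper817), main part

`In.false` : contradiction (any `C = C_V(H)`).
-/

set_option autoImplicit false
set_option linter.unusedSectionVars false

namespace Cfsg.Agent.Omega.NO1.TH.ET

open Subgroup Cfsg.Agent.Omega.NO1.AB
open scoped Pointwise

universe u

variable {Y : Type u} [Group Y] {V : Type u} [AddCommGroup V] [DistribMulAction Y V]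

/-- what is used of `One.Out` / `Out8` -/
structure Out2 (A R Q Q' : Subgroup Y) (V₀ W' : AddSubgroup V) : Prop where
  cap : ∀ y ∈ W', y ∈ Ee V A → y ∈ V₀
  inf : A ⊓ Q ⊓ Q' = ⊥
  cB : Nat.card ↥(A ⊓ Q) = 2
  cA : Nat.card A = 2 * 2

/-- `k = 1`, `c = a = 2` -/
structure In (V : Type u) [AddCommGroup V] [DistribMulAction Y V] (U : Set (Subgroup Y)) (T : Sylow 2 Y)
    (M H R : Subgroup Y) (t : Y) (B : Subgroup Y) (g : Y) : Prop where
  amb : Amb V U T M
  a : Amal U T M H R t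
  o : One V H R 2
  we : WE V U H R
  BU : B ∈ U
  BR : B ≤ R
  BQ : ¬ B ≤ QQ H R
  gH : g ∈ H
  gM : ¬ MulAut.conj g • B ≤ M
  out : Out2 (MulAut.conj g • B) R (QQ H R) (MulAut.conj t • QQ H R) (fx V R) (t • WW V H R)
  ind : (Ee V B).index = 2
  noff : ∀ A : Subgroup Y, (∀ x ∈ A, ∀ y ∈ A, x * y = y * x) → (∀ x ∈ A, x * x = 1) → A ≠ ⊥ →
    Nat.card A < (fx V A).index

namespace In

variable {U : Set (Subgroup Y)} {T : Sylow 2 Y} {M H R : Subgroup Y} {t : Y} {B : Subgroup Y} {g : Y}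
variable [Finite Y] [Finite V] (i : In V U T M H R t B g)
include i

theorem AH : MulAut.conj g • B ≤ H := by
  intro y hy
  rw [mem_conj] at hy
  have := H.mul_mem (H.mul_mem i.gH (i.a.RH (i.BR hy))) (H.inv_mem i.gH)
  have e : g * (g⁻¹ * y * g) * g⁻¹ = y := by group
  rwa [e] at this

theorem card_B : Nat.card B = 4 := by
  have := i.out.cA
  rwa [conj_card] at this

/-- `t² ∈ R` normalises `Q` -/
theorem tQ {y : Y} : t * y * t⁻¹ ∈ QQ H R ↔ t⁻¹ * y * t ∈ QQ H R := by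
  have hR := i.a.RH i.a.t_sq
  constructor
  · intro h
    have h1 := conj_mem_QQ (H.inv_mem hR) h
    have e : (t * t)⁻¹ * (t * y * t⁻¹) * (t * t)⁻¹⁻¹ = t⁻¹ * y * t := by group
    rwa [e] at h1
  · intro h
    have h1 := conj_mem_QQ hR h
    have e : (t * t) * (t⁻¹ * y * t) * (t * t)⁻¹ = t * y * t⁻¹ := by group
    rwa [e] at h1

/-- `[W, R] = {0, z}` -/
theorem exists_z : ∃ z : V, z ∈ fx V R ∧ z ∉ fx V H ∧
    (∀ r ∈ R, ∀ x ∈ WW V H R, r • x + x = 0 ∨ r • x + x = z) ∧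
    (∀ r ∈ R, r ∉ QQ H R → ∀ x ∈ WW V H R, x ∉ fx V R → r • x + x = z) ∧
    ∀ b ∈ B, ∀ e ∈ Ee V B, b • e + e = 0 ∨ b • e + e = z := by
  have h2 := i.amb.two
  obtain ⟨u, hu, huQ⟩ := SetLike.not_le_iff_exists.1 i.BQ
  have huR := i.BR hu
  have hx : ∃ x ∈ WW V H R, x ∉ fx V R := by
    by_contra hcon
    push Not at hcon
    have h3 : WW V H R = fx V R := le_antisymm hcon fx_le_WW
    have h4 := i.o.cW
    rw [h3] at h4
    have h5 : 0 < Nat.card (fx V R) := Nat.card_pos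
    omega
  obtain ⟨x₀, hx₀, hx₀R⟩ := hx
  have hm := i.amb.cls.mem B i.BU
  have huu := hm.sq u hu
  have key1 : ∀ r ∈ R, r ∉ QQ H R → ∀ x ∈ WW V H R, r • x = u • x := by
    intro r hr hrQ x hx
    have h3 := mul_mem_of QQ_le i.o.cR huR hr huQ hrQ
    have h4 : r = u * (u * r) := by rw [← mul_assoc, huu, one_mul]
    rw [h4, mul_smul, Amal.QQ_fix i.a i.amb h3 hx]
  have key2 : ∀ x ∈ WW V H R, x ∉ fx V R → u • x + x = u • x₀ + x₀ := by
    intro x hx hxR
    have h3 := add_mem_of fx_le_WW i.o.cW hx hx₀ hxR hx₀R u huR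
    rw [smul_add] at h3
    have h4 : (u • x + x) + (u • x₀ + x₀) = (u • x + u • x₀) + (x + x₀) := by abel
    rw [h3, h2] at h4
    exact (HE.add_eq_zero' h2).1 h4
  have hz : u • x₀ + x₀ ∉ fx V H := fun h3 => huQ (i.o.nat x₀ hx₀ hx₀R u huR h3)
  refine ⟨u • x₀ + x₀, i.o.root x₀ hx₀ u huR, hz, ?_, ?_, ?_⟩
  · intro r hr x hx
    by_cases hxR : x ∈ fx V R
    · left; rw [hxR r hr, h2]
    · by_cases hrQ : r ∈ QQ H R
      · left; rw [Amal.QQ_fix i.a i.amb hrQ hx, h2]
      · right; rw [key1 r hr hrQ x hx, key2 x hx hxR]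
  · intro r hr hrQ x hx hxR
    rw [key1 r hr hrQ x hx, key2 x hx hxR]
  · intro b hb e he
    exact beta2 hm h2 i.card_B (i.we B i.BU i.BR hx₀) hu (fun h3 => hz (by rw [h3]; exact zero_mem _)) he hb

end In

/-- second stage -/
structure Jn (V : Type u) [AddCommGroup V] [DistribMulAction Y V] (U : Set (Subgroup Y)) (T : Sylow 2 Y)
    (M H R : Subgroup Y) (t : Y) (B : Subgroup Y) (g : Y) (z : V) : Prop extends In V U T M H R t B g where
  zR : z ∈ fx V R
  zH : z ∉ fx V H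
  cW : ∀ r ∈ R, ∀ x ∈ WW V H R, r • x + x = 0 ∨ r • x + x = z
  cWz : ∀ r ∈ R, r ∉ QQ H R → ∀ x ∈ WW V H R, x ∉ fx V R → r • x + x = z
  cE : ∀ b ∈ B, ∀ e ∈ Ee V B, b • e + e = 0 ∨ b • e + e = z

namespace Jn

variable {U : Set (Subgroup Y)} {T : Sylow 2 Y} {M H R : Subgroup Y} {t : Y} {B : Subgroup Y} {g : Y} {z : V}
variable [Finite Y] [Finite V] (i : Jn V U T M H R t B g z)
include i

theorem gzW : g • z ∈ WW V H R := smul_mem_WW i.gH (fx_le_WW i.zR)

theorem gzR : g • z ∉ fx V R := by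
  intro h1
  apply i.zH
  have h3 : g • z ∈ fx V (MulAut.conj g • B) := by
    rw [fx_conj]
    exact smul_mem_smul_as (fx_mono i.BR i.zR)
  have h4 : g • z ∈ fx V H := by
    rw [← i.a.fx_inf i.AH i.gM]
    exact ⟨h3, h1⟩
  intro x hx
  have h5 := h4 (g * x * g⁻¹) (H.mul_mem (H.mul_mem i.gH hx) (H.inv_mem i.gH))
  rw [mul_smul, mul_smul, inv_smul_smul, smul_left_cancel_iff] at h5
  exact h5

theorem z0 : z ≠ 0 := by
  intro h
  apply i.zH
  rw [h]; exact zero_mem _

/-- `[E₁, U₁] = {0, gz}` -/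
theorem cE' {b : Y} (hb : b ∈ MulAut.conj g • B) {e : V} (he : e ∈ Ee V (MulAut.conj g • B)) :
    b • e + e = 0 ∨ b • e + e = g • z := by
  rw [mem_conj] at hb
  rw [Ee_conj, mem_smul_as] at he
  have e1 : b • e + e = g • ((g⁻¹ * b * g) • g⁻¹ • e + g⁻¹ • e) := by
    rw [smul_add, smul_inv_smul, ← mul_smul, ← mul_smul]
    congr 2
    group
  rw [e1]
  rcases i.cE _ hb _ he with h3 | h3
  · left; rw [h3, smul_zero]
  · right; rw [h3]

/-- commutators of `W' = tW` -/
theorem ctW {r : Y} (hr : r ∈ R) {y : V} (hy : y ∈ t • WW V H R) : r • y + y = 0 ∨ r • y + y = t • z := by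
  rw [mem_smul_as] at hy
  have e1 : r • y + y = t • ((t⁻¹ * r * t) • t⁻¹ • y + t⁻¹ • y) := by
    rw [smul_add, smul_inv_smul, ← mul_smul, ← mul_smul]
    congr 2
    group
  rw [e1]
  rcases i.cW _ (i.a.symm_smul hr) _ hy with h3 | h3
  · left; rw [h3, smul_zero]
  · right; rw [h3]

theorem ctWz {r : Y} (hr : r ∈ R) (hrQ : r ∉ MulAut.conj t • QQ H R) {y : V} (hy : y ∈ t • WW V H R)
    (hyR : y ∉ fx V R) : r • y + y = t • z := by
  rw [mem_smul_as] at hy
  have e1 : r • y + y = t • ((t⁻¹ * r * t) • t⁻¹ • y + t⁻¹ • y) := by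
    rw [smul_add, smul_inv_smul, ← mul_smul, ← mul_smul]
    congr 2
    group
  rw [e1, i.cWz _ (i.a.symm_smul hr) (fun h3 => hrQ (mem_conj.2 h3)) _ hy (fun h3 => hyR (by
    have := i.a.smul_V0 h3
    rwa [smul_inv_smul] at this))]

/-- a vector of `W'` outside `E₁` -/
theorem tgz : t • g • z ∈ t • WW V H R ∧ t • g • z ∉ fx V R := by
  refine ⟨smul_mem_smul_as i.gzW, fun h1 => i.gzR ?_⟩
  have := i.a.smul_V0' h1
  rwa [inv_smul_smul] at this

theorem tgzE : t • g • z ∉ Ee V (MulAut.conj g • B) := fun h1 => i.tgz.2 (i.out.cap _ i.tgz.1 h1)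

/-- the element `b` -/
theorem exists_b : ∃ b, b ∈ MulAut.conj g • B ∧ b ∈ QQ H R ∧ b ∉ MulAut.conj t • QQ H R ∧ b ≠ 1 := by
  have h1 := i.out.cB
  have h3 : (MulAut.conj g • B ⊓ QQ H R : Subgroup Y) ≠ ⊥ := by
    intro h4
    rw [h4, Subgroup.card_bot] at h1
    omega
  obtain ⟨⟨b, hb⟩, hb1⟩ := Subgroup.ne_bot_iff_exists_ne_one.1 h3
  have hb1' : b ≠ 1 := fun h4 => hb1 (Subtype.ext h4)
  refine ⟨b, hb.1, hb.2, fun h4 => hb1' ?_, hb1'⟩
  have h5 : b ∈ MulAut.conj g • B ⊓ QQ H R ⊓ MulAut.conj t • QQ H R := ⟨hb, h4⟩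
  rwa [i.out.inf, mem_bot] at h5

/-- **(E2)** `t z = z` -/
theorem tz : t • z = z := by
  have h2 := i.amb.two
  obtain ⟨b, hbA, hbQ, hbQ', hb1⟩ := i.exists_b
  have hA := i.amb.cls.conj B i.BU g
  have hm := i.amb.cls.mem _ hA
  have h1 := i.ctWz (QQ_le hbQ) hbQ' i.tgz.1 i.tgz.2
  have h3 : t • z ∉ fx V (MulAut.conj g • B) := by
    intro h4
    apply hb1
    apply hm.inj _ i.tgzE b hbA
    rw [h1]; exact h4
  have h4 : t • z ∉ fx V H := fun h5 => h3 (fx_mono i.AH h5)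
  have h5 := add_mem_of i.a.C_le i.o.cV (i.a.smul_V0 i.zR) i.zR h4 i.zH
  have h6 : t • (t • z + z) = t • z + z := by
    rw [smul_add, i.a.smul_smul_V0 i.zR, add_comm]
  have h7 := Amal.C_inf i.a i.amb h5 (by rw [h6]; exact h5)
  exact (HE.add_eq_zero' h2).1 h7

/-- `N` -/
def N (h2 : ∀ v : V, v + v = 0) (g : Y) (z : V) : AddSubgroup V := tw h2 z ⊔ tw h2 (g • z)

omit i in
theorem mem_N {h2 : ∀ v : V, v + v = 0} {v : V} : v ∈ N h2 g z ↔ v = 0 ∨ v = z ∨ v = g • z ∨ v = g • z + z := by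
  rw [N, AddSubgroup.mem_sup]
  constructor
  · rintro ⟨y, rfl | rfl, x, rfl | rfl, rfl⟩
    · left; rw [add_zero]
    · right; right; left; rw [zero_add]
    · right; left; rw [add_zero]
    · right; right; right; rw [add_comm]
  · rintro (rfl | rfl | rfl | rfl)
    · exact ⟨0, Or.inl rfl, 0, Or.inl rfl, add_zero 0⟩
    · exact ⟨v, Or.inr rfl, 0, Or.inl rfl, add_zero v⟩
    · exact ⟨0, Or.inl rfl, g • z, Or.inr rfl, zero_add _⟩
    · exact ⟨z, Or.inr rfl, g • z, Or.inr rfl, add_comm _ _⟩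

theorem N_le_W : N i.amb.two g z ≤ WW V H R := by
  intro v hv
  rcases mem_N.1 hv with rfl | rfl | rfl | rfl
  · exact zero_mem _
  · exact fx_le_WW i.zR
  · exact i.gzW
  · exact add_mem i.gzW (fx_le_WW i.zR)

/-- `N` is `H`-invariant -/
theorem N_inv {x : Y} (hx : x ∈ H) {v : V} (hv : v ∈ N i.amb.two g z) : x • v ∈ N i.amb.two g z := by
  have h2 := i.amb.two
  have hA := i.amb.cls.conj B i.BU g
  -- `[N, R] ≤ N`, `[N, U₁] ≤ N`
  have hR : ∀ r ∈ R, ∀ v ∈ N h2 g z, r • v + v ∈ N h2 g z := by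
    intro r hr v hv
    rcases i.cW r hr v (i.N_le_W hv) with h3 | h3
    · rw [h3]; exact zero_mem _
    · rw [h3]; exact mem_N.2 (Or.inr (Or.inl rfl))
  have hB : ∀ r ∈ MulAut.conj g • B, ∀ v ∈ N h2 g z, r • v + v ∈ N h2 g z := by
    intro r hr v hv
    have h4 : v ∈ Ee V (MulAut.conj g • B) := by
      have := Amal.WW_le_Ee i.a i.amb i.we hA i.AH
      exact this (i.N_le_W hv)
    rcases i.cE' hr h4 with h3 | h3
    · rw [h3]; exact zero_mem _
    · rw [h3]; exact mem_N.2 (Or.inr (Or.inr (Or.inl rfl)))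
  let K : Subgroup Y :=
    { carrier := {x | ∀ v ∈ N h2 g z, x • v ∈ N h2 g z ∧ x⁻¹ • v ∈ N h2 g z}
      one_mem' := fun v hv => by rw [inv_one, one_smul]; exact ⟨hv, hv⟩
      mul_mem' := fun {x y} hx hy v hv => by
        rw [mul_inv_rev, mul_smul, mul_smul]
        exact ⟨(hx _ (hy v hv).1).1, (hy _ (hx v hv).2).2⟩
      inv_mem' := fun {x} hx v hv => by
        rw [inv_inv]
        exact ⟨(hx v hv).2, (hx v hv).1⟩ }
  have key : ∀ L : Subgroup Y, (∀ r ∈ L, ∀ v ∈ N h2 g z, r • v + v ∈ N h2 g z) → L ≤ K := by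
    intro L hL x hx v hv
    have e1 : ∀ y : Y, y • v = (y • v + v) + v := fun y => by rw [add_assoc, h2, add_zero]
    refine ⟨?_, ?_⟩
    · rw [e1]; exact add_mem (hL x hx v hv) hv
    · rw [e1]; exact add_mem (hL _ (L.inv_mem hx) v hv) hv
  have h3 : H ≤ K := by
    rw [← i.a.gen i.AH i.gM]
    exact sup_le (key _ hR) (key _ hB)
  exact (h3 hx v hv).1

end Jn

/-- third stage: the element `b` -/
structure Kn (V : Type u) [AddCommGroup V] [DistribMulAction Y V] (U : Set (Subgroup Y)) (T : Sylow 2 Y)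
    (M H R : Subgroup Y) (t : Y) (B : Subgroup Y) (g : Y) (z : V) (b : Y) : Prop extends Jn V U T M H R t B g z where
  bA : b ∈ MulAut.conj g • B
  bQ : b ∈ QQ H R
  bQ' : b ∉ MulAut.conj t • QQ H R
  b1 : b ≠ 1

namespace Kn

variable {U : Set (Subgroup Y)} {T : Sylow 2 Y} {M H R : Subgroup Y} {t : Y} {B : Subgroup Y} {g : Y} {z : V} {b : Y}
variable [Finite Y] [Finite V] (i : Kn V U T M H R t B g z b)
include i

theorem hA : MulAut.conj g • B ∈ U := i.amb.cls.conj B i.BU g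

theorem bb : b * b = 1 := (i.amb.cls.mem _ i.hA).sq b i.bA

/-- commutators of `b` -/
theorem cb (v : V) : (v ∈ Ee V (MulAut.conj g • B) → b • v + v = 0 ∨ b • v + v = g • z) ∧
    (v ∉ Ee V (MulAut.conj g • B) → b • v + v = z ∨ b • v + v = g • z + z) := by
  have h2 := i.amb.two
  refine ⟨fun hv => i.cE' i.bA hv, fun hv => ?_⟩
  have hind : (Ee V (MulAut.conj g • B)).index = 2 := by
    rw [Ee_conj]
    have h3 := (Ee V B).card_mul_index
    have h4 := (g • Ee V B).card_mul_index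
    rw [card_smul_as, ← h3, i.ind] at h4
    exact Nat.eq_of_mul_eq_mul_left Nat.card_pos h4
  have h3 : v + t • g • z ∈ Ee V (MulAut.conj g • B) :=
    (AddSubgroup.add_mem_iff_of_index_two hind).2 ⟨fun h4 => absurd h4 hv, fun h4 => absurd h4 i.tgzE⟩
  have h4 := i.ctWz (QQ_le i.bQ) i.bQ' i.tgz.1 i.tgz.2
  rw [i.tz] at h4
  have h5 : b • v + v = (b • (v + t • g • z) + (v + t • g • z)) + (b • t • g • z + t • g • z) := by
    rw [smul_add]
    have : b • v + b • t • g • z + (v + t • g • z) + (b • t • g • z + t • g • z) =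
        (b • v + v) + ((b • t • g • z + b • t • g • z) + (t • g • z + t • g • z)) := by abel
    rw [this, h2, h2, add_zero, add_zero]
  rw [h5, h4]
  rcases i.cE' i.bA h3 with h6 | h6
  · left; rw [h6, zero_add]
  · right; rw [h6]

theorem cbN (v : V) : b • v + v ∈ Jn.N i.amb.two g z := by
  by_cases hv : v ∈ Ee V (MulAut.conj g • B)
  · rcases (i.cb v).1 hv with h | h
    · rw [h]; exact zero_mem _
    · rw [h]; exact Jn.mem_N.2 (Or.inr (Or.inr (Or.inl rfl)))
  · rcases (i.cb v).2 hv with h | h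
    · rw [h]; exact Jn.mem_N.2 (Or.inr (Or.inl rfl))
    · rw [h]; exact Jn.mem_N.2 (Or.inr (Or.inr (Or.inr rfl)))

/-- `D = {d ∈ Q | [V, d] ≤ N}` -/
def InD (h2 : ∀ v : V, v + v = 0) (H R : Subgroup Y) (g : Y) (z : V) (d : Y) : Prop :=
  d ∈ QQ H R ∧ ∀ v : V, d • v + v ∈ Jn.N h2 g z

theorem D_b : InD i.amb.two H R g z b := ⟨i.bQ, i.cbN⟩

theorem D_fix {d : Y} (hd : InD i.amb.two H R g z d) {v : V} (hv : v ∈ Jn.N i.amb.two g z) : d • v = v :=
  Amal.QQ_fix i.a i.amb hd.1 (i.N_le_W hv)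

theorem D_mul {d e : Y} (hd : InD i.amb.two H R g z d) (he : InD i.amb.two H R g z e) :
    InD i.amb.two H R g z (d * e) := by
  refine ⟨mul_mem hd.1 he.1, fun v => ?_⟩
  have h3 := i.D_fix hd (he.2 v)
  have h4 : (d * e) • v + v = (e • v + v) + (d • v + v) := by
    rw [mul_smul]
    have h5 : d • (e • v + v) = d • e • v + d • v := smul_add _ _ _
    rw [h3] at h5
    -- `d e v = (e v + v) + d v`
    have h6 : d • e • v = (e • v + v) + d • v := by
      rw [h5, add_assoc, i.amb.two, add_zero]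
    rw [h6, add_assoc]
  rw [h4]
  exact add_mem (he.2 v) (hd.2 v)

theorem D_inv {d : Y} (hd : InD i.amb.two H R g z d) : InD i.amb.two H R g z d⁻¹ := by
  refine ⟨inv_mem hd.1, fun v => ?_⟩
  have h3 := hd.2 (d⁻¹ • v)
  rw [smul_inv_smul, add_comm] at h3
  exact h3

theorem D_conj {d : Y} (hd : InD i.amb.two H R g z d) {x : Y} (hx : x ∈ H) :
    InD i.amb.two H R g z (x * d * x⁻¹) := by
  refine ⟨conj_mem_QQ hx hd.1, fun v => ?_⟩
  have h3 := i.N_inv hx (hd.2 (x⁻¹ • v))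
  have e1 : (x * d * x⁻¹) • v + v = x • (d • x⁻¹ • v + x⁻¹ • v) := by
    rw [smul_add, smul_inv_smul, mul_smul, mul_smul]
  rw [e1]; exact h3

/-- **(E3)** `D ∩ D^t = 1` -/
theorem D_inf {y : Y} (h1 : InD i.amb.two H R g z y) (h3 : InD i.amb.two H R g z (t⁻¹ * y * t)) : y = 1 := by
  have h2 := i.amb.two
  apply eq_one_of h2 i.amb.faith i.noff (z := z)
  intro v
  have hN := h1.2 v
  have hN' : y • v + v ∈ t • WW V H R := by
    rw [mem_smul_as]
    have h4 := i.N_le_W (h3.2 (t⁻¹ • v))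
    have e1 : (t⁻¹ * y * t) • t⁻¹ • v + t⁻¹ • v = t⁻¹ • (y • v + v) := by
      rw [smul_add, ← mul_smul, ← mul_smul]
      congr 2
      group
    rwa [e1] at h4
  -- `N ∩ W' ≤ {0, z}`
  have h5 : y • v + v ∈ fx V R := by
    apply i.out.cap _ hN'
    exact Amal.WW_le_Ee i.a i.amb i.we i.hA i.AH (i.N_le_W hN)
  rcases Jn.mem_N.1 hN with h6 | h6 | h6 | h6
  · exact Or.inl h6
  · exact Or.inr h6
  · exfalso
    rw [h6] at h5
    exact i.gzR h5
  · exfalso
    rw [h6] at h5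
    apply i.gzR
    have h7 := add_mem h5 i.zR
    rwa [add_assoc, h2, add_zero] at h7

/-- `[D, D^t] = 1` -/
theorem D_comm {d e : Y} (hd : InD i.amb.two H R g z d) (he : InD i.amb.two H R g z e) :
    d * (t * e * t⁻¹) = (t * e * t⁻¹) * d := by
  have heR : t * e * t⁻¹ ∈ R := i.a.t_norm _ (QQ_le he.1)
  have hdR : t⁻¹ * d * t ∈ R := i.a.symm_smul (QQ_le hd.1)
  have h1 : InD i.amb.two H R g z (d * ((t * e * t⁻¹) * d⁻¹ * (t * e * t⁻¹)⁻¹)) :=
    i.D_mul hd (i.D_conj (i.D_inv hd) (i.a.RH heR))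
  have h3 : InD i.amb.two H R g z (((t⁻¹ * d * t) * e * (t⁻¹ * d * t)⁻¹) * e⁻¹) :=
    i.D_mul (i.D_conj he (i.a.RH hdR)) (i.D_inv he)
  have e1 : t⁻¹ * (d * ((t * e * t⁻¹) * d⁻¹ * (t * e * t⁻¹)⁻¹)) * t =
      ((t⁻¹ * d * t) * e * (t⁻¹ * d * t)⁻¹) * e⁻¹ := by group
  have h4 := i.D_inf h1 (by rw [e1]; exact h3)
  have h5 : d * (t * e * t⁻¹) = (d * ((t * e * t⁻¹) * d⁻¹ * (t * e * t⁻¹)⁻¹)) * ((t * e * t⁻¹) * d) := by group
  rw [h5, h4, one_mul]

/-- **(E4)** `C_D(U₁) = ⟨b⟩` -/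
theorem D_cen {d : Y} (hd : InD i.amb.two H R g z d) (hc : ∀ u ∈ MulAut.conj g • B, d * u = u * d) :
    d = 1 ∨ d = b := by
  have h2 := i.amb.two
  have hm := i.amb.cls.mem _ i.hA
  obtain ⟨v, hv⟩ := hm.ne
  -- `C_D(U₁)`-elements with `[v, d] ∈ {0, gz}` are trivial
  have key : ∀ d : Y, InD i.amb.two H R g z d → (∀ u ∈ MulAut.conj g • B, d * u = u * d) →
      (d • v + v = 0 ∨ d • v + v = g • z) → d = 1 := by
    intro d hd hc hdv
    have hgz : g • z ∈ fx V (MulAut.conj g • B) := by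
      rw [fx_conj]
      exact smul_mem_smul_as (fx_mono i.BR i.zR)
    apply eq_one_of h2 i.amb.faith i.noff (z := g • z)
    -- on `F₁`
    have hF : ∀ f ∈ fx V (MulAut.conj g • B), d • f + f = 0 ∨ d • f + f = g • z := by
      intro f hf
      have h3 : d • f + f ∈ fx V (MulAut.conj g • B) := by
        refine add_mem (fun u hu => ?_) hf
        rw [← mul_smul, ← hc u hu, mul_smul, hf u hu]
      rcases Jn.mem_N.1 (hd.2 f) with h6 | h6 | h6 | h6
      · exact Or.inl h6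
      · exfalso
        rw [h6] at h3
        apply i.zH
        rw [← i.a.fx_inf i.AH i.gM]
        exact ⟨h3, i.zR⟩
      · exact Or.inr h6
      · exfalso
        rw [h6] at h3
        apply i.zH
        rw [← i.a.fx_inf i.AH i.gM]
        refine ⟨?_, i.zR⟩
        have h7 := add_mem h3 hgz
        have e1 : g • z + z + g • z = z + (g • z + g • z) := by abel
        rwa [e1, h2, add_zero] at h7
    -- on `[v, U₁]`
    have hU : ∀ u ∈ MulAut.conj g • B, d • (u • v + v) = u • v + v := by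
      intro u hu
      have h3 : d • v = v ∨ d • v = g • z + v := by
        rcases hdv with h | h
        · left; exact (HE.add_eq_zero' h2).1 h
        · right
          rw [← h, add_assoc, h2, add_zero]
      rw [smul_add, ← mul_smul, hc u hu, mul_smul]
      rcases h3 with h3 | h3
      · rw [h3]
      · rw [h3, smul_add, hgz u hu]
        have e1 : g • z + u • v + (g • z + v) = (g • z + g • z) + (u • v + v) := by abel
        rw [e1, h2, zero_add]
    -- on `E₁`
    have hE : ∀ e ∈ Ee V (MulAut.conj g • B), d • e + e = 0 ∨ d • e + e = g • z := by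
      intro e he
      obtain ⟨u, hu, h3⟩ := hm.surj v hv e he
      have h4 : e = (u • v + v) + (u • v + v + e) := by
        rw [← add_assoc, h2, zero_add]
      have h5 : d • e + e = d • (u • v + v + e) + (u • v + v + e) := by
        have h6 : d • e = (u • v + v) + d • (u • v + v + e) := by
          conv_lhs => rw [h4, smul_add, hU u hu]
        rw [h6]; abel
      rw [h5]
      exact hF _ h3
    intro x
    by_cases hx : x ∈ Ee V (MulAut.conj g • B)
    · exact hE x hx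
    · have hind : (Ee V (MulAut.conj g • B)).index = 2 := by
        rw [Ee_conj]
        have h3 := (Ee V B).card_mul_index
        have h4 := (g • Ee V B).card_mul_index
        rw [card_smul_as, ← h3, i.ind] at h4
        exact Nat.eq_of_mul_eq_mul_left Nat.card_pos h4
      have h3 : x + v ∈ Ee V (MulAut.conj g • B) :=
        (AddSubgroup.add_mem_iff_of_index_two hind).2 ⟨fun h4 => absurd h4 hx, fun h4 => absurd h4 hv⟩
      have h5 : d • x + x = (d • (x + v) + (x + v)) + (d • v + v) := by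
        rw [smul_add]
        have : d • x + d • v + (x + v) + (d • v + v) = (d • x + x) + ((d • v + d • v) + (v + v)) := by abel
        rw [this, h2, h2, add_zero, add_zero]
      rw [h5]
      rcases hE _ h3 with h6 | h6 <;> rcases hdv with h7 | h7 <;> rw [h6, h7]
      · left; rw [add_zero]
      · right; rw [zero_add]
      · right; rw [add_zero]
      · left; exact h2 _
  have hbc : ∀ u ∈ MulAut.conj g • B, b * u = u * b := fun u hu => hm.comm b i.bA u hu
  by_cases h3 : d • v + v = 0 ∨ d • v + v = g • z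
  · exact Or.inl (key d hd hc h3)
  · right
    have h4 : d • v + v = z ∨ d • v + v = g • z + z := by
      rcases Jn.mem_N.1 (hd.2 v) with h6 | h6 | h6 | h6
      · exact absurd (Or.inl h6) h3
      · exact Or.inl h6
      · exact absurd (Or.inr h6) h3
      · exact Or.inr h6
    have h5 := (i.cb v).2 hv
    have h6 : (d * b) • v + v = (b • v + v) + (d • v + v) := by
      rw [mul_smul]
      have h5 : d • (b • v + v) = d • b • v + d • v := smul_add _ _ _
      rw [i.D_fix hd (i.cbN v)] at h5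
      have h6 : d • b • v = (b • v + v) + d • v := by
        rw [h5, add_assoc, i.amb.two, add_zero]
      rw [h6, add_assoc]
    have h7 : (d * b) • v + v = 0 ∨ (d * b) • v + v = g • z := by
      rw [h6]
      rcases h4 with h4 | h4 <;> rcases h5 with h5 | h5 <;> rw [h4, h5]
      · left; exact h2 z
      · right; rw [add_assoc, h2, add_zero]
      · right
        have : z + (g • z + z) = g • z + (z + z) := by abel
        rw [this, h2, add_zero]
      · left; exact h2 _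
    have h8 := key (d * b) (i.D_mul hd i.D_b) (fun u hu => by
      rw [mul_assoc, hbc u hu, ← mul_assoc, hc u hu, mul_assoc]) h7
    have h9 : d * b * b = b := by rw [h8, one_mul]
    rwa [mul_assoc, i.bb, mul_one] at h9

end Kn

end Cfsg.Agent.Omega.NO1.TH.ET
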