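import Cfsg.Agent.Omega.NO1.TH.Basic
import Cfsg.Agent.Omega.FFBr.Final

/-!
# N1, BETA: the amalgam, the FF theorem for `H` on `W` (bb OMEGA 19584 (2), helper874)

`XH V H R` : the group induced by `H` on `W = WW V H R`; `pr : H →* XH V H R`.
`Amal.abs` : `FFBr.Abs` for `XH V H R` acting on `Multiplicative W`.
`Amal.ff` : for a member `B ≤ R`, `B ≰ Q`, `W ≤ E_B`, no over-offenders and the conclusion of the FF theorem.
-/

set_option autoImplicit false
set_option linter.unusedSectionVars false

namespace Cfsg.Agent.Omega.NO1.TH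

open Subgroup Cfsg.Agent.Omega.NO1.AB Cfsg.Agent.Omega.FFBr
open scoped Pointwise

universe u

variable {Y : Type u} [Group Y] {V : Type u} [AddCommGroup V] [DistribMulAction Y V]

section act

variable (V : Type u) [AddCommGroup V] [DistribMulAction Y V] (H R : Subgroup Y)

/-- `W` multiplicatively -/
abbrev Wm : Type u := Multiplicative (WW V H R)

/-- the action of `H` on `W` -/
def actH : H →* MulAut (Wm V H R) where
  toFun x :=
    { toFun := fun m => Multiplicative.ofAdd (⟨(x : Y) • ((Multiplicative.toAdd m : WW V H R) : V),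
        smul_mem_WW x.2 (Multiplicative.toAdd m).2⟩ : WW V H R)
      invFun := fun m => Multiplicative.ofAdd (⟨(x : Y)⁻¹ • ((Multiplicative.toAdd m : WW V H R) : V),
        smul_mem_WW (H.inv_mem x.2) (Multiplicative.toAdd m).2⟩ : WW V H R)
      left_inv := fun m => by
        apply congrArg Multiplicative.ofAdd
        apply Subtype.ext
        exact inv_smul_smul (x : Y) _
      right_inv := fun m => by
        apply congrArg Multiplicative.ofAdd
        apply Subtype.ext
        exact smul_inv_smul (x : Y) _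
      map_mul' := fun m n => by
        apply congrArg Multiplicative.ofAdd
        apply Subtype.ext
        exact smul_add (x : Y) _ _ }
  map_one' := by
    apply MulEquiv.ext
    intro m
    apply congrArg Multiplicative.ofAdd
    apply Subtype.ext
    exact one_smul Y _
  map_mul' x y := by
    apply MulEquiv.ext
    intro m
    apply congrArg Multiplicative.ofAdd
    apply Subtype.ext
    exact mul_smul (x : Y) (y : Y) _

/-- the group induced by `H` on `W` -/
abbrev XH : Subgroup (MulAut (Wm V H R)) := (actH V H R).range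

/-- the projection -/
def pr : H →* XH V H R := (actH V H R).rangeRestrict

theorem pr_surjective : Function.Surjective (pr V H R) := (actH V H R).rangeRestrict_surjective

/-- the vector of an element of `Wm` -/
def vl (m : Wm V H R) : V := ((Multiplicative.toAdd m : WW V H R) : V)

end act

section

variable {H R : Subgroup Y}

theorem vl_mem (m : Wm V H R) : vl V H R m ∈ WW V H R := (Multiplicative.toAdd m).2

theorem vl_mul (m n : Wm V H R) : vl V H R (m * n) = vl V H R m + vl V H R n := rfl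

theorem vl_one : vl V H R 1 = 0 := rfl

theorem vl_inj {m n : Wm V H R} (h : vl V H R m = vl V H R n) : m = n := by
  apply Multiplicative.toAdd.injective
  exact Subtype.ext h

theorem exists_vl {w : V} (hw : w ∈ WW V H R) : ∃ m : Wm V H R, vl V H R m = w :=
  ⟨Multiplicative.ofAdd ⟨w, hw⟩, rfl⟩

theorem vl_smul (x : H) (m : Wm V H R) : vl V H R (pr V H R x • m) = (x : Y) • vl V H R m := rfl

theorem pr_fix {x : H} {m : Wm V H R} : pr V H R x • m = m ↔ (x : Y) • vl V H R m = vl V H R m := by
  rw [← vl_smul]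
  exact ⟨fun h => congrArg _ h, vl_inj⟩

theorem pr_eq_one {x : H} : pr V H R x = 1 ↔ ∀ w ∈ WW V H R, (x : Y) • w = w := by
  constructor
  · intro h w hw
    obtain ⟨m, rfl⟩ := exists_vl hw
    rw [← pr_fix, h, one_smul]
  · intro h
    apply Subtype.ext
    apply MulEquiv.ext
    intro m
    exact vl_inj (h _ (vl_mem m))

theorem pr_faith (x : XH V H R) (hx : ∀ m : Wm V H R, x • m = m) : x = 1 := by
  apply Subtype.ext
  apply MulEquiv.ext
  exact hx

end

namespace Amal

variable {U : Set (Subgroup Y)} {T : Sylow 2 Y} {M H R : Subgroup Y} {t : Y}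

variable (a : Amal U T M H R t)
include a

/-- `R` as a Sylow subgroup of `H` -/
theorem exists_syl [Finite Y] : ∃ P : Sylow 2 H, (P : Subgroup H) = R.subgroupOf H := by
  have : Fact (Nat.Prime 2) := ⟨Nat.prime_two⟩
  have hRp : IsPGroup 2 (R.subgroupOf H) := a.R2.comap_of_injective H.subtype H.subtype_injective
  obtain ⟨P, hP⟩ := hRp.exists_le_sylow
  refine ⟨P, ?_⟩
  symm
  apply eq_of_le_of_card_ge hP
  have h2 := a.card_le a.bad.ne le_rfl (map_subtype_le (P : Subgroup H)) (P.2.map H.subtype)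
  rw [Nat.card_congr ((P : Subgroup H).equivMapOfInjective _ H.subtype_injective).symm.toEquiv] at h2
  rwa [Nat.card_congr (subgroupOfEquivOfLe a.RH).toEquiv]

variable (h : Amb V U T M)
include h

/-- `H` moves a vector of `V₀` -/
theorem exists_moved [Finite V] : ∃ v ∈ fx V R, ∃ x ∈ H, x • v ≠ v := by
  by_contra hcon
  push Not at hcon
  exact H_not_le a h (ker_le_M a h fun x hx v hv => hcon v hv x hx)

/-- **the FF theorem's hypotheses for `H` on `W`** -/
theorem abs [Finite Y] [Finite V] : ∃ (P : Sylow 2 (XH V H R)) (M₁ : Subgroup (XH V H R)),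
    Abs (XH V H R) (Wm V H R) P M₁ ∧ ∀ x : XH V H R, x ∈ P ↔ ∃ r : H, (r : Y) ∈ R ∧ pr V H R r = x := by
  have : Fact (Nat.Prime 2) := ⟨Nat.prime_two⟩
  obtain ⟨P, hP⟩ := a.exists_syl
  have hmem : ∀ x : XH V H R, x ∈ P.mapSurjective (pr_surjective V H R) ↔
      ∃ r : H, (r : Y) ∈ R ∧ pr V H R r = x := by
    intro x
    constructor
    · rintro ⟨r, hr, rfl⟩
      have h1 : r ∈ (P : Subgroup H) := hr
      rw [hP] at h1
      exact ⟨r, h1, rfl⟩
    · rintro ⟨r, hr, rfl⟩
      have h1 : r ∈ (P : Subgroup H) := by rw [hP]; exact hr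
      exact ⟨r, h1, rfl⟩
  have hker : ∀ x : H, pr V H R x = 1 → (x : Y) ∈ M := by
    intro x hx
    rw [pr_eq_one] at hx
    have h1 := ker_le_M a h (X := zpowers (x : Y)) (by
      intro y hy v hv
      have h2 : zpowers (x : Y) ≤ MulAction.stabilizer Y v := by
        rw [zpowers_le, MulAction.mem_stabilizer_iff]
        exact hx v (fx_le_WW hv)
      exact h2 hy)
    exact h1 (mem_zpowers _)
  -- a proper subgroup of `H` over `R` and the kernel
  have key : ∀ N : Subgroup H, R.subgroupOf H ≤ N → N ≠ ⊤ → ∀ x ∈ N, (x : Y) ∈ M := by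
    intro N hN hNt x hx
    have hlt : N.map H.subtype < H := by
      refine lt_of_le_of_ne (map_subtype_le _) fun h5 => hNt ?_
      rw [eq_top_iff]
      intro x _
      have h6 : (x : Y) ∈ N.map H.subtype := by rw [h5]; exact x.2
      obtain ⟨n, hn, hnx⟩ := h6
      have : n = x := Subtype.ext hnx
      rwa [← this]
    have hle : R ≤ N.map H.subtype := by
      intro r hr
      exact ⟨⟨r, a.RH hr⟩, hN (mem_subgroupOf.2 hr), rfl⟩
    exact a.uniq _ hle hlt ⟨x, hx, rfl⟩
  have hHM : ¬ ∀ x ∈ H, x ∈ M := H_not_le a h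
  refine ⟨P.mapSurjective (pr_surjective V H R), (M.subgroupOf H).map (pr V H R), ?_, hmem⟩
  exact
    { comm := fun v w => vl_inj (by rw [vl_mul, vl_mul, add_comm])
      sq := fun v => vl_inj (by rw [vl_mul, h.two, vl_one])
      faith := pr_faith
      core := by
        intro N hN hN2
        have h1 : N ≤ (P.mapSurjective (pr_surjective V H R) : Subgroup (XH V H R)) := hN2.le_sylow_of_normal _
        set N' := N.comap (pr V H R) with hN'
        have hN'n : N'.Normal := hN.comap _
        have h2 := frattini_inf P N'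
        have h3 : normalizer (((P : Subgroup H) ⊓ N' : Subgroup H) : Set H) = ⊤ := by
          by_contra h4
          apply hHM
          have h5 := key _ (by
            intro r hr
            rw [mem_normalizer_iff]
            have hrP : r ∈ (P : Subgroup H) := by rw [hP]; exact hr
            intro y
            constructor
            · rintro ⟨hy1, hy2⟩
              exact ⟨(P : Subgroup H).mul_mem ((P : Subgroup H).mul_mem hrP hy1) ((P : Subgroup H).inv_mem hrP),
                hN'n.conj_mem y hy2 _⟩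
            · rintro ⟨hy1, hy2⟩
              refine ⟨?_, ?_⟩
              · have := (P : Subgroup H).mul_mem ((P : Subgroup H).mul_mem ((P : Subgroup H).inv_mem hrP) hy1) hrP
                have e : r⁻¹ * (r * y * r⁻¹) * r = y := by group
                rwa [e] at this
              · have := hN'n.conj_mem _ hy2 r⁻¹
                have e : r⁻¹ * (r * y * r⁻¹) * r⁻¹⁻¹ = y := by group
                rwa [e] at this) h4
          have h6 : N' ≤ M.subgroupOf H := by
            intro y hy
            obtain ⟨p, hp, hpy⟩ := h1 hy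
            have h7 : p ∈ N' := by
              rw [hN', mem_comap]
              change pr V H R p = pr V H R y at hpy
              rw [hpy]
              exact hy
            have h8 : (p : Y) ∈ M := h5 p (le_normalizer ⟨hp, h7⟩)
            have h9 : pr V H R (p⁻¹ * y) = 1 := by
              change pr V H R p = pr V H R y at hpy
              rw [map_mul, map_inv, hpy, inv_mul_cancel]
            have h10 := hker _ h9
            have h11 := M.mul_mem h8 h10
            rw [mem_subgroupOf]
            have e : (p : Y) * ((p⁻¹ * y : H) : Y) = y := by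
              rw [Subgroup.coe_mul, Subgroup.coe_inv, mul_inv_cancel_left]
            rwa [e] at h11
          intro x hx
          have h7 : (⟨x, hx⟩ : H) ∈ normalizer (((P : Subgroup H) ⊓ N' : Subgroup H) : Set H) ⊔ N' := by
            rw [h2]; exact mem_top _
          have h8 : normalizer (((P : Subgroup H) ⊓ N' : Subgroup H) : Set H) ⊔ N' ≤ M.subgroupOf H :=
            sup_le (fun y hy => h5 y hy) h6
          exact h8 h7
        have h4 : ((P : Subgroup H) ⊓ N').Normal := normalizer_eq_top_iff.1 h3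
        rw [eq_bot_iff]
        intro x hx
        obtain ⟨p, hp, rfl⟩ := h1 hx
        have hpR : (p : Y) ∈ R := by
          have : p ∈ (P : Subgroup H) := hp
          rw [hP] at this
          exact this
        have hpN : p ∈ (P : Subgroup H) ⊓ N' := ⟨hp, hx⟩
        rw [mem_bot]
        change pr V H R p = 1
        rw [pr_eq_one]
        intro w hw
        apply QQ_fix a h (q := (p : Y)) _ hw
        intro y hy
        have h5 := (h4.conj_mem p hpN ⟨y, hy⟩).1
        rw [hP] at h5
        exact h5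
      TM := by
        rintro _ ⟨r, hr, rfl⟩
        refine ⟨r, ?_, rfl⟩
        have h1 : r ∈ (P : Subgroup H) := hr
        rw [hP] at h1
        exact h.TM (a.RT h1)
      Mne := by
        intro h1
        apply hHM
        intro x hx
        have h2 : pr V H R ⟨x, hx⟩ ∈ (M.subgroupOf H).map (pr V H R) := by rw [h1]; exact mem_top _
        obtain ⟨m, hm, hmx⟩ := h2
        have h3 : pr V H R (m⁻¹ * ⟨x, hx⟩) = 1 := by
          rw [map_mul, map_inv, hmx, inv_mul_cancel]
        have h4 := M.mul_mem (show (m : Y) ∈ M from hm) (hker _ h3)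
        have e : (m : Y) * ((m⁻¹ * ⟨x, hx⟩ : H) : Y) = x := by
          rw [Subgroup.coe_mul, Subgroup.coe_inv, mul_inv_cancel_left]
        rwa [e] at h4
      max := by
        intro K hK
        by_cases h1 : K.comap (pr V H R) = ⊤
        · right
          rw [eq_top_iff]
          intro x _
          obtain ⟨y, rfl⟩ := pr_surjective V H R x
          have : y ∈ K.comap (pr V H R) := by rw [h1]; exact mem_top _
          exact this
        · left
          have h2 := key _ (by
            intro r hr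
            rw [mem_comap]
            apply hK
            exact (hmem _).2 ⟨r, hr, rfl⟩) h1
          intro x hx
          obtain ⟨y, rfl⟩ := pr_surjective V H R x
          exact ⟨y, h2 y hx, rfl⟩
      gen := by
        intro W' hW'
        let W₂ : AddSubgroup V :=
          { carrier := {v | ∃ m ∈ W', vl V H R m = v}
            add_mem' := by
              rintro _ _ ⟨m, hm, rfl⟩ ⟨n, hn, rfl⟩
              exact ⟨m * n, W'.mul_mem hm hn, vl_mul m n⟩
            zero_mem' := ⟨1, W'.one_mem, vl_one⟩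
            neg_mem' := by
              rintro _ ⟨m, hm, rfl⟩
              exact ⟨m⁻¹, W'.inv_mem hm, rfl⟩ }
        have h1 : WW V H R ≤ W₂ := by
          apply WW_le
          intro x hx w hw
          obtain ⟨m, hm⟩ := exists_vl (fx_le_WW (H := H) hw)
          refine ⟨pr V H R ⟨x, hx⟩ • m, hW' m ?_ _, ?_⟩
          · intro p hp
            obtain ⟨r, hr, rfl⟩ := (hmem p).1 hp
            rw [pr_fix, hm]
            exact hw r hr
          · rw [vl_smul, hm]
        rw [eq_top_iff]
        intro m _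
        obtain ⟨n, hn, hnm⟩ := h1 (vl_mem m)
        rwa [← vl_inj hnm]
      nfix := by
        obtain ⟨v, hv, x, hx, hne⟩ := exists_moved a h
        obtain ⟨m, hm⟩ := exists_vl (fx_le_WW (H := H) hv)
        refine ⟨m, fun p hp => ?_, pr V H R ⟨x, hx⟩, fun h1 => hne ?_⟩
        · obtain ⟨r, hr, rfl⟩ := (hmem p).1 hp
          rw [pr_fix, hm]
          exact hv r hr
        · rw [pr_fix, hm] at h1
          exact h1 }

end Amal

section count

variable {H R : Subgroup Y}

/-- the pointwise stabiliser of `W` -/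
def CW (V : Type u) [AddCommGroup V] [DistribMulAction Y V] (H R : Subgroup Y) : Subgroup Y where
  carrier := {y | ∀ w ∈ WW V H R, y • w = w}
  one_mem' := fun w _ => one_smul Y w
  mul_mem' := fun {x y} hx hy w hw => by rw [mul_smul, hy w hw, hx w hw]
  inv_mem' := fun {x} hx w hw => by rw [inv_smul_eq_iff, hx w hw]

theorem mem_CW {y : Y} : y ∈ CW V H R ↔ ∀ w ∈ WW V H R, y • w = w := Iff.rfl

/-- `|A| |B ∩ C(W)| = |B|`, `A` the image of `B` -/
theorem card_im {B : Subgroup Y} (hB : B ≤ H) :
    Nat.card ↥((B.subgroupOf H).map (pr V H R)) * Nat.card ↥(B ⊓ CW V H R) = Nat.card B := by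
  let f : B →* XH V H R := (pr V H R).comp (inclusion hB)
  have h1 : f.range = (B.subgroupOf H).map (pr V H R) := by
    ext x
    constructor
    · rintro ⟨b, rfl⟩
      exact ⟨inclusion hB b, mem_subgroupOf.2 b.2, rfl⟩
    · rintro ⟨b, hb, rfl⟩
      exact ⟨⟨b, hb⟩, rfl⟩
  have h2 : f.ker.map B.subtype = B ⊓ CW V H R := by
    ext x
    constructor
    · rintro ⟨b, hb, rfl⟩
      refine ⟨b.2, ?_⟩
      have h3 : pr V H R (inclusion hB b) = 1 := hb
      rw [pr_eq_one] at h3
      exact h3
    · rintro ⟨h3, h4⟩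
      refine ⟨⟨x, h3⟩, ?_, rfl⟩
      change pr V H R (inclusion hB ⟨x, h3⟩) = 1
      rw [pr_eq_one]
      exact h4
  rw [← h1, ← h2, Nat.card_congr (f.ker.equivMapOfInjective _ B.subtype_injective).symm.toEquiv]
  have h3 := f.ker.card_mul_index
  rw [index_ker] at h3
  rw [← h3, mul_comm]

/-- `|W : C_W(B)|` -/
theorem card_cv [Finite V] {B : Subgroup Y} (hB : B ≤ H) :
    (ClassTwoFusion.Quad.cv (Wm V H R) (((B.subgroupOf H).map (pr V H R) : Subgroup (XH V H R)) : Set (XH V H R))).index
      * Nat.card ↥(WW V H R ⊓ fx V B) = Nat.card ↥(WW V H R) := by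
  set K := ClassTwoFusion.Quad.cv (Wm V H R)
    (((B.subgroupOf H).map (pr V H R) : Subgroup (XH V H R)) : Set (XH V H R)) with hK
  have h1 : Nat.card K = Nat.card ↥(WW V H R ⊓ fx V B) := by
    refine Nat.card_congr
      { toFun := fun m => ⟨vl V H R m, vl_mem _, ?_⟩
        invFun := fun w => ⟨Multiplicative.ofAdd ⟨w, w.2.1⟩, ?_⟩
        left_inv := fun m => rfl
        right_inv := fun w => rfl }
    · intro b hb
      have h2 := m.2 (pr V H R ⟨b, hB hb⟩) ⟨⟨b, hB hb⟩, hb, rfl⟩
      exact pr_fix.1 h2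
    · rintro _ ⟨b, hb, rfl⟩
      exact pr_fix.2 (w.2.2 b hb)
  rw [← h1, mul_comm, K.card_mul_index]
  rfl

/-- (MU) for `C_B(W)`: `|W| |C_B(W)| ≤ |B| |C_W(B)|` -/
theorem mu_W [Finite Y] [Finite V] {B : Subgroup Y} (h2 : ∀ v : V, v + v = 0) (hm : Mem B (Ee V B) (fx V B))
    (hmu : ∀ A₀ ≤ B, Nat.card A₀ * Nat.card ↥(fx V A₀ ⊓ Ee V B) ≤ Nat.card (Ee V B))
    (hW : WW V H R ≤ Ee V B) :
    Nat.card ↥(WW V H R) * Nat.card ↥(B ⊓ CW V H R) ≤ Nat.card B * Nat.card ↥(WW V H R ⊓ fx V B) := by
  have h3 := hmu (B ⊓ CW V H R) inf_le_left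
  have h4 : WW V H R ⊔ fx V B ≤ fx V (B ⊓ CW V H R) ⊓ Ee V B := by
    refine sup_le (le_inf ?_ hW) (le_inf (fx_mono inf_le_left) hm.FE)
    intro w hw b hb
    exact hb.2 w hw
  have h5 : Nat.card ↥(WW V H R ⊔ fx V B) ≤ Nat.card ↥(fx V (B ⊓ CW V H R) ⊓ Ee V B) :=
    Nat.card_le_card_of_injective _ (AddSubgroup.inclusion_injective h4)
  have h6 := card_sup_as (WW V H R) (fx V B)
  rw [hm.card_E h2] at h3
  have h7 : 0 < Nat.card ↥(fx V B) := Nat.card_pos
  have h8 : Nat.card ↥(B ⊓ CW V H R) * Nat.card ↥(WW V H R ⊔ fx V B) ≤ Nat.card ↥(fx V B) * Nat.card B :=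
    (Nat.mul_le_mul_left _ h5).trans h3
  have h9 := Nat.mul_le_mul_right (Nat.card ↥(WW V H R ⊓ fx V B)) h8
  rw [mul_assoc, h6] at h9
  have h10 : Nat.card ↥(fx V B) * (Nat.card ↥(WW V H R) * Nat.card ↥(B ⊓ CW V H R)) ≤
      Nat.card ↥(fx V B) * (Nat.card B * Nat.card ↥(WW V H R ⊓ fx V B)) := by
    calc _ = Nat.card ↥(B ⊓ CW V H R) * (Nat.card ↥(WW V H R) * Nat.card ↥(fx V B)) := by ring
      _ ≤ _ := h9
      _ = _ := by ring
  exact Nat.le_of_mul_le_mul_left h10 h7

end count

namespace Amal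

variable {U : Set (Subgroup Y)} {T : Sylow 2 Y} {M H R : Subgroup Y} {t : Y}

variable (a : Amal U T M H R t) (h : Amb V U T M)
include a h

/-- for `B ≤ R`: `B ∩ C(W) = B ∩ Q` -/
theorem inf_CW [Finite Y] [Finite V] {B : Subgroup Y} (hB : B ≤ R) : B ⊓ CW V H R = B ⊓ QQ H R := by
  ext b
  constructor
  · rintro ⟨h1, h2⟩
    exact ⟨h1, (mem_QQ_iff a h (hB h1)).2 h2⟩
  · rintro ⟨h1, h2⟩
    exact ⟨h1, fun w hw => QQ_fix a h h2 hw⟩

/-- the image of a member -/
theorem aOff [Finite Y] [Finite V] {B : Subgroup Y} (hB : B ∈ U) (hBH : B ≤ H) (hBQ : ¬ B ≤ CW V H R)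
    (hW : WW V H R ≤ Ee V B) : AOff (Wm V H R) ((B.subgroupOf H).map (pr V H R)) where
  comm := by
    rintro _ ⟨x, hx, rfl⟩ _ ⟨y, hy, rfl⟩
    rw [← map_mul, ← map_mul]
    congr 1
    exact Subtype.ext ((h.cls.mem B hB).comm x hx y hy)
  sq := by
    rintro _ ⟨x, hx, rfl⟩
    rw [← map_mul]
    have : x * x = 1 := Subtype.ext ((h.cls.mem B hB).sq x hx)
    rw [this, map_one]
  ne := by
    intro h1
    apply hBQ
    intro b hb w hw
    have h2 : pr V H R ⟨b, hBH hb⟩ ∈ (B.subgroupOf H).map (pr V H R) := ⟨_, hb, rfl⟩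
    rw [h1, mem_bot, pr_eq_one] at h2
    exact h2 w hw
  le := by
    have h1 := mu_W h.two (h.cls.mem B hB) (h.cls.mu B hB) hW
    have h2 := card_im (V := V) (R := R) hBH
    have h3 := card_cv (V := V) (R := R) hBH
    rw [← h2, ← h3] at h1
    have h4 : 0 < Nat.card ↥(B ⊓ CW V H R) := Nat.card_pos
    have h5 : 0 < Nat.card ↥(WW V H R ⊓ fx V B) := Nat.card_pos
    have h6 := Nat.mul_pos h4 h5
    apply Nat.le_of_mul_le_mul_right _ h6
    calc _ = _ := (mul_assoc _ _ _).symm
      _ = _ := by rw [mul_right_comm]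
      _ ≤ _ := h1
      _ = _ := mul_assoc _ _ _

/-- **the FF theorem for `H` on `W`** -/
theorem ff [Finite Y] [Finite V] {B : Subgroup Y} (hB : B ∈ U) (hBH : B ≤ H) (hBQ : ¬ B ≤ CW V H R)
    (hW : WW V H R ≤ Ee V B) : ∃ (P : Sylow 2 (XH V H R)) (M₁ : Subgroup (XH V H R)),
      Abs (XH V H R) (Wm V H R) P M₁ ∧ (∀ x : XH V H R, x ∈ P ↔ ∃ r : H, (r : Y) ∈ R ∧ pr V H R r = x) ∧
        ANoOver (XH V H R) (Wm V H R) ∧ AConcl (P : Subgroup (XH V H R)) (Wm V H R) := by
  obtain ⟨P, M₁, h1, h2⟩ := a.abs h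
  obtain ⟨h3, h4⟩ := aStmt (XH V H R) (Wm V H R) P M₁ h1 ⟨_, aOff a h hB hBH hBQ hW⟩
  exact ⟨P, M₁, h1, h2, h3, h4⟩

/-- **exactness**: `|W| |C_B(W)| = |B| |C_W(B)|` -/
theorem exact [Finite Y] [Finite V] (hno : ANoOver (XH V H R) (Wm V H R)) {B : Subgroup Y} (hB : B ∈ U)
    (hBH : B ≤ H) (hW : WW V H R ≤ Ee V B) :
    Nat.card ↥(WW V H R) * Nat.card ↥(B ⊓ CW V H R) = Nat.card B * Nat.card ↥(WW V H R ⊓ fx V B) := by
  apply le_antisymm (mu_W h.two (h.cls.mem B hB) (h.cls.mu B hB) hW)
  have h1 := hno ((B.subgroupOf H).map (pr V H R)) (by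
    rintro _ ⟨x, hx, rfl⟩ _ ⟨y, hy, rfl⟩
    rw [← map_mul, ← map_mul]
    congr 1
    exact Subtype.ext ((h.cls.mem B hB).comm x hx y hy)) (by
    rintro _ ⟨x, hx, rfl⟩
    rw [← map_mul]
    have : x * x = 1 := Subtype.ext ((h.cls.mem B hB).sq x hx)
    rw [this, map_one])
  have h2 := card_im (V := V) (R := R) hBH
  have h3 := card_cv (V := V) (R := R) hBH
  rw [← h2, ← h3]
  calc _ = Nat.card ↥((B.subgroupOf H).map (pr V H R)) *
        (Nat.card ↥(B ⊓ CW V H R) * Nat.card ↥(WW V H R ⊓ fx V B)) := mul_assoc _ _ _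
    _ ≤ _ := Nat.mul_le_mul_right _ h1
    _ = _ := by ring

end Amal

end Cfsg.Agent.Omega.NO1.TH
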