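import Cfsg.Agent.Omega.NO1.Alpha.PlusOfFin
import Cfsg.Agent.Omega.NO1.Field.KOneAll
import Cfsg.Agent.Omega.NO1.Field.NoSz

/-!
# FIN-ALPHA, end literal (helper406): the (ALPHA+) data of `Fin` give `PlusAt`
-/

set_option autoImplicit false
set_option linter.unusedSectionVars false

namespace Cfsg.Agent.Omega.NO1.TH

open Subgroup Cfsg Cfsg.Agent.ZN Cfsg.Agent.Omega.MinPar Cfsg.Agent.Omega.Frame
open Cfsg.Agent.Omega.NO1.AB
open Cfsg.Agent.Omega.NO1.WRF.Irr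
open scoped Pointwise

universe u

variable {G : Type u} [Group G] [Finite G] {S : Sylow 2 G} {P M F : Subgroup G} (h : Fr S P M F)
  {Y V : Type u} [Group Y] [Finite Y] [AddCommGroup V] [DistribMulAction Y V] {T : Sylow 2 Y}
  {Mx : Subgroup Y} (R : Rep (S : Subgroup G) P (V1 S P) Y V T Mx) {a : ℕ}
include h

/-- `SC` for the frames -/
theorem sc_of_world (h1 : Field.SL2Spr.{u}) (w : World V (mb M F R) T Mx a) (ha : 4 ≤ a) :
    Alpha.SC (zl (S : Subgroup G) M) F := by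
  refine Field.sc_of h1 Field.noSz' h.hypF ?_
  refine ha.trans ?_
  rw [← w.ind _ ⟨1, by rw [map_one, one_smul]⟩, index_im h R]
  exact hyp_index_le h.hyp (V1_le_VV h)

/-- **(ALPHA+) gives (+)** -/
theorem plusAt_of_alpha (h1 : Field.SL2Spr.{u}) (w : World V (mb M F R) T Mx a) (ha : 4 ≤ a)
    {L A : Subgroup Y} {L₁ : Subgroup L} {Q : Sylow 2 L} (hA : A ∈ mb M F R) (hAL : A ≤ L)
    (hloc : Loc0 (A.subgroupOf L) (Ee V A) (fx V A) ⊥ L₁ Q)
    (hplus : ∀ x : L, ∀ v ∈ Ee V A, v ≠ 0 → (∀ r ∈ Q, (x * r * x⁻¹) • v = v) → x ∈ L₁) :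
    PlusAt (S : Subgroup G) P (NOne.Flat.EE (zl (S : Subgroup G) M) F) :=
  Alpha.plusAt_of_loc h R (Alpha.nn_of_fr h) (sc_of_world h R h1 w ha) hA hAL hloc hplus

end Cfsg.Agent.Omega.NO1.TH
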