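import Cfsg.Agent.Omega.NO1.TH.Soc5

/-!
# CARD N1-ONE from the module theorem

* `world_of'` : the world of a frame (`world_of` + `socN_of`);
* `frOne_of : NNOne → K1All → ModStmt → Comp.FrOne`.
-/

set_option autoImplicit false
set_option linter.unusedSectionVars false

namespace Cfsg.Agent.Omega.NO1.TH

open Subgroup Cfsg Cfsg.Agent.ZN Cfsg.Agent.Omega.MinPar Cfsg.Agent.Omega.Frame
open Cfsg.Agent.Omega.NO1.AB
open Cfsg.Agent.Omega.NO1.WRF.Irr
open scoped Pointwise

universe u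

section

variable {G : Type u} [Group G] [Finite G] {S : Sylow 2 G} {P M F : Subgroup G} (h : Fr S P M F)
variable {Y V : Type u} [Group Y] [AddCommGroup V] [DistribMulAction Y V] {T : Sylow 2 Y}
  {Mx : Subgroup Y} (R : Rep (S : Subgroup G) P (V1 S P) Y V T Mx)

include h

/-- **The world of a frame.** -/
theorem world_of' [Finite Y] (hNN : Field.NNOne.{u}) (hK : Field.K1All.{u}) :
    World V (mb M F R) T Mx
      ((V1 S P ⊓ NOne.Flat.EE (zl (S : Subgroup G) M) F).relIndex (V1 S P)) := by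
  have := R.finite
  refine world_of h R hNN hK fun A hA B hB w hw0 hwA hwB => ?_
  obtain ⟨X, hX, hc, hn, ht⟩ := socN_of h R A hA B hB w hw0 hwA hwB
  refine ⟨X, hX, ?_, hn, ht⟩
  obtain ⟨y, rfl⟩ := hA
  rwa [Ee_conj, index_smul_as, index_im h R] at hc

end

/-- **CARD N1-ONE from the module theorem.** -/
theorem frOne_of (hNN : Field.NNOne.{u}) (hK : Field.K1All.{u}) (hM : ModStmt.{u}) : Comp.FrOne.{u} := by
  intro G _ _ S P M₀ F h hp h4 Y V _ _ _ _ _ T Mx R K₁ K _ _ _ _ hone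
  exfalso
  apply hp
  have hW := world_of' h R hNN hK
  have h4' : 4 ≤ (V1 S P ⊓ NOne.Flat.EE (zl (S : Subgroup G) M₀) F).relIndex (V1 S P) := by
    rw [hyp_index_V1 h.hyp h.cfg h.VP_le h.W_le_S h.not_le, inf_relIndex_left]
    exact h4
  exact plusAt_of h R (hM Y V _ T Mx _ hW h4' (Comp.RepOne.irred h.fdat R)
    (fun L L' hL hL' => (hone.one L hL).trans (hone.one L' hL').symm) (soc5_of h R))

end Cfsg.Agent.Omega.NO1.TH
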