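import Cfsg.Agent.Omega.NO1.TH.OutF
import Cfsg.Agent.Omega.NO1.TH.Top
import Cfsg.Agent.Omega.NO1.Alpha.PlusOfFin
import Cfsg.Agent.Omega.NO1.Field.KOneAll

/-!
# CARD N1-ONE from the sockets of the chain

* `SockBeta` : FIN-BETA at the top;
* `AllOut` : the output of the chain for all worlds;
* `frOne_of_out : SL2Spr → NoSz → AllOut → SockBeta → Comp.FrOne`.
-/

set_option autoImplicit false
set_option linter.unusedSectionVars false

namespace Cfsg.Agent.Omega.NO1.TH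

open Subgroup Cfsg Cfsg.Agent.ZN Cfsg.Agent.Omega.MinPar Cfsg.Agent.Omega.Frame
open Cfsg.Agent.Omega.NO1.AB
open Cfsg.Agent.Omega.NO1.WRF.Irr
open scoped Pointwise

universe u

/-- **FIN-BETA** at the top -/
def SockBeta : Prop :=
  ∀ (Y V : Type u) [Group Y] [Finite Y] [AddCommGroup V] [Finite V] [DistribMulAction Y V] (U : Set (Subgroup Y))
    (T : Sylow 2 Y) (M : Subgroup Y) (a : ℕ), World V U T M a → 4 ≤ a →
      (∀ W : AddSubgroup V, (∀ y : Y, ∀ w ∈ W, y • w ∈ W) → W = ⊥ ∨ W = ⊤) →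
      (∀ L L' : Subgroup Y, Cfsg.IsComponent L → Cfsg.IsComponent L' → L = L') → Soc5 V U →
      ∀ (L A : Subgroup Y) (Q : Subgroup L) (R : Sylow 2 L), A ∈ U → A ≤ L → A ≤ (T : Subgroup Y) → ¬ L ≤ M →
        (R : Subgroup L).map L.subtype ≤ (T : Subgroup Y) →
        Loc0 (A.subgroupOf L) (Ee V A) (fx V A) Q (M.subgroupOf L) R → fx V L = ⊥ → A.subgroupOf L ⊓ Q ≠ ⊥ → False

/-- the output of the chain -/
def AllOut : Prop :=
  ∀ (Y V : Type u) [Group Y] [Finite Y] [AddCommGroup V] [Finite V] [DistribMulAction Y V] (U : Set (Subgroup Y))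
    (T : Sylow 2 Y) (M : Subgroup Y) (a : ℕ), World V U T M a → (∃ B, B ∈ U) → OutF Y V U T M

/-- **The chain.** -/
theorem allOut_of_socks (hA : SockA OutF.{u}) (h1 : SockOne OutF.{u}) (hN : SockNat OutF.{u})
    (hS : SockSym OutF.{u}) : AllOut.{u} := by
  intro Y V _ _ _ _ _ U T M a w hU
  exact out_of_socks sockE hA h1 hN hS _ Y V U T M a rfl w hU

/-- **CARD N1-ONE from the chain.** -/
theorem frOne_of_out (h1 : Field.SL2Spr.{u}) (h5 : Field.NoSz.{u}) (hout : AllOut.{u}) (hβ : SockBeta.{u}) : Comp.FrOne.{u} := by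
  intro G _ _ S P M₀ F h hp h4 Y V _ _ _ _ _ T Mx R K₁ K _ _ _ _ hone
  exfalso
  have hW := world_of' h R Field.nNOne (Field.k1All_of h1 h5)
  have h4' : 4 ≤ (V1 S P ⊓ NOne.Flat.EE (zl (S : Subgroup G) M₀) F).relIndex (V1 S P) := by
    rw [hyp_index_V1 h.hyp h.cfg h.VP_le h.W_le_S h.not_le, inf_relIndex_left]
    exact h4
  have h4m : 4 ≤ (NOne.Flat.EE (zl (S : Subgroup G) M₀) F).relIndex (zl (S : Subgroup G) M₀) :=
    h4.trans (relIndex_le_of_le_right h.VP_le index_ne_zero_of_finite)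
  have hirr := Comp.RepOne.irred h.fdat R
  have := R.finite
  have hF := Field.sc_of h1 h5 h.hypF h4m
  rcases hout Y V (mb M₀ F R) T Mx _ hW ⟨_, 1, rfl⟩ with h6 | h6
  · obtain ⟨L, A, Q, Q', hA, hAL, hAT, hLM, hQT, hloc, hfx, hne⟩ :=
      Alpha.plusAt_of_fin h R (Alpha.nn_of_fr h) hF h6 hp
    exact hβ Y V _ T Mx _ hW h4' hirr
      (fun L L' hL hL' => (hone.one L hL).trans (hone.one L' hL').symm) (soc5_of h R)
      L A Q Q' hA hAL hAT hLM hQT hloc hfx hne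
  · exact h6.false hW.cls ⟨hW.faith, hW.noff, hW.soc⟩ hW.max hirr

end Cfsg.Agent.Omega.NO1.TH
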