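import Cfsg.Agent.Omega.NO1.TH.FrOut
import Cfsg.Agent.Omega.NO1.TH.OfFrTwo

/-!
# N1, `FrTwo` from the output of the chain
-/

set_option autoImplicit false

namespace Cfsg.Agent.Omega.NO1.TH

universe u

/-- **`FrTwo` from the chain.** -/
theorem frTwo_of_out (h1 : Field.SL2Spr.{u}) (h5 : Field.NoSz.{u}) (hout : AllOut.{u}) : FrTwo.{u} :=
  frTwo_of Field.nNOne (Field.k1All_of h1 h5) h1 h5 fun Y V _ _ _ _ _ U T M w hU => hout Y V U T M 2 w hU

end Cfsg.Agent.Omega.NO1.TH
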