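import Cfsg.Agent.Omega.NO1.TH.LemE

/-!
# N1-ONE: HH = {} (bb OMEGA 20641, helper367)

`Wd V q U T M` : the module level setting, `Amb` + `Alpha.Cls` (with the field part `sc`), `HH = {}` : every proper
subgroup containing a member lies in a point.

`Wd.claim` (1), `Wd.two` (2), `Wd.plus` (3) : if `T` normalises `E_U` for some member `U ≤ T`, then (+).
-/

set_option autoImplicit false
set_option linter.unusedSectionVars false

namespace Cfsg.Agent.Omega.NO1.TH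

open Subgroup Cfsg.Agent.Omega.NO1.Alpha
open Cfsg.Agent.Omega.NO1.HE (dl dl_apply dl_eq_zero mem_conj)
open scoped Pointwise

universe u

variable {Y : Type u} [Group Y] {V : Type u} [AddCommGroup V] [DistribMulAction Y V]

/-- `HH = {}` -/
structure Wd (V : Type u) [AddCommGroup V] [DistribMulAction Y V] (q : ℕ) (U : Set (Subgroup Y)) (T : Sylow 2 Y)
    (M : Subgroup Y) : Prop where
  amb : Amb V U T M
  cls : Cls V q U
  hh : ∀ X : Subgroup Y, ¬ Bad U M X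
  memT : ∃ B ∈ U, B ≤ (T : Subgroup Y)

namespace Wd

variable [Finite Y] [Finite V] {q : ℕ} {U : Set (Subgroup Y)} {T : Sylow 2 Y} {M : Subgroup Y} (w : Wd V q U T M)
include w

/-- a member lies in one point -/
theorem one {B : Subgroup Y} (hB : B ∈ U) {x y : Y} (h1 : B ≤ MulAut.conj x • M) (h2 : B ≤ MulAut.conj y • M) :
    MulAut.conj x • M = MulAut.conj y • M :=
  w.amb.one_of_max (n := 0) (fun X hX => absurd hX (w.hh X)) _ B rfl (w.cls.mem B hB).two_pow ⟨B, hB, le_rfl⟩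
    (Nat.zero_le _) x y h1 h2

/-- a member lies in a point -/
theorem exists_pt {B : Subgroup Y} (hB : B ∈ U) : ∃ x : Y, B ≤ MulAut.conj x • (T : Subgroup Y) ∧
    B ≤ MulAut.conj x • M := by
  obtain ⟨k, _, hk⟩ := AB.sylow_conj T (K := ⊤) le_top (w.cls.mem B hB).two_pow le_top
  have h1 : B ≤ MulAut.conj k • (T : Subgroup Y) := fun b hb => mem_conj.2 (hk b hb)
  exact ⟨k, h1, h1.trans (AB.conj_le_conj k w.amb.TM)⟩

/-- a proper subgroup over a member lies in its point -/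
theorem le_pt {X B : Subgroup Y} (hX : X ≠ ⊤) (hB : B ∈ U) (hBX : B ≤ X) {x : Y} (hBM : B ≤ MulAut.conj x • M) :
    X ≤ MulAut.conj x • M := by
  have h1 := w.hh X
  have h2 : ∃ y : Y, X ≤ MulAut.conj y • M := by
    by_contra hcon
    push Not at hcon
    exact h1 ⟨hX, ⟨B, hB, hBX⟩, hcon⟩
  obtain ⟨y, hy⟩ := h2
  rw [w.one hB hBM (hBX.trans hy)]
  exact hy

omit w in
theorem stab_ne' (h : Amb V U T M) (hm : ∃ B ∈ U, B ≤ (T : Subgroup Y)) {v : V} (hv : v ≠ 0) :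
    MulAction.stabilizer Y v ≠ ⊤ := by
  intro h1
  obtain ⟨B, hB, _⟩ := hm
  apply hv
  have h2 : v ∈ AB.fx V (⊤ : Subgroup Y) := fun y hy => by
    rw [← h1] at hy; exact hy
  rw [h.fx_top_of hB] at h2
  exact h2

/-- `C_Y(v) ≤ M_B` for `0 ≠ v ∈ F_B` -/
theorem stab_le {B : Subgroup Y} (hB : B ∈ U) {x : Y} (hBM : B ≤ MulAut.conj x • M) {v : V} (hv : v ≠ 0)
    (hvB : v ∈ FX V B) : MulAction.stabilizer Y v ≤ MulAut.conj x • M :=
  w.le_pt (stab_ne' w.amb w.memT hv) hB (fun b hb => hvB b hb) hBM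

/-- members at different points generate `Y` -/
theorem gen {B C : Subgroup Y} (hB : B ∈ U) (hC : C ∈ U) {x y : Y} (hBM : B ≤ MulAut.conj x • M)
    (hCM : C ≤ MulAut.conj y • M) (hne : MulAut.conj x • M ≠ MulAut.conj y • M) : B ⊔ C = ⊤ := by
  by_contra hcon
  apply hne
  exact w.one hC (le_sup_right.trans (w.le_pt hcon hB le_sup_left hBM)) hCM

/-- `F_B ∩ F_C = 0` for members at different points -/
theorem fx_inf {B C : Subgroup Y} (hB : B ∈ U) (hC : C ∈ U) {x y : Y} (hBM : B ≤ MulAut.conj x • M)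
    (hCM : C ≤ MulAut.conj y • M) (hne : MulAut.conj x • M ≠ MulAut.conj y • M) {v : V} (h1 : v ∈ FX V B)
    (h2 : v ∈ FX V C) : v = 0 := by
  by_contra hv
  apply stab_ne' w.amb w.memT hv
  rw [eq_top_iff, ← w.gen hB hC hBM hCM hne]
  exact sup_le (fun b hb => h1 b hb) (fun c hc => h2 c hc)

/-- `N_Y(E_B) ≤ M_B` -/
theorem NE_le {B : Subgroup Y} (hB : B ∈ U) {x : Y} (hBM : B ≤ MulAut.conj x • M) :
    NE (Y := Y) (EX V B) ≤ MulAut.conj x • M := by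
  have hm := w.cls.mem B hB
  apply w.le_pt _ hB self_le_NE hBM
  intro h1
  have h2 := w.amb.irr_of (W := EX V B) (fun y v hv => NE_smul (by rw [h1]; exact mem_top y) hv) hB le_rfl
  obtain ⟨e, he, heF⟩ := hm.ne'
  apply heF
  rw [h2, AddSubgroup.mem_bot] at he
  rw [he]; exact zero_mem _

omit w in
theorem conj_ne_M (h : Amb V U T M) (y : Y) : MulAut.conj y • M ≠ ⊤ := h.conj_ne y

/-- (SY) for every Sylow subgroup -/
theorem sy (hSY : ∃ B ∈ U, B ≤ (T : Subgroup Y) ∧ (T : Subgroup Y) ≤ NE (Y := Y) (EX V B)) (k : Y) :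
    ∃ B ∈ U, B ≤ MulAut.conj k • (T : Subgroup Y) ∧ MulAut.conj k • (T : Subgroup Y) ≤ NE (Y := Y) (EX V B) := by
  obtain ⟨B, hB, hBT, hTN⟩ := hSY
  refine ⟨_, w.cls.conj B hB k, AB.conj_le_conj k hBT, ?_⟩
  intro y hy
  rw [mem_conj] at hy
  rw [EX_smul, conj_mem_NE]
  exact hTN hy

omit w in
/-- a maximal 2-subgroup of `X` -/
theorem exists_max (X : Subgroup Y) {D : Subgroup Y} (hD : IsPGroup 2 D) (hDX : D ≤ X) :
    ∃ R : Subgroup Y, D ≤ R ∧ R ≤ X ∧ IsPGroup 2 R ∧ ∀ R' ≤ X, IsPGroup 2 R' → Nat.card R' ≤ Nat.card R := by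
  have : Fact (Nat.Prime 2) := ⟨Nat.prime_two⟩
  obtain ⟨P, hP⟩ := (hD.comap_of_injective X.subtype X.subtype_injective).exists_le_sylow
  refine ⟨(P : Subgroup X).map X.subtype, ?_, map_subtype_le _, P.2.map _, ?_⟩
  · intro d hd
    exact ⟨⟨d, hDX hd⟩, hP (by rw [mem_comap]; exact hd), rfl⟩
  · intro R' hR' hR'2
    have h1 : Nat.card R' = Nat.card (R'.subgroupOf X) := (Nat.card_congr (subgroupOfEquivOfLe hR').toEquiv).symm
    rw [h1, ← Nat.card_congr ((P : Subgroup X).equivMapOfInjective _ X.subtype_injective).toEquiv]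
    obtain ⟨P', hP'⟩ := (hR'2.comap_of_injective X.subtype X.subtype_injective).exists_le_sylow
    refine (Nat.card_mono (Set.toFinite _) hP').trans (le_of_eq ?_)
    exact Nat.card_congr (Sylow.equiv P' P).toEquiv

/-- **(1)** -/
theorem claim (hSY : ∃ B ∈ U, B ≤ (T : Subgroup Y) ∧ (T : Subgroup Y) ≤ NE (Y := Y) (EX V B))
    {x y : Y} (hne : MulAut.conj x • M ≠ MulAut.conj y • M) {R : Subgroup Y}
    (hR : R ≤ MulAut.conj x • M ⊓ MulAut.conj y • M) (hR2 : IsPGroup 2 R)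
    (hRmax : ∀ R' ≤ MulAut.conj x • M ⊓ MulAut.conj y • M, IsPGroup 2 R' → Nat.card R' ≤ Nat.card R)
    {B : Subgroup Y} (hB : B ∈ U) (hBM : B ≤ MulAut.conj x • M) (hRE : R ≤ NE (Y := Y) (EX V B)) :
    B ⊓ MulAut.conj y • M = ⊥ := by
  by_contra hcon
  set M₁ := MulAut.conj x • M with hM₁
  set M₂ := MulAut.conj y • M with hM₂
  -- we may assume `B ∩ M₂ ≤ R`
  obtain ⟨g, hg, hgR⟩ := conj_into (X := NE (Y := Y) (EX V B) ⊓ M₂) (R := R) (B := B ⊓ M₂)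
    (le_inf hRE (hR.trans inf_le_right)) hR2
    (fun R' hR' h2 => hRmax R' (hR'.trans (inf_le_inf_right _ (w.NE_le hB hBM))) h2)
    (inf_le_inf_right _ self_le_NE) ((w.cls.mem B hB).two_pow.to_le inf_le_left)
  set B' := MulAut.conj g • B with hB'
  have hB'U : B' ∈ U := w.cls.conj B hB g
  have hE' : EX V B' = EX V B := NE_conj_smul.1 hg.1
  have hB'M : B' ≤ M₁ := by
    have h1 : B' ≤ NE (Y := Y) (EX V B') := self_le_NE
    rw [hE'] at h1
    exact h1.trans (w.NE_le hB hBM)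
  have hB'2 : B' ⊓ M₂ ≤ R := by
    intro b hb
    apply hgR
    rw [mem_conj]
    have hb1 : b ∈ B' := hb.1
    have hb2 : b ∈ M₂ := hb.2
    rw [hB', mem_conj] at hb1
    exact ⟨hb1, M₂.mul_mem (M₂.mul_mem (M₂.inv_mem hg.2) hb2) hg.2⟩
  have hne' : ∃ b ∈ B', b ∈ M₂ ∧ b ≠ 1 := by
    by_contra hcon'
    push Not at hcon'
    apply hcon
    rw [eq_bot_iff]
    intro b hb
    rw [mem_bot]
    have h1 := hcon' (g * b * g⁻¹) (by rw [hB', mem_conj]; simpa [mul_assoc] using hb.1)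
      (M₂.mul_mem (M₂.mul_mem hg.2 hb.2) (M₂.inv_mem hg.2))
    rwa [conj_eq_one_iff] at h1
  -- `T₂`
  obtain ⟨k, hk1, hk2⟩ := w.amb.exists_sylow hR2 (hR.trans inf_le_right)
  obtain ⟨C, hC, hCT, hTE⟩ := w.sy hSY k
  have hCM : C ≤ M₂ := hCT.trans hk2
  have hinf : MulAut.conj k • (T : Subgroup Y) ⊓ M₁ = R := by
    symm
    apply eq_of_le_of_card_ge (le_inf hk1 (hR.trans inf_le_left))
    exact hRmax _ (le_inf inf_le_right (inf_le_left.trans hk2)) ((conj_isPGroup T.2).to_le inf_le_left)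
  have hgen : B' ⊔ C = ⊤ := w.gen hB'U hC hB'M hCM hne
  -- the TRICK
  have htr := fun (v : V) => trick (x := v) w.cls hB'U hC hgen w.amb.irr
    (fun v hvC hvE hv0 b hb hbv => hTE (hk1 (hB'2 ⟨hb, w.stab_le hC hCM hv0 hvC hbv⟩)))
    (fun v hvB hvE hv0 c hc hcv => by
      rw [hE']
      apply hRE
      rw [← hinf]
      exact ⟨hCT hc, w.stab_le hB'U hB'M hv0 hvB hcv⟩)
  -- a fixed vector of `T₂`
  have hex : ∃ v : V, v ≠ 0 ∧ ∀ s ∈ MulAut.conj k • (T : Subgroup Y), s • v = v := by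
    have hne : ∃ v ∈ (⊤ : AddSubgroup V), v ≠ 0 := by
      obtain ⟨v, hv⟩ := (w.cls.mem B hB).ne
      exact ⟨v, AddSubgroup.mem_top v, fun h1 => hv (by rw [h1]; exact zero_mem _)⟩
    obtain ⟨v, _, hv0, hv⟩ := HE.exists_fixed w.cls.two (R := MulAut.conj k • (T : Subgroup Y))
      (conj_isPGroup T.2) ⊤ (fun _ _ _ _ => AddSubgroup.mem_top _) hne
    exact ⟨v, hv0, hv⟩
  obtain ⟨v, hv0, hv⟩ := hex
  obtain ⟨b, hb, hbM, hb1⟩ := hne'
  apply hv0
  exact htr v (fun c hc => hv c (hCT hc))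
    ((w.cls.mem B' hB'U).mem_of_fix w.cls.two hb hb1 (hv b (hk1 (hB'2 ⟨hb, hbM⟩))))

/-- **(2)** -/
theorem two' (hSY : ∃ B ∈ U, B ≤ (T : Subgroup Y) ∧ (T : Subgroup Y) ≤ NE (Y := Y) (EX V B))
    {x y : Y} (hne : MulAut.conj x • M ≠ MulAut.conj y • M) {B : Subgroup Y} (hB : B ∈ U)
    (hBM : B ≤ MulAut.conj x • M) : B ⊓ MulAut.conj y • M = ⊥ := by
  by_contra hcon
  have hmB := w.cls.mem B hB
  set M₁ := MulAut.conj x • M with hM₁
  set M₂ := MulAut.conj y • M with hM₂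
  obtain ⟨b₀, hb₀, hb₀1⟩ : ∃ b ∈ B ⊓ M₂, b ≠ 1 := by
    by_contra hcon'
    push Not at hcon'
    apply hcon
    rw [eq_bot_iff]
    intro b hb
    rw [mem_bot]; exact hcon' b hb
  obtain ⟨R, hBR, hR, hR2, hRmax⟩ := exists_max (M₁ ⊓ M₂) (D := B ⊓ M₂) (hmB.two_pow.to_le inf_le_left)
    (inf_le_inf_right _ hBM)
  obtain ⟨k, hk1, hk2⟩ := w.amb.exists_sylow hR2 (hR.trans inf_le_right)
  obtain ⟨C, hC, hCT, hTE⟩ := w.sy hSY k
  have hCM : C ≤ M₂ := hCT.trans hk2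
  -- `z`
  have hex : ∃ v : V, v ≠ 0 ∧ ∀ s ∈ MulAut.conj k • (T : Subgroup Y), s • v = v := by
    have hne : ∃ v ∈ (⊤ : AddSubgroup V), v ≠ 0 := by
      obtain ⟨v, hv⟩ := (w.cls.mem B hB).ne
      exact ⟨v, AddSubgroup.mem_top v, fun h1 => hv (by rw [h1]; exact zero_mem _)⟩
    obtain ⟨v, _, hv0, hv⟩ := HE.exists_fixed w.cls.two (R := MulAut.conj k • (T : Subgroup Y))
      (conj_isPGroup T.2) ⊤ (fun _ _ _ _ => AddSubgroup.mem_top _) hne
    exact ⟨v, hv0, hv⟩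
  obtain ⟨z, hz0, hz⟩ := hex
  have hzC : z ∈ FX V C := fun c hc => hz c (hCT hc)
  have hzE : z ∈ EX V B := hmB.mem_of_fix w.cls.two hb₀.1 hb₀1 (hz b₀ (hk1 (hBR hb₀)))
  have hzF : z ∉ FX V B := fun h1 => hz0 (w.fx_inf hB hC hBM hCM hne h1 hzC)
  -- `[z, B] ≤ E_C`
  have h1 : ∀ b ∈ B, dl b z ∈ EX V C := fun b hb =>
    trick1 w.cls hB (index_lt (w.cls.mem C hC)) hzE hzF
      (fun a ha haz => hTE (hk1 (hBR ⟨ha, w.stab_le hC hCM hz0 hzC haz⟩))) hb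
  obtain ⟨u, hu, huz⟩ : ∃ u ∈ B, dl u z ≠ 0 := by
    by_contra hcon'
    push Not at hcon'
    exact hzF fun b hb => (dl_eq_zero w.cls.two).1 (hcon' b hb)
  have hyF : dl u z ∈ FX V B := hzE u hu
  have hyFC : dl u z ∉ FX V C := fun h2 => huz (w.fx_inf hB hC hBM hCM hne hyF h2)
  -- `C_C(y) ≠ 1`
  obtain ⟨A₁, hA₁, hc, h3, _⟩ := w.cls.sc C hC _ (h1 u hu) hyFC
  have hq : 2 ≤ q := by
    have h4 : (EX V C).index ≠ 1 := fun h5 => by
      obtain ⟨v, hv⟩ := (w.cls.mem C hC).ne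
      apply hv
      rw [AddSubgroup.index_eq_one.1 h5]; exact AddSubgroup.mem_top v
    have h5 : (EX V C).index ≠ 0 := AddSubgroup.index_ne_zero_of_finite
    rw [(w.cls.mem C hC).ind] at h4 h5
    omega
  obtain ⟨s, hs, hs1⟩ : ∃ s ∈ A₁, s ≠ 1 := by
    by_contra hcon'
    push Not at hcon'
    have : A₁ = ⊥ := by
      rw [eq_bot_iff]
      intro b hb
      rw [mem_bot]; exact hcon' b hb
    rw [this, Subgroup.card_bot] at hc
    omega
  obtain ⟨v, _, hv⟩ := h3 s hs hs1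
  have hsy : s • dl u z = dl u z := fix_of_dl (w.cls.mem C hC) (hA₁ hs) hv
  have hsM : s ∈ M₁ := w.stab_le hB hBM huz hyF hsy
  have h4 := w.claim hSY (x := y) (y := x) (Ne.symm hne) (R := R) (by rw [inf_comm]; exact hR) hR2
    (by rw [inf_comm]; exact hRmax) hC hCM (hk1.trans hTE)
  have h5 : s ∈ C ⊓ M₁ := ⟨hA₁ hs, hsM⟩
  rw [h4] at h5
  exact hs1 h5

/-- **(3)**: (+) : a vector of `E_B` fixed by a Sylow subgroup of the point `M'` has `M' = M_B` -/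
theorem plus (hSY : ∃ B ∈ U, B ≤ (T : Subgroup Y) ∧ (T : Subgroup Y) ≤ NE (Y := Y) (EX V B))
    {B : Subgroup Y} (hB : B ∈ U) {x k : Y} (hBM : B ≤ MulAut.conj x • M) {z : V} (hz0 : z ≠ 0)
    (hz : ∀ s ∈ MulAut.conj k • (T : Subgroup Y), s • z = z) (hzE : z ∈ EX V B) :
    MulAut.conj x • M = MulAut.conj k • M := by
  by_contra hne
  obtain ⟨C, hC, hCT, _⟩ := w.sy hSY k
  have hCM : C ≤ MulAut.conj k • M := hCT.trans (AB.conj_le_conj k w.amb.TM)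
  have hzC : z ∈ FX V C := fun c hc => hz c (hCT hc)
  have hzF : z ∉ FX V B := fun h1 => hz0 (w.fx_inf hB hC hBM hCM hne h1 hzC)
  obtain ⟨A₁, hA₁, hc, h3, _⟩ := w.cls.sc B hB z hzE hzF
  have hq : 2 ≤ q := by
    have h4 : (EX V C).index ≠ 1 := fun h5 => by
      obtain ⟨v, hv⟩ := (w.cls.mem C hC).ne
      apply hv
      rw [AddSubgroup.index_eq_one.1 h5]; exact AddSubgroup.mem_top v
    have h5 : (EX V C).index ≠ 0 := AddSubgroup.index_ne_zero_of_finite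
    rw [(w.cls.mem C hC).ind] at h4 h5
    omega
  obtain ⟨s, hs, hs1⟩ : ∃ s ∈ A₁, s ≠ 1 := by
    by_contra hcon'
    push Not at hcon'
    have : A₁ = ⊥ := by
      rw [eq_bot_iff]
      intro b hb
      rw [mem_bot]; exact hcon' b hb
    rw [this, Subgroup.card_bot] at hc
    omega
  obtain ⟨v, _, hv⟩ := h3 s hs hs1
  have hsz : s • z = z := fix_of_dl (w.cls.mem B hB) (hA₁ hs) hv
  have h5 : s ∈ B ⊓ MulAut.conj k • M := ⟨hA₁ hs, w.stab_le hC hCM hz0 hzC hsz⟩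
  rw [w.two' hSY hne hB hBM] at h5
  exact hs1 h5

/-- (SY) if there is no COR 3 pair in `T` -/
theorem sy_of (hno : ∀ A B : Subgroup Y, A ≤ (T : Subgroup Y) → B ≤ (T : Subgroup Y) → ¬ Cor3 V U A B) :
    ∃ B ∈ U, B ≤ (T : Subgroup Y) ∧ (T : Subgroup Y) ≤ NE (Y := Y) (EX V B) := by
  obtain ⟨B, hB, hBT⟩ := w.memT
  exact ⟨B, hB, hBT, cor3 w.cls T.2 hno hB hBT⟩

end Wd

end Cfsg.Agent.Omega.NO1.TH
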