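import Cfsg.Agent.Omega.NO1.TH.Empty
import Cfsg.Agent.Omega.NO1.HE.Frame

/-!
# N1-ONE, `HH = {}`: a Sylow 2-subgroup normalises `E_A` (bb OMEGA 21281, helper301)

Module level, every `a ≥ 2`, no torus, no (TR).  Inputs: (H1) `|V / C_V(t)| ≥ |F|` for involutions `t`
(a consequence of `HH = {}`), COR 2, COR 3, and

`SocN V U` : members `A`, `B` with `0 ≠ w ∈ F_A ∩ F_B`: some `S ≤ B` with `|S| ≥ |V : E_A|` normalises `A` and
centralises `V / E_A`.

`cen_le` : an involution `z` commuting with the member `A`, `z ∉ A`, has `|C_F(z)| ≤ |V : E|` and centralises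
`[E, A]`.  `cent_of`, `cor3_false` : no pair of COR 3.  `Emp.sy_socN` : (SY).
-/

set_option autoImplicit false
set_option linter.unusedSectionVars false

namespace Cfsg.Agent.Omega.NO1.TH

open Subgroup Cfsg.Agent.Omega.NO1.AB
open Cfsg.Agent.Omega.NO1.HE (dl dl_apply dl_one dl_eq_zero dl_comm dl_mul dl_self)
open scoped Pointwise

universe u

variable {Y : Type u} [Group Y] {V : Type u} [AddCommGroup V] [DistribMulAction Y V]

/-- **(SOC-N)** -/
def SocN (V : Type u) [AddCommGroup V] [DistribMulAction Y V] (U : Set (Subgroup Y)) : Prop :=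
  ∀ A ∈ U, ∀ B ∈ U, ∀ w : V, w ≠ 0 → w ∈ fx V A → w ∈ fx V B → ∃ S : Subgroup Y, S ≤ B ∧
    (Ee V A).index ≤ Nat.card S ∧ S ≤ normalizer (A : Set Y) ∧ ∀ s ∈ S, ∀ v : V, s • v + v ∈ Ee V A

/-- (H1) -/
def HOne (V : Type u) [AddCommGroup V] [DistribMulAction Y V] (U : Set (Subgroup Y)) : Prop :=
  ∀ t : Y, t ≠ 1 → t * t = 1 → ∀ B ∈ U, Nat.card ↥(fx V B) ≤ Nat.card ↥(dl t : V →+ V).range

theorem card_map_mul {W : Type*} [AddCommGroup W] [Finite V] (φ : V →+ W) (X : AddSubgroup V) :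
    Nat.card ↥(X.map φ) * Nat.card ↥(X ⊓ φ.ker : AddSubgroup V) = Nat.card X := by
  have h1 := (φ.comp X.subtype).ker.index_mul_card
  rw [AddSubgroup.index_ker] at h1
  have h2 : (φ.comp X.subtype).range = X.map φ := by
    rw [AddMonoidHom.range_comp, AddSubgroup.range_subtype]
  have h3 : Nat.card ↥(φ.comp X.subtype).ker = Nat.card ↥(X ⊓ φ.ker : AddSubgroup V) := by
    refine Nat.card_congr ⟨fun x => ⟨x.1.1, x.1.2, x.2⟩, fun x => ⟨⟨x.1, x.2.1⟩, x.2.2⟩, fun _ => rfl, fun _ => rfl⟩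
  rw [h2, h3] at h1
  exact h1

/-- `|φ(V)| ≤ |V : E| |φ(E)|` -/
theorem card_range_le [Finite V] (φ : V →+ V) (E : AddSubgroup V) :
    Nat.card ↥φ.range ≤ E.index * Nat.card ↥(E.map φ) := by
  have h1 := φ.ker.index_mul_card
  rw [AddSubgroup.index_ker] at h1
  have h2 := card_map_mul φ E
  have h3 := E.index_mul_card
  have h4 : Nat.card ↥(E ⊓ φ.ker : AddSubgroup V) ≤ Nat.card ↥φ.ker :=
    Nat.card_le_card_of_injective (fun x => (⟨x.1, x.2.2⟩ : φ.ker)) fun x y hxy =>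
      Subtype.ext (congrArg (fun z : φ.ker => (z : V)) hxy)
  have h5 : 0 < Nat.card ↥φ.ker := Nat.card_pos
  refine Nat.le_of_mul_le_mul_right ?_ h5
  calc Nat.card ↥φ.range * Nat.card ↥φ.ker = E.index * Nat.card E := by rw [h1, h3]
    _ = E.index * (Nat.card ↥(E.map φ) * Nat.card ↥(E ⊓ φ.ker : AddSubgroup V)) := by rw [h2]
    _ ≤ E.index * (Nat.card ↥(E.map φ) * Nat.card ↥φ.ker) :=
        Nat.mul_le_mul_left _ (Nat.mul_le_mul_left _ h4)
    _ = E.index * Nat.card ↥(E.map φ) * Nat.card ↥φ.ker := by ring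

theorem smul_fx_of {A : Subgroup Y} {g : Y} (hg : g ∈ normalizer (A : Set Y)) {v : V} (hv : v ∈ fx V A) :
    g • v ∈ fx V A := by
  have h1 : v ∈ Alpha.FX V A := hv
  exact Alpha.smul_FX_of hg h1

theorem smul_Ee_of {A : Subgroup Y} {g : Y} (hg : g ∈ normalizer (A : Set Y)) {v : V} (hv : v ∈ Ee V A) :
    g • v ∈ Ee V A := by
  have h1 : v ∈ Alpha.EX V A := hv
  exact Alpha.smul_EX_of hg h1

/-- **(i)** an involution commuting with the member `A`, not in `A` -/
theorem cen_le [Finite V] {U : Set (Subgroup Y)} (hc : Cls V U) (h1 : HOne V U) {A : Subgroup Y} (hA : A ∈ U)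
    {z : Y} (hz2 : z * z = 1) (hzA : z ∉ A) (hcom : ∀ b ∈ A, b * z = z * b) :
    Nat.card ↥(fx V A ⊓ (dl z : V →+ V).ker : AddSubgroup V) ≤ (Ee V A).index ∧
      ∀ b ∈ A, ∀ e ∈ Ee V A, z • (b • e + e) = b • e + e := by
  have hm := hc.mem A hA
  have hzN : z ∈ normalizer (A : Set Y) := by
    rw [mem_normalizer_iff]
    intro y
    constructor
    · intro hy
      rw [← hcom y hy]
      simpa using hy
    · intro hy
      have h3 := hcom _ hy
      have e : y = z * y * z⁻¹ := by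
        have e1 : z * y * z⁻¹ * z = z * (z * y * z⁻¹) := h3
        have e2 : z * y = z * (z * y * z⁻¹) := by simpa [mul_assoc] using e1
        exact mul_left_cancel e2
      rw [e]; exact hy
  -- `v₀`
  obtain ⟨v₀, hv₀, hzv⟩ : ∃ v₀ : V, v₀ ∉ Ee V A ∧ dl z v₀ ∈ Ee V A := by
    obtain ⟨v, hv⟩ := hm.ne
    by_cases h3 : dl z v ∈ Ee V A
    · exact ⟨v, hv, h3⟩
    · exact ⟨dl z v, h3, by rw [dl_self hc.two hz2]; exact zero_mem _⟩
  obtain ⟨u, hu, huv⟩ := hm.surj v₀ hv₀ _ hzv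
  set d := u * z with hd
  have hdcom : ∀ b ∈ A, b * d = d * b := by
    intro b hb
    rw [hd, ← mul_assoc, hm.comm b hb u hu, mul_assoc, hcom b hb, mul_assoc]
  have hdd : d * d = 1 := by
    rw [hd]
    calc u * z * (u * z) = u * (z * u) * z := by group
      _ = u * (u * z) * z := by rw [hcom u hu]
      _ = (u * u) * (z * z) := by group
      _ = 1 := by rw [hm.sq u hu, hz2, one_mul]
  have hd1 : d ≠ 1 := by
    intro h3
    apply hzA
    have : z = u⁻¹ := by rw [eq_inv_iff_mul_eq_one, ← hcom u hu]; exact h3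
    rw [this]; exact A.inv_mem hu
  have hdv : dl d v₀ ∈ fx V A := by
    rw [hd, dl_mul hc.two]
    refine AddSubgroup.add_mem _ ?_ (hm.EB u hu _ hzv)
    exact huv
  have hdu : ∀ b ∈ A, dl d (dl b v₀) = 0 := by
    intro b hb
    rw [dl_comm (hdcom b hb).symm]
    exact (dl_eq_zero hc.two).2 (hdv b hb)
  have hrep : ∀ e ∈ Ee V A, ∃ b ∈ A, dl b v₀ + e ∈ fx V A := fun e he => hm.surj v₀ hv₀ e he
  -- `d` and `z` agree on `F`
  have hdz : ∀ x ∈ fx V A, d • x = z • x := by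
    intro x hx
    rw [hd, hcom u hu, mul_smul, hx u hu]
  have hmap : (Ee V A).map (dl d : V →+ V) = (fx V A).map (dl d : V →+ V) := by
    apply le_antisymm
    · rintro _ ⟨e, he, rfl⟩
      obtain ⟨b, hb, hbe⟩ := hrep e he
      refine ⟨_, hbe, ?_⟩
      rw [map_add, hdu b hb, zero_add]
    · exact AddSubgroup.map_mono hm.FE
  refine ⟨?_, ?_⟩
  · have h3 := h1 d hd1 hdd A hA
    have h4 := card_range_le (dl d : V →+ V) (Ee V A)
    rw [hmap] at h4
    have h5 := card_map_mul (dl d : V →+ V) (fx V A)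
    have h6 : (fx V A ⊓ (dl z : V →+ V).ker : AddSubgroup V) = fx V A ⊓ (dl d : V →+ V).ker := by
      ext x
      constructor
      · rintro ⟨hx, hx2⟩
        refine ⟨hx, ?_⟩
        have h7 : dl z x = 0 := hx2
        rw [dl_apply, ← hdz x hx] at h7
        exact h7
      · rintro ⟨hx, hx2⟩
        refine ⟨hx, ?_⟩
        have h7 : dl d x = 0 := hx2
        rw [dl_apply, hdz x hx] at h7
        exact h7
    rw [h6]
    set k := Nat.card ↥(fx V A ⊓ (dl d : V →+ V).ker : AddSubgroup V)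
    set m := Nat.card ↥((fx V A).map (dl d : V →+ V))
    have h8 : 0 < m := Nat.card_pos
    have h9 : m * k ≤ (Ee V A).index * m := by rw [h5]; exact h3.trans h4
    rw [mul_comm m k] at h9
    exact Nat.le_of_mul_le_mul_right h9 h8
  · intro b hb e he
    have hbe : b • e + e ∈ fx V A := hm.EB b hb e he
    rw [← hdz _ hbe]
    obtain ⟨c, hc', hce⟩ := hrep e he
    have h3 : dl b e = dl b (dl c v₀) := by
      have h4 : dl b (dl c v₀ + e) = 0 := (dl_eq_zero hc.two).2 (hce b hb)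
      rw [map_add] at h4
      exact ((HE.add_eq_zero' hc.two).1 h4).symm
    apply (dl_eq_zero hc.two).1
    change dl d (dl b e) = 0
    rw [h3, dl_comm (hdcom b hb).symm, hdu c hc', map_zero]

/-- **(iii)** -/
theorem cent_of [Finite V] {U : Set (Subgroup Y)} (hc : Cls V U) {A : Subgroup Y} (hA : A ∈ U) {b : Y}
    (hbn : b ∈ normalizer (A : Set Y)) (hbV : ∀ v : V, dl b v ∈ Ee V A) (C : AddSubgroup V)
    (hC : Nat.card C ≤ (Ee V A).index) {w : V} (hw0 : w ≠ 0) (hwC : w ∈ C) (hwF : w ∈ fx V A)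
    (hbE : ∀ e ∈ Ee V A, ∃ c ∈ C, dl b e + c ∈ fx V A) : ∀ e ∈ Ee V A, dl b e ∈ fx V A := by
  have hm := hc.mem A hA
  intro e₀ he₀
  by_contra hcon
  obtain ⟨v₀, hv₀⟩ := hm.ne
  obtain ⟨s, hs, hsv⟩ := hm.surj v₀ hv₀ e₀ he₀
  have hsv' : dl s v₀ + e₀ ∈ fx V A := hsv
  set s' := b * s * b⁻¹ with hs'
  have hs'A : s' ∈ A := (mem_normalizer_iff.1 hbn s).1 hs
  set t := s' * s with ht
  have htA : t ∈ A := A.mul_mem hs'A hs
  -- `[v,t] = [v,s,b]` mod `F`
  have key : ∀ v : V, dl b (dl s v) + dl t v ∈ fx V A := by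
    intro v
    have e1 : b • dl s v = dl s' v + dl s' (dl b v) := by
      rw [← map_add]
      have e2 : v + dl b v = b • v := (HE.smul_eq hc.two b v).symm
      rw [e2, dl_apply, dl_apply, smul_add, hs', ← mul_smul, ← mul_smul]
      simp
    have e3 : dl b (dl s v) = dl s' v + dl s' (dl b v) + dl s v := by
      rw [dl_apply b, e1]
    have e4 : dl t v = dl s' v + dl s v + dl s' (dl s v) := by rw [ht, dl_mul hc.two]
    rw [e3, e4]
    have e5 : dl s' v + dl s' (dl b v) + dl s v + (dl s' v + dl s v + dl s' (dl s v)) =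
        (dl s' v + dl s' v) + (dl s v + dl s v) + (dl s' (dl b v) + dl s' (dl s v)) := by abel
    rw [e5, hc.two, hc.two, zero_add, zero_add]
    exact AddSubgroup.add_mem _ (hm.EB s' hs'A _ (hbV v)) (hm.EB s' hs'A _ (hm.VB s hs v))
  have ht1 : t ≠ 1 := by
    intro h1
    apply hcon
    have h2 := key v₀
    rw [h1, dl_one hc.two, add_zero] at h2
    have h3 : dl b (dl s v₀ + e₀) ∈ fx V A := by
      rw [dl_apply]
      exact AddSubgroup.add_mem _ (smul_fx_of hbn hsv') hsv'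
    rw [map_add] at h3
    have h4 := AddSubgroup.sub_mem _ h3 h2
    rwa [add_sub_cancel_left] at h4
  let ψ : V →+ V ⧸ fx V A := (QuotientAddGroup.mk' (fx V A)).comp (dl t : V →+ V)
  have hker : ψ.ker = Ee V A := by
    ext v
    have h1 : v ∈ ψ.ker ↔ dl t v ∈ fx V A := by
      rw [AddMonoidHom.mem_ker]
      exact QuotientAddGroup.eq_zero_iff _
    rw [h1]
    constructor
    · intro h2
      by_contra h3
      exact ht1 (hm.inj v h3 t htA h2)
    · intro h2
      exact hm.EB t htA v h2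
  have hrange : ψ.range ≤ C.map (QuotientAddGroup.mk' (fx V A)) := by
    rintro _ ⟨v, rfl⟩
    obtain ⟨c, hcC, hcv⟩ := hbE (dl s v) (hm.VB s hs v)
    refine ⟨c, hcC, ?_⟩
    change (QuotientAddGroup.mk' (fx V A)) c = (QuotientAddGroup.mk' (fx V A)) (dl t v)
    rw [QuotientAddGroup.mk'_eq_mk']
    refine ⟨c + dl t v, ?_, ?_⟩
    · have h1 := AddSubgroup.add_mem _ (key v) hcv
      have e5 : dl b (dl s v) + dl t v + (dl b (dl s v) + c) =
          (dl b (dl s v) + dl b (dl s v)) + (c + dl t v) := by abel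
      rwa [e5, hc.two, zero_add] at h1
    · rw [← add_assoc, hc.two, zero_add]
  have h1 : Nat.card ↥ψ.range = (Ee V A).index := by rw [← hker, AddSubgroup.index_ker]
  have h2 : Nat.card ↥ψ.range ≤ Nat.card ↥(C.map (QuotientAddGroup.mk' (fx V A))) :=
    Nat.card_le_card_of_injective _ (AddSubgroup.inclusion_injective hrange)
  have h3 := card_map_mul (QuotientAddGroup.mk' (fx V A)) C
  have h4 : 2 ≤ Nat.card ↥(C ⊓ (QuotientAddGroup.mk' (fx V A)).ker : AddSubgroup V) := by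
    have h5 : w ∈ (C ⊓ (QuotientAddGroup.mk' (fx V A)).ker : AddSubgroup V) := by
      refine ⟨hwC, ?_⟩
      rw [QuotientAddGroup.ker_mk']
      exact hwF
    have : Nontrivial ↥(C ⊓ (QuotientAddGroup.mk' (fx V A)).ker : AddSubgroup V) :=
      ⟨⟨⟨w, h5⟩, 0, fun h6 => hw0 (congrArg Subtype.val h6)⟩⟩
    exact Finite.one_lt_card
  have h5 : 0 < (Ee V A).index := Nat.pos_of_ne_zero AddSubgroup.index_ne_zero_of_finite
  rw [h1] at h2
  have h6 : (Ee V A).index * 2 ≤ Nat.card C := by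
    rw [← h3]
    exact Nat.mul_le_mul h2 h4
  omega

/-- `E_B = (E_A ∩ E_B) + F_B` if `B` normalises `E_A ≰ E_B` -/
theorem exists_add [Finite V] {U : Set (Subgroup Y)} (hc : Cls V U) {A B : Subgroup Y} (hB : B ∈ U)
    (hn : Nm B (Ee V A)) (hE : ¬ Ee V A ≤ Ee V B) {e : V} (he : e ∈ Ee V B) :
    ∃ x ∈ Ee V A, x ∈ Ee V B ∧ x + e ∈ fx V B := by
  obtain ⟨w, hwA, hwB⟩ := SetLike.not_le_iff_exists.1 hE
  have hm := hc.mem B hB
  obtain ⟨b, hb, hbe⟩ := hm.surj w hwB e he
  exact ⟨b • w + w, (Ee V A).add_mem (hn b hb w hwA) hwA, hm.VB b hb w, hbe⟩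

/-- **There is no pair of COR 3** in the 2-group `T` if `z` is an involution of `Z(T)` in no member `≤ T`. -/
theorem cor3_false [Finite V] {U : Set (Subgroup Y)} (hc : Cls V U) (h1 : HOne V U) (hS : SocN V U)
    {T : Subgroup Y} {z : Y} (hz2 : z * z = 1) (hzT : ∀ t ∈ T, t * z = z * t)
    (hzU : ∀ A ∈ U, A ≤ T → z ∉ A) {w : V} (hw0 : w ≠ 0) (hw : ∀ t ∈ T, t • w = w) (hzw : z • w = w)
    {A B : Subgroup Y} (hA : A ∈ U) (hB : B ∈ U) (hAT : A ≤ T) (hBT : B ≤ T) (h : Cor3 V A B) : False := by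
  have hmA := hc.mem A hA
  have hmB := hc.mem B hB
  have hwA : w ∈ fx V A := fun a ha => hw a (hAT ha)
  have hwB : w ∈ fx V B := fun b hb => hw b (hBT hb)
  have hEi : (Ee V A).index = (Ee V B).index := by
    have e1 := (Ee V A).index_mul_card
    have e2 := (Ee V B).index_mul_card
    rw [hc.card_Ee hA hB, ← e2] at e1
    exact Nat.eq_of_mul_eq_mul_right Nat.card_pos e1
  obtain ⟨S, hSB, hScard, hSn, hSV⟩ := hS A hA B hB w hw0 hwA hwB
  obtain ⟨hCcard, hCG⟩ := cen_le hc h1 hB hz2 (hzU B hB hBT) (fun b hb => hzT b (hBT hb))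
  have hEAB : ¬ Ee V A ≤ Ee V B := fun h2 => h.notB (hmA.FE.trans h2)
  have hEBA : ¬ Ee V B ≤ Ee V A := fun h2 => h.notC (hmB.FE.trans h2)
  -- `S` centralises `E_A / F_A`
  have hcent : ∀ s ∈ S, ∀ e ∈ Ee V A, dl s e ∈ fx V A := by
    intro s hs
    refine cent_of hc hA (hSn hs) (hSV s hs) (fx V B ⊓ (dl z : V →+ V).ker) (hCcard.trans_eq hEi.symm) hw0
      ⟨hwB, (dl_eq_zero hc.two).2 hzw⟩ hwA ?_
    intro e he
    obtain ⟨x, hxB, hxA, hxe⟩ := exists_add hc hA h.nB hEBA he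
    refine ⟨dl s x, ⟨hmB.EB s (hSB hs) x hxB, ?_⟩, ?_⟩
    · exact (dl_eq_zero hc.two).2 (hCG s (hSB hs) x hxB)
    · rw [← map_add, add_comm e x]
      rw [dl_apply]
      exact AddSubgroup.add_mem _ (smul_fx_of (hSn hs) hxe) hxe
  -- `|F| ≤ a |D|`
  have ha2 : 2 ≤ (Ee V A).index := by
    have h2 : (Ee V A).index ≠ 1 := fun h3 => by
      obtain ⟨v, hv⟩ := hmA.ne
      apply hv
      rw [AddSubgroup.index_eq_one.1 h3]; exact AddSubgroup.mem_top v
    have h3 : (Ee V A).index ≠ 0 := AddSubgroup.index_ne_zero_of_finite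
    omega
  obtain ⟨b, hbS, hb1⟩ : ∃ b ∈ S, b ≠ 1 := by
    by_contra hcon
    push Not at hcon
    have : S = ⊥ := by
      rw [eq_bot_iff]
      intro x hx
      rw [mem_bot]; exact hcon x hx
    rw [this, Subgroup.card_bot] at hScard
    omega
  set D : AddSubgroup V := fx V A ⊓ fx V B with hD
  have hFD : Nat.card ↥(fx V A) ≤ (Ee V A).index * Nat.card D := by
    have h2 := h1 b hb1 (hmB.sq b (hSB hbS)) A hA
    have h3 := card_range_le (dl b : V →+ V) (Ee V B)
    rw [← hEi] at h3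
    refine h2.trans (h3.trans (Nat.mul_le_mul_left _ ?_))
    have h4 : (Ee V B).map (dl b : V →+ V) ≤ D := by
      rintro _ ⟨e, he, rfl⟩
      obtain ⟨x, hxA, hxB, hxe⟩ := exists_add hc hB h.nC hEAB he
      have h5 : dl b e = dl b x := by
        have h6 : dl b (x + e) = 0 := (dl_eq_zero hc.two).2 (hxe b (hSB hbS))
        rw [map_add] at h6
        exact ((HE.add_eq_zero' hc.two).1 h6).symm
      rw [h5]
      exact ⟨hcent b hbS x hxA, hmB.EB b (hSB hbS) x hxB⟩
    exact Nat.card_le_card_of_injective _ (AddSubgroup.inclusion_injective h4)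
  -- `|Φ| ≥ |S| |D|`
  obtain ⟨x, hxA, hxB⟩ := SetLike.not_le_iff_exists.1 h.notB
  set P : AddSubgroup V := fx V A ⊓ Ee V B with hP
  have hPS : Nat.card S * Nat.card D ≤ Nat.card P := by
    rw [← Nat.card_prod]
    have hDP : D ≤ P := inf_le_inf_left _ hmB.FE
    refine Nat.card_le_card_of_injective (fun p : S × D => (⟨dl (p.1 : Y) x + (p.2 : V),
      P.add_mem ⟨?_, hmB.VB _ (hSB p.1.2) x⟩ (hDP p.2.2)⟩ : P)) ?_
    · rw [dl_apply]
      exact AddSubgroup.add_mem _ (smul_fx_of (hSn p.1.2) hxA) hxA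
    · rintro ⟨⟨s, hs⟩, ⟨d, hd⟩⟩ ⟨⟨s', hs'⟩, ⟨d', hd'⟩⟩ hss
      have h2 : dl s x + d = dl s' x + d' := congrArg (fun z : P => (z : V)) hss
      have h3 : dl s x + dl s' x ∈ fx V B := by
        have e1 : dl s x + dl s' x = d + d' := by
          have e2 : dl s x + dl s' x = (dl s x + d) + (dl s' x + d) := by
            have e3 : (dl s x + d) + (dl s' x + d) = (dl s x + dl s' x) + (d + d) := by abel
            rw [e3, hc.two, add_zero]
          rw [e2, h2]
          have e3 : (dl s' x + d') + (dl s' x + d) = (dl s' x + dl s' x) + (d + d') := by abel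
          rw [e3, hc.two, zero_add]
        rw [e1]
        exact AddSubgroup.add_mem _ hd.2 hd'.2
      have h4 : dl (s * s') x ∈ fx V B := by
        rw [dl_mul hc.two]
        exact AddSubgroup.add_mem _ h3 (hmB.EB s (hSB hs) _ (hmB.VB s' (hSB hs') x))
      have h5 := hmB.inj x hxB _ (B.mul_mem (hSB hs) (hSB hs')) h4
      have h6 : s = s' := by
        have h7 : s * s' * s' = s' := by rw [h5, one_mul]
        rwa [mul_assoc, hmB.sq s' (hSB hs'), mul_one] at h7
      subst h6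
      have h8 : d = d' := add_left_cancel h2
      subst h8
      rfl
  have hF2 : 2 * Nat.card P ≤ Nat.card ↥(fx V A) := by
    have h2 : Nat.card P ∣ Nat.card ↥(fx V A) := AddSubgroup.card_dvd_of_le inf_le_left
    obtain ⟨k, hk⟩ := h2
    have hk0 : k ≠ 0 := by
      rintro rfl
      rw [mul_zero] at hk
      exact Nat.card_pos.ne' hk
    have hk1 : k ≠ 1 := by
      rintro rfl
      rw [mul_one] at hk
      have h3 : P = fx V A := AB.eq_of_le_as inf_le_left hk.le
      apply hxB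
      have h4 : x ∈ P := by rw [h3]; exact hxA
      exact h4.2
    rw [hk, mul_comm]
    exact Nat.mul_le_mul_left _ (by omega)
  have hpos : 0 < Nat.card ↥(fx V A) := Nat.card_pos
  have h7 : Nat.card ↥(fx V A) ≤ Nat.card P :=
    hFD.trans ((Nat.mul_le_mul_right _ hScard).trans hPS)
  omega

/-- the 2-part of the intersection of all points is trivial -/
theorem Amb.exists_not_mem_inv [Finite Y] {U : Set (Subgroup Y)} {T : Sylow 2 Y} {M : Subgroup Y} (h : Amb V U T M)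
    {t : Y} (ht1 : t ≠ 1) (ht2 : t * t = 1) : ∃ y : Y, t ∉ MulAut.conj y • M := by
  by_contra hcon
  push Not at hcon
  set N := M.normalCore with hN
  have hNn : N.Normal := M.normalCore_normal
  have htN : t ∈ N := by
    intro g
    have := hcon g⁻¹
    rw [mem_conj] at this
    simpa using this
  have h2 := frattini_inf T N
  have h3 : normalizer (((T : Subgroup Y) ⊓ N : Subgroup Y) : Set Y) = ⊤ := by
    by_contra h4
    have hle : (T : Subgroup Y) ≤ normalizer (((T : Subgroup Y) ⊓ N : Subgroup Y) : Set Y) := by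
      intro r hr
      rw [mem_normalizer_iff]
      intro y
      constructor
      · rintro ⟨hy1, hy2⟩
        exact ⟨(T : Subgroup Y).mul_mem ((T : Subgroup Y).mul_mem hr hy1) ((T : Subgroup Y).inv_mem hr),
          hNn.conj_mem y hy2 r⟩
      · rintro ⟨hy1, hy2⟩
        refine ⟨?_, ?_⟩
        · have := (T : Subgroup Y).mul_mem ((T : Subgroup Y).mul_mem ((T : Subgroup Y).inv_mem hr) hy1) hr
          have e : r⁻¹ * (r * y * r⁻¹) * r = y := by group
          rwa [e] at this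
        · have := hNn.conj_mem _ hy2 r⁻¹
          have e : r⁻¹ * (r * y * r⁻¹) * r⁻¹⁻¹ = y := by group
          rwa [e] at this
    have h5 := h.max _ hle h4
    apply h.Mne
    rw [eq_top_iff, ← h2]
    exact sup_le h5 (M.normalCore_le)
  have h4 : ((T : Subgroup Y) ⊓ N).Normal := normalizer_eq_top_iff.1 h3
  have h5 := h.core _ h4 (T.2.to_le inf_le_left)
  obtain ⟨k, _, hk⟩ := sylow_conj T (K := ⊤) le_top (isPGroup_zpowers_of_sq ht2) le_top
  have h6 : k⁻¹ * t * k ∈ (T : Subgroup Y) ⊓ N := by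
    refine ⟨hk t (mem_zpowers t), ?_⟩
    have := hNn.conj_mem t htN k⁻¹
    rwa [inv_inv] at this
  rw [h5, mem_bot] at h6
  apply ht1
  have e : t = k * (k⁻¹ * t * k) * k⁻¹ := by group
  rw [e, h6]
  group

/-- an involution of the centre of a nontrivial 2-group -/
theorem exists_central [Finite Y] {T : Subgroup Y} (hT : IsPGroup 2 T) (hne : T ≠ ⊥) :
    ∃ z ∈ T, z ≠ 1 ∧ z * z = 1 ∧ ∀ t ∈ T, t * z = z * t := by
  have : Fact (Nat.Prime 2) := ⟨Nat.prime_two⟩
  have : Nontrivial T := (Subgroup.nontrivial_iff_ne_bot T).2 hne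
  have h1 : Nontrivial (Subgroup.center T) := hT.center_nontrivial
  have h2 : 2 ∣ Nat.card (Subgroup.center T) := by
    obtain ⟨n, hn⟩ := IsPGroup.iff_card.1 (hT.to_subgroup (Subgroup.center T))
    have h3 : 1 < Nat.card (Subgroup.center T) := Finite.one_lt_card
    rw [hn] at h3 ⊢
    rcases n with _ | n
    · simp at h3
    · exact dvd_pow_self 2 (by omega)
  obtain ⟨z, hz⟩ := exists_prime_orderOf_dvd_card' 2 h2
  have hz1 : z ≠ 1 := by
    rintro rfl
    rw [orderOf_one] at hz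
    omega
  have hz2 : z * z = 1 := by
    have := pow_orderOf_eq_one z
    rwa [hz, pow_two] at this
  refine ⟨z.1.1, z.1.2, ?_, ?_, ?_⟩
  · intro h3
    exact hz1 (Subtype.ext (Subtype.ext h3))
  · have := congrArg (fun x : Subgroup.center T => ((x : T) : Y)) hz2
    exact this
  · intro t ht
    have := (Subgroup.mem_center_iff.1 z.2) ⟨t, ht⟩
    exact congrArg Subtype.val this

namespace Emp

variable {U : Set (Subgroup Y)} {T : Sylow 2 Y} {M : Subgroup Y} {q : ℕ} (h : Emp V U T M q)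
include h

/-- a member in `T` -/
theorem exists_le [Finite Y] : ∃ B ∈ U, B ≤ (T : Subgroup Y) := by
  obtain ⟨B, hB⟩ := h.ex
  obtain ⟨k, _, hk⟩ := sylow_conj T (K := ⊤) le_top (h.amb.cls.mem B hB).isPGroup le_top
  refine ⟨_, h.amb.cls.conj B hB k⁻¹, ?_⟩
  intro b hb
  rw [mem_conj, inv_inv] at hb
  have := hk _ hb
  have e : k⁻¹ * (k * b * k⁻¹) * k = b := by group
  rwa [e] at this

/-- **(H1)** (#20790 (1), helper620) -/
theorem hOne [Finite Y] [Finite V] : HOne V U := by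
  intro t ht1 ht2 B hB
  obtain ⟨y, hy⟩ := h.amb.exists_not_mem_inv ht1 ht2
  obtain ⟨C₀, hC₀, hC₀T⟩ := h.exists_le
  set C := MulAut.conj y • C₀ with hC
  have hCU : C ∈ U := h.amb.cls.conj C₀ hC₀ y
  have hCM : C ≤ MulAut.conj y • M := conj_le_conj y (hC₀T.trans h.amb.TM)
  rw [h.amb.cls.card_fx hB hCU]
  have htop : C ⊔ zpowers t = ⊤ := by
    by_contra h1
    apply hy
    exact h.le_pt hCU hCM h1 le_sup_left (mem_sup_right (mem_zpowers t))
  have hdis : ∀ v ∈ fx V C, v ∈ (dl t : V →+ V).ker → v = 0 := by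
    intro v hv1 hv2
    by_contra hv0
    apply h.stab_ne hv0
    rw [eq_top_iff, ← htop]
    refine sup_le (fun c hc => hv1 c hc) (zpowers_le.2 ?_)
    exact (dl_eq_zero h.amb.two).1 hv2
  have h1 := (dl t : V →+ V).ker.index_mul_card
  rw [AddSubgroup.index_ker] at h1
  have h2 := card_map_mul (dl t : V →+ V) (fx V C)
  have h3 : Nat.card ↥(fx V C ⊓ (dl t : V →+ V).ker : AddSubgroup V) = 1 := by
    have : (fx V C ⊓ (dl t : V →+ V).ker : AddSubgroup V) = ⊥ := by
      rw [eq_bot_iff]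
      rintro v ⟨hv1, hv2⟩
      rw [AddSubgroup.mem_bot]
      exact hdis v hv1 hv2
    rw [this, AddSubgroup.card_bot]
  rw [h3, mul_one] at h2
  rw [← h2]
  exact Nat.card_le_card_of_injective _ (AddSubgroup.inclusion_injective (by
    rintro _ ⟨v, _, rfl⟩
    exact ⟨v, rfl⟩))

/-- **(SY)**: `T` normalises `E_B` for some member `B ≤ T` (#21281). -/
theorem sy_socN [Finite Y] [Finite V] (hS : SocN V U) :
    ∃ B ∈ U, B ≤ (T : Subgroup Y) ∧ Nm (T : Subgroup Y) (Ee V B) := by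
  by_contra hcon
  push Not at hcon
  have hTne : (T : Subgroup Y) ≠ ⊥ := by
    obtain ⟨B, hB, hBT⟩ := h.exists_le
    intro h1
    rw [h1, le_bot_iff] at hBT
    exact Mem.ne_bot (h.amb.cls.mem B hB) hBT
  obtain ⟨z, hzT, hz1, hz2, hzc⟩ := exists_central T.2 hTne
  obtain ⟨w, hw0, hw⟩ := h.exists_z
  have hzU : ∀ A ∈ U, A ≤ (T : Subgroup Y) → z ∉ A := fun A hA hAT hzA =>
    hcon A hA hAT (h.amb.cls.cor2 hA T.2 hAT hzA hz1 hzc)
  obtain ⟨B, hB, hBT, hN⟩ := h.sy_of_no_cor3 (fun A hA B hB hAT hBT h1 =>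
    cor3_false h.amb.cls h.hOne hS hz2 hzc hzU hw0 hw (hw z hzT) hA hB hAT hBT h1) h.ex
  exact hcon B hB hBT hN

/-- **(+)** -/
theorem plus_socN [Finite Y] [Finite V] (hS : SocN V U) {y : Y} {B : Subgroup Y} (hB : B ∈ U)
    (hBy : B ≤ MulAut.conj y • M) {x : Y} {v : V} (hv : v ∈ Ee V B) (hv0 : v ≠ 0)
    (hT : ∀ t ∈ MulAut.conj x • (T : Subgroup Y), t • v = v) :
    MulAut.conj x • (T : Subgroup Y) ≤ MulAut.conj y • M :=
  h.plus (h.sy_socN hS) hB hBy hv hv0 hT

end Emp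

end Cfsg.Agent.Omega.NO1.TH
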