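import Cfsg.Agent.Omega.NO1.TH.Choice
import Cfsg.Agent.Omega.NO1.AB.LemE

/-!
# N1, the regime `HH = ∅` of CARD N1-ONE (bb OMEGA 20790, helper620): (0), (1) and (H1)

`HH = ∅` : no `Bad U M X`, i.e. every proper subgroup of `Y` which contains a member lies in a point.
(0) a 2-group with a member lies in one point; (1) `B` a member in the point `M'`, `X ≰ M'` ⟹ `⟨X, B⟩ = Y`,
`C_V(X) ∩ F_B = 0`; **(H1)** `|V : C_V(t)| ≥ |F|` for every 2-element `t ≠ 1`.
-/

set_option autoImplicit false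
set_option linter.unusedSectionVars false

namespace Cfsg.Agent.Omega.NO1.TH

open Subgroup Cfsg.Agent.Omega.NO1.AB
open scoped Pointwise

universe u

variable {Y : Type u} [Group Y] {V : Type u} [AddCommGroup V] [DistribMulAction Y V]

namespace Amb

variable {U : Set (Subgroup Y)} {T : Sylow 2 Y} {M : Subgroup Y} (h : Amb V U T M)
include h

/-- `C_V(Y) = 0` -/
theorem fx_top (hU : ∃ B, B ∈ U) : fx V (⊤ : Subgroup Y) = ⊥ := by
  obtain ⟨B, hB⟩ := hU
  exact h.fx_top_of hB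

/-- a member in `T` -/
theorem exists_member_le [Finite Y] (hU : ∃ B, B ∈ U) : ∃ B ∈ U, B ≤ (T : Subgroup Y) := by
  obtain ⟨B, hB⟩ := hU
  obtain ⟨k, _, hk⟩ := sylow_conj T (K := ⊤) le_top (h.cls.mem B hB).isPGroup le_top
  refine ⟨MulAut.conj k⁻¹ • B, h.cls.conj B hB _, fun r hr => ?_⟩
  rw [mem_conj] at hr
  have := hk _ hr
  have e : k⁻¹ * (k⁻¹⁻¹ * r * k⁻¹) * k = r := by group
  rwa [e] at this

/-- every member lies in a Sylow 2-subgroup, so in a point -/
theorem exists_point [Finite Y] {R : Subgroup Y} (hR : IsPGroup 2 R) :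
    ∃ k : Y, R ≤ MulAut.conj k • (T : Subgroup Y) := by
  obtain ⟨k, _, hk⟩ := sylow_conj T (K := ⊤) le_top hR le_top
  refine ⟨k, fun r hr => ?_⟩
  rw [mem_conj]
  exact hk _ hr

/-- **(H1), first half**: a 2-element `t ≠ 1` lies outside some point. -/
theorem exists_not_mem [Finite Y] {t : Y} (ht : IsPGroup 2 (zpowers t)) (h1 : t ≠ 1) :
    ∃ y : Y, t ∉ MulAut.conj y • M := by
  have : Fact (Nat.Prime 2) := ⟨Nat.prime_two⟩
  by_contra hc
  push Not at hc
  set N := M.normalCore with hN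
  have hNn : N.Normal := M.normalCore_normal
  have h2 := frattini_inf T N
  have h3 : normalizer (((T : Subgroup Y) ⊓ N : Subgroup Y) : Set Y) = ⊤ := by
    by_contra h4
    have hle : (T : Subgroup Y) ≤ normalizer (((T : Subgroup Y) ⊓ N : Subgroup Y) : Set Y) := by
      intro r hr
      rw [mem_normalizer_iff]
      intro y
      constructor
      · rintro ⟨hy1, hy2⟩
        exact ⟨(T : Subgroup Y).mul_mem ((T : Subgroup Y).mul_mem hr hy1) ((T : Subgroup Y).inv_mem hr),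
          hNn.conj_mem y hy2 r⟩
      · rintro ⟨hy1, hy2⟩
        refine ⟨?_, ?_⟩
        · have := (T : Subgroup Y).mul_mem ((T : Subgroup Y).mul_mem ((T : Subgroup Y).inv_mem hr) hy1) hr
          have e : r⁻¹ * (r * y * r⁻¹) * r = y := by group
          rwa [e] at this
        · have := hNn.conj_mem _ hy2 r⁻¹
          have e : r⁻¹ * (r * y * r⁻¹) * r⁻¹⁻¹ = y := by group
          rwa [e] at this
    have h5 := h.max _ hle h4
    apply h.Mne
    rw [eq_top_iff, ← h2]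
    exact sup_le h5 M.normalCore_le
  have h4 : ((T : Subgroup Y) ⊓ N).Normal := normalizer_eq_top_iff.1 h3
  have h5 := h.core _ h4 (T.2.to_le inf_le_left)
  have htN : t ∈ N := by
    intro g
    have := hc g⁻¹
    rw [mem_conj] at this
    simpa using this
  obtain ⟨k, hk⟩ := h.exists_point ht
  have h6 : k⁻¹ * t * k ∈ (T : Subgroup Y) := by
    have := hk (mem_zpowers t)
    rwa [mem_conj] at this
  have h7 : k⁻¹ * t * k ∈ ((T : Subgroup Y) ⊓ N : Subgroup Y) :=
    ⟨h6, by simpa using hNn.conj_mem t htN k⁻¹⟩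
  rw [h5, mem_bot] at h7
  apply h1
  have e : t = k * (k⁻¹ * t * k) * k⁻¹ := by group
  rw [e, h7, mul_one, mul_inv_cancel]

section empty

variable (he : ∀ X : Subgroup Y, ¬ Bad U M X)
include he

/-- `HH = ∅`: a proper subgroup with a member lies in a point -/
theorem le_point {X B : Subgroup Y} (hX : X ≠ ⊤) (hB : B ∈ U) (hBX : B ≤ X) :
    ∃ y : Y, X ≤ MulAut.conj y • M := by
  by_contra hc
  push Not at hc
  exact he X ⟨hX, ⟨B, hB, hBX⟩, hc⟩

/-- **(0)** -/
theorem one_point [Finite Y] {R : Subgroup Y} (hR : IsPGroup 2 R) (hm : ∃ B ∈ U, B ≤ R) {x y : Y}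
    (hx : R ≤ MulAut.conj x • M) (hy : R ≤ MulAut.conj y • M) : MulAut.conj x • M = MulAut.conj y • M :=
  h.one_of_max (n := 0) (fun X hX => absurd hX (he X)) _ R rfl hR hm (Nat.zero_le _) x y hx hy

/-- **(0)** for a member -/
theorem member_point [Finite Y] {B : Subgroup Y} (hB : B ∈ U) {x y : Y}
    (hx : B ≤ MulAut.conj x • M) (hy : B ≤ MulAut.conj y • M) : MulAut.conj x • M = MulAut.conj y • M :=
  h.one_point he (h.cls.mem B hB).isPGroup ⟨B, hB, le_rfl⟩ hx hy

/-- a proper subgroup with a member lies in the point of the member -/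
theorem le_of_member [Finite Y] {X B : Subgroup Y} {y : Y} (hX : X ≠ ⊤) (hB : B ∈ U) (hBX : B ≤ X)
    (hy : B ≤ MulAut.conj y • M) : X ≤ MulAut.conj y • M := by
  obtain ⟨z, hz⟩ := h.le_point he hX hB hBX
  rw [h.member_point he hB hy (hBX.trans hz)]
  exact hz

/-- **(1)** -/
theorem gen_top [Finite Y] {X B : Subgroup Y} {y : Y} (hB : B ∈ U) (hy : B ≤ MulAut.conj y • M)
    (hX : ¬ X ≤ MulAut.conj y • M) : X ⊔ B = ⊤ := by
  by_contra hne
  exact hX (le_sup_left.trans (h.le_of_member he hne hB le_sup_right hy))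

/-- **(1)**: `C_V(X) ∩ F_B = 0` -/
theorem fx_inf_bot [Finite Y] {X B : Subgroup Y} {y : Y} (hB : B ∈ U) (hy : B ≤ MulAut.conj y • M)
    (hX : ¬ X ≤ MulAut.conj y • M) : fx V X ⊓ fx V B = ⊥ := by
  rw [eq_bot_iff, ← h.fx_top ⟨B, hB⟩]
  rintro v ⟨h1, h2⟩
  have h3 : X ⊔ B ≤ MulAction.stabilizer Y v := sup_le (fun x hx => h1 x hx) fun b hb => h2 b hb
  rw [h.gen_top he hB hy hX] at h3
  exact fun y _ => h3 (mem_top y)

/-- **(1)**: `0 ≠ x ∈ F_B` ⟹ `C_Y(x) ≤ M_B` -/
theorem stab_le_point [Finite Y] {B : Subgroup Y} {y : Y} (hB : B ∈ U) (hy : B ≤ MulAut.conj y • M) {x : V}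
    (hx : x ∈ fx V B) (hx0 : x ≠ 0) : MulAction.stabilizer Y x ≤ MulAut.conj y • M := by
  by_contra hX
  have h1 := h.fx_inf_bot he hB hy hX
  apply hx0
  rw [← AddSubgroup.mem_bot, ← h1]
  exact ⟨fun k hk => hk, hx⟩

/-- `F_B ∩ F_C = 0` for members in different points -/
theorem fx_inf_fx [Finite Y] {B C : Subgroup Y} {x y : Y} (hB : B ∈ U) (hC : C ∈ U)
    (hx : B ≤ MulAut.conj x • M) (hy : C ≤ MulAut.conj y • M) (hne : MulAut.conj x • M ≠ MulAut.conj y • M) :
    fx V C ⊓ fx V B = ⊥ :=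
  h.fx_inf_bot he hB hx fun h1 => hne (h.member_point he hC h1 hy)

/-- **(H1)**: `|V : C_V(t)| ≥ |F_B|` for every 2-element `t ≠ 1` -/
theorem hOne [Finite Y] [Finite V] {t : Y} (ht : IsPGroup 2 (zpowers t)) (h1 : t ≠ 1) {B : Subgroup Y}
    (hB : B ∈ U) : Nat.card (fx V B) ≤ (fx V (zpowers t)).index := by
  obtain ⟨y, hy⟩ := h.exists_not_mem ht h1
  obtain ⟨C, hC, hCT⟩ := h.exists_member_le ⟨B, hB⟩
  have hC' := h.cls.conj C hC y
  have hle : MulAut.conj y • C ≤ MulAut.conj y • M := conj_le_conj y (hCT.trans h.TM)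
  have h2 := h.fx_inf_bot he hC' hle (X := zpowers t) fun h3 => hy (h3 (mem_zpowers t))
  rw [h.cls.card_fx hB hC']
  -- `F → V / C_V(t)` is injective
  rw [AddSubgroup.index]
  apply Nat.card_le_card_of_injective
    (fun x : fx V (MulAut.conj y • C) => (QuotientAddGroup.mk (x : V) : V ⧸ fx V (zpowers t)))
  rintro ⟨a, ha⟩ ⟨b, hb⟩ hab
  rw [QuotientAddGroup.eq] at hab
  have h4 : -a + b ∈ fx V (zpowers t) ⊓ fx V (MulAut.conj y • C) :=
    ⟨hab, (fx V _).add_mem ((fx V _).neg_mem ha) hb⟩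
  rw [h2, AddSubgroup.mem_bot, neg_add_eq_zero] at h4
  exact Subtype.ext h4

end empty

end Amb

end Cfsg.Agent.Omega.NO1.TH
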