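import Cfsg.Agent.Omega.NO1.TH.Basic

/-!
# N1, BETA, the amalgam `(H, H^t)`: the interface of (L1) (bb OMEGA 21480, helper411)

`W := WW V H R`, `W' := WW V (conj t • H) R = t • W`, `Q := QQ H R`, `Q' := QQ (conj t • H) R`.
`LFac V U H R P Ψ` : the factors of `W`: `P p / Q` = the root groups (S_n type: the transpositions) of `R / Q`,
`Ψ p` = the part of `W` which is moved by `P p` only, `WJ` = the part of `W` centralised by all members `≤ R`.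
`LIn` : the input of (L1) for ONE member `A = U₁ ≤ H` outside `M`. The theorem (TH/LOne.lean): `LIn` is impossible.
-/

set_option autoImplicit false
set_option linter.unusedSectionVars false

namespace Cfsg.Agent.Omega.NO1.TH

open Subgroup Cfsg.Agent.Omega.NO1.AB
open scoped Pointwise

universe u

variable {Y : Type u} [Group Y] {V : Type u} [AddCommGroup V] [DistribMulAction Y V]

/-- `C_W(J)`, `J` generated by the members `≤ R` -/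
def WJ (V : Type u) [AddCommGroup V] [DistribMulAction Y V] (U : Set (Subgroup Y)) (H R : Subgroup Y) :
    AddSubgroup V where
  carrier := {v | v ∈ WW V H R ∧ ∀ B ∈ U, B ≤ R → ∀ b ∈ B, b • v = v}
  add_mem' := fun {v w} hv hw => ⟨add_mem hv.1 hw.1, fun B hB hBR b hb => by
    rw [smul_add, hv.2 B hB hBR b hb, hw.2 B hB hBR b hb]⟩
  zero_mem' := ⟨zero_mem _, fun B _ _ b _ => smul_zero b⟩
  neg_mem' := fun {v} hv => ⟨neg_mem hv.1, fun B hB hBR b hb => by rw [smul_neg, hv.2 B hB hBR b hb]⟩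

/-- the part of `W` centralised by all members `≤ H` -/
def D0 (V : Type u) [AddCommGroup V] [DistribMulAction Y V] (U : Set (Subgroup Y)) (H R : Subgroup Y) :
    AddSubgroup V where
  carrier := {v | v ∈ WW V H R ∧ ∀ B ∈ U, B ≤ H → ∀ b ∈ B, b • v = v}
  add_mem' := fun {v w} hv hw => ⟨add_mem hv.1 hw.1, fun B hB hBR b hb => by
    rw [smul_add, hv.2 B hB hBR b hb, hw.2 B hB hBR b hb]⟩
  zero_mem' := ⟨zero_mem _, fun B _ _ b _ => smul_zero b⟩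
  neg_mem' := fun {v} hv => ⟨neg_mem hv.1, fun B hB hBR b hb => by rw [smul_neg, hv.2 B hB hBR b hb]⟩

/-- `[W, P]` -/
def brk (W : AddSubgroup V) (P : Subgroup Y) : AddSubgroup V :=
  AddSubgroup.closure {v | ∃ w ∈ W, ∃ p ∈ P, v = p • w + w}

/-- The factors of `W` (`P p ≥ Q`: the root groups resp. transpositions of `R / Q`). -/
structure LFac (V : Type u) [AddCommGroup V] [DistribMulAction Y V] (U : Set (Subgroup Y)) (H R : Subgroup Y)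
    {ι : Type} (P : ι → Subgroup Y) (Ψ : ι → AddSubgroup V) : Prop where
  le : ∀ p, P p ≤ R
  fixJ : ∀ p, ∀ r ∈ P p, ∀ x ∈ WJ V U H R, r • x = x
  /-- `C_R(C_W(J)) = J Q` -/
  ofJ : ∀ r ∈ R, (∀ x ∈ WJ V U H R, r • x = x) → r ∈ ⨆ p, P p
  Ψle : ∀ p, Ψ p ≤ WW V H R
  sup : WW V H R ≤ WJ V U H R ⊔ ⨆ p, Ψ p
  orth : ∀ p p', p ≠ p' → ∀ r ∈ P p, ∀ x ∈ Ψ p', r • x = x
  quad : ∀ p, ∀ r ∈ P p, ∀ x ∈ Ψ p, r • x + x ∈ WJ V U H R
  trans : ∀ p p', ∃ r ∈ R, P p' = MulAut.conj r • P p ∧ Ψ p' = r • Ψ p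

/-- The input of (L1) for one member `A = U₁`. -/
structure LIn (V : Type u) [AddCommGroup V] [DistribMulAction Y V] (U : Set (Subgroup Y)) (M H R : Subgroup Y)
    (t : Y) {ι : Type} (P : ι → Subgroup Y) (Ψ : ι → AddSubgroup V) {ι' : Type} (P' : ι' → Subgroup Y)
    (Ψ' : ι' → AddSubgroup V) (A : Subgroup Y) : Prop where
  fac : LFac V U H R P Ψ
  fac' : LFac V U (MulAut.conj t • H) R P' Ψ'
  mA : A ∈ U
  AH : A ≤ H
  AM : ¬ A ≤ M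
  /-- `A` is not trivial on `W` -/
  AQ : ¬ A ≤ QQ H R
  WE : WW V H R ≤ Ee V A
  /-- (a) `S₁ ≤ B₁` -/
  pre : ∀ w, w ∉ Ee V A → ∀ s ∈ A, s • w + w ∈ WW V H R ⊔ fx V A → s ∈ QQ H R
  /-- `A / B₁` is faithful on `W / D₀` -/
  faith : ∀ u ∈ A, (∀ w ∈ WW V H R, u • w + w ∈ D0 V U H R) → u ∈ QQ H R
  /-- `C_V(B₁) = W + F₁` -/
  CB : ∀ v, (∀ b ∈ A, b ∈ QQ H R → b • v = v) → v ∈ WW V H R ⊔ fx V A
  /-- `C_V(K) = W + W' + F₁` -/
  CK : ∀ v, (∀ k ∈ A, k ∈ QQ H R → k ∈ QQ (MulAut.conj t • H) R → k • v = v) →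
    v ∈ WW V H R ⊔ WW V (MulAut.conj t • H) R ⊔ fx V A
  /-- `WW ≤ E₁` -/
  le₁ : ∀ x ∈ H, ∀ w ∈ WW V (MulAut.conj t • H) R, x • w ∈ Ee V A
  /-- `WW' ≤ E₁` -/
  le₂ : ∀ x ∈ MulAut.conj t • H, ∀ w ∈ WW V H R, x • w ∈ Ee V A
  /-- `B₁` induces `R'_Δ` on `W'` -/
  exact : ∃ Δ : Set ι', Δ.Nonempty ∧ (∀ b ∈ A, b ∈ QQ H R → b ∈ ⨆ p ∈ Δ, P' p) ∧
    ∀ p ∈ Δ, ∀ r ∈ P' p, ∃ b ∈ A, b ∈ QQ H R ∧ b⁻¹ * r ∈ QQ (MulAut.conj t • H) R
  /-- a factor which is moved by `A` (`I_p := [Ψ p, P p]`) -/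
  mov : ∃ p, ∀ x ∈ brk (Ψ p) (P p), x ∈ fx V A → x ∈ D0 V U H R

end Cfsg.Agent.Omega.NO1.TH
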