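import Cfsg.Agent.Omega.NO1.TH.KOneDef
import Cfsg.Agent.Omega.NO1.TH.CaseC

/-!
# N1, the amalgam `(H, H^t)`, `k = 1` (bb OMEGA 20297, helper503): (1)-(5)

An opposite member: `A ∈ U`, `A ≤ H`, `A ≰ M`.
-/

set_option autoImplicit false
set_option linter.unusedSectionVars false

namespace Cfsg.Agent.Omega.NO1.TH

open Subgroup Cfsg.Agent.Omega.NO1.AB
open scoped Pointwise

universe u

variable {Y : Type u} [Group Y] {V : Type u} [AddCommGroup V] [DistribMulAction Y V]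

/-- `[W, P]` -/
def cmK (P : Subgroup Y) (W : AddSubgroup V) : AddSubgroup V :=
  AddSubgroup.closure {v | ∃ p ∈ P, ∃ w ∈ W, v = p • w + w}

/-- `⟨W^H⟩` -/
def Psi (H : Subgroup Y) (W : AddSubgroup V) : AddSubgroup V :=
  AddSubgroup.closure {v | ∃ x ∈ H, ∃ w ∈ W, v = x • w}

theorem mem_cm {P : Subgroup Y} {W : AddSubgroup V} {p : Y} {w : V} (hp : p ∈ P) (hw : w ∈ W) :
    p • w + w ∈ cmK P W := AddSubgroup.subset_closure ⟨p, hp, w, hw, rfl⟩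

theorem cm_le {P : Subgroup Y} {W X : AddSubgroup V} (h : ∀ p ∈ P, ∀ w ∈ W, p • w + w ∈ X) : cmK P W ≤ X := by
  refine (AddSubgroup.closure_le _).2 ?_
  rintro _ ⟨p, hp, w, hw, rfl⟩
  exact h p hp w hw

theorem smul_mem_cm {P P₂ : Subgroup Y} {W W₂ : AddSubgroup V} {x : Y} (hP : ∀ p ∈ P, x * p * x⁻¹ ∈ P₂)
    (hW : ∀ w ∈ W, x • w ∈ W₂) {v : V} (hv : v ∈ cmK P W) : x • v ∈ cmK P₂ W₂ := by
  induction hv using AddSubgroup.closure_induction with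
  | mem v hv =>
    obtain ⟨p, hp, w, hw, rfl⟩ := hv
    have e : x • (p • w + w) = (x * p * x⁻¹) • (x • w) + x • w := by
      rw [smul_add, ← mul_smul, ← mul_smul]
      congr 2; group
    rw [e]
    exact mem_cm (hP p hp) (hW w hw)
  | zero => rw [smul_zero]; exact zero_mem _
  | add a b _ _ h1 h2 => rw [smul_add]; exact add_mem h1 h2
  | neg a _ h1 => rw [smul_neg]; exact neg_mem h1

theorem smul_mem_Psi {H : Subgroup Y} {W : AddSubgroup V} {x : Y} (hx : x ∈ H) {v : V} (hv : v ∈ Psi H W) :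
    x • v ∈ Psi H W := by
  induction hv using AddSubgroup.closure_induction with
  | mem v hv =>
    obtain ⟨y, hy, w, hw, rfl⟩ := hv
    exact AddSubgroup.subset_closure ⟨x * y, H.mul_mem hx hy, w, hw, by rw [mul_smul]⟩
  | zero => rw [smul_zero]; exact zero_mem _
  | add a b _ _ h1 h2 => rw [smul_add]; exact add_mem h1 h2
  | neg a _ h1 => rw [smul_neg]; exact neg_mem h1

theorem le_Psi {H : Subgroup Y} {W : AddSubgroup V} : W ≤ Psi H W := fun v hv =>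
  AddSubgroup.subset_closure ⟨1, H.one_mem, v, hv, (one_smul Y v).symm⟩

/-- products `B Q`, `Q` normalised by `B` -/
theorem exists_mul_of_sup {B Q : Subgroup Y} (hn : ∀ b ∈ B, ∀ q ∈ Q, b * q * b⁻¹ ∈ Q) {x : Y} (hx : x ∈ B ⊔ Q) :
    ∃ b ∈ B, ∃ q ∈ Q, x = b * q := by
  let S : Subgroup Y :=
    { carrier := {x | ∃ b ∈ B, ∃ q ∈ Q, x = b * q}
      one_mem' := ⟨1, B.one_mem, 1, Q.one_mem, by group⟩
      mul_mem' := by
        rintro _ _ ⟨b, hb, q, hq, rfl⟩ ⟨b', hb', q', hq', rfl⟩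
        have h1 := hn _ (B.inv_mem hb') q hq
        refine ⟨b * b', B.mul_mem hb hb', b'⁻¹ * q * b'⁻¹⁻¹ * q', Q.mul_mem h1 hq', by group⟩
      inv_mem' := by
        rintro _ ⟨b, hb, q, hq, rfl⟩
        exact ⟨b⁻¹, B.inv_mem hb, b * q⁻¹ * b⁻¹, hn b hb _ (Q.inv_mem hq), by group⟩ }
  have h1 : B ⊔ Q ≤ S := sup_le (fun b hb => ⟨b, hb, 1, Q.one_mem, by group⟩)
    fun q hq => ⟨1, B.one_mem, q, hq, by group⟩
  exact h1 hx

theorem card_of_cover [Finite Y] {P Q B : Subgroup Y} {c : ℕ} (hQP : Q ≤ P) (hBP : B ≤ P)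
    (hcov : ∀ p ∈ P, ∃ b ∈ B, ∃ q ∈ Q, p = b * q) (hc : Nat.card P = c * Nat.card Q) :
    Nat.card B = c * Nat.card ↥(B ⊓ Q) := by
  have h1 : Q.relIndex P = c := by
    have h2 := relIndex_mul_relIndex ⊥ Q P bot_le hQP
    rw [relIndex_bot_left, relIndex_bot_left, hc, mul_comm] at h2
    exact Nat.eq_of_mul_eq_mul_right Nat.card_pos h2
  let φ := quotientSubgroupOfEmbeddingOfLE Q hBP
  have hs : Function.Surjective φ := by
    intro y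
    obtain ⟨⟨p, hp⟩, rfl⟩ := QuotientGroup.mk_surjective y
    obtain ⟨b, hb, q, hq, rfl⟩ := hcov p hp
    refine ⟨QuotientGroup.mk ⟨b, hb⟩, ?_⟩
    change (QuotientGroup.mk (⟨b, hBP hb⟩ : P) : P ⧸ Q.subgroupOf P) = QuotientGroup.mk _
    rw [QuotientGroup.eq]
    change b⁻¹ * (b * q) ∈ Q
    have e : b⁻¹ * (b * q) = q := by group
    rwa [e]
  have h7 : Nat.card (P ⧸ Q.subgroupOf P) = Nat.card (B ⧸ Q.subgroupOf B) :=
    (Nat.card_congr (Equiv.ofBijective φ ⟨φ.injective, hs⟩)).symm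
  have h8 : Q.relIndex B = c := by
    rw [← h1]
    exact h7.symm
  have h4 := relIndex_mul_relIndex ⊥ (B ⊓ Q) B bot_le inf_le_left
  rw [relIndex_bot_left, relIndex_bot_left, inf_relIndex_left, h8] at h4
  rw [← h4, mul_comm]

theorem arith_one {w w' i x y z m n k b α f e g c : ℕ} (hw : 0 < w) (hi : 0 < i) (hy : 0 < y) (hm : 0 < m)
    (hn : 0 < n) (hk : 0 < k) (hf : 0 < f) (hc : 0 < c) (h1 : x * i = w * w') (h2 : z * i = w * y)
    (h3 : z * n = w * m) (h4 : w = c * n) (h5 : k * e ≤ f * α) (h6 : g ≤ e) (h7 : g * m = x * f)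
    (h8 : b * y ≤ k * w') (h9 : α = c * b) : k * w' = b * y ∧ e ≤ g := by
  have e1 : z = c * m := by
    apply Nat.eq_of_mul_eq_mul_right hn
    rw [h3, h4]; ring
  have e2 : x * y = z * w' := by
    apply Nat.eq_of_mul_eq_mul_right (Nat.mul_pos hi hw)
    calc x * y * (i * w) = (x * i) * (w * y) := by ring
      _ = w * w' * (z * i) := by rw [h1, h2]
      _ = _ := by ring
  have e3 : k * x ≤ c * b * m := by
    apply Nat.le_of_mul_le_mul_right _ hf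
    calc k * x * f = k * (x * f) := by ring
      _ = k * (g * m) := by rw [h7]
      _ ≤ k * (e * m) := Nat.mul_le_mul_left _ (Nat.mul_le_mul_right _ h6)
      _ = k * e * m := by ring
      _ ≤ f * α * m := Nat.mul_le_mul_right _ h5
      _ = _ := by rw [h9]; ring
  have e4 : k * w' ≤ b * y := by
    apply Nat.le_of_mul_le_mul_left _ (Nat.mul_pos hc hm)
    calc c * m * (k * w') = k * (z * w') := by rw [e1]; ring
      _ = k * x * y := by rw [← e2]; ring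
      _ ≤ c * b * m * y := Nat.mul_le_mul_right _ e3
      _ = _ := by ring
  have e5 := le_antisymm e4 h8
  refine ⟨e5, ?_⟩
  have e6 : c * b * m = k * x := by
    apply Nat.eq_of_mul_eq_mul_right hy
    calc c * b * m * y = c * m * (b * y) := by ring
      _ = c * m * (k * w') := by rw [e5]
      _ = k * (z * w') := by rw [e1]; ring
      _ = _ := by rw [← e2]; ring
  apply Nat.le_of_mul_le_mul_left _ (Nat.mul_pos hk hm)
  calc k * m * e = m * (k * e) := by ring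
    _ ≤ m * (f * α) := Nat.mul_le_mul_left _ h5
    _ = c * b * m * f := by rw [h9]; ring
    _ = k * (x * f) := by rw [e6]; ring
    _ = _ := by rw [← h7]; ring

namespace TwoK

variable [Finite Y] [Finite V] {U : Set (Subgroup Y)} {T : Sylow 2 Y} {M H H' R P P' : Subgroup Y}
  {D D' W₁ W₁' : AddSubgroup V} {c : ℕ} {t : Y} (h : TwoK V U T M H H' R P P' D D' W₁ W₁' c t)
include h

theorem vv0 (v : V) : v + v = 0 := h.amb.two v

theorem c_pos : 0 < c := lt_of_lt_of_le (by norm_num) h.k.two_le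

theorem RM : R ≤ M := h.a.RT.trans h.amb.TM

theorem Q_norm {x q : Y} (hx : x ∈ H) (hq : q ∈ QQ H R) : x * q * x⁻¹ ∈ QQ H R := conj_mem_QQ hx hq

theorem conj_Q {x : Y} (hx : x ∈ H) : MulAut.conj x • QQ H R = QQ H R := conj_of_mem fun _ hq => conj_mem_QQ hx hq

/-- an opposite member is conjugate in `H` to a member in `R` -/
theorem exists_x {A : Subgroup Y} (hA : A ∈ U) (hAH : A ≤ H) (hAM : ¬ A ≤ M) :
    ∃ x ∈ H, x ∉ M ∧ MulAut.conj x • A ∈ U ∧ MulAut.conj x • A ≤ R ∧ ¬ MulAut.conj x • A ≤ QQ H R := by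
  obtain ⟨x, hx, h1, h2⟩ := h.a.exists_conj h.amb hA hAH
  refine ⟨x, hx, fun hxM => hAM ?_, h1, h2, fun h3 => hAM ?_⟩
  · have h4 := h2.trans h.RM
    rw [conj_le_iff] at h4
    refine h4.trans ?_
    intro y hy
    rw [mem_conj, inv_inv] at hy
    have h5 := M.mul_mem (M.mul_mem (M.inv_mem hxM) hy) hxM
    have e : x⁻¹ * (x * y * x⁻¹) * x = y := by group
    rwa [e] at h5
  · rw [conj_le_iff, h.conj_Q (H.inv_mem hx)] at h3
    exact h3.trans (QQ_le.trans h.RM)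

theorem card_memR {B : Subgroup Y} (hB : B ∈ U) (hBR : B ≤ R) (hBQ : ¬ B ≤ QQ H R) :
    Nat.card B = c * Nat.card ↥(B ⊓ QQ H R) := by
  obtain ⟨h1, h2⟩ := h.k.cover B hB hBR hBQ
  exact card_of_cover h.k.QP h1 (fun p hp => exists_mul_of_sup
    (fun b hb q hq => conj_mem_QQ (h.a.RH (hBR hb)) hq) (h2 hp)) h.k.card_P

theorem fx_W₁ {B : Subgroup Y} (hB : B ∈ U) (hBR : B ≤ R) (hBQ : ¬ B ≤ QQ H R) {w : V} (hw : w ∈ WW V H R)
    (hwB : w ∈ fx V B) : w ∈ W₁ := by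
  by_contra hw1
  apply hBQ
  intro b hb
  apply h.k.free b ((h.k.cover B hB hBR hBQ).1 hb) w hw hw1
  rw [hwB b hb, h.vv0]
  exact zero_mem _

theorem W₁_fx {B : Subgroup Y} (hB : B ∈ U) (hBR : B ≤ R) (hBQ : ¬ B ≤ QQ H R) : W₁ ≤ fx V B :=
  fun w hw b hb => h.k.P_fix b ((h.k.cover B hB hBR hBQ).1 hb) w hw

theorem smul_mem_iff {A : Subgroup Y} {x : Y} {w : V} : x • w ∈ fx V (MulAut.conj x • A) ↔ w ∈ fx V A := by
  rw [fx_conj, mem_smul_as, inv_smul_smul]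

theorem D_fx {A : Subgroup Y} (hA : A ∈ U) (hAH : A ≤ H) (hAM : ¬ A ≤ M) : D ≤ fx V A := by
  obtain ⟨x, hx, -, h1, h2, h3⟩ := h.exists_x hA hAH hAM
  intro v hv
  rw [← h.smul_mem_iff (x := x)]
  exact h.W₁_fx h1 h2 h3 (h.k.DW (h.k.D_H x hx v hv))

theorem fix_D {A : Subgroup Y} (hA : A ∈ U) (hAH : A ≤ H) (hAM : ¬ A ≤ M) {v : V} (hv : v ∈ W₁)
    (hvA : v ∈ fx V A) : v ∈ D := by
  obtain ⟨x, hx, hxM, h1, h2, h3⟩ := h.exists_x hA hAH hAM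
  apply h.k.opp x hx hxM v hv
  apply h.fx_W₁ h1 h2 h3 (smul_mem_WW hx (h.k.W₁W hv))
  rwa [h.smul_mem_iff]

theorem free_A' {A : Subgroup Y} (hA : A ∈ U) (hAH : A ≤ H) (hAM : ¬ A ≤ M) {w : V} (hw : w ∈ WW V H R)
    (hwA : w ∉ fx V A) {u : Y} (hu : u ∈ A) (h0 : u • w + w ∈ D) : u ∈ QQ H R := by
  obtain ⟨x, hx, hxM, h1, h2, h3⟩ := h.exists_x hA hAH hAM
  have h4 := h.k.free (x * u * x⁻¹) ((h.k.cover _ h1 h2 h3).1 (conj_mem_conj hu)) (x • w) (smul_mem_WW hx hw)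
    (fun h5 => hwA (by rw [← h.smul_mem_iff (x := x)]; exact h.W₁_fx h1 h2 h3 h5)) (by
      have e : (x * u * x⁻¹) • x • w + x • w = x • (u • w + w) := by
        rw [smul_add, ← mul_smul, ← mul_smul]
        congr 2; group
      rw [e]
      exact h.k.D_H x hx _ h0)
  have h5 := conj_mem_QQ (H.inv_mem hx) h4
  have e : x⁻¹ * (x * u * x⁻¹) * x⁻¹⁻¹ = u := by group
  rwa [e] at h5

theorem free_A {A : Subgroup Y} (hA : A ∈ U) (hAH : A ≤ H) (hAM : ¬ A ≤ M) {w : V} (hw : w ∈ WW V H R)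
    (hwA : w ∉ fx V A) {u : Y} (hu : u ∈ A) (h0 : u • w = w) : u ∈ QQ H R :=
  h.free_A' hA hAH hAM hw hwA hu (by rw [h0, h.vv0]; exact zero_mem _)

theorem card_opp {A : Subgroup Y} (hA : A ∈ U) (hAH : A ≤ H) (hAM : ¬ A ≤ M) :
    Nat.card A = c * Nat.card ↥(A ⊓ QQ H R) := by
  obtain ⟨x, hx, hxM, h1, h2, h3⟩ := h.exists_x hA hAH hAM
  have h4 := h.card_memR h1 h2 h3
  rw [conj_card] at h4
  rw [h4]
  congr 1
  rw [← conj_card x (A ⊓ QQ H R), conj_inf, h.conj_Q hx]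

theorem card_fx {A : Subgroup Y} (hA : A ∈ U) (hAH : A ≤ H) (hAM : ¬ A ≤ M) :
    Nat.card ↥(WW V H R ⊓ fx V A) = Nat.card W₁ := by
  obtain ⟨x, hx, hxM, h1, h2, h3⟩ := h.exists_x hA hAH hAM
  have h4 : WW V H R ⊓ fx V A = x⁻¹ • W₁ := by
    ext v
    rw [mem_smul_as, inv_inv, AddSubgroup.mem_inf]
    constructor
    · rintro ⟨h5, h6⟩
      exact h.fx_W₁ h1 h2 h3 (smul_mem_WW hx h5) (by rwa [h.smul_mem_iff])
    · intro h5
      refine ⟨?_, ?_⟩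
      · have h6 := smul_mem_WW (H.inv_mem hx) (h.k.W₁W h5)
        rwa [inv_smul_smul] at h6
      · rw [← h.smul_mem_iff (x := x)]
        exact h.W₁_fx h1 h2 h3 h5
  rw [h4, card_smul_as]

/-- `u ∈ A - Q` is not in `M` -/
theorem not_M {A : Subgroup Y} (hA : A ∈ U) (hAH : A ≤ H) (hAM : ¬ A ≤ M) {u : Y} (hu : u ∈ A)
    (huQ : u ∉ QQ H R) : u ∉ M := by
  intro huM
  obtain ⟨x, hx, hxM, h1, h2, h3⟩ := h.exists_x hA hAH hAM
  -- `w ∈ W₁ - D`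
  obtain ⟨w, hw, hwD⟩ : ∃ w ∈ W₁, w ∉ D := by
    by_contra hcon
    push Not at hcon
    have h4 : W₁ = D := le_antisymm hcon h.k.DW
    have h5 := h.k.card_W₁
    rw [h4] at h5
    have h6 : 0 < Nat.card D := Nat.card_pos
    have h7 := h.k.two_le
    nlinarith
  have hwA : w ∉ fx V A := fun h4 => hwD (h.fix_D hA hAH hAM hw h4)
  apply huQ
  apply h.free_A' hA hAH hAM (h.k.W₁W hw) hwA hu
  have h4 : u • w + w ∈ W₁ := add_mem (h.k.stab u (hAH hu) huM w hw) hw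
  apply h.fix_D hA hAH hAM h4
  rw [← h.smul_mem_iff (x := x)]
  have e : x • (u • w + w) = (x * u * x⁻¹) • x • w + x • w := by
    rw [smul_add, ← mul_smul, ← mul_smul]
    congr 2; group
  rw [e]
  apply h.W₁_fx h1 h2 h3
  exact h.k.P_comm _ ((h.k.cover _ h1 h2 h3).1 (conj_mem_conj hu)) _ (smul_mem_WW hx (h.k.W₁W hw))

/-- the count of (1) -/
theorem one_aux {A : Subgroup Y} (hA : A ∈ U) (hAH : A ≤ H) (hAM : ¬ A ≤ M) (hE : WW V H' R ≤ Ee V A) :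
    Nat.card ↥(A ⊓ QQ H R ⊓ QQ H' R) * Nat.card ↥(WW V H' R) =
        Nat.card ↥(A ⊓ QQ H R) * Nat.card ↥(fx V (A ⊓ QQ H R) ⊓ WW V H' R) ∧
      fx V (A ⊓ QQ H R ⊓ QQ H' R) ⊓ Ee V A = WW V H R ⊔ WW V H' R ⊔ fx V A := by
  have hm := h.amb.cls.mem A hA
  set W := WW V H R with hW
  set W' := WW V H' R with hW'
  set F := fx V A with hF
  set E := Ee V A with hEd
  set B₁ := A ⊓ QQ H R with hB₁
  set K := B₁ ⊓ QQ H' R with hK
  have hWE : W ≤ E := h.a.WW_le_Ee h.amb h.we hA hAH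
  have hZ : fx V B₁ = W ⊔ F := h.a.fx_eq h.amb h.we hA hAH
  have hWZ : W ≤ fx V B₁ := by rw [hZ]; exact le_sup_left
  have hX : W ⊔ W' ⊔ F ≤ fx V K ⊓ E := by
    refine sup_le (sup_le ?_ ?_) ?_
    · exact le_inf (hWZ.trans (fx_mono inf_le_left)) hWE
    · exact le_inf (fun v hv b hb => Amal.QQ_fix h.a' h.amb hb.2 hv) hE
    · exact le_inf (fx_mono (inf_le_left.trans inf_le_left)) hm.FE
  have c1 := card_sup_as W W'
  have c2 := card_sup_as W (fx V B₁ ⊓ W')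
  have i2 : W ⊓ (fx V B₁ ⊓ W') = W ⊓ W' := by
    rw [← inf_assoc, inf_eq_left.2 hWZ]
  rw [i2] at c2
  have i3 : (W ⊔ W') ⊓ fx V B₁ = W ⊔ fx V B₁ ⊓ W' := by
    rw [sup_inf_assoc_of_le _ hWZ, inf_comm W']
  have i4 : (W ⊔ W') ⊓ fx V B₁ = W ⊔ (W ⊔ W') ⊓ F := by
    rw [hZ, inf_comm, sup_inf_assoc_of_le _ le_sup_left, inf_comm F]
  have c3 := card_sup_as W ((W ⊔ W') ⊓ F)
  have i5 : W ⊓ ((W ⊔ W') ⊓ F) = W ⊓ F := by
    rw [← inf_assoc, inf_eq_left.2 (le_sup_left : W ≤ W ⊔ W')]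
  rw [i5, ← i4, i3] at c3
  have c4 : Nat.card W = c * Nat.card ↥(W ⊓ F) := by
    rw [h.card_fx hA hAH hAM]
    exact h.k.card_W
  have c5 := h.amb.cls.mu A hA K (inf_le_left.trans inf_le_left)
  rw [hm.card_E h.amb.two] at c5
  have c6 := Nat.card_le_card_of_injective _ (AddSubgroup.inclusion_injective hX)
  have c7 := card_sup_as (W ⊔ W') F
  have c8 := h.k'.noOver B₁ (inf_le_right.trans QQ_le) (ElAb.mono (Mem.elAb hm) inf_le_left)
  have c9 := h.card_opp hA hAH hAM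
  obtain ⟨r1, r2⟩ := arith_one (w := Nat.card W) (w' := Nat.card W') (i := Nat.card ↥(W ⊓ W'))
    (x := Nat.card ↥(W ⊔ W')) (y := Nat.card ↥(fx V B₁ ⊓ W')) (z := Nat.card ↥(W ⊔ fx V B₁ ⊓ W'))
    (m := Nat.card ↥((W ⊔ W') ⊓ F)) (n := Nat.card ↥(W ⊓ F)) (k := Nat.card K) (b := Nat.card B₁)
    (α := Nat.card A) (f := Nat.card F) (e := Nat.card ↥(fx V K ⊓ E)) (g := Nat.card ↥(W ⊔ W' ⊔ F)) (c := c)
    Nat.card_pos Nat.card_pos Nat.card_pos Nat.card_pos Nat.card_pos Nat.card_pos Nat.card_pos h.c_pos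
    c1 c2 c3 c4 c5 c6 c7 c8 c9
  exact ⟨r1, (eq_of_le_as hX r2).symm⟩

/-- **(1)** -/
theorem one {A : Subgroup Y} (hA : A ∈ U) (hAH : A ≤ H) (hAM : ¬ A ≤ M) (hE : WW V H' R ≤ Ee V A) :
    fx V (A ⊓ QQ H R ⊓ QQ H' R) ⊓ Ee V A = WW V H R ⊔ WW V H' R ⊔ fx V A := (h.one_aux hA hAH hAM hE).2

/-- **(2)** -/
theorem two_P {A : Subgroup Y} (hA : A ∈ U) (hAH : A ≤ H) (hAM : ¬ A ≤ M) (hE : WW V H' R ≤ Ee V A) :
    A ⊓ QQ H R ≤ P' ∧ P' ≤ (A ⊓ QQ H R) ⊔ QQ H' R := by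
  apply h.k'.exactOff _ (inf_le_right.trans QQ_le) (ElAb.mono (Mem.elAb (h.amb.cls.mem A hA)) inf_le_left)
  · intro h1
    obtain ⟨b, hb, hb'⟩ := h.star hA hAH hAM
    exact hb' (h1 hb)
  · exact (h.one_aux hA hAH hAM hE).1.le

/-- `H` normalises what `R` and `A` normalise -/
theorem gen_induct {A : Subgroup Y} (hAH : A ≤ H) (hAM : ¬ A ≤ M) {S : Subgroup Y} (hR : R ≤ S) (hS : A ≤ S) :
    H ≤ S := by
  rw [← h.a.gen hAH hAM]
  exact sup_le hR hS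

theorem cover_mul {A : Subgroup Y} (hA : A ∈ U) (hAH : A ≤ H) (hAM : ¬ A ≤ M) (hP : P' ≤ (A ⊓ QQ H R) ⊔ QQ H' R)
    {p : Y} (hp : p ∈ P') : ∃ b ∈ A ⊓ QQ H R, ∃ q ∈ QQ H' R, p = b * q := by
  have h1 : ∀ b ∈ A ⊓ QQ H R, ∀ q ∈ QQ H' R, b * q * b⁻¹ ∈ QQ H' R := fun b hb q hq =>
    conj_mem_QQ (h.a'.RH (QQ_le hb.2)) hq
  exact exists_mul_of_sup h1 (hP hp)

/-- a vector `d` of `W₁'` is fixed mod `D'` ... `P'`: `y ∈ W' - W₁'` fixed by `B₁` -/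
theorem fixB_W₁' {B : Subgroup Y} (hBP : B ≤ P') (hB : ¬ B ≤ QQ H' R) {y : V} (hy : y ∈ WW V H' R)
    (hyB : ∀ b ∈ B, b • y = y) : y ∈ W₁' := by
  by_contra hy1
  apply hB
  intro b hb
  apply h.k'.free b (hBP hb) y hy hy1
  rw [hyB b hb, h.vv0]
  exact zero_mem _

/-- **(2)** -/
theorem two_all {A : Subgroup Y} (hA : A ∈ U) (hAH : A ≤ H) (hAM : ¬ A ≤ M) (hE : WW V H' R ≤ Ee V A) :
    A ⊓ QQ H R ≤ P' ∧ P' ≤ (A ⊓ QQ H R) ⊔ QQ H' R ∧
      Nat.card ↥(A ⊓ QQ H R) = c * Nat.card ↥(A ⊓ QQ H R ⊓ QQ H' R) ∧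
      (∀ y ∈ WW V H' R, (∀ b ∈ A ⊓ QQ H R, b • y = y) → y ∈ W₁') ∧ cmK P' (WW V H' R) ≤ fx V A := by
  obtain ⟨h1, h2⟩ := h.two_P hA hAH hAM hE
  refine ⟨h1, h2, ?_, ?_, ?_⟩
  · exact card_of_cover h.k'.QP h1 (fun p hp => h.cover_mul hA hAH hAM h2 hp) h.k'.card_P
  · intro y hy hyB
    refine h.fixB_W₁' h1 (fun h3 => ?_) hy hyB
    obtain ⟨b, hb, hb'⟩ := h.star hA hAH hAM
    exact hb' (h3 hb)
  · apply cm_le
    intro p hp w hw
    obtain ⟨b, hb, q, hq, rfl⟩ := h.cover_mul hA hAH hAM h2 hp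
    rw [mul_smul, Amal.QQ_fix h.a' h.amb hq hw]
    exact hE hw b hb.1

theorem cm_R {r : Y} (hr : r ∈ R) {v : V} (hv : v ∈ cmK P' (WW V H' R)) : r • v ∈ cmK P' (WW V H' R) :=
  smul_mem_cm (fun _ hp => h.k'.P_norm h.amb.two hr hp) (fun _ hw => smul_mem_WW (h.a'.RH hr) hw) hv

/-- `I'` is `H`-invariant -/
theorem cm_H {A : Subgroup Y} (hA : A ∈ U) (hAH : A ≤ H) (hAM : ¬ A ≤ M) (hE : WW V H' R ≤ Ee V A)
    {x : Y} (hx : x ∈ H) {v : V} (hv : v ∈ cmK P' (WW V H' R)) : x • v ∈ cmK P' (WW V H' R) := by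
  have h1 := (h.two_all hA hAH hAM hE).2.2.2.2
  let S : Subgroup Y :=
    { carrier := {x | ∀ v ∈ cmK P' (WW V H' R), x • v ∈ cmK P' (WW V H' R) ∧ x⁻¹ • v ∈ cmK P' (WW V H' R)}
      one_mem' := fun v hv => by rw [inv_one, one_smul]; exact ⟨hv, hv⟩
      mul_mem' := fun {x y} hx hy v hv => by
        rw [mul_inv_rev, mul_smul, mul_smul]
        exact ⟨(hx _ (hy v hv).1).1, (hy _ (hx v hv).2).2⟩
      inv_mem' := fun {x} hx v hv => by
        rw [inv_inv]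
        exact ⟨(hx v hv).2, (hx v hv).1⟩ }
  have h2 : H ≤ S := by
    apply h.gen_induct hAH hAM
    · intro r hr v hv
      exact ⟨h.cm_R hr hv, h.cm_R (R.inv_mem hr) hv⟩
    · intro u hu v hv
      rw [h1 hv u hu, h1 hv u⁻¹ (A.inv_mem hu)]
      exact ⟨hv, hv⟩
  exact (h2 hx v hv).1

/-- `t I = I'` -/
theorem t_cm {v : V} (hv : v ∈ cmK P (WW V H R)) : t • v ∈ cmK P' (WW V H' R) := by
  apply smul_mem_cm _ _ hv
  · intro p hp
    rw [h.P'_eq]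
    exact conj_mem_conj hp
  · intro w hw
    rw [h.W'_eq]
    exact smul_mem_smul_as hw

theorem t_cm_inv {v : V} (hv : v ∈ cmK P' (WW V H' R)) : t⁻¹ • v ∈ cmK P (WW V H R) := by
  have h1 := h.swap.t_cm hv
  have h2 := h.swap.cm_R (R.inv_mem h.a.t_sq) h1
  have e : (t * t)⁻¹ • t • v = t⁻¹ • v := by rw [← mul_smul]; congr 1; group
  rwa [e] at h2

theorem t_D {v : V} (hv : v ∈ D) : t • v ∈ D' := by
  rw [h.D'_eq]; exact smul_mem_smul_as hv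

theorem t_W₁ {v : V} (hv : v ∈ W₁) : t • v ∈ W₁' := by
  rw [h.W₁'_eq]; exact smul_mem_smul_as hv

/-- a vector fixed by `H` and by `H'` is `0` -/
theorem fix_zero {v : V} (h1 : v ∈ fx V H) (h2 : t • v ∈ fx V H) : v = 0 := h.a.C_inf h.amb h1 h2

theorem t_fx {v : V} (hv : v ∈ fx V H') : t • v ∈ fx V H := by
  intro x hx
  have h1 : t⁻¹ * x * t ∈ H' := by
    rw [h.H_eq, mem_conj] at hx
    exact hx
  have h2 := hv _ h1
  have e : (t⁻¹ * x * t) • v = t⁻¹ • x • t • v := by rw [← mul_smul, ← mul_smul, mul_assoc]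
  rw [e, inv_smul_eq_iff] at h2
  exact h2

theorem cm_le_W₁ : cmK P (WW V H R) ≤ W₁ := cm_le h.k.P_comm

/-- `W₁ = I + D` -/
theorem W₁_le : W₁ ≤ cmK P (WW V H R) ⊔ D := by
  obtain ⟨w, hw, hw1⟩ : ∃ w ∈ WW V H R, w ∉ W₁ := by
    by_contra hcon
    push Not at hcon
    have h4 : WW V H R = W₁ := le_antisymm hcon h.k.W₁W
    have h5 := h.k.card_W
    rw [h4] at h5
    have h6 : 0 < Nat.card W₁ := Nat.card_pos
    have h7 := h.k.two_le
    nlinarith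
  intro v hv
  obtain ⟨p, hp, h1⟩ := h.k.onto w hw hw1 v hv
  have e : v = (p • w + w) + (p • w + w + v) := by
    rw [← add_assoc, h.vv0, zero_add]
  rw [e]
  exact add_mem (AddSubgroup.mem_sup_left (mem_cm hp hw)) (AddSubgroup.mem_sup_right h1)

/-- `I' ∩ D' = 0` -/
theorem cm_inf_D' {A : Subgroup Y} (hA : A ∈ U) (hAH : A ≤ H) (hAM : ¬ A ≤ M) (hE : WW V H' R ≤ Ee V A) :
    cmK P' (WW V H' R) ⊓ D' = ⊥ := by
  by_contra hne
  have h1 := (h.two_all hA hAH hAM hE).2.2.2.2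
  obtain ⟨⟨w, hw⟩, hw1⟩ := AddSubgroup.ne_bot_iff_exists_ne_zero.1 hne
  have hw0 : w ≠ 0 := fun h2 => hw1 (Subtype.ext h2)
  obtain ⟨v, hv, hv0, hvR⟩ := HE.exists_fixed h.amb.two h.a.R2 (cmK P' (WW V H' R) ⊓ D')
    (fun r hr w hw => ⟨h.cm_R hr hw.1, h.k'.D_H r (h.a'.RH hr) w hw.2⟩) ⟨w, hw, hw0⟩
  apply hv0
  have h2 : v ∈ fx V H := by
    rw [← h.a.fx_inf hAH hAM]
    exact ⟨h1 hv.1, hvR⟩
  have h3 : v ∈ fx V H' := fun x hx => h.k'.D_fix v hv.2 hvR x hx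
  exact h.fix_zero h2 (h.t_fx h3)

theorem cm_inf_D {A : Subgroup Y} (hA : A ∈ U) (hAH : A ≤ H) (hAM : ¬ A ≤ M) (hE : WW V H' R ≤ Ee V A) {v : V}
    (hv : v ∈ cmK P (WW V H R)) (hvD : v ∈ D) : v = 0 := by
  have h1 : t • v ∈ cmK P' (WW V H' R) ⊓ D' := ⟨h.t_cm hv, h.t_D hvD⟩
  rw [h.cm_inf_D' hA hAH hAM hE, AddSubgroup.mem_bot] at h1
  rwa [smul_eq_zero_iff_eq] at h1

/-- `W = W₁ + (W ∩ F₂)` -/
theorem W_le {A : Subgroup Y} (hA : A ∈ U) (hAH : A ≤ H) (hAM : ¬ A ≤ M) : WW V H R ≤ W₁ ⊔ (WW V H R ⊓ fx V A) := by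
  have h1 : W₁ ⊔ (WW V H R ⊓ fx V A) = WW V H R := by
    apply eq_of_le_as (sup_le h.k.W₁W inf_le_left)
    have h2 := card_sup_as W₁ (WW V H R ⊓ fx V A)
    have h3 : W₁ ⊓ (WW V H R ⊓ fx V A) = D := by
      apply le_antisymm
      · rintro v ⟨hv1, hv2⟩
        exact h.fix_D hA hAH hAM hv1 hv2.2
      · exact le_inf h.k.DW (le_inf (h.k.DW.trans h.k.W₁W) (h.D_fx hA hAH hAM))
    rw [h3, h.card_fx hA hAH hAM] at h2
    have h4 : 0 < Nat.card D := Nat.card_pos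
    apply Nat.le_of_mul_le_mul_right _ h4
    rw [h2, h.k.card_W, mul_assoc, mul_comm (Nat.card W₁) (Nat.card D), ← mul_assoc, ← h.k.card_W₁]
  exact h1.ge

/-- (2), the other side -/
theorem two_inf {A : Subgroup Y} (hA : A ∈ U) (hAH : A ≤ H) (hAM : ¬ A ≤ M) (hE : WW V H' R ≤ Ee V A)
    {A₂ : Subgroup Y} (hA₂ : A₂ ∈ U) (hAH₂ : A₂ ≤ H) (hAM₂ : ¬ A₂ ≤ M) :
    cmK P (WW V H R) ⊓ fx V A₂ = ⊥ ∧ WW V H R ≤ cmK P (WW V H R) ⊔ fx V A₂ := by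
  refine ⟨?_, ?_⟩
  · rw [eq_bot_iff]
    rintro v ⟨h1, h2⟩
    exact h.cm_inf_D hA hAH hAM hE h1 (h.fix_D hA₂ hAH₂ hAM₂ (h.cm_le_W₁ h1) h2)
  · refine (h.W_le hA₂ hAH₂ hAM₂).trans (sup_le ?_ (inf_le_right.trans le_sup_right))
    refine h.W₁_le.trans (sup_le le_sup_left ?_)
    exact (h.D_fx hA₂ hAH₂ hAM₂).trans le_sup_right

/-- `I` is `H'`-invariant -/
theorem cm_H' {A : Subgroup Y} (hA : A ∈ U) (hAH : A ≤ H) (hAM : ¬ A ≤ M) (hE : WW V H' R ≤ Ee V A)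
    {x : Y} (hx : x ∈ H') {v : V} (hv : v ∈ cmK P (WW V H R)) : x • v ∈ cmK P (WW V H R) := by
  have h1 : t * x * t⁻¹ ∈ H := by
    rw [h.H_eq]; exact conj_mem_conj hx
  have h2 := h.t_cm_inv (h.cm_H hA hAH hAM hE h1 (h.t_cm hv))
  have e : t⁻¹ • (t * x * t⁻¹) • t • v = x • v := by
    rw [← mul_smul, ← mul_smul]; congr 1; group
  rwa [e] at h2

/-- **(3)** -/
theorem three {A : Subgroup Y} (hA : A ∈ U) (hAH : A ≤ H) (hAM : ¬ A ≤ M) (hE : WW V H' R ≤ Ee V A)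
    {n : Y} (hn : n ∈ QQ H R) (hn' : n ∈ QQ H' R) {v : V} (hv : v ∈ Psi H' (WW V H R)) :
    n • v + v ∈ cmK P (WW V H R) := by
  induction hv using AddSubgroup.closure_induction with
  | mem v hv =>
    obtain ⟨x, hx, w, hw, rfl⟩ := hv
    have h1 : x⁻¹ * n * x ∈ QQ H' R := by
      have := conj_mem_QQ (H'.inv_mem hx) hn'
      simpa using this
    have h2 : x⁻¹ * n * x ∈ P := by
      apply h.k.mem_P _ (QQ_le h1)
      intro u hu
      obtain ⟨i, hi, d, hd, rfl⟩ := AddSubgroup.mem_sup.1 (h.W₁_le hu)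
      have h3 : (x⁻¹ * n * x) • i = i := by
        have h4 := Amal.QQ_fix h.a h.amb hn (h.k.W₁W (h.cm_le_W₁ (h.cm_H' hA hAH hAM hE hx hi)))
        rw [mul_smul, mul_smul, h4, inv_smul_smul]
      have e : (x⁻¹ * n * x) • (i + d) + (i + d) = ((x⁻¹ * n * x) • d + d) + (i + i) := by
        rw [smul_add, h3]; abel
      rw [e, h.vv0, add_zero]
      exact add_mem (h.k.D_H _ (h.a.RH (QQ_le h1)) _ hd) hd
    have e : n • x • w + x • w = x • ((x⁻¹ * n * x) • w + w) := by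
      rw [smul_add, ← mul_smul, ← mul_smul]
      congr 2; group
    rw [e]
    exact h.cm_H' hA hAH hAM hE hx (mem_cm h2 hw)
  | zero => rw [smul_zero, add_zero]; exact zero_mem _
  | add a b _ _ h1 h2 =>
    have e : n • (a + b) + (a + b) = (n • a + a) + (n • b + b) := by rw [smul_add]; abel
    rw [e]; exact add_mem h1 h2
  | neg a _ h1 =>
    have e : n • (-a) + (-a) = -(n • a + a) := by rw [smul_neg]; abel
    rw [e]; exact neg_mem h1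

theorem t_Q {q : Y} (hq : q ∈ QQ H R) : t * q * t⁻¹ ∈ QQ H' R := by
  rw [h.Q'_eq]; exact conj_mem_conj hq

theorem t_Q_inv {q : Y} (hq : q ∈ QQ H' R) : t⁻¹ * q * t ∈ QQ H R := by
  rw [h.Q'_eq, mem_conj] at hq; exact hq

/-- **(4)** -/
theorem four {u : Y} (huH : u ∈ H) (huu : u * u = 1) (huM : u ∉ M) {y : V} (hy : y ∈ WW V H' R) (hy1 : y ∉ W₁')
    (huy : u • y = y) (hJ : ∀ x ∈ W₁', ∃ j ∈ W₁', j + x ∈ D' ∧ u • j = j) : QQ H R ⊓ QQ H' R = ⊥ := by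
  have huinv : u⁻¹ = u := inv_eq_of_mul_eq_one_left huu
  have key : ∀ n ∈ QQ H R ⊓ QQ H' R, u * n * u⁻¹ ∈ QQ H R ⊓ QQ H' R := by
    intro n hn
    have h1 := conj_mem_QQ huH hn.1
    refine ⟨h1, ?_⟩
    have h2 : u * n * u⁻¹ ∈ P' := by
      apply h.k'.mem_P _ (QQ_le h1)
      intro x hx
      obtain ⟨j, hj, hd, huj⟩ := hJ x hx
      have h3 : (u * n * u⁻¹) • j = j := by
        rw [mul_smul, mul_smul, huinv, huj, Amal.QQ_fix h.a' h.amb hn.2 (h.k'.W₁W hj), huj]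
      have e : (u * n * u⁻¹) • x + x = (u * n * u⁻¹) • (j + x) + (j + x) := by
        rw [smul_add, h3]
        have : j + (u * n * u⁻¹) • x + (j + x) = (j + j) + ((u * n * u⁻¹) • x + x) := by abel
        rw [this, h.vv0, zero_add]
      rw [e]
      exact add_mem (h.k'.D_H _ (h.a'.RH (QQ_le h1)) _ hd) hd
    apply h.k'.free _ h2 y hy hy1
    have h3 : (u * n * u⁻¹) • y = y := by
      rw [mul_smul, mul_smul, huinv, huy, Amal.QQ_fix h.a' h.amb hn.2 hy, huy]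
    rw [h3, h.vv0]
    exact zero_mem _
  have keyR : ∀ r ∈ R, ∀ n ∈ QQ H R ⊓ QQ H' R, r * n * r⁻¹ ∈ QQ H R ⊓ QQ H' R := fun r hr n hn =>
    ⟨conj_mem_QQ (h.a.RH hr) hn.1, conj_mem_QQ (h.a'.RH hr) hn.2⟩
  let S : Subgroup Y :=
    { carrier := {x | ∀ n ∈ QQ H R ⊓ QQ H' R, x * n * x⁻¹ ∈ QQ H R ⊓ QQ H' R ∧ x⁻¹ * n * x ∈ QQ H R ⊓ QQ H' R}
      one_mem' := fun n hn => by simpa using hn
      mul_mem' := fun {x y} hx hy n hn => by
        constructor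
        · have h1 := (hx _ (hy n hn).1).1
          have e : x * (y * n * y⁻¹) * x⁻¹ = x * y * n * (x * y)⁻¹ := by group
          rwa [e] at h1
        · have h1 := (hy _ (hx n hn).2).2
          have e : y⁻¹ * (x⁻¹ * n * x) * y = (x * y)⁻¹ * n * (x * y) := by group
          rwa [e] at h1
      inv_mem' := fun {x} hx n hn => by
        rw [inv_inv]
        exact ⟨(hx n hn).2, (hx n hn).1⟩ }
  have h1 : H ≤ S := by
    rw [← h.a.gen (X := zpowers u) (zpowers_le.2 huH) (fun h2 => huM (h2 (mem_zpowers u)))]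
    refine sup_le (fun r hr n hn => ⟨keyR r hr n hn, ?_⟩) (zpowers_le.2 fun n hn => ⟨key n hn, ?_⟩)
    · have := keyR _ (R.inv_mem hr) n hn
      simpa using this
    · have := key n hn
      rw [huinv] at this ⊢
      exact this
  apply h.a.no_inv h.amb.core (h.a.R2.to_le (inf_le_left.trans QQ_le)) (fun x hx n hn => (h1 hx n hn).1)
  · intro n hn
    exact ⟨h.swap.t_Q hn.2, h.t_Q hn.1⟩
  · intro n hn
    refine ⟨h.t_Q_inv hn.2, ?_⟩
    exact h.swap.t_Q_inv hn.1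

theorem exists_onto {y : V} (hy : y ∈ WW V H' R) (hy1 : y ∉ W₁') {x : V} (hx : x ∈ W₁') :
    ∃ p ∈ P', p • y + y ∈ W₁' ∧ p • y + y + x ∈ D' := by
  obtain ⟨p, hp, h1⟩ := h.k'.onto y hy hy1 x hx
  exact ⟨p, hp, h.k'.P_comm p hp y hy, h1⟩

/-- **(4)**, under (2) -/
theorem four_opp {A : Subgroup Y} (hA : A ∈ U) (hAH : A ≤ H) (hAM : ¬ A ≤ M) (hE : WW V H' R ≤ Ee V A)
    {u : Y} (hu : u ∈ A) (huQ : u ∉ QQ H R) {y : V} (hy : y ∈ WW V H' R) (hy1 : y ∉ W₁') (huy : u • y = y) :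
    QQ H R ⊓ QQ H' R = ⊥ := by
  apply h.four (hAH hu) ((h.amb.cls.mem A hA).sq u hu) (h.not_M hA hAH hAM hu huQ) hy hy1 huy
  intro x hx
  obtain ⟨p, hp, h1, h2⟩ := h.exists_onto hy hy1 hx
  exact ⟨_, h1, h2, (h.two_all hA hAH hAM hE).2.2.2.2 (mem_cm hp hy) u hu⟩

end TwoK

end Cfsg.Agent.Omega.NO1.TH
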