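import Cfsg.Agent.Omega.NO1.TH.LOneDef
import Cfsg.Agent.Omega.NO1.TH.CaseC
import Cfsg.Agent.Omega.NO1.AB.LemE

/-!
# N1, BETA, the amalgam `(H, H^t)`: (L1) (bb OMEGA 21480, helper411), part 1: `t`-transport, factors
-/

set_option autoImplicit false
set_option linter.unusedSectionVars false

namespace Cfsg.Agent.Omega.NO1.TH

open Subgroup Cfsg.Agent.Omega.NO1.AB
open scoped Pointwise

universe u

variable {Y : Type u} [Group Y] {V : Type u} [AddCommGroup V] [DistribMulAction Y V]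

/-- the fixer of a subgroup of `V` -/
def fxr (S : AddSubgroup V) : Subgroup Y where
  carrier := {y | ∀ v ∈ S, y • v = v}
  one_mem' := fun v _ => one_smul Y v
  mul_mem' := fun {a b} ha hb v hv => by rw [mul_smul, hb v hv, ha v hv]
  inv_mem' := fun {a} ha v hv => by rw [inv_smul_eq_iff, ha v hv]

theorem mem_fxr {S : AddSubgroup V} {y : Y} : y ∈ (fxr S : Subgroup Y) ↔ ∀ v ∈ S, y • v = v := Iff.rfl

theorem mem_brk {W : AddSubgroup V} {P : Subgroup Y} {w : V} (hw : w ∈ W) {p : Y} (hp : p ∈ P) :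
    p • w + w ∈ brk W P := AddSubgroup.subset_closure ⟨w, hw, p, hp, rfl⟩

theorem brk_le {W X : AddSubgroup V} {P : Subgroup Y} (h : ∀ w ∈ W, ∀ p ∈ P, p • w + w ∈ X) : brk W P ≤ X := by
  refine (AddSubgroup.closure_le _).2 ?_
  rintro _ ⟨w, hw, p, hp, rfl⟩
  exact h w hw p hp

theorem smul_brk {W W' : AddSubgroup V} {P P' : Subgroup Y} {g : Y} (hW : ∀ w ∈ W, g • w ∈ W')
    (hP : ∀ p ∈ P, g * p * g⁻¹ ∈ P') {v : V} (hv : v ∈ brk W P) : g • v ∈ brk W' P' := by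
  induction hv using AddSubgroup.closure_induction with
  | mem v hv =>
    obtain ⟨w, hw, p, hp, rfl⟩ := hv
    have e : g • (p • w + w) = (g * p * g⁻¹) • (g • w) + g • w := by
      rw [smul_add, mul_smul, mul_smul, inv_smul_smul]
    rw [e]
    exact mem_brk (hW w hw) (hP p hp)
  | zero => rw [smul_zero]; exact zero_mem _
  | add a b _ _ h1 h2 => rw [smul_add]; exact add_mem h1 h2
  | neg a _ h1 => rw [smul_neg]; exact neg_mem h1

theorem smul_conj (g q : Y) (v : V) : q • g • v = g • (g⁻¹ * q * g) • v := by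
  rw [← mul_smul, ← mul_smul]; congr 1; group

/-- `C_Q(W + C_{W'}(J))` -/
def QS (V : Type u) [AddCommGroup V] [DistribMulAction Y V] (U : Set (Subgroup Y)) (H H' R : Subgroup Y) :
    Subgroup Y where
  carrier := {q | q ∈ QQ H R ∧ (∀ x ∈ WW V H R, q • x = x) ∧ ∀ x ∈ WJ V U H' R, q • x = x}
  one_mem' := ⟨one_mem _, fun v _ => one_smul Y v, fun v _ => one_smul Y v⟩
  mul_mem' := fun {a b} ha hb => ⟨mul_mem ha.1 hb.1, fun v hv => by rw [mul_smul, hb.2.1 v hv, ha.2.1 v hv],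
    fun v hv => by rw [mul_smul, hb.2.2 v hv, ha.2.2 v hv]⟩
  inv_mem' := fun {a} ha => ⟨inv_mem ha.1, fun v hv => by rw [inv_smul_eq_iff, ha.2.1 v hv],
    fun v hv => by rw [inv_smul_eq_iff, ha.2.2 v hv]⟩

/-- `C_Q(⟨W'^H⟩)` -/
def QSS (V : Type u) [AddCommGroup V] [DistribMulAction Y V] (H H' R : Subgroup Y) : Subgroup Y where
  carrier := {q | q ∈ QQ H R ∧ ∀ g ∈ H, ∀ w ∈ WW V H' R, q • g • w = g • w}
  one_mem' := ⟨one_mem _, fun g _ v _ => one_smul Y _⟩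
  mul_mem' := fun {a b} ha hb => ⟨mul_mem ha.1 hb.1, fun g hg v hv => by
    rw [mul_smul, hb.2 g hg v hv, ha.2 g hg v hv]⟩
  inv_mem' := fun {a} ha => ⟨inv_mem ha.1, fun g hg v hv => by rw [inv_smul_eq_iff, ha.2 g hg v hv]⟩

theorem conj_QSS {H H' R : Subgroup Y} {x q : Y} (hx : x ∈ H) (hq : q ∈ QSS V H H' R) :
    x * q * x⁻¹ ∈ QSS V H H' R := by
  refine ⟨conj_mem_QQ hx hq.1, fun g hg w hw => ?_⟩
  rw [← mul_smul]
  have e : x * q * x⁻¹ * g = x * (q * (x⁻¹ * g)) := by group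
  rw [e, mul_smul, mul_smul, hq.2 _ (H.mul_mem (H.inv_mem hx) hg) w hw, ← mul_smul]
  congr 1
  group

/-! ### factors -/

namespace LFac

variable {U : Set (Subgroup Y)} {H R : Subgroup Y} {ι : Type} {P : ι → Subgroup Y} {Ψ : ι → AddSubgroup V}
  (f : LFac V U H R P Ψ) (two : ∀ v : V, v + v = 0)
include f two

/-- the group generated by the `P p` acts on `Ψ p` as `P p` -/
theorem proj {q : Y} (hq : q ∈ ⨆ p, P p) (p : ι) : ∃ r ∈ P p, ∀ x ∈ Ψ p, q • x = r • x := by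
  let K : Subgroup Y :=
    { carrier := {q | (∀ x ∈ WJ V U H R, q • x = x) ∧ ∃ r ∈ P p, ∀ x ∈ Ψ p, q • x = r • x}
      one_mem' := ⟨fun x _ => one_smul Y x, 1, one_mem _, fun x _ => rfl⟩
      mul_mem' := by
        rintro b c ⟨hb1, r, hr, hb2⟩ ⟨hc1, s, hs, hc2⟩
        refine ⟨fun x hx => by rw [mul_smul, hc1 x hx, hb1 x hx], r * s, mul_mem hr hs, fun x hx => ?_⟩
        have h1 : s • x = (s • x + x) + x := by rw [add_assoc, two, add_zero]
        have h2 : ∀ y : Y, y • s • x = y • (s • x + x) + y • x := fun y => by rw [← smul_add, ← h1]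
        rw [mul_smul, mul_smul, hc2 x hx, h2, h2, hb1 _ (f.quad p s hs x hx),
          f.fixJ p r hr _ (f.quad p s hs x hx), hb2 x hx]
      inv_mem' := by
        rintro b ⟨hb1, r, hr, hb2⟩
        refine ⟨fun x hx => by rw [inv_smul_eq_iff, hb1 x hx], r⁻¹, inv_mem hr, fun x hx => ?_⟩
        have h1 := f.quad p r hr x hx
        have h2 : b⁻¹ • (r • x + x) = r • x + x := by rw [inv_smul_eq_iff, hb1 _ h1]
        have h3 : r⁻¹ • (r • x + x) = r • x + x := by rw [inv_smul_eq_iff, f.fixJ p r hr _ h1]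
        rw [smul_add, ← hb2 x hx, inv_smul_smul, hb2 x hx, add_comm] at h2
        rw [smul_add, inv_smul_smul, add_comm] at h3
        exact add_right_cancel (h2.trans h3.symm) }
  have hK : (⨆ p, P p) ≤ K := by
    apply iSup_le
    intro p' r hr
    refine ⟨f.fixJ p' r hr, ?_⟩
    by_cases hp : p' = p
    · subst hp
      exact ⟨r, hr, fun x _ => rfl⟩
    · exact ⟨1, one_mem _, fun x hx => by rw [f.orth p' p hp r hr x hx, one_smul]⟩
  exact (hK hq).2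

omit two in
theorem fix {q : Y} (hq : q ∈ ⨆ p, P p) {x : V} (hx : x ∈ WJ V U H R) : q • x = x := by
  have hK : (⨆ p, P p) ≤ fxr (WJ V U H R) := iSup_le fun p r hr => f.fixJ p r hr
  exact hK hq x hx

/-- `[W, ⟨P p⟩] ≤ C_W(J)` -/
theorem comm {q : Y} (hq : q ∈ ⨆ p, P p) {w : V} (hw : w ∈ WW V H R) : q • w + w ∈ WJ V U H R := by
  let D : AddSubgroup V :=
    { carrier := {w | q • w + w ∈ WJ V U H R}
      zero_mem' := by
        change q • (0 : V) + 0 ∈ WJ V U H R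
        rw [smul_zero, add_zero]; exact zero_mem _
      add_mem' := fun {v w} hv hw => by
        change q • (v + w) + (v + w) ∈ WJ V U H R
        have e : q • (v + w) + (v + w) = (q • v + v) + (q • w + w) := by rw [smul_add]; abel
        rw [e]; exact add_mem hv hw
      neg_mem' := fun {v} hv => by
        change q • (-v) + (-v) ∈ WJ V U H R
        rw [smul_neg, ← neg_add]; exact neg_mem hv }
  have h1 : WJ V U H R ⊔ ⨆ p, Ψ p ≤ D := by
    refine sup_le (fun x hx => ?_) (iSup_le fun p x hx => ?_)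
    · change q • x + x ∈ WJ V U H R
      rw [f.fix hq hx, two]; exact zero_mem _
    · change q • x + x ∈ WJ V U H R
      obtain ⟨r, hr, h2⟩ := f.proj two hq p
      rw [h2 x hx]
      exact f.quad p r hr x hx
  exact h1 (f.sup hw)

theorem mem_brk_of {q : Y} (hq : q ∈ ⨆ p, P p) {p : ι} {x : V} (hx : x ∈ Ψ p) : q • x + x ∈ brk (Ψ p) (P p) := by
  obtain ⟨r, hr, h2⟩ := f.proj two hq p
  rw [h2 x hx]
  exact mem_brk hx hr

end LFac

/-! ### transport by `t` -/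

/-- members `≤ R` -/
theorem fix_of_conj {U : Set (Subgroup Y)} (hc : Cls V U) {R R' : Subgroup Y} {x : Y}
    (hx : ∀ r ∈ R, x⁻¹ * r * x ∈ R') {v : V} (hv : ∀ B ∈ U, B ≤ R' → ∀ b ∈ B, b • v = v) :
    ∀ B ∈ U, B ≤ R → ∀ b ∈ B, b • x • v = x • v := by
  intro B hB hBR b hb
  rw [smul_conj, hv (MulAut.conj x⁻¹ • B) (hc.conj B hB _) ?_ (x⁻¹ * b * x)]
  · rw [mem_conj]
    have e : (x⁻¹)⁻¹ * (x⁻¹ * b * x) * x⁻¹ = b := by group
    rwa [e]
  · intro y hy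
    rw [mem_conj] at hy
    have h1 := hx _ (hBR hy)
    have e : x⁻¹ * ((x⁻¹)⁻¹ * y * x⁻¹) * x = y := by group
    rwa [e] at h1

namespace Amal

variable {U : Set (Subgroup Y)} {T : Sylow 2 Y} {M H R : Subgroup Y} {t : Y}

section one

variable (a : Amal U T M H R t)
include a

theorem RH' : R ≤ MulAut.conj t • H := fun r hr => by
  rw [mem_conj]; exact a.RH (a.symm_smul hr)

omit a in
theorem t_mem {x : Y} (hx : x ∈ H) : t * x * t⁻¹ ∈ MulAut.conj t • H := conj_mem_conj hx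

omit a in
theorem t_mem' {x : Y} (hx : x ∈ MulAut.conj t • H) : t⁻¹ * x * t ∈ H := by rwa [mem_conj] at hx

theorem t_mem2 {x : Y} (hx : x ∈ MulAut.conj t • H) : t * x * t⁻¹ ∈ H := by
  have h1 := H.mul_mem (H.mul_mem (a.RH a.t_sq) (t_mem' hx)) (H.inv_mem (a.RH a.t_sq))
  have e : t * t * (t⁻¹ * x * t) * (t * t)⁻¹ = t * x * t⁻¹ := by group
  rwa [e] at h1

theorem t_mem3 {x : Y} (hx : x ∈ H) : t⁻¹ * x * t ∈ MulAut.conj t • H := by
  rw [mem_conj]
  have h1 := H.mul_mem (H.mul_mem (H.inv_mem (a.RH a.t_sq)) hx) (a.RH a.t_sq)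
  have e : t⁻¹ * (t⁻¹ * x * t) * t = (t * t)⁻¹ * x * (t * t) := by group
  rwa [e]

/-- `t W = W'` -/
theorem smul_W {w : V} (hw : w ∈ WW V H R) : t • w ∈ WW V (MulAut.conj t • H) R := by
  induction hw using AddSubgroup.closure_induction with
  | mem v hv =>
    obtain ⟨x, hx, w, hw, rfl⟩ := hv
    have e : t • x • w = (t * x * t⁻¹) • t • w := by
      rw [← mul_smul, ← mul_smul]; congr 1; group
    rw [e]
    exact smul_mem_WW (t_mem hx) (fx_le_WW (a.smul_V0 hw))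
  | zero => rw [smul_zero]; exact zero_mem _
  | add b c _ _ h1 h2 => rw [smul_add]; exact add_mem h1 h2
  | neg b _ h1 => rw [smul_neg]; exact neg_mem h1

theorem smul_W' {w : V} (hw : w ∈ WW V (MulAut.conj t • H) R) : t • w ∈ WW V H R := by
  induction hw using AddSubgroup.closure_induction with
  | mem v hv =>
    obtain ⟨x, hx, w, hw, rfl⟩ := hv
    have e : t • x • w = (t * x * t⁻¹) • t • w := by
      rw [← mul_smul, ← mul_smul]; congr 1; group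
    rw [e]
    exact smul_mem_WW (a.t_mem2 hx) (fx_le_WW (a.smul_V0 hw))
  | zero => rw [smul_zero]; exact zero_mem _
  | add b c _ _ h1 h2 => rw [smul_add]; exact add_mem h1 h2
  | neg b _ h1 => rw [smul_neg]; exact neg_mem h1

theorem inv_smul_W {w : V} (hw : w ∈ WW V H R) : t⁻¹ • w ∈ WW V (MulAut.conj t • H) R := by
  have e : t⁻¹ • w = t • (t * t)⁻¹ • w := by
    rw [← mul_smul]; congr 1; group
  rw [e]
  exact a.smul_W (smul_mem_WW (H.inv_mem (a.RH a.t_sq)) hw)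

theorem inv_smul_W' {w : V} (hw : w ∈ WW V (MulAut.conj t • H) R) : t⁻¹ • w ∈ WW V H R := by
  have e : t⁻¹ • w = t • (t * t)⁻¹ • w := by
    rw [← mul_smul]; congr 1; group
  rw [e]
  exact a.smul_W' (smul_mem_WW (inv_mem (a.RH' a.t_sq)) hw)

theorem t_QQ {q : Y} (hq : q ∈ QQ H R) : t * q * t⁻¹ ∈ QQ (MulAut.conj t • H) R := by
  intro x hx
  have h1 := a.t_norm _ (hq _ (t_mem' hx))
  have e : t * (t⁻¹ * x * t * q * (t⁻¹ * x * t)⁻¹) * t⁻¹ = x * (t * q * t⁻¹) * x⁻¹ := by group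
  rwa [e] at h1

theorem t_QQ' {q : Y} (hq : q ∈ QQ (MulAut.conj t • H) R) : t⁻¹ * q * t ∈ QQ H R := by
  intro x hx
  have h1 := a.symm_smul (hq _ (t_mem hx))
  have e : t⁻¹ * (t * x * t⁻¹ * q * (t * x * t⁻¹)⁻¹) * t = x * (t⁻¹ * q * t) * x⁻¹ := by group
  rwa [e] at h1

theorem t_QQ2 {q : Y} (hq : q ∈ QQ (MulAut.conj t • H) R) : t * q * t⁻¹ ∈ QQ H R := by
  have h1 := conj_mem_QQ (a.RH a.t_sq) (a.t_QQ' hq)
  have e : t * t * (t⁻¹ * q * t) * (t * t)⁻¹ = t * q * t⁻¹ := by group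
  rwa [e] at h1

theorem t_QQ3 {q : Y} (hq : q ∈ QQ H R) : t⁻¹ * q * t ∈ QQ (MulAut.conj t • H) R := by
  have h1 := conj_mem_QQ (inv_mem (a.RH' a.t_sq)) (a.t_QQ hq)
  have e : (t * t)⁻¹ * (t * q * t⁻¹) * ((t * t)⁻¹)⁻¹ = t⁻¹ * q * t := by group
  rwa [e] at h1

end one

section amb

variable (a : Amal U T M H R t) (h : Amb V U T M)
include a h

theorem QQ_fix' {q : Y} (hq : q ∈ QQ (MulAut.conj t • H) R) {w : V} (hw : w ∈ WW V (MulAut.conj t • H) R) :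
    q • w = w := by
  have h1 := QQ_fix a h (a.t_QQ' hq) (a.inv_smul_W' hw)
  rw [mul_smul, mul_smul, smul_inv_smul] at h1
  exact smul_left_cancel t⁻¹ h1

theorem mem_QQ' [Finite Y] [Finite V] {r : Y} (hr : r ∈ R) (h1 : ∀ w ∈ WW V (MulAut.conj t • H) R, r • w = w) :
    r ∈ QQ (MulAut.conj t • H) R := by
  have h2 : t⁻¹ * r * t ∈ QQ H R := by
    rw [mem_QQ_iff a h (a.symm_smul hr)]
    intro w hw
    rw [mul_smul, mul_smul, h1 _ (a.smul_W hw), inv_smul_smul]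
  have h3 := a.t_QQ h2
  have e : t * (t⁻¹ * r * t) * t⁻¹ = r := by group
  rwa [e] at h3

theorem WJ_inv {r : Y} (hr : r ∈ R) {w : V} (hw : w ∈ WJ V U H R) : r • w ∈ WJ V U H R :=
  ⟨smul_mem_WW (a.RH hr) hw.1, fix_of_conj h.cls
    (fun s hs => R.mul_mem (R.mul_mem (R.inv_mem hr) hs) hr) hw.2⟩

theorem WJ_inv' {r : Y} (hr : r ∈ R) {w : V} (hw : w ∈ WJ V U (MulAut.conj t • H) R) :
    r • w ∈ WJ V U (MulAut.conj t • H) R :=
  ⟨smul_mem_WW (a.RH' hr) hw.1, fix_of_conj h.cls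
    (fun s hs => R.mul_mem (R.mul_mem (R.inv_mem hr) hs) hr) hw.2⟩

theorem t_WJ {w : V} (hw : w ∈ WJ V U H R) : t • w ∈ WJ V U (MulAut.conj t • H) R :=
  ⟨a.smul_W hw.1, fix_of_conj h.cls (fun _ hs => a.symm_smul hs) hw.2⟩

theorem t_WJ' {w : V} (hw : w ∈ WJ V U (MulAut.conj t • H) R) : t • w ∈ WJ V U H R :=
  ⟨a.smul_W' hw.1, fix_of_conj h.cls (fun _ hs => a.symm_smul hs) hw.2⟩

theorem t_WJi {w : V} (hw : w ∈ WJ V U H R) : t⁻¹ • w ∈ WJ V U (MulAut.conj t • H) R :=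
  ⟨a.inv_smul_W hw.1, fix_of_conj h.cls (fun _ hs => by rw [inv_inv]; exact a.t_norm _ hs) hw.2⟩

theorem t_WJi' {w : V} (hw : w ∈ WJ V U (MulAut.conj t • H) R) : t⁻¹ • w ∈ WJ V U H R :=
  ⟨a.inv_smul_W' hw.1, fix_of_conj h.cls (fun _ hs => by rw [inv_inv]; exact a.t_norm _ hs) hw.2⟩

theorem D0_inv {x : Y} (hx : x ∈ H) {w : V} (hw : w ∈ D0 V U H R) : x • w ∈ D0 V U H R :=
  ⟨smul_mem_WW hx hw.1, fix_of_conj h.cls (fun s hs => H.mul_mem (H.mul_mem (H.inv_mem hx) hs) hx) hw.2⟩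

/-- `t` and `Q_*` -/
theorem t_QS {q : Y} (hq : q ∈ QS V U H (MulAut.conj t • H) R) : t * q * t⁻¹ ∈ QS V U (MulAut.conj t • H) H R := by
  refine ⟨a.t_QQ hq.1, fun w hw => ?_, fun w hw => ?_⟩
  · rw [mul_smul, mul_smul, hq.2.1 _ (a.inv_smul_W' hw), smul_inv_smul]
  · rw [mul_smul, mul_smul, hq.2.2 _ (t_WJi a h hw), smul_inv_smul]

theorem ti_QS {q : Y} (hq : q ∈ QS V U H (MulAut.conj t • H) R) :
    t⁻¹ * q * t ∈ QS V U (MulAut.conj t • H) H R := by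
  refine ⟨a.t_QQ3 hq.1, fun w hw => ?_, fun w hw => ?_⟩
  · rw [mul_smul, mul_smul, hq.2.1 _ (a.smul_W' hw), inv_smul_smul]
  · rw [mul_smul, mul_smul, hq.2.2 _ (t_WJ a h hw), inv_smul_smul]

theorem t_QS' {q : Y} (hq : q ∈ QS V U (MulAut.conj t • H) H R) : t * q * t⁻¹ ∈ QS V U H (MulAut.conj t • H) R := by
  refine ⟨a.t_QQ2 hq.1, fun w hw => ?_, fun w hw => ?_⟩
  · rw [mul_smul, mul_smul, hq.2.1 _ (a.inv_smul_W hw), smul_inv_smul]
  · rw [mul_smul, mul_smul, hq.2.2 _ (t_WJi' a h hw), smul_inv_smul]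

theorem ti_QS' {q : Y} (hq : q ∈ QS V U (MulAut.conj t • H) H R) :
    t⁻¹ * q * t ∈ QS V U H (MulAut.conj t • H) R := by
  refine ⟨a.t_QQ' hq.1, fun w hw => ?_, fun w hw => ?_⟩
  · rw [mul_smul, mul_smul, hq.2.1 _ (a.smul_W hw), inv_smul_smul]
  · rw [mul_smul, mul_smul, hq.2.2 _ (t_WJ' a h hw), inv_smul_smul]

/-- a subgroup of `V` which is invariant under `R` and a member `≤ H` outside `M` -/
theorem Hinv {A : Subgroup Y} (hAH : A ≤ H) (hAM : ¬ A ≤ M) {W : AddSubgroup V} (h1 : Nm R W) (h2 : Nm A W) :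
    Nm H W := by
  have h3 := h1.sup h2
  rwa [a.gen hAH hAM] at h3

end amb

end Amal

end Cfsg.Agent.Omega.NO1.TH
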