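import Cfsg.Agent.Omega.NO1.TH.Basic
import Cfsg.Agent.Omega.NO1.Alpha.Trick

/-!
# N1-ONE: LEMMA E and its corollaries (bb OMEGA 20493, helper367), the TRICK for a pair (19134)

`lemE` : `U₂` normalises `E₁`, `F₂ ≤ E₁` ⟹ `E₁ = E₂`.
`cor1` : `U₁ ∩ U₂ ≠ 1`, `U₂ ≤ N(E₁)` ⟹ `E₁ = E₂`.
`cor2` : `1 ≠ b ∈ U ∩ Z(S)`, `U ≤ S` a 2-group ⟹ `S ≤ N(E_U)`.
`cor3` : `T` normalises all `E_U`, `U ≤ T`, and they are equal, or there is a COR 3 pair in `T`.
`trick` : `F_C ∩ E_A = 0` if `⟨A, C⟩ = Y` and `C_A(x) ≤ N(E_C)`, `C_C(x) ≤ N(E_A)` for the `x` in question.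
-/

set_option autoImplicit false
set_option linter.unusedSectionVars false

namespace Cfsg.Agent.Omega.NO1.TH

open Subgroup Cfsg.Agent.Omega.NO1.Alpha
open Cfsg.Agent.Omega.NO1.HE (dl dl_apply dl_eq_zero mem_conj)
open scoped Pointwise

universe u

variable {Y : Type u} [Group Y] {V : Type u} [AddCommGroup V] [DistribMulAction Y V]

theorem FX_smul (B : Subgroup Y) (g : Y) : FX V (MulAut.conj g • B) = g • FX V B := by
  ext v
  have h1 := smul_mem_FX (B := B) (g := g) (v := g⁻¹ • v)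
  rw [smul_inv_smul] at h1
  rw [AddSubgroup.mem_pointwise_smul_iff_inv_smul_mem]
  exact h1

theorem EX_smul (B : Subgroup Y) (g : Y) : EX V (MulAut.conj g • B) = g • EX V B := by
  ext v
  have h1 := smul_mem_EX (B := B) (g := g) (v := g⁻¹ • v)
  rw [smul_inv_smul] at h1
  rw [AddSubgroup.mem_pointwise_smul_iff_inv_smul_mem]
  exact h1

/-- `N_Y(E)` -/
abbrev NE (E : AddSubgroup V) : Subgroup Y := MulAction.stabilizer Y E

theorem mem_NE {E : AddSubgroup V} {y : Y} : y ∈ NE (Y := Y) E ↔ y • E = E := Iff.rfl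

theorem NE_smul {E : AddSubgroup V} {y : Y} (hy : y ∈ NE (Y := Y) E) {v : V} (hv : v ∈ E) : y • v ∈ E := by
  rw [← mem_NE.1 hy]
  exact AddSubgroup.smul_mem_pointwise_smul v y E hv

theorem mem_NE_of [Finite V] {E : AddSubgroup V} {y : Y} (hy : ∀ v ∈ E, y • v ∈ E) : y ∈ NE (Y := Y) E := by
  rw [mem_NE]
  have h1 : y • E ≤ E := by
    intro v hv
    rw [AddSubgroup.mem_pointwise_smul_iff_inv_smul_mem] at hv
    have := hy _ hv
    rwa [smul_inv_smul] at this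
  exact AB.eq_of_le_as h1 (AB.card_smul_as y E).ge

theorem NE_conj_smul {B : Subgroup Y} {y : Y} : y ∈ NE (Y := Y) (EX V B) ↔ EX V (MulAut.conj y • B) = EX V B := by
  rw [EX_smul]; exact Iff.rfl

theorem self_le_NE [Finite V] {B : Subgroup Y} : B ≤ NE (Y := Y) (EX V B) := by
  intro b hb
  apply mem_NE_of
  intro v hv
  exact smul_EX_of (le_normalizer hb) hv

theorem conj_mem_NE {E : AddSubgroup V} {g y : Y} : y ∈ NE (Y := Y) (g • E) ↔ g⁻¹ * y * g ∈ NE (Y := Y) E := by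
  rw [mem_NE, mem_NE, mul_smul, mul_smul, inv_smul_eq_iff]

/-- a subgroup of finite index -/
theorem eq_of_index [Finite V] {E E' : AddSubgroup V} (h : E ≤ E') (hi : E.index ≤ E'.index) : E = E' := by
  apply AB.eq_of_le_as h
  have h1 := E.index_mul_card
  have h2 := E'.index_mul_card
  have h3 : E'.index * Nat.card E' ≤ E'.index * Nat.card E := by
    rw [h2, ← h1]
    exact Nat.mul_le_mul_right _ hi
  exact Nat.le_of_mul_le_mul_left h3 (Nat.pos_of_ne_zero AddSubgroup.index_ne_zero_of_finite)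

/-- **LEMMA E** -/
theorem lemE [Finite V] {q : ℕ} {A B : Subgroup Y} (hA : Mem V q A) (hB : Mem V q B)
    (hn : B ≤ NE (Y := Y) (EX V A)) (hF : FX V B ≤ EX V A) : EX V A = EX V B := by
  by_cases h1 : EX V A ≤ EX V B
  · exact eq_of_index h1 (by rw [hA.ind, hB.ind])
  · obtain ⟨w, hwA, hwB⟩ := SetLike.not_le_iff_exists.1 h1
    symm
    refine eq_of_index ?_ (by rw [hA.ind, hB.ind])
    intro e he
    obtain ⟨b, hb, hbe⟩ := hB.surj w hwB e he
    have h2 : dl b w ∈ EX V A := by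
      rw [dl_apply]
      exact (EX V A).add_mem (NE_smul (hn hb) hwA) hwA
    have h3 := (EX V A).sub_mem (hF hbe) h2
    rwa [add_sub_cancel_left] at h3

/-- **COR 1** -/
theorem cor1 [Finite V] (h2 : ∀ v : V, v + v = 0) {q : ℕ} {A B : Subgroup Y} (hA : Mem V q A) (hB : Mem V q B)
    (hn : B ≤ NE (Y := Y) (EX V A)) {b : Y} (hbA : b ∈ A) (hbB : b ∈ B) (hb1 : b ≠ 1) : EX V A = EX V B :=
  lemE hA hB hn fun _ hf => hA.mem_of_fix h2 hbA hb1 (hf b hbB)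

/-- **COR 2** -/
theorem cor2 [Finite Y] [Finite V] {q : ℕ} {UU : Set (Subgroup Y)} (K : Cls V q UU) {B S : Subgroup Y} (hB : B ∈ UU)
    (hBS : B ≤ S) (hS : IsPGroup 2 S) {b : Y} (hb : b ∈ B) (hb1 : b ≠ 1) (hbS : ∀ s ∈ S, s * b = b * s) :
    S ≤ NE (Y := Y) (EX V B) := by
  by_contra hcon
  have h1 : S ⊓ NE (Y := Y) (EX V B) < S := lt_of_le_of_ne inf_le_left fun h2 => hcon (h2 ▸ inf_le_right)
  obtain ⟨t, ht, htn⟩ := SetLike.exists_of_lt (Amb.lt_norm hS h1)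
  apply htn
  refine ⟨ht.1, ?_⟩
  change t ∈ NE (Y := Y) (EX V B)
  rw [NE_conj_smul]
  symm
  apply cor1 K.two (K.mem B hB) (K.mem _ (K.conj B hB t)) _ hb _ hb1
  · intro y hy
    rw [mem_conj] at hy
    have h2 : t⁻¹ * y * t ∈ S ⊓ NE (Y := Y) (EX V B) := ⟨hBS hy, self_le_NE hy⟩
    have h3 := (mem_normalizer_iff.1 ht.2 _).1 h2
    have e : t * (t⁻¹ * y * t) * t⁻¹ = y := by group
    rw [e] at h3
    exact h3.2
  · rw [mem_conj]
    have h2 := hbS t ht.1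
    have e : t⁻¹ * b * t = t⁻¹ * (b * t) := by group
    rw [e, ← h2]
    have e' : t⁻¹ * (t * b) = b := by group
    rwa [e']

/-- A COR 3 pair. -/
structure Cor3 (V : Type u) [AddCommGroup V] [DistribMulAction Y V] (UU : Set (Subgroup Y)) (A B : Subgroup Y) :
    Prop where
  mA : A ∈ UU
  mB : B ∈ UU
  nA : A ≤ NE (Y := Y) (EX V B)
  nB : B ≤ NE (Y := Y) (EX V A)
  FA : ¬ FX V A ≤ EX V B
  FB : ¬ FX V B ≤ EX V A

/-- **COR 3** -/
theorem cor3 [Finite Y] [Finite V] {q : ℕ} {UU : Set (Subgroup Y)} (K : Cls V q UU) {T : Subgroup Y}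
    (hT : IsPGroup 2 T) (hno : ∀ A B : Subgroup Y, A ≤ T → B ≤ T → ¬ Cor3 V UU A B) {B : Subgroup Y} (hB : B ∈ UU)
    (hBT : B ≤ T) : T ≤ NE (Y := Y) (EX V B) := by
  by_contra hcon
  have h1 : T ⊓ NE (Y := Y) (EX V B) < T := lt_of_le_of_ne inf_le_left fun h2 => hcon (h2 ▸ inf_le_right)
  obtain ⟨t, ht, htn⟩ := SetLike.exists_of_lt (Amb.lt_norm hT h1)
  apply htn
  refine ⟨ht.1, ?_⟩
  change t ∈ NE (Y := Y) (EX V B)
  rw [NE_conj_smul]
  set C := MulAut.conj t • B with hC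
  have hCU : C ∈ UU := K.conj B hB t
  have hCT : C ≤ T := by
    intro y hy
    rw [hC, mem_conj] at hy
    have := T.mul_mem (T.mul_mem ht.1 (hBT hy)) (T.inv_mem ht.1)
    have e : t * (t⁻¹ * y * t) * t⁻¹ = y := by group
    rwa [e] at this
  have hCN : C ≤ NE (Y := Y) (EX V B) := by
    intro y hy
    rw [hC, mem_conj] at hy
    have h2 : t⁻¹ * y * t ∈ T ⊓ NE (Y := Y) (EX V B) := ⟨hBT hy, self_le_NE hy⟩
    have h3 := (mem_normalizer_iff.1 ht.2 _).1 h2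
    have e : t * (t⁻¹ * y * t) * t⁻¹ = y := by group
    rw [e] at h3
    exact h3.2
  have hBN : B ≤ NE (Y := Y) (EX V C) := by
    intro y hy
    rw [hC, EX_smul, conj_mem_NE]
    have h2 : y ∈ T ⊓ NE (Y := Y) (EX V B) := ⟨hBT hy, self_le_NE hy⟩
    have h3 := (mem_normalizer_iff.1 (inv_mem ht.2) _).1 h2
    rw [inv_inv] at h3
    exact h3.2
  by_contra hne
  refine hno B C hBT hCT ⟨hB, hCU, hBN, hCN, fun h2 => ?_, fun h2 => ?_⟩
  · exact hne (lemE (K.mem C hCU) (K.mem B hB) hBN h2)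
  · exact hne (lemE (K.mem B hB) (K.mem C hCU) hCN h2).symm

/-- all `E_U`, `U ≤ T`, are equal if there is no COR 3 pair in `T` -/
theorem cor3' [Finite Y] [Finite V] {q : ℕ} {UU : Set (Subgroup Y)} (K : Cls V q UU) {T : Subgroup Y}
    (hT : IsPGroup 2 T) (hno : ∀ A B : Subgroup Y, A ≤ T → B ≤ T → ¬ Cor3 V UU A B) {A B : Subgroup Y} (hA : A ∈ UU)
    (hB : B ∈ UU) (hAT : A ≤ T) (hBT : B ≤ T) : EX V A = EX V B := by
  have hBN : B ≤ NE (Y := Y) (EX V A) := hBT.trans (cor3 K hT hno hA hAT)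
  have hAN : A ≤ NE (Y := Y) (EX V B) := hAT.trans (cor3 K hT hno hB hBT)
  by_contra hne
  exact hno A B hAT hBT ⟨hA, hB, hAN, hBN, fun h2 => hne (lemE (K.mem B hB) (K.mem A hA) hAN h2).symm,
    fun h2 => hne (lemE (K.mem A hA) (K.mem B hB) hBN h2)⟩

/-- `s_x` fixes `x` -/
theorem fix_of_dl {q : ℕ} {A : Subgroup Y} (hA : Mem V q A) {s : Y} (hs : s ∈ A) {w x : V}
    (h : dl s w + x ∈ FX V A) : s • x = x := by
  have h3 := h s hs
  rw [dl_apply, smul_add, smul_add, ← mul_smul, hA.sq s hs, one_smul] at h3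
  have e1 : w + s • w + s • x = (s • w + w) + s • x := by abel
  rw [e1] at h3
  exact add_left_cancel h3

/-- the one-sided TRICK -/
theorem trick1 [Finite Y] [Finite V] {q : ℕ} {UU : Set (Subgroup Y)} (K : Cls V q UU) {A : Subgroup Y} (hA : A ∈ UU)
    {E' : AddSubgroup V} (hi : E'.index < 2 * q) {x : V} (hx : x ∈ EX V A) (hxF : x ∉ FX V A)
    (hst : ∀ a ∈ A, a • x = x → a ∈ NE (Y := Y) E') {b : Y} (hb : b ∈ A) : dl b x ∈ E' := by
  obtain ⟨A₁, hA₁, hc, h1, hq⟩ := K.sc A hA x hx hxF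
  refine tr K.two (K.mem A hA) hx hA₁ hc.ge h1 hq (fun s hs v hv => ?_) hi hb
  apply NE_smul _ hv
  apply hst s (hA₁ hs)
  by_cases hs1 : s = 1
  · rw [hs1, one_smul]
  · obtain ⟨w, _, hw⟩ := h1 s hs hs1
    exact fix_of_dl (K.mem A hA) (hA₁ hs) hw

/-- `q ≥ 1` -/
theorem index_lt [Finite V] {q : ℕ} {A : Subgroup Y} (hA : Mem V q A) : (EX V A).index < 2 * q := by
  rw [hA.ind]
  have : q ≠ 0 := by
    rw [← hA.ind]; exact AddSubgroup.index_ne_zero_of_finite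
  omega

/-- **the TRICK** -/
theorem trick [Finite Y] [Finite V] {q : ℕ} {UU : Set (Subgroup Y)} (K : Cls V q UU) {A C : Subgroup Y}
    (hA : A ∈ UU) (hC : C ∈ UU) (hgen : A ⊔ C = ⊤)
    (irr : ∀ W : AddSubgroup V, (∀ y : Y, ∀ w ∈ W, y • w ∈ W) → W = ⊥ ∨ ∀ B ∈ UU, ¬ W ≤ EX V B)
    (h1 : ∀ x ∈ FX V C, x ∈ EX V A → x ≠ 0 → ∀ a ∈ A, a • x = x → a ∈ NE (Y := Y) (EX V C))
    (h2 : ∀ x ∈ FX V A, x ∈ EX V C → x ≠ 0 → ∀ c ∈ C, c • x = x → c ∈ NE (Y := Y) (EX V A))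
    {x : V} (hx : x ∈ FX V C) (hxA : x ∈ EX V A) : x = 0 := by
  have hmA := K.mem A hA
  have hmC := K.mem C hC
  -- one side
  have key : ∀ A C : Subgroup Y, A ∈ UU → C ∈ UU →
      (∀ x ∈ FX V C, x ∈ EX V A → x ≠ 0 → ∀ a ∈ A, a • x = x → a ∈ NE (Y := Y) (EX V C)) →
      ∀ x ∈ FX V C, x ∈ EX V A → ∀ a ∈ A, dl a x ∈ FX V A ∧ dl a x ∈ EX V C := by
    intro A C hA hC h1 x hx hxA a ha
    refine ⟨hxA a ha, ?_⟩
    by_cases hxF : x ∈ FX V A
    · rw [(K.mem A hA).dl0 K.two ha hxF]; exact zero_mem _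
    · have hx0 : x ≠ 0 := fun h => hxF (h ▸ zero_mem _)
      exact trick1 K hA (index_lt (K.mem C hC)) hxA hxF (h1 x hx hxA hx0) ha
  let P : AddSubgroup V := (FX V C ⊓ EX V A) ⊔ (FX V A ⊓ EX V C)
  have hPA : ∀ a ∈ A, ∀ v ∈ P, a • v ∈ P := by
    intro a ha v hv
    obtain ⟨x, hx, y, hy, rfl⟩ := AddSubgroup.mem_sup.1 hv
    have e : a • (x + y) = x + (dl a x + y) := by
      rw [smul_add, hy.1 a ha, dl_apply]
      have e1 : x + (a • x + x + y) = (x + x) + (a • x + y) := by abel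
      rw [e1, K.two, zero_add]
    rw [e]
    exact P.add_mem (AddSubgroup.mem_sup_left hx)
      (P.add_mem (AddSubgroup.mem_sup_right (key A C hA hC h1 x hx.1 hx.2 a ha)) (AddSubgroup.mem_sup_right hy))
  have hPC : ∀ c ∈ C, ∀ v ∈ P, c • v ∈ P := by
    intro a ha v hv
    obtain ⟨x, hx, y, hy, rfl⟩ := AddSubgroup.mem_sup.1 hv
    have e : a • (x + y) = x + (dl a y + y) := by
      rw [smul_add, hx.1 a ha, dl_apply, add_assoc, K.two, add_zero]
    rw [e]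
    exact P.add_mem (AddSubgroup.mem_sup_left hx)
      (P.add_mem (AddSubgroup.mem_sup_left (key C A hC hA h2 y hy.1 hy.2 a ha)) (AddSubgroup.mem_sup_right hy))
  have hP : ∀ y : Y, ∀ v ∈ P, y • v ∈ P := by
    have h3 : A ⊔ C ≤ NE (Y := Y) P := sup_le (fun a ha => mem_NE_of (hPA a ha)) (fun c hc => mem_NE_of (hPC c hc))
    rw [hgen] at h3
    intro y v hv
    exact NE_smul (h3 (mem_top y)) hv
  have hPE : P ≤ EX V A := sup_le inf_le_right (inf_le_left.trans (hmA.FE K.two))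
  rcases irr P hP with h3 | h3
  · have h4 : x ∈ P := AddSubgroup.mem_sup_left ⟨hx, hxA⟩
    rw [h3] at h4
    exact h4
  · exact absurd hPE (h3 A hA)

end Cfsg.Agent.Omega.NO1.TH
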