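import Cfsg.Agent.Omega.NO1.AB.Loc

/-!
# Clifford over a 2-group (bb OMEGA 20114 (q5), helper620)

`O` normal in `L`, `L = O T`, `T` a 2-group, `V` elementary abelian.
* `eq_of_eqv` : an irreducible `L`-module `M` is multiplicity-free for `O`: two isomorphic simple `O`-submodules of `M` are
  equal.
* `index_le` : `N` a minimal `O`-invariant 2-subgroup, quadratic with `[V, N] ≤ M`, `[M, N] = 0`, `[V, O] ≤ M`, `M`
  irreducible for `L`: then `|V : C_V(N)| ≤ |N|` (an offender).
-/

set_option autoImplicit false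

namespace Cfsg.Agent.Omega.NO1.TH.MF

open scoped Pointwise

universe u

variable {L V : Type u} [Group L] [AddCommGroup V] [DistribMulAction L V]

/-- `A` is invariant under `O` -/
def Inv (O : Subgroup L) (A : AddSubgroup V) : Prop := ∀ o ∈ O, ∀ a ∈ A, o • a ∈ A

/-- `A` is a simple `O`-module -/
structure Simp (O : Subgroup L) (A : AddSubgroup V) : Prop where
  inv : Inv O A
  ne : A ≠ ⊥
  min : ∀ B ≤ A, Inv O B → B = ⊥ ∨ B = A

/-- the `O`-isomorphisms `A → B` -/
def Eqv (O : Subgroup L) (A B : AddSubgroup V) : Type _ :=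
  {e : A ≃+ B // ∀ o ∈ O, ∀ a a' : A, (a' : V) = o • (a : V) → (e a' : V) = o • (e a : V)}

variable {O : Subgroup L} {A B C : AddSubgroup V}

theorem Inv.sup (hA : Inv O A) (hB : Inv O B) : Inv O (A ⊔ B) := by
  intro o ho x hx
  obtain ⟨a, ha, b, hb, rfl⟩ := AddSubgroup.mem_sup.1 hx
  rw [smul_add]
  exact AddSubgroup.add_mem_sup (hA o ho a ha) (hB o ho b hb)

theorem Inv.inf (hA : Inv O A) (hB : Inv O B) : Inv O (A ⊓ B) := fun o ho x hx =>
  ⟨hA o ho x hx.1, hB o ho x hx.2⟩

theorem Inv.bot : Inv O (⊥ : AddSubgroup V) := by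
  intro o _ x hx
  rw [AddSubgroup.mem_bot] at hx ⊢
  rw [hx, smul_zero]

theorem Inv.fsup (Ω : Finset (AddSubgroup V)) (h : ∀ A ∈ Ω, Inv O A) : Inv O (Ω.sup id) := by
  classical
  induction Ω using Finset.induction_on with
  | empty => rw [Finset.sup_empty]; exact Inv.bot
  | insert A Ω _ ih =>
    rw [Finset.sup_insert, id]
    exact (h A (Finset.mem_insert_self _ _)).sup (ih fun B hB => h B (Finset.mem_insert_of_mem hB))

/-- the identity -/
def Eqv.refl (O : Subgroup L) (A : AddSubgroup V) : Eqv O A A := ⟨AddEquiv.refl A, fun _ _ _ _ h => h⟩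

/-- composition -/
def Eqv.trans (e : Eqv O A B) (f : Eqv O B C) : Eqv O A C :=
  ⟨e.1.trans f.1, fun o ho a a' h => f.2 o ho _ _ (e.2 o ho a a' h)⟩

/-- the inverse -/
def Eqv.symm (hA : Inv O A) (e : Eqv O A B) : Eqv O B A :=
  ⟨e.1.symm, fun o ho b b' h => by
    have h1 := e.2 o ho (e.1.symm b) ⟨o • (e.1.symm b : V), hA o ho _ (e.1.symm b).2⟩ rfl
    rw [AddEquiv.apply_symm_apply, ← h] at h1
    have h2 : e.1 ⟨o • (e.1.symm b : V), hA o ho _ (e.1.symm b).2⟩ = b' := Subtype.ext h1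
    rw [← h2, AddEquiv.symm_apply_apply]⟩

/-- the translation `A → t • A` -/
def sm (t : L) (A : AddSubgroup V) : A ≃+ (t • A : AddSubgroup V) where
  toFun a := ⟨t • (a : V), AddSubgroup.smul_mem_pointwise_smul _ _ _ a.2⟩
  invFun b := ⟨t⁻¹ • (b : V), AddSubgroup.mem_pointwise_smul_iff_inv_smul_mem.1 b.2⟩
  left_inv a := Subtype.ext (inv_smul_smul t (a : V))
  right_inv b := Subtype.ext (smul_inv_smul t (b : V))
  map_add' a b := Subtype.ext (smul_add t (a : V) b)

theorem conj_mem' [hO : O.Normal] (t : L) {o : L} (ho : o ∈ O) : t⁻¹ * o * t ∈ O := by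
  have := hO.conj_mem o ho t⁻¹
  rwa [inv_inv] at this

theorem Inv.smul [O.Normal] (t : L) (h : Inv O A) : Inv O (t • A) := by
  intro o ho a ha
  rw [AddSubgroup.mem_pointwise_smul_iff_inv_smul_mem] at ha ⊢
  have h1 := h _ (conj_mem' t ho) _ ha
  rwa [← mul_smul, mul_inv_cancel_right, mul_smul] at h1

/-- the translate of an isomorphism -/
def Eqv.smul [O.Normal] (t : L) (e : Eqv O A B) : Eqv O (t • A) (t • B) :=
  ⟨(sm t A).symm.trans (e.1.trans (sm t B)), fun o ho a a' h => by
    have h1 := e.2 _ (conj_mem' t ho) ((sm t A).symm a) ((sm t A).symm a') (by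
      change t⁻¹ • (a' : V) = (t⁻¹ * o * t) • t⁻¹ • (a : V)
      rw [← mul_smul, mul_inv_cancel_right, mul_smul, h])
    change t • (e.1 ((sm t A).symm a') : V) = o • t • (e.1 ((sm t A).symm a) : V)
    rw [h1, ← mul_smul, ← mul_smul]
    congr 1
    group⟩

theorem smul_eq_bot {t : L} (h : t • A = ⊥) : A = ⊥ := by
  rw [eq_bot_iff] at h ⊢
  intro a ha
  have h1 := h (AddSubgroup.smul_mem_pointwise_smul a t A ha)
  rw [AddSubgroup.mem_bot] at h1 ⊢
  exact (smul_eq_zero_iff_eq t).1 h1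

theorem Simp.smul [O.Normal] (t : L) (h : Simp O A) : Simp O (t • A) where
  inv := h.inv.smul t
  ne := fun h1 => h.ne (smul_eq_bot h1)
  min := fun B hB hi => by
    have h1 : t⁻¹ • B ≤ A := by
      rw [AddSubgroup.pointwise_smul_le_iff, inv_inv]; exact hB
    rcases h.min _ h1 (hi.smul t⁻¹) with h2 | h2
    · exact Or.inl (smul_eq_bot h2)
    · right
      rw [← h2, smul_inv_smul]

theorem Simp.of_eqv (hA : Simp O A) (e : Eqv O A B) : Simp O B where
  inv := fun o ho b hb => by
    have h1 := e.2 o ho (e.1.symm ⟨b, hb⟩) ⟨o • (e.1.symm ⟨b, hb⟩ : V), hA.inv o ho _ (e.1.symm ⟨b, hb⟩).2⟩ rfl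
    rw [AddEquiv.apply_symm_apply] at h1
    change _ = o • b at h1
    rw [← h1]
    exact SetLike.coe_mem _
  ne := fun h1 => hA.ne (by
    rw [eq_bot_iff]
    intro a ha
    have h2 : (e.1 ⟨a, ha⟩ : V) ∈ (⊥ : AddSubgroup V) := h1 ▸ (e.1 ⟨a, ha⟩).2
    rw [AddSubgroup.mem_bot] at h2
    have h3 : e.1 ⟨a, ha⟩ = 0 := Subtype.ext h2
    rw [EmbeddingLike.map_eq_zero_iff] at h3
    rw [AddSubgroup.mem_bot]
    exact congrArg Subtype.val h3)
  min := fun C hC hi => by
    let D : AddSubgroup V := (C.comap (B.subtype.comp e.1.toAddMonoidHom)).map A.subtype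
    have hD : ∀ a : A, (a : V) ∈ D ↔ (e.1 a : V) ∈ C := by
      intro a
      constructor
      · rintro ⟨a', h1, h2⟩
        have : a' = a := Subtype.ext h2
        rw [← this]
        exact h1
      · intro h1
        exact ⟨a, h1, rfl⟩
    have hDA : D ≤ A := by
      rintro _ ⟨a, _, rfl⟩
      exact a.2
    have hDi : Inv O D := by
      intro o ho d hd
      have h1 := hDA hd
      have h2 := (hD ⟨d, h1⟩).1 hd
      refine (hD ⟨o • d, hA.inv o ho d h1⟩).2 ?_
      rw [e.2 o ho ⟨d, h1⟩ _ rfl]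
      exact hi o ho _ h2
    rcases hA.min D hDA hDi with h1 | h1
    · left
      rw [eq_bot_iff]
      intro c hc
      have h2 : ((e.1.symm ⟨c, hC hc⟩ : A) : V) ∈ D := by
        rw [hD, AddEquiv.apply_symm_apply]; exact hc
      rw [h1, AddSubgroup.mem_bot] at h2
      have h3 : e.1.symm ⟨c, hC hc⟩ = 0 := Subtype.ext h2
      rw [EmbeddingLike.map_eq_zero_iff] at h3
      rw [AddSubgroup.mem_bot]
      exact congrArg Subtype.val h3
    · right
      apply le_antisymm hC
      intro b hb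
      have h2 : ((e.1.symm ⟨b, hb⟩ : A) : V) ∈ D := by
        rw [h1]; exact SetLike.coe_mem _
      rw [hD, AddEquiv.apply_symm_apply] at h2
      exact h2

/-- an equivariant map from a simple module -/
theorem exists_eqv (hA : Simp O A) (f : A →+ V)
    (hf : ∀ o ∈ O, ∀ a a' : A, (a' : V) = o • (a : V) → f a' = o • f a) (h0 : f ≠ 0) :
    ∃ e : Eqv O A f.range, ∀ a, (e.1 a : V) = f a := by
  have hinj : Function.Injective f := by
    rw [← AddMonoidHom.ker_eq_bot_iff]
    have hK : f.ker.map A.subtype ≤ A := by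
      rintro _ ⟨a, _, rfl⟩
      exact a.2
    rcases hA.min (f.ker.map A.subtype) hK (by
      rintro o ho _ ⟨a, ha, rfl⟩
      refine ⟨⟨o • (a : V), hA.inv o ho _ a.2⟩, ?_, rfl⟩
      change f _ = 0
      rw [hf o ho a _ rfl, show f a = 0 from ha, smul_zero]) with h1 | h1
    · rw [eq_bot_iff]
      intro a ha
      have h2 : (a : V) ∈ f.ker.map A.subtype := ⟨a, ha, rfl⟩
      rw [h1, AddSubgroup.mem_bot] at h2
      rw [AddSubgroup.mem_bot]
      exact Subtype.ext h2
    · exfalso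
      apply h0
      ext a
      have h2 : (a : V) ∈ f.ker.map A.subtype := by rw [h1]; exact a.2
      obtain ⟨a', ha', h3⟩ := h2
      have : a' = a := Subtype.ext h3
      rw [← this]
      exact ha'
  refine ⟨⟨AddMonoidHom.ofInjective hinj, fun o ho a a' h => ?_⟩, fun a => rfl⟩
  exact hf o ho a a' h

/-- a simple submodule of a sum of pairwise non-isomorphic simple submodules is one of them -/
theorem mem_of_le_sup (Ω : Finset (AddSubgroup V)) (hS : ∀ A ∈ Ω, Simp O A)
    (hn : ∀ A ∈ Ω, ∀ B ∈ Ω, Nonempty (Eqv O A B) → A = B) :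
    ∀ X : AddSubgroup V, Simp O X → X ≤ Ω.sup id → X ∈ Ω := by
  classical
  induction Ω using Finset.induction_on with
  | empty =>
    intro X hX h1
    rw [Finset.sup_empty] at h1
    exact absurd (le_bot_iff.1 h1) hX.ne
  | insert A Ω _ ih =>
    intro X hX hXs
    have hSA := hS A (Finset.mem_insert_self _ _)
    have hS' : ∀ B ∈ Ω, Simp O B := fun B hB => hS B (Finset.mem_insert_of_mem hB)
    have ih' := ih hS' (fun B hB C hC => hn B (Finset.mem_insert_of_mem hB) C (Finset.mem_insert_of_mem hC))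
    rw [Finset.sup_insert, id] at hXs
    set B := Ω.sup id with hB
    have hBi : Inv O B := Inv.fsup Ω fun C hC => (hS' C hC).inv
    by_cases hXB : X ⊓ B = ⊥
    · have hAB : A ⊓ B = ⊥ := by
        rcases hSA.min (A ⊓ B) inf_le_left (hSA.inv.inf hBi) with h1 | h1
        · exact h1
        · exfalso
          have h2 : A ≤ B := inf_eq_left.1 h1
          have h3 : X ≤ B := hXs.trans (sup_le h2 le_rfl)
          rw [inf_eq_left.2 h3] at hXB
          exact hX.ne hXB
      have hex : ∀ x : X, ∃ p : V × V, p.1 ∈ A ∧ p.2 ∈ B ∧ p.1 + p.2 = x := by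
        intro x
        obtain ⟨a, ha, b, hb, hab⟩ := AddSubgroup.mem_sup.1 (hXs x.2)
        exact ⟨(a, b), ha, hb, hab⟩
      choose p hp using hex
      have uniq : ∀ a ∈ A, ∀ b ∈ B, ∀ a' ∈ A, ∀ b' ∈ B, a + b = a' + b' → a = a' ∧ b = b' := by
        intro a ha b hb a' ha' b' hb' h1
        have h2 : a - a' = b' - b := by
          rw [sub_eq_sub_iff_add_eq_add, h1, add_comm]
        have h3 : a - a' ∈ A ⊓ B := ⟨A.sub_mem ha ha', h2 ▸ B.sub_mem hb' hb⟩
        rw [hAB, AddSubgroup.mem_bot] at h3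
        have h4 : a = a' := sub_eq_zero.1 h3
        refine ⟨h4, ?_⟩
        rw [h3] at h2
        exact (sub_eq_zero.1 h2.symm).symm
      have hadd : ∀ x y : X, (p (x + y)).1 = (p x).1 + (p y).1 ∧ (p (x + y)).2 = (p x).2 + (p y).2 := by
        intro x y
        apply uniq _ (hp _).1 _ (hp _).2.1 _ (A.add_mem (hp x).1 (hp y).1) _ (B.add_mem (hp x).2.1 (hp y).2.1)
        rw [(hp (x + y)).2.2, AddSubgroup.coe_add, ← (hp x).2.2, ← (hp y).2.2]
        exact add_add_add_comm _ _ _ _
      have hsm : ∀ o ∈ O, ∀ x y : X, (y : V) = o • (x : V) → (p y).1 = o • (p x).1 ∧ (p y).2 = o • (p x).2 := by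
        intro o ho x y hxy
        apply uniq _ (hp _).1 _ (hp _).2.1 _ (hSA.inv o ho _ (hp x).1) _ (hBi o ho _ (hp x).2.1)
        rw [(hp y).2.2, hxy, ← (hp x).2.2, smul_add]
      let fa : X →+ V := AddMonoidHom.mk' (fun x => (p x).1) fun x y => (hadd x y).1
      let fb : X →+ V := AddMonoidHom.mk' (fun x => (p x).2) fun x y => (hadd x y).2
      have hfa : ∀ x : X, fa x = (p x).1 := fun x => rfl
      have hfb : ∀ x : X, fb x = (p x).2 := fun x => rfl
      by_cases hb0 : fb = 0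
      · have hXA : X ≤ A := by
          intro x hx
          have h1 := (hp ⟨x, hx⟩).2.2
          have h2 : (p ⟨x, hx⟩).2 = 0 := by rw [← hfb, hb0]; rfl
          rw [h2, add_zero] at h1
          have h3 := (hp ⟨x, hx⟩).1
          rwa [h1] at h3
        rcases hSA.min X hXA hX.inv with h1 | h1
        · exact absurd h1 hX.ne
        · rw [h1]; exact Finset.mem_insert_self _ _
      · exfalso
        have ha0 : fa ≠ 0 := by
          intro ha0
          apply hX.ne
          rw [← hXB, eq_comm, inf_eq_left]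
          intro x hx
          have h1 := (hp ⟨x, hx⟩).2.2
          have h2 : (p ⟨x, hx⟩).1 = 0 := by rw [← hfa, ha0]; rfl
          rw [h2, zero_add] at h1
          have h3 := (hp ⟨x, hx⟩).2.1
          rwa [h1] at h3
        obtain ⟨ea, _⟩ := exists_eqv hX fa (fun o ho x y h => (hsm o ho x y h).1) ha0
        obtain ⟨eb, _⟩ := exists_eqv hX fb (fun o ho x y h => (hsm o ho x y h).2) hb0
        have hra : fa.range = A := by
          have h1 : fa.range ≤ A := by
            rintro _ ⟨x, rfl⟩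
            exact (hp x).1
          rcases hSA.min _ h1 (hX.of_eqv ea).inv with h2 | h2
          · exact absurd h2 (hX.of_eqv ea).ne
          · exact h2
        have hrb : fb.range ∈ Ω := by
          apply ih' _ (hX.of_eqv eb)
          rintro _ ⟨x, rfl⟩
          exact (hp x).2.1
        rw [hra] at ea
        have h1 := hn A (Finset.mem_insert_self _ _) _ (Finset.mem_insert_of_mem hrb)
          ⟨(ea.symm hX.inv).trans eb⟩
        have h2 : A ≤ B := by
          rw [h1]
          exact Finset.le_sup (f := id) hrb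
        rw [inf_eq_left.2 h2] at hAB
        exact hSA.ne hAB
    · have h1 : X ⊓ B = X := (hX.min (X ⊓ B) inf_le_left (hX.inv.inf hBi)).resolve_left hXB
      exact Finset.mem_insert_of_mem (ih' X hX (inf_eq_left.1 h1))

/-- the number of submodules of `M` isomorphic to `S` is odd -/
theorem odd_card [Finite V] (two : ∀ v : V, v + v = 0) {S M : AddSubgroup V} (hS : Simp O S) (hSM : S ≤ M) :
    Odd (Nat.card {B : AddSubgroup V // B ≤ M ∧ Nonempty (Eqv O S B)}) := by
  classical
  -- the homomorphisms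
  let H : AddSubgroup (S →+ V) :=
    { carrier := {f | (∀ o ∈ O, ∀ a a' : S, (a' : V) = o • (a : V) → f a' = o • f a) ∧ ∀ a, f a ∈ M}
      zero_mem' := ⟨fun o _ a a' _ => (smul_zero o).symm, fun a => zero_mem _⟩
      add_mem' := fun {f g} hf hg => ⟨fun o ho a a' h => by
        rw [AddMonoidHom.add_apply, AddMonoidHom.add_apply, smul_add, hf.1 o ho a a' h, hg.1 o ho a a' h],
        fun a => M.add_mem (hf.2 a) (hg.2 a)⟩
      neg_mem' := fun {f} hf => ⟨fun o ho a a' h => by
        rw [AddMonoidHom.neg_apply, AddMonoidHom.neg_apply, smul_neg, hf.1 o ho a a' h],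
        fun a => M.neg_mem (hf.2 a)⟩ }
  have hfin : Finite (S →+ V) := Finite.of_injective (fun f : S →+ V => (f : S → V)) DFunLike.coe_injective
  have h2 : ∀ f : H, f + f = 0 := fun f => Subtype.ext (AddMonoidHom.ext fun a => two _)
  have hev : 2 ∣ Nat.card H := by
    let f0 : H := ⟨S.subtype, fun o _ a a' h => h, fun a => hSM a.2⟩
    have hne : f0 ≠ 0 := by
      intro h
      apply hS.ne
      rw [eq_bot_iff]
      intro s hs
      have h1 : ((f0 : S →+ V) ⟨s, hs⟩ : V) = 0 := by rw [h]; rfl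
      rw [AddSubgroup.mem_bot]
      exact h1
    have h1 : addOrderOf f0 = 2 := by
      apply addOrderOf_eq_prime _ hne
      rw [two_nsmul]
      exact h2 f0
    rw [← h1]
    exact addOrderOf_dvd_natCard f0
  -- the count
  let c := {B : AddSubgroup V // B ≤ M ∧ Nonempty (Eqv O S B)}
  let E : (Σ B : c, Eqv O S B.1) → {f : H // f ≠ 0} := fun x =>
    ⟨⟨(x.1.1.subtype).comp x.2.1.toAddMonoidHom, fun o ho a a' h => x.2.2 o ho a a' h,
      fun a => x.1.2.1 (x.2.1 a).2⟩, fun h => hS.ne (by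
        rw [eq_bot_iff]
        intro s hs
        have h1 : (x.2.1 ⟨s, hs⟩ : V) = 0 := by
          have := congrArg (fun f : H => (f : S →+ V) ⟨s, hs⟩) h
          exact this
        have h3 : x.2.1 ⟨s, hs⟩ = 0 := Subtype.ext h1
        rw [EmbeddingLike.map_eq_zero_iff] at h3
        rw [AddSubgroup.mem_bot]
        exact congrArg Subtype.val h3)⟩
  have hE : Function.Bijective E := by
    constructor
    · rintro ⟨⟨B, hB⟩, e⟩ ⟨⟨B', hB'⟩, e'⟩ h
      have h1 : ∀ s : S, (e.1 s : V) = (e'.1 s : V) := by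
        intro s
        exact congrArg (fun f : {f : H // f ≠ 0} => ((f : H) : S →+ V) s) h
      have hBB : B = B' := by
        ext v
        constructor
        · intro hv
          have h3 := h1 (e.1.symm ⟨v, hv⟩)
          rw [AddEquiv.apply_symm_apply] at h3
          change v = _ at h3
          rw [h3]
          exact SetLike.coe_mem _
        · intro hv
          have h3 := h1 (e'.1.symm ⟨v, hv⟩)
          rw [AddEquiv.apply_symm_apply] at h3
          change _ = v at h3
          rw [← h3]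
          exact SetLike.coe_mem _
      subst hBB
      have : e = e' := by
        apply Subtype.ext
        ext s
        exact h1 s
      rw [this]
    · rintro ⟨⟨f, hf⟩, hf0⟩
      have hf0' : f ≠ 0 := fun h => hf0 (Subtype.ext h)
      obtain ⟨e, he⟩ := exists_eqv hS f hf.1 hf0'
      refine ⟨⟨⟨f.range, ?_, ⟨e⟩⟩, e⟩, ?_⟩
      · rintro _ ⟨a, rfl⟩
        exact hf.2 a
      · apply Subtype.ext
        apply Subtype.ext
        ext a
        exact he a
  have hcongr : ∀ B : c, Nat.card (Eqv O S B.1) = Nat.card (Eqv O S S) := by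
    rintro ⟨B, hB, ⟨e⟩⟩
    refine Nat.card_congr ⟨fun f => f.trans (e.symm hS.inv), fun f => f.trans e, fun f => ?_, fun f => ?_⟩
    · apply Subtype.ext
      ext s
      change (e.1 (e.1.symm (f.1 s)) : V) = _
      rw [AddEquiv.apply_symm_apply]
    · apply Subtype.ext
      ext s
      change (e.1.symm (e.1 (f.1 s)) : V) = _
      rw [AddEquiv.symm_apply_apply]
  have hfe : ∀ B : AddSubgroup V, Finite (Eqv O S B) := by
    intro B
    apply Finite.of_injective (fun e : Eqv O S B => ((e.1 : S ≃+ B) : S → B))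
    intro e e' h
    apply Subtype.ext
    ext s
    exact congrArg Subtype.val (congrFun h s)
  have hcard : Nat.card {f : H // f ≠ 0} = Nat.card c * Nat.card (Eqv O S S) := by
    rw [← Nat.card_congr (Equiv.ofBijective E hE)]
    have : Fintype c := Fintype.ofFinite c
    rw [Nat.card_sigma, Finset.sum_congr rfl fun B _ => hcongr B, Finset.sum_const, Finset.card_univ,
      Fintype.card_eq_nat_card, smul_eq_mul]
  have hcard2 : Nat.card H = Nat.card {f : H // f ≠ 0} + 1 := by
    have : Fintype H := Fintype.ofFinite H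
    rw [Nat.card_eq_fintype_card, Nat.card_eq_fintype_card, Fintype.card_subtype_compl, Fintype.card_subtype_eq]
    have := Fintype.card_pos (α := H)
    omega
  have hodd : Odd (Nat.card {f : H // f ≠ 0}) := by
    rw [← Nat.not_even_iff_odd, even_iff_two_dvd]
    omega
  rw [hcard] at hodd
  exact (Nat.odd_mul.1 hodd).1

/-- **Clifford over a 2-group**: an irreducible module of `O T` is multiplicity-free for `O`. -/
theorem eq_of_eqv [Finite V] (two : ∀ v : V, v + v = 0) [O.Normal] {T : Subgroup L} (hT : IsPGroup 2 T)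
    (hOT : O ⊔ T = ⊤) {M : AddSubgroup V} (hM : Inv (⊤ : Subgroup L) M)
    (irr : ∀ W ≤ M, Inv (⊤ : Subgroup L) W → W = ⊥ ∨ W = M)
    {S S' : AddSubgroup V} (hS : Simp O S) (hSM : S ≤ M) (hSM' : S' ≤ M) (e : Eqv O S S') : S = S' := by
  classical
  have : Fact (Nat.Prime 2) := ⟨Nat.prime_two⟩
  -- the stabiliser of the type
  let P : Subgroup T :=
    { carrier := {t | Nonempty (Eqv O S ((t : L) • S))}
      one_mem' := by
        refine ⟨?_⟩
        rw [Subgroup.coe_one, one_smul]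
        exact Eqv.refl O S
      mul_mem' := by
        rintro a b ⟨ea⟩ ⟨eb⟩
        refine ⟨?_⟩
        rw [Subgroup.coe_mul, mul_smul]
        exact ea.trans (eb.smul (a : L))
      inv_mem' := by
        rintro a ⟨ea⟩
        refine ⟨?_⟩
        have h1 := ea.smul (a⁻¹ : L)
        rw [inv_smul_smul] at h1
        exact h1.symm (hS.inv.smul _) }
  have hP : ∀ t : T, t ∈ P ↔ Nonempty (Eqv O S ((t : L) • S)) := fun t => Iff.rfl
  let c := {B : AddSubgroup V // B ≤ M ∧ Nonempty (Eqv O S B)}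
  have hsmM : ∀ (t : L) (B : AddSubgroup V), B ≤ M → t • B ≤ M := by
    rintro t B hB _ hx
    obtain ⟨b, hb, rfl⟩ := (AddSubgroup.mem_smul_pointwise_iff_exists _ _ _).1 hx
    exact hM t (Subgroup.mem_top t) b (hB hb)
  let act : MulAction P c :=
    { smul := fun t B => ⟨((t : T) : L) • B.1, hsmM _ _ B.2.1, by
        obtain ⟨eB⟩ := B.2.2
        obtain ⟨et⟩ := (hP _).1 t.2
        exact ⟨et.trans (eB.smul _)⟩⟩
      one_smul := fun B => Subtype.ext (one_smul L B.1)
      mul_smul := fun s t B => Subtype.ext (mul_smul ((s : T) : L) ((t : T) : L) B.1) }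
  have hfix : (MulAction.fixedPoints P c).Nonempty := by
    apply (hT.to_subgroup P).nonempty_fixed_point_of_prime_not_dvd_card
    have := odd_card (O := O) two hS hSM
    rw [← Nat.not_even_iff_odd, even_iff_two_dvd] at this
    exact this
  obtain ⟨⟨B, hBM, ⟨eB⟩⟩, hBfix⟩ := hfix
  have hfixB : ∀ t : T, t ∈ P → (t : L) • B = B := by
    intro t ht
    have h1 := hBfix ⟨t, ht⟩
    exact congrArg Subtype.val h1
  have hBs : Simp O B := hS.of_eqv eB
  -- the orbit
  have hfinT : (Set.range fun t : T => (t : L) • B).Finite := Set.toFinite _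
  let Ω : Finset (AddSubgroup V) := hfinT.toFinset
  have hΩ : ∀ X, X ∈ Ω ↔ ∃ t : T, (t : L) • B = X := by
    intro X
    rw [Set.Finite.mem_toFinset]
    exact Iff.rfl
  have hΩs : ∀ X ∈ Ω, Simp O X := by
    intro X hX
    obtain ⟨t, rfl⟩ := (hΩ X).1 hX
    exact hBs.smul _
  have hPB : ∀ t : T, Nonempty (Eqv O B ((t : L) • B)) → t ∈ P := by
    rintro t ⟨f⟩
    rw [hP]
    exact ⟨(eB.trans f).trans ((eB.symm hS.inv).smul _)⟩
  have hΩn : ∀ X ∈ Ω, ∀ X' ∈ Ω, Nonempty (Eqv O X X') → X = X' := by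
    intro X hX X' hX' hf
    obtain ⟨t, rfl⟩ := (hΩ X).1 hX
    obtain ⟨t', rfl⟩ := (hΩ X').1 hX'
    obtain ⟨f⟩ := hf
    have h1 : t⁻¹ * t' ∈ P := by
      apply hPB
      have h1 := f.smul ((t : L)⁻¹)
      rw [inv_smul_smul, ← mul_smul] at h1
      exact ⟨h1⟩
    have h2 := hfixB _ h1
    rw [Subgroup.coe_mul, Subgroup.coe_inv, mul_smul, inv_smul_eq_iff] at h2
    exact h2.symm
  -- the sum
  set W := Ω.sup id with hW
  have hWO : Inv O W := Inv.fsup Ω fun X hX => (hΩs X hX).inv
  have hWT : ∀ t ∈ T, ∀ w ∈ W, t • w ∈ W := by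
    intro t ht
    have h1 : W ≤ (t⁻¹ : L) • W := by
      rw [hW]
      apply Finset.sup_le
      intro X hX
      obtain ⟨s, rfl⟩ := (hΩ X).1 hX
      rw [id, AddSubgroup.le_pointwise_smul_iff, inv_inv, ← mul_smul]
      exact Finset.le_sup (f := id) ((hΩ _).2 ⟨⟨t, ht⟩ * s, rfl⟩)
    intro w hw
    have h2 := h1 hw
    rwa [AddSubgroup.mem_inv_pointwise_smul_iff] at h2
  have hWi : Inv (⊤ : Subgroup L) W := by
    intro l _ w hw
    have h1 : l ∈ O ⊔ T := hOT ▸ Subgroup.mem_top l
    obtain ⟨o, ho, t, ht, rfl⟩ := Subgroup.mem_sup_of_normal_left.1 h1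
    rw [mul_smul]
    exact hWO o ho _ (hWT t ht w hw)
  have hWM : W ≤ M := by
    rw [hW]
    apply Finset.sup_le
    intro X hX
    obtain ⟨s, rfl⟩ := (hΩ X).1 hX
    exact hsmM _ _ hBM
  have hBW : B ≤ W := by
    have : B ∈ Ω := (hΩ B).2 ⟨1, by rw [Subgroup.coe_one, one_smul]⟩
    exact Finset.le_sup (f := id) this
  have hWeq : W = M := by
    rcases irr W hWM hWi with h1 | h1
    · exfalso
      rw [h1, le_bot_iff] at hBW
      exact hBs.ne hBW
    · exact h1
  have key : ∀ X : AddSubgroup V, X ≤ M → Eqv O S X → X = B := by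
    intro X hX f
    have h1 : X ∈ Ω := mem_of_le_sup Ω hΩs hΩn X (hS.of_eqv f) (by rw [← hW, hWeq]; exact hX)
    obtain ⟨t, rfl⟩ := (hΩ X).1 h1
    exact hfixB t (hPB t ⟨(eB.symm hS.inv).trans f⟩)
  rw [key S hSM (Eqv.refl O S), key S' hSM' e]

/-! ### the offender -/

section off

variable {M : AddSubgroup V} {N : Subgroup L}

theorem add_self_add (two : ∀ v : V, v + v = 0) (a m : V) : a + m + m = a := by
  rw [add_assoc, two, add_zero]

/-- `o [n, v] = [n^o, v]` -/
theorem equi (two : ∀ v : V, v + v = 0) (hNO : ∀ o ∈ O, ∀ n ∈ N, o * n * o⁻¹ ∈ N)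
    (hMN : ∀ n ∈ N, ∀ m ∈ M, n • m = m) (hVO : ∀ o ∈ O, ∀ v : V, o • v + v ∈ M) {o n : L} (ho : o ∈ O) (hn : n ∈ N)
    (v : V) : o • (n • v + v) = (o * n * o⁻¹) • v + v := by
  have h1 := hVO o ho v
  have h2 := hMN _ (hNO o ho n hn) _ h1
  have h3 : v = o • v + (o • v + v) := by
    rw [← add_assoc, two, zero_add]
  have h4 : (o * n * o⁻¹) • v = (o * n * o⁻¹) • (o • v) + (o • v + v) := by
    conv_lhs => rw [h3]
    rw [smul_add, h2]
  rw [h4, smul_add, ← mul_smul, ← mul_smul, inv_mul_cancel_right, add_assoc, add_assoc, two, add_zero]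

theorem comp (hVN : ∀ n ∈ N, ∀ v : V, n • v + v ∈ M) (hMN : ∀ n ∈ N, ∀ m ∈ M, n • m = m)
    (two : ∀ v : V, v + v = 0) {n n' : L} (hn : n ∈ N) (hn' : n' ∈ N) (v : V) :
    (n * n') • v + v = n • v + v + (n' • v + v) := by
  have h1 := hMN n hn _ (hVN n' hn' v)
  rw [smul_add, ← mul_smul] at h1
  have h2 : (n * n') • v = n' • v + v + n • v := by
    rw [← h1, add_self_add two]
  rw [h2]
  abel

theorem inv_eq (hVN : ∀ n ∈ N, ∀ v : V, n • v + v ∈ M) (hMN : ∀ n ∈ N, ∀ m ∈ M, n • m = m)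
    {n : L} (hn : n ∈ N) (v : V) : n⁻¹ • v + v = n • v + v := by
  have h1 := hMN n⁻¹ (N.inv_mem hn) _ (hVN n hn v)
  rw [smul_add, inv_smul_smul] at h1
  rw [← h1, add_comm]

/-- **(q5)** a minimal `O`-invariant quadratic subgroup is an offender. -/
theorem index_le [Finite V] [Finite L] (two : ∀ v : V, v + v = 0) [O.Normal] {T : Subgroup L} (hT : IsPGroup 2 T)
    (hOT : O ⊔ T = ⊤) (hM : Inv (⊤ : Subgroup L) M)
    (irr : ∀ W ≤ M, Inv (⊤ : Subgroup L) W → W = ⊥ ∨ W = M)
    (hNne : N ≠ ⊥) (hNO : ∀ o ∈ O, ∀ n ∈ N, o * n * o⁻¹ ∈ N)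
    (hNmin : ∀ N' ≤ N, (∀ o ∈ O, ∀ n ∈ N', o * n * o⁻¹ ∈ N') → N' = ⊥ ∨ N' = N)
    (hVN : ∀ n ∈ N, ∀ v : V, n • v + v ∈ M) (hMN : ∀ n ∈ N, ∀ m ∈ M, n • m = m)
    (hVO : ∀ o ∈ O, ∀ v : V, o • v + v ∈ M) : (AB.fx V N).index ≤ Nat.card N := by
  classical
  have heq := fun {o n : L} (ho : o ∈ O) (hn : n ∈ N) v => equi two hNO hMN hVO ho hn v
  have hcomp := fun {n n' : L} (hn : n ∈ N) (hn' : n' ∈ N) v => comp hVN hMN two hn hn' v
  have hinv := fun {n : L} (hn : n ∈ N) v => inv_eq hVN hMN hn v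
  have add0 : ∀ {a b : V}, a + b = 0 → a = b := by
    intro a b h
    have h1 : a + b + b = 0 + b := by rw [h]
    rwa [add_self_add two, zero_add] at h1
  -- the kernels
  have hK : ∀ v : V, N ⊓ MulAction.stabilizer L v = ⊥ ∨ N ⊓ MulAction.stabilizer L v = N := by
    intro v
    apply hNmin _ inf_le_left
    rintro o ho n ⟨hn, hnv⟩
    refine ⟨hNO o ho n hn, ?_⟩
    have hnv' : n • v = v := hnv
    have h1 := heq ho hn v
    rw [hnv', two, smul_zero] at h1
    exact add0 h1.symm
  have hKN : ∀ v : V, N ⊓ MulAction.stabilizer L v = N → v ∈ AB.fx V N := by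
    intro v h n hn
    rw [← h] at hn
    exact hn.2
  obtain ⟨n₀, hn₀, hn₀1⟩ : ∃ n ∈ N, n ≠ 1 := by
    by_contra hcon
    push Not at hcon
    apply hNne
    rw [eq_bot_iff]
    intro n hn
    exact hcon n hn
  by_cases hall : ∀ v : V, N ⊓ MulAction.stabilizer L v = N
  · have h1 : AB.fx V N = ⊤ := by
      rw [eq_top_iff]
      intro v _
      exact hKN v (hall v)
    rw [h1, AddSubgroup.index_top]
    exact Nat.card_pos
  push Not at hall
  obtain ⟨v₀, hv₀⟩ := hall
  have hv₀' := (hK v₀).resolve_right hv₀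
  -- the images
  let S : V → AddSubgroup V := fun v =>
    { carrier := {x | ∃ n ∈ N, x = n • v + v}
      zero_mem' := ⟨1, N.one_mem, by rw [one_smul, two]⟩
      add_mem' := by
        rintro _ _ ⟨n, hn, rfl⟩ ⟨n', hn', rfl⟩
        exact ⟨n * n', N.mul_mem hn hn', (hcomp hn hn' v).symm⟩
      neg_mem' := by
        rintro _ ⟨n, hn, rfl⟩
        exact ⟨n, hn, by rw [neg_eq_iff_add_eq_zero, two]⟩ }
  have hSM : ∀ v, S v ≤ M := by
    rintro v _ ⟨n, hn, rfl⟩
    exact hVN n hn v
  let g : ∀ v, N → S v := fun v n => ⟨(n : L) • v + v, n, n.2, rfl⟩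
  have hg : ∀ v, N ⊓ MulAction.stabilizer L v = ⊥ → Function.Bijective (g v) := by
    intro v hv
    constructor
    · intro n n' h
      have h1 : (n : L) • v + v = (n' : L) • v + v := congrArg Subtype.val h
      have h2 := add_right_cancel h1
      have h3 : (n' : L)⁻¹ * n ∈ N ⊓ MulAction.stabilizer L v := by
        refine ⟨N.mul_mem (N.inv_mem n'.2) n.2, ?_⟩
        change ((n' : L)⁻¹ * n) • v = v
        rw [mul_smul, h2, inv_smul_smul]
      rw [hv, Subgroup.mem_bot, inv_mul_eq_one] at h3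
      exact Subtype.ext h3.symm
    · rintro ⟨_, n, hn, rfl⟩
      exact ⟨⟨n, hn⟩, rfl⟩
  have hgmul : ∀ v n n', g v (n * n') = g v n + g v n' := fun v n n' => Subtype.ext (hcomp n.2 n'.2 v)
  have hsimp : ∀ v, N ⊓ MulAction.stabilizer L v = ⊥ → Simp O (S v) := by
    intro v hv
    refine ⟨?_, ?_, ?_⟩
    · rintro o ho _ ⟨n, hn, rfl⟩
      exact ⟨_, hNO o ho n hn, heq ho hn v⟩
    · intro h
      have h1 : n₀ • v + v ∈ S v := ⟨n₀, hn₀, rfl⟩
      rw [h, AddSubgroup.mem_bot] at h1
      have h2 : n₀ ∈ N ⊓ MulAction.stabilizer L v := ⟨hn₀, add0 h1⟩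
      rw [hv, Subgroup.mem_bot] at h2
      exact hn₀1 h2
    · intro B hB hBi
      let N' : Subgroup L :=
        { carrier := {n | n ∈ N ∧ n • v + v ∈ B}
          one_mem' := ⟨N.one_mem, by rw [one_smul, two]; exact zero_mem _⟩
          mul_mem' := by
            rintro n n' ⟨hn, h1⟩ ⟨hn', h2⟩
            refine ⟨N.mul_mem hn hn', ?_⟩
            rw [hcomp hn hn']
            exact B.add_mem h1 h2
          inv_mem' := by
            rintro n ⟨hn, h1⟩
            refine ⟨N.inv_mem hn, ?_⟩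
            rw [hinv hn]
            exact h1 }
      have hN' : ∀ n, n ∈ N' ↔ n ∈ N ∧ n • v + v ∈ B := fun n => Iff.rfl
      rcases hNmin N' (fun n hn => hn.1) (by
        rintro o ho n ⟨hn, h1⟩
        refine ⟨hNO o ho n hn, ?_⟩
        rw [← heq ho hn]
        exact hBi o ho _ h1) with h1 | h1
      · left
        rw [eq_bot_iff]
        intro x hx
        obtain ⟨n, hn, rfl⟩ := hB hx
        have h2 : n ∈ N' := ⟨hn, hx⟩
        rw [h1, Subgroup.mem_bot] at h2
        rw [h2, one_smul, two]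
        exact zero_mem _
      · right
        apply le_antisymm hB
        rintro _ ⟨n, hn, rfl⟩
        have h2 : n ∈ N' := by rw [h1]; exact hn
        exact h2.2
  have heqv : ∀ v w, N ⊓ MulAction.stabilizer L v = ⊥ → N ⊓ MulAction.stabilizer L w = ⊥ →
      Nonempty (Eqv O (S v) (S w)) := by
    intro v w hv hw
    let gv := Equiv.ofBijective (g v) (hg v hv)
    let gw := Equiv.ofBijective (g w) (hg w hw)
    have hgv : ∀ n, gv n = g v n := fun n => rfl
    have hgw : ∀ n, gw n = g w n := fun n => rfl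
    refine ⟨⟨{ gv.symm.trans gw with map_add' := ?_ }, ?_⟩⟩
    · intro x y
      change gw (gv.symm (x + y)) = gw (gv.symm x) + gw (gv.symm y)
      have h1 : gv.symm (x + y) = gv.symm x * gv.symm y := by
        rw [Equiv.symm_apply_eq, hgv, hgmul, ← hgv, ← hgv, Equiv.apply_symm_apply, Equiv.apply_symm_apply]
      rw [h1, hgw, hgmul]
      rfl
    · intro o ho x y hxy
      change (gw (gv.symm y) : V) = o • (gw (gv.symm x) : V)
      obtain ⟨n, rfl⟩ := gv.surjective x
      have h1 : y = gv ⟨o * n * o⁻¹, hNO o ho n n.2⟩ := by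
        apply Subtype.ext
        rw [hxy]
        exact heq ho n.2 v
      rw [h1, Equiv.symm_apply_apply, Equiv.symm_apply_apply]
      exact (heq ho n.2 w).symm
  have hSeq : ∀ v, N ⊓ MulAction.stabilizer L v = ⊥ → S v = S v₀ := by
    intro v hv
    obtain ⟨e⟩ := heqv v v₀ hv hv₀'
    exact eq_of_eqv two hT hOT hM irr (hsimp v hv) (hSM v) (hSM v₀) e
  -- the map
  let φ : V →+ V := AddMonoidHom.mk' (fun v => n₀ • v + v) (fun v w => by rw [smul_add]; abel)
  have hφ : ∀ v, φ v = n₀ • v + v := fun v => rfl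
  have hker : φ.ker = AB.fx V N := by
    ext v
    constructor
    · intro hv
      have h1 : n₀ • v + v = 0 := hv
      have h2 : n₀ ∈ N ⊓ MulAction.stabilizer L v := ⟨hn₀, add0 h1⟩
      apply hKN
      refine (hK v).resolve_left fun h3 => ?_
      rw [h3, Subgroup.mem_bot] at h2
      exact hn₀1 h2
    · intro hv
      change n₀ • v + v = 0
      rw [hv n₀ hn₀, two]
  have hran : φ.range ≤ S v₀ := by
    rintro _ ⟨v, rfl⟩
    rw [hφ]
    rcases hK v with h | h
    · rw [← hSeq v h]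
      exact ⟨n₀, hn₀, rfl⟩
    · rw [hKN v h n₀ hn₀, two]
      exact zero_mem _
  rw [← hker, AddSubgroup.index_ker]
  have h1 : Nat.card φ.range ≤ Nat.card (S v₀) := Nat.card_le_card_of_injective _ (AddSubgroup.inclusion_injective hran)
  exact h1.trans (Nat.card_congr (Equiv.ofBijective _ (hg v₀ hv₀'))).ge

end off

end Cfsg.Agent.Omega.NO1.TH.MF
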