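import Cfsg.Agent.Omega.NO1.WRF.NoOvQ
import Cfsg.Agent.Omega.NO1.TH.MultFree

/-!
# No over-offender in the noncentral sections of a module (additive form)

`noOvV` : `T` a Sylow 2-subgroup of `L` in a unique maximal subgroup, `A ≤ K ≤ C` in `V`, `A`, `C` invariant under `L`,
`C/A` noncentral for `O²(L)`, `E` an elementary abelian 2-subgroup with `[K, E] ≤ A`, `E ∩ O₂(L) = 1`: then
`|E| |K| ≤ |C|`.  (Semidirect product with `NoOvQ.noOvQ`.)
-/

set_option autoImplicit false
set_option linter.unusedSectionVars false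

namespace Cfsg.Agent.Omega.NO1.TH

open Subgroup Cfsg.Agent.ZN
open Cfsg.Agent.MinSimple.MinParabolic (IsMin IsMinPar)
open Cfsg.Agent.Omega.NO1.TH.MF (Inv)
open scoped Pointwise

universe u

/-- `O²(L)` -/
def od (L : Type u) [Group L] : Subgroup L := closure {x | Odd (orderOf x)}

section od

variable {L : Type u} [Group L]

theorem mem_od {x : L} (h : Odd (orderOf x)) : x ∈ od L := subset_closure h

instance od_normal : (od L).Normal := by
  refine ⟨fun n hn g => ?_⟩
  have h1 : (od L).map (MulAut.conj g).toMonoidHom ≤ od L := by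
    rw [od, MonoidHom.map_closure, closure_le]
    rintro _ ⟨y, hy, rfl⟩
    apply mem_od
    have : orderOf ((MulAut.conj g).toMonoidHom y) = orderOf y :=
      orderOf_injective _ (MulAut.conj g).injective y
    rw [this]
    exact hy
  exact h1 ⟨n, hn, rfl⟩

/-- `O²(L) T = L` -/
theorem od_sup [Finite L] (T : Sylow 2 L) : od L ⊔ (T : Subgroup L) = ⊤ := by
  have f2 : Fact (Nat.Prime 2) := ⟨Nat.prime_two⟩
  have h2 : IsPGroup 2 (L ⧸ od L) := by
    intro x
    induction x using QuotientGroup.induction_on with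
    | H x =>
      -- `x ^ (2 ^ k)` has odd order
      have hpos : 0 < orderOf x := orderOf_pos x
      obtain ⟨k, m, hm, hkm⟩ := Nat.exists_eq_two_pow_mul_odd hpos.ne'
      refine ⟨k, ?_⟩
      rw [← QuotientGroup.mk_pow, QuotientGroup.eq_one_iff]
      apply mem_od
      have h3 : orderOf (x ^ 2 ^ k) = m := by
        rw [orderOf_pow_of_dvd (by positivity) (by rw [hkm]; exact Dvd.intro _ rfl), hkm,
          Nat.mul_div_cancel_left _ (by positivity)]
      rw [h3]
      exact hm
  have h3 : (od L ⊔ (T : Subgroup L)).index = 1 := by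
    have h4 : (od L ⊔ (T : Subgroup L)).index ∣ (T : Subgroup L).index := index_dvd_of_le le_sup_right
    have h5 : (od L ⊔ (T : Subgroup L)).index ∣ (od L).index := index_dvd_of_le le_sup_left
    obtain ⟨n, hn⟩ := IsPGroup.iff_card.1 h2
    rw [← index_eq_card] at hn
    rw [hn] at h5
    obtain ⟨j, hj, hj2⟩ := (Nat.dvd_prime_pow Nat.prime_two).1 h5
    have h6 : ¬ 2 ∣ (T : Subgroup L).index := T.not_dvd_index
    by_cases hj0 : j = 0
    · rw [hj2, hj0, pow_zero]
    · exfalso
      apply h6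
      rw [hj2] at h4
      exact (dvd_pow_self 2 hj0).trans h4
  exact index_eq_one.1 h3

end od

theorem rel_card {G : Type u} [Group G] {H K : Subgroup G} (h : H ≤ K) :
    H.relIndex K * Nat.card H = Nat.card K := by
  have h1 := (H.subgroupOf K).card_mul_index
  rw [Nat.card_congr (subgroupOfEquivOfLe h).toEquiv] at h1
  rw [mul_comm]
  exact h1

/-- `O₂` of the image of an injective homomorphism -/
theorem o2_range_le {L G : Type u} [Group L] [Group G] [Finite G] {f : L →* G} (hf : Function.Injective f) :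
    o2 f.range ≤ (pCore 2 L).map f := by
  have f2 : Fact (Nat.Prime 2) := ⟨Nat.prime_two⟩
  have hn : ((o2 f.range).comap f).Normal := by
    refine ⟨fun n hn g => ?_⟩
    obtain ⟨y, hy, hy2⟩ := hn
    have hpn : (pCore 2 f.range).Normal := Lib.Cores.pCore_normal 2
    refine ⟨⟨f g, g, rfl⟩ * y * ⟨f g, g, rfl⟩⁻¹, hpn.conj_mem y hy _, ?_⟩
    change f g * (y : G) * (f g)⁻¹ = f (g * n * g⁻¹)
    rw [show (y : G) = f n from hy2, map_mul, map_mul, map_inv]
  have hp : IsPGroup 2 ((o2 f.range).comap f) :=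
    ((Lib.Cores.pCore_isPGroup (G := f.range) 2).map f.range.subtype).comap_of_injective _ hf
  have h3 : (o2 f.range).comap f ≤ pCore 2 L := Lib.Cores.le_pCore hn hp
  rintro _ ⟨y, hy, rfl⟩
  obtain ⟨l, hl⟩ := y.2
  refine ⟨l, h3 ?_, hl⟩
  rw [mem_comap, hl]
  exact ⟨y, hy, rfl⟩

theorem syl_map {L G : Type u} [Group L] [Group G] {f : L →* G} (hf : Function.Injective f) (T : Sylow 2 L) :
    ChoiceSit.Syl ((T : Subgroup L).map f) f.range := by
  refine ⟨map_le_range _ _, T.2.map _, fun Q hQX hQ2 hTQ => ?_⟩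
  have h1 : Q = (Q.comap f).map f := (map_comap_eq_self hQX).symm
  have h2 : (T : Subgroup L) ≤ Q.comap f := map_le_iff_le_comap.1 hTQ
  have h3 : IsPGroup 2 (Q.comap f) := hQ2.comap_of_injective _ hf
  rw [h1, T.3 h3 h2]

theorem par_map {L G : Type u} [Group L] [Group G] {f : L →* G} (hf : Function.Injective f) {T M : Subgroup L}
    (hTn : ¬ T.Normal) (hM : IsMin T M) : IsMinPar (T.map f) f.range := by
  refine ⟨map_le_range _ _, fun h => hTn ?_, M.map f, ?_, fun K hTK hKX => ?_⟩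
  · refine ⟨fun n hn g => ?_⟩
    have h1 := (mem_normalizer_iff.1 (h (MonoidHom.mem_range.2 ⟨g, rfl⟩)) (f n)).1 (mem_map_of_mem f hn)
    rw [← map_mul, ← map_inv, ← map_mul] at h1
    obtain ⟨m, hm, hm2⟩ := h1
    rw [← hf hm2]
    exact hm
  · refine lt_of_le_of_ne (map_le_range _ _) fun h => hM.ne_top ?_
    rw [eq_top_iff]
    intro l _
    have h1 : f l ∈ M.map f := by rw [h]; exact ⟨l, rfl⟩
    obtain ⟨m, hm, hm2⟩ := h1
    rw [← hf hm2]
    exact hm
  · have h1 : K = (K.comap f).map f := (map_comap_eq_self hKX.le).symm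
    have h2 : T ≤ K.comap f := map_le_iff_le_comap.1 hTK
    rw [h1]
    apply map_mono
    apply hM.le_of _ h2
    intro h3
    apply hKX.ne
    rw [h1, h3, MonoidHom.range_eq_map]

theorem od_map {L G : Type u} [Group L] [Group G] {f : L →* G} (hf : Function.Injective f) {x : L} (hx : x ∈ od L) :
    f x ∈ MinSimple.VModule.oddGen f.range := by
  have h1 : (od L).map f ≤ MinSimple.VModule.oddGen f.range := by
    rw [od, MonoidHom.map_closure, closure_le]
    rintro _ ⟨y, hy, rfl⟩
    refine MinSimple.VModule.mem_oddGen (P := f.range) (MonoidHom.mem_range.2 ⟨y, rfl⟩) ?_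
    rw [orderOf_injective _ hf]
    exact hy
  exact h1 ⟨x, hx, rfl⟩

section sd

variable {L V : Type u} [Group L] [AddCommGroup V] [DistribMulAction L V]

/-- the action on `Multiplicative V` -/
def phi (L V : Type u) [Group L] [AddCommGroup V] [DistribMulAction L V] : L →* MulAut (Multiplicative V) where
  toFun l :=
    { toFun := fun v => Multiplicative.ofAdd (l • Multiplicative.toAdd v)
      invFun := fun v => Multiplicative.ofAdd (l⁻¹ • Multiplicative.toAdd v)
      left_inv := fun v => inv_smul_smul l (Multiplicative.toAdd v)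
      right_inv := fun v => smul_inv_smul l (Multiplicative.toAdd v)
      map_mul' := fun v w => smul_add l (Multiplicative.toAdd v) (Multiplicative.toAdd w) }
  map_one' := MulEquiv.ext fun v => one_smul L (Multiplicative.toAdd v)
  map_mul' g h := MulEquiv.ext fun v => mul_smul g h (Multiplicative.toAdd v)

/-- `V ⋊ L` -/
abbrev SD (L V : Type u) [Group L] [AddCommGroup V] [DistribMulAction L V] : Type u :=
  Multiplicative V ⋊[phi L V] L

instance [Finite L] [Finite V] : Finite (SD L V) :=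
  have : Finite (Multiplicative V) := inferInstanceAs (Finite V)
  Finite.of_equiv _ SemidirectProduct.equivProd.symm

/-- `V → V ⋊ L` -/
def iv (v : V) : SD L V := SemidirectProduct.inl (Multiplicative.ofAdd v)

/-- `L → V ⋊ L` -/
def il : L →* SD L V := SemidirectProduct.inr

theorem il_inj : Function.Injective (il : L →* SD L V) := SemidirectProduct.inr_injective

theorem iv_inj {v w : V} (h : (iv v : SD L V) = iv w) : v = w :=
  Multiplicative.ofAdd.injective (SemidirectProduct.inl_injective (φ := phi L V) h)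

theorem iv_add (v w : V) : (iv (v + w) : SD L V) = iv v * iv w := by
  rw [iv, ofAdd_add, map_mul]; rfl

theorem iv_zero : (iv (0 : V) : SD L V) = 1 := by
  rw [iv, ofAdd_zero, map_one]

theorem iv_inv (v : V) : (iv v : SD L V)⁻¹ = iv (-v) := by
  rw [iv, iv, ofAdd_neg, map_inv]

theorem conj_iv (l : L) (v : V) : il l * (iv v : SD L V) * (il l)⁻¹ = iv (l • v) := by
  have := SemidirectProduct.inl_aut (φ := phi L V) l (Multiplicative.ofAdd v)
  rw [map_inv] at this
  exact this.symm

/-- a submodule in `V ⋊ L` -/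
def em (L : Type u) [Group L] [DistribMulAction L V] (A : AddSubgroup V) : Subgroup (SD L V) where
  carrier := {x | ∃ a ∈ A, x = iv a}
  one_mem' := ⟨0, A.zero_mem, iv_zero.symm⟩
  mul_mem' := by
    rintro _ _ ⟨a, ha, rfl⟩ ⟨b, hb, rfl⟩
    exact ⟨a + b, A.add_mem ha hb, (iv_add a b).symm⟩
  inv_mem' := by
    rintro _ ⟨a, ha, rfl⟩
    exact ⟨-a, A.neg_mem ha, iv_inv a⟩

theorem mem_em {A : AddSubgroup V} {v : V} : (iv v : SD L V) ∈ em L A ↔ v ∈ A := by
  constructor
  · rintro ⟨a, ha, h⟩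
    rw [iv_inj h]; exact ha
  · intro h
    exact ⟨v, h, rfl⟩

theorem card_em (A : AddSubgroup V) : Nat.card (em L A) = Nat.card A := by
  symm
  apply Nat.card_congr
  refine Equiv.ofBijective (fun a : A => (⟨iv (a : V), a, a.2, rfl⟩ : em L A)) ⟨?_, ?_⟩
  · intro a b h
    exact Subtype.ext (iv_inj (congrArg Subtype.val h))
  · rintro ⟨_, a, ha, rfl⟩
    exact ⟨⟨a, ha⟩, rfl⟩

theorem em_mono {A B : AddSubgroup V} (h : A ≤ B) : em L A ≤ em L B := by
  rintro _ ⟨a, ha, rfl⟩
  exact ⟨a, h ha, rfl⟩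

end sd

section main

variable {L V : Type u} [Group L] [AddCommGroup V] [DistribMulAction L V]

/-- **No over-offender in the noncentral sections of `V`.** -/
theorem noOvV [Finite L] [Finite V] (two : ∀ v : V, v + v = 0) (T : Sylow 2 L) {M : Subgroup L}
    (hM : IsMin (T : Subgroup L) M) {A K C : AddSubgroup V} (hAK : A ≤ K) (hKC : K ≤ C)
    (hA : Inv (⊤ : Subgroup L) A) (hC : Inv (⊤ : Subgroup L) C) (hnt : ∃ c ∈ C, ∃ x ∈ od L, x • c + c ∉ A)
    {E : Subgroup L} (hE2 : IsPGroup 2 E) (hEc : ∀ a ∈ E, ∀ b ∈ E, a * b = b * a) (hEs : ∀ a ∈ E, a * a = 1)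
    (hEQ : E ⊓ pCore 2 L = ⊥) (hKE : ∀ b ∈ K, ∀ e ∈ E, e • b + b ∈ A) : Nat.card E * Nat.card K ≤ Nat.card C := by
  classical
  have f2 : Fact (Nat.Prime 2) := ⟨Nat.prime_two⟩
  have hneg : ∀ v : V, -v = v := fun v => by rw [neg_eq_iff_add_eq_zero, two]
  have hilv : ∀ (l : L) (v : V), il l * (iv v : SD L V) * (il l)⁻¹ = iv (l • v) := conj_iv
  by_cases hTn : (T : Subgroup L).Normal
  · -- `E = 1`
    have h1 : E = ⊥ := by
      rw [← hEQ, eq_comm, inf_eq_left]
      obtain ⟨Q, hQ⟩ := hE2.exists_le_sylow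
      obtain ⟨g, hg⟩ := MulAction.exists_smul_eq L T Q
      have h2 : (T : Subgroup L) ≤ pCore 2 L := Lib.Cores.le_pCore hTn T.2
      refine le_trans ?_ h2
      intro e he
      have h3 := hQ he
      rw [← hg, Sylow.coe_subgroup_smul, mem_pointwise_smul_iff_inv_smul_mem, MulAut.smul_def, ← map_inv,
        MulAut.conj_apply, inv_inv] at h3
      have h4 := hTn.conj_mem _ h3 g
      have e1 : g * (g⁻¹ * e * g) * g⁻¹ = e := by group
      rwa [e1] at h4
    rw [h1, Subgroup.card_bot, one_mul]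
    exact Nat.card_le_card_of_injective _ (AddSubgroup.inclusion_injective hKC)
  -- the groups
  set X : Subgroup (SD L V) := (il : L →* SD L V).range with hX
  have hmemX : ∀ l : L, (il l : SD L V) ∈ X := fun l => ⟨l, rfl⟩
  have hmapX : ∀ H : Subgroup L, H.map il ≤ X := fun H => map_le_range _ _
  have hTS : ChoiceSit.Syl ((T : Subgroup L).map il) X := syl_map il_inj T
  have hpar : IsMinPar ((T : Subgroup L).map il) X := par_map il_inj hTn hM
  have hnorm : ∀ B : AddSubgroup V, Inv (⊤ : Subgroup L) B → X ≤ normalizer (em L B : Set (SD L V)) := by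
    intro B hB
    have key : ∀ l : L, ∀ x ∈ em L B, il l * x * (il l)⁻¹ ∈ em L B := by
      rintro l _ ⟨b, hb, rfl⟩
      rw [hilv]
      exact ⟨_, hB l (mem_top l) b hb, rfl⟩
    rintro _ ⟨l, rfl⟩
    rw [mem_normalizer_iff]
    intro x
    refine ⟨key l x, fun hx => ?_⟩
    have := key l⁻¹ _ hx
    rw [map_inv] at this
    have e : (il l : SD L V)⁻¹ * (il l * x * (il l)⁻¹) * (il l : SD L V)⁻¹⁻¹ = x := by group
    rwa [e] at this
  have hod : ∀ x ∈ od L, (il x : SD L V) ∈ MinSimple.VModule.oddGen X := fun x hx => od_map il_inj hx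
  have hcm : ∀ (v : V) (l : L), (iv v : SD L V) * il l * (iv v)⁻¹ * (il l)⁻¹ = iv (l • v + v) := by
    intro v l
    have h1 : (iv v : SD L V) * il l * (iv v)⁻¹ * (il l)⁻¹ = iv v * (il l * (iv v)⁻¹ * (il l)⁻¹) := by group
    rw [h1, iv_inv, hneg, hilv, ← iv_add, add_comm]
  have hcmV : ∀ x ∈ em L (⊤ : AddSubgroup V), ∀ y ∈ em L (⊤ : AddSubgroup V), x * y = y * x := by
    rintro _ ⟨a, _, rfl⟩ _ ⟨b, _, rfl⟩
    rw [← iv_add, ← iv_add, add_comm]
  have main := WRF.NoOvQ.noOvQ (W := em L (⊤ : AddSubgroup V)) (A := em L A) (K := em L K) (C := em L C)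
    (E := E.map il) hTS hpar hcmV (by
      rintro _ ⟨a, _, rfl⟩
      rw [← iv_add, two, iv_zero]) (em_mono hAK) (em_mono hKC) (em_mono le_top) (hnorm A hA) (hnorm C hC) (by
      obtain ⟨c, hc, x, hx, h⟩ := hnt
      refine ⟨iv c, mem_em.2 hc, il x, hod x hx, fun h1 => h ?_⟩
      rw [hcm] at h1
      exact mem_em.1 h1) (hmapX _) (hE2.map _) (by
      rintro _ ⟨s, hs, rfl⟩ _ ⟨t, ht, rfl⟩ _ ⟨v, hv, rfl⟩
      rw [hilv, hilv, hilv, hilv, ← mul_smul, ← mul_smul, hEc s hs t ht]) (by
      rintro _ ⟨s, hs, rfl⟩ _ ⟨v, hv, rfl⟩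
      rw [hilv, hilv, ← mul_smul, hEs s hs, one_smul]) (by
      rintro _ ⟨b, hb, rfl⟩ _ ⟨e, he, rfl⟩
      rw [hcm]
      exact mem_em.2 (hKE b hb e he))
  have ho2 : o2 X ⊓ E.map il = ⊥ := by
    rw [eq_bot_iff]
    rintro _ ⟨h1, e, he, rfl⟩
    have h2 : o2 X ≤ (pCore 2 L).map il := o2_range_le il_inj
    obtain ⟨q, hq, hq2⟩ := h2 h1
    have h4 : e ∈ E ⊓ pCore 2 L := ⟨he, by rw [← il_inj hq2]; exact hq⟩
    rw [hEQ, mem_bot] at h4
    rw [mem_bot, h4, map_one]
  have h1 : (o2 X).relIndex (E.map il) = Nat.card E := by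
    rw [← inf_relIndex_right, ho2, relIndex_bot_left]
    exact (Nat.card_congr (E.equivMapOfInjective _ il_inj).toEquiv).symm
  rw [h1] at main
  have h2 := rel_card (em_mono (L := L) hKC)
  rw [card_em, card_em] at h2
  rw [← h2]
  exact Nat.mul_le_mul_right _ main

end main

end Cfsg.Agent.Omega.NO1.TH
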