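import Cfsg.Agent.Omega.NO1.TH.SocN

/-!
# N1, one component: SOC (5) (lines) for the frames `Fr S P M F` (bb OMEGA 22088, helper183)

* `soc5_of` : for every member `B` and `0 ≠ w ∈ F_B` there is `x ∉ F_B` such that for all `v ∉ E_B` some
  `s ∈ B ∩ O₂(C_Y(w))` has `[v, s] ∈ x + F_B`.
-/

set_option autoImplicit false
set_option linter.unusedSectionVars false

namespace Cfsg.Agent.Omega.NO1.TH

open Subgroup Cfsg Cfsg.Agent.ZN Cfsg.Agent.Omega.MinPar Cfsg.Agent.Omega.Frame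
open Cfsg.Agent.Omega.NO1.AB
open Cfsg.Agent.Omega.NOne.Flat (Hyp NN)
open Cfsg.Agent.Omega.NO1.WRF.Irr
open Cfsg.Agent.Omega.NO1.HE (dl dl_apply dl_mul dl_eq_zero)
open Cfsg.Agent.Omega.NOne.NearFF (c c_def)
open scoped Pointwise

universe u

section

variable {G : Type u} [Group G] [Finite G] {S : Sylow 2 G} {P M F : Subgroup G} (h : Fr S P M F)
variable {Y V : Type u} [Group Y] [AddCommGroup V] [DistribMulAction Y V] {T : Sylow 2 Y}
  {Mx : Subgroup Y} (R : Rep (S : Subgroup G) P (V1 S P) Y V T Mx)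

local notation "VV" => zl (S : Subgroup G) M
local notation "WF" => NOne.Flat.WW (zl (S : Subgroup G) M) F

/-- the image of `O₂(C_G(w))` in `O₂(C_Y(w))` -/
theorem im_o2_le [Finite Y] (w : V) :
    R.im (o2 (centralizer ({R.el w} : Set G))) ≤ o2 (MulAction.stabilizer Y w) := by
  have hst : ∀ (a : G) (ha : a ∈ P), R.ac ⟨a, ha⟩ ∈ MulAction.stabilizer Y w ↔
      a ∈ centralizer ({R.el w} : Set G) := by
    intro a ha
    rw [MulAction.mem_stabilizer_iff, mem_centralizer_singleton_iff]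
    constructor
    · intro h1
      have h2 := R.smul ⟨a, ha⟩ w
      rw [h1] at h2
      have h3 : R.el w = a * R.el w * a⁻¹ := h2
      calc a * R.el w = (a * R.el w * a⁻¹) * a := by group
        _ = R.el w * a := by rw [← h3]
    · intro h1
      apply R.inj
      rw [R.smul]
      change a * R.el w * a⁻¹ = R.el w
      rw [h1, mul_inv_cancel_right]
  refine ZN.le_o2 ?_ (R.im_isPGroup (MinSimple.VModule.o2_isPGroup _)) ?_
  · intro y hy
    obtain ⟨a, hP, ha, rfl⟩ := R.mem_im.1 hy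
    exact (hst a hP).2 (ZN.o2_le _ ha)
  · intro y hy
    obtain ⟨⟨a, hP⟩, rfl⟩ := R.acs y
    exact ac_mem_normalizer R hP (ZN.le_normalizer_o2 _ ((hst a hP).1 hy))

include h

/-- the core of `soc5_of` -/
theorem soc5_core {w : V} (hw0 : w ≠ 0) (hwB : w ∈ fx V (R.im WF)) :
    ∃ x : V, x ∉ fx V (R.im WF) ∧ ∀ v : V, v ∉ Ee V (R.im WF) → ∃ s ∈ R.im WF,
      s ∈ o2 (MulAction.stabilizer Y w) ∧ s • v + v + x ∈ fx V (R.im WF) := by
  have := R.finite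
  have := R.finiteY
  have H := h.hyp
  have hWP := W_le_P h
  have hu1 : R.el w ≠ 1 := fun h1 => hw0 (R.el_eq_one.1 h1)
  have huV : R.el w ∈ VV := V1_le_VV h (R.mem w)
  have huF : R.el w ∈ F := by
    rw [fx_im h R] at hwB
    exact hwB.2
  obtain ⟨U, hU, hUQ, -, -⟩ := H.exists_qu_elem huF hu1 (Alpha.hc_elem h _ huV hu1)
  obtain ⟨e, he, heF⟩ : ∃ e ∈ NOne.Flat.EE VV (zpowers (R.el w)), e ∉ F := by
    by_contra hcon
    push Not at hcon
    have h1 := hU.two_le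
    have h2 : F.relIndex (NOne.Flat.EE VV (zpowers (R.el w))) = 1 := relIndex_eq_one.2 hcon
    omega
  have heV : e ∈ VV := he.1
  have hesq : e * e = 1 := by
    have := H.sq e heV
    rwa [pow_two] at this
  obtain ⟨v₀, hv₀, hv₀E⟩ := exists_w1 h
  obtain ⟨m₀, rfl⟩ := R.surj v₀ hv₀
  obtain ⟨s₀, hs₀, h₀⟩ := hU.surj (R.el m₀) (V1_le_VV h hv₀) hv₀E e (mem_sup_left he)
  have hs₀P : s₀ ∈ P := hWP (hU.le_W hs₀)
  refine ⟨dl (R.ac ⟨s₀, hs₀P⟩) m₀, ?_, ?_⟩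
  · rw [fx_im h R]
    intro h1
    have h2 : R.el (dl (R.ac ⟨s₀, hs₀P⟩) m₀) ∈ F := h1.2
    rw [el_dl] at h2
    apply heF
    have h3 := F.mul_mem (F.inv_mem h2) h₀
    rw [inv_mul_cancel_left] at h3
    simpa using F.inv_mem h3
  · intro v hv
    obtain ⟨s, hs, h1⟩ := hU.surj (R.el v) (V1_le_VV h (R.mem v))
      (fun h2 => hv ((Ee_im h R).ge ⟨R.mem v, h2⟩)) e (mem_sup_left he)
    have hsP : s ∈ P := hWP (hU.le_W hs)
    refine ⟨R.ac ⟨s, hsP⟩, R.mem_im.2 ⟨s, hsP, hU.le_W hs, rfl⟩,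
      im_o2_le R w (R.mem_im.2 ⟨s, hsP, hUQ hs, rfl⟩), ?_⟩
    change dl (R.ac ⟨s, hsP⟩) v + dl (R.ac ⟨s₀, hs₀P⟩) m₀ ∈ fx V (R.im WF)
    rw [fx_im h R]
    refine ⟨R.mem _, ?_⟩
    change R.el (dl (R.ac ⟨s, hsP⟩) v + dl (R.ac ⟨s₀, hs₀P⟩) m₀) ∈ F
    rw [R.add, el_dl, el_dl]
    -- `c v s = f e`, `c v₀ s₀ = f₀ e`
    have hc0 : c (R.el m₀) s₀ ∈ VV := by
      have h2 := R.mem (dl (R.ac ⟨s₀, hs₀P⟩) m₀)
      rw [el_dl] at h2
      exact V1_le_VV h h2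
    have h2 := F.mul_mem h1 h₀
    have hcomm : e * c (R.el m₀) s₀ = c (R.el m₀) s₀ * e := mem_centralizer_iff.1 (H.comm hc0) e heV
    have hei : e⁻¹ = e := inv_eq_of_mul_eq_one_right hesq
    have e1 : c (R.el v) s * e⁻¹ * (c (R.el m₀) s₀ * e⁻¹) = c (R.el v) s * c (R.el m₀) s₀ := by
      rw [hei, mul_assoc, ← mul_assoc e, hcomm, mul_assoc (c (R.el m₀) s₀), hesq, mul_one]
    rwa [e1] at h2

/-- **SOC (5)** -/
theorem soc5_of : ∀ B ∈ mb M F R, ∀ w : V, w ≠ 0 → w ∈ fx V B → ∃ x : V, x ∉ fx V B ∧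
    ∀ v : V, v ∉ Ee V B → ∃ s ∈ B, s ∈ o2 (MulAction.stabilizer Y w) ∧ s • v + v + x ∈ fx V B := by
  rintro _ ⟨y, rfl⟩ w hw0 hwB
  obtain ⟨x, hx, hall⟩ := soc5_core h R (w := y⁻¹ • w) (fun h1 => hw0 ((smul_eq_zero_iff_eq y⁻¹).1 h1))
    (mem_fx_conj.1 hwB)
  refine ⟨y • x, fun h1 => hx ?_, fun v hv => ?_⟩
  · rw [mem_fx_conj, inv_smul_smul] at h1
    exact h1
  · obtain ⟨s, hs, hso, h1⟩ := hall (y⁻¹ • v) (fun h2 => hv (mem_Ee_conj.2 h2))
    refine ⟨y * s * y⁻¹, AB.conj_mem_conj hs, ?_, ?_⟩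
    · have h2 : MulAut.conj y • o2 (MulAction.stabilizer Y (y⁻¹ • w)) = o2 (MulAction.stabilizer Y w) := by
        rw [NOne.Flat.o2_conj]
        congr 1
        ext z
        rw [AB.mem_conj, MulAction.mem_stabilizer_iff, MulAction.mem_stabilizer_iff, mul_smul, mul_smul,
          smul_inv_smul]
        constructor
        · intro h3
          exact smul_left_cancel _ h3
        · intro h3
          rw [h3]
      rw [← h2]
      exact AB.conj_mem_conj hso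
    · rw [mem_fx_conj]
      have e : y⁻¹ • ((y * s * y⁻¹) • v + v + y • x) = s • y⁻¹ • v + y⁻¹ • v + x := by
        rw [smul_add, smul_add, inv_smul_smul, mul_smul, mul_smul, inv_smul_smul]
      rw [e]
      exact h1

end

end Cfsg.Agent.Omega.NO1.TH
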