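import Cfsg.Agent.Omega.NO1.TH.OfFr
import Cfsg.Agent.Omega.NO1.TH.HHSoc

/-!
# N1, one component: (SOC-N) for the frames `Fr S P M F` (bb OMEGA 21281, helper301)

`R : Rep S P (V1 S P) Y V T Mx`.  `Q_u = O₂(C_G(u))` normalises every maximal bad `F' ≥ ⟨u⟩` and `W_F'`, and
`[V, Q_u] ≤ V ∩ Q_u ≤ E_F'` (970's `Flat.QC`, `Flat.QU`); so the image of the group `U ≤ Q_u ∩ W_F` of (QU)
normalises the member of `F'` and centralises `V / E_F'`.

* `socN_of : SocN V (mb M F R)`.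
-/

set_option autoImplicit false
set_option linter.unusedSectionVars false

namespace Cfsg.Agent.Omega.NO1.TH

open Subgroup Cfsg Cfsg.Agent.ZN Cfsg.Agent.Omega.MinPar Cfsg.Agent.Omega.Frame
open Cfsg.Agent.Omega.NO1.AB
open Cfsg.Agent.Omega.NOne.Flat (Hyp NN)
open Cfsg.Agent.Omega.NO1.WRF.Irr
open Cfsg.Agent.Omega.NO1.HE (dl dl_apply dl_mul dl_eq_zero)
open Cfsg.Agent.Omega.NOne.NearFF (c c_def)
open scoped Pointwise

universe u

section

variable {G : Type u} [Group G] [Finite G] {S : Sylow 2 G} {P M F : Subgroup G} (h : Fr S P M F)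
variable {Y V : Type u} [Group Y] [AddCommGroup V] [DistribMulAction Y V] {T : Sylow 2 Y}
  {Mx : Subgroup Y} (R : Rep (S : Subgroup G) P (V1 S P) Y V T Mx)

local notation "VV" => zl (S : Subgroup G) M
local notation "EF" => NOne.Flat.EE (zl (S : Subgroup G) M) F
local notation "WF" => NOne.Flat.WW (zl (S : Subgroup G) M) F

theorem im_mono {A B : Subgroup G} (hAB : A ≤ B) : R.im A ≤ R.im B := by
  intro y hy
  obtain ⟨a, hP, ha, rfl⟩ := R.mem_im.1 hy
  exact R.mem_im.2 ⟨a, hP, hAB ha, rfl⟩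

/-- the image of the normaliser normalises the image -/
theorem ac_mem_normalizer {X : Subgroup G} {s : G} (hs : s ∈ P) (hn : s ∈ normalizer (X : Set G)) :
    R.ac ⟨s, hs⟩ ∈ normalizer (R.im X : Set Y) := by
  have key : ∀ (s : G) (hs : s ∈ P), s ∈ normalizer (X : Set G) → ∀ y ∈ R.im X,
      R.ac ⟨s, hs⟩ * y * (R.ac ⟨s, hs⟩)⁻¹ ∈ R.im X := by
    intro s hs hn y hy
    obtain ⟨a, hP, ha, rfl⟩ := R.mem_im.1 hy
    refine R.mem_im.2 ⟨s * a * s⁻¹, P.mul_mem (P.mul_mem hs hP) (P.inv_mem hs),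
      (mem_normalizer_iff.1 hn a).1 ha, ?_⟩
    rw [← map_inv, ← map_mul, ← map_mul]
    rfl
  rw [mem_normalizer_iff]
  intro y
  refine ⟨key s hs hn y, fun h1 => ?_⟩
  have h2 := key s⁻¹ (P.inv_mem hs) (inv_mem hn) _ h1
  have e1 : R.ac ⟨s⁻¹, P.inv_mem hs⟩ = (R.ac ⟨s, hs⟩)⁻¹ := by rw [← map_inv]; rfl
  rw [e1] at h2
  have e2 : (R.ac ⟨s, hs⟩)⁻¹ * (R.ac ⟨s, hs⟩ * y * (R.ac ⟨s, hs⟩)⁻¹) * (R.ac ⟨s, hs⟩)⁻¹⁻¹ = y := by group
  rwa [e2] at h2

/-- images of conjugates -/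
theorem im_conj {X : Subgroup G} (p : P) : MulAut.conj (R.ac p) • R.im X = R.im (MulAut.conj (p : G) • X) := by
  ext y
  rw [AB.mem_conj]
  constructor
  · intro hy
    obtain ⟨a, hP, ha, hay⟩ := R.mem_im.1 hy
    refine R.mem_im.2 ⟨(p : G) * a * (p : G)⁻¹, P.mul_mem (P.mul_mem p.2 hP) (P.inv_mem p.2),
      AB.conj_mem_conj ha, ?_⟩
    have e1 : R.ac ⟨(p : G) * a * (p : G)⁻¹, P.mul_mem (P.mul_mem p.2 hP) (P.inv_mem p.2)⟩ =
        R.ac p * R.ac ⟨a, hP⟩ * (R.ac p)⁻¹ := by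
      rw [← map_inv, ← map_mul, ← map_mul]
      rfl
    rw [e1, hay]
    group
  · intro hy
    obtain ⟨a, hP, ha, rfl⟩ := R.mem_im.1 hy
    rw [AB.mem_conj] at ha
    refine R.mem_im.2 ⟨(p : G)⁻¹ * a * p, P.mul_mem (P.mul_mem (P.inv_mem p.2) hP) p.2, ha, ?_⟩
    rw [← map_inv, ← map_mul, ← map_mul]
    rfl

include h

theorem P_norm_VV : P ≤ normalizer (VV : Set G) :=
  h.inv.PM.trans (MinSimple.VModule.le_normalizer_zl (S : Subgroup G) M)

/-- (SOC-N) for the member `R.im W_F` and a conjugate -/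
theorem socN_core (p : P) {w : V} (hw0 : w ≠ 0) (hwB : w ∈ fx V (R.im WF))
    (hwA : w ∈ fx V (MulAut.conj (R.ac p) • R.im WF)) :
    ∃ X : Subgroup Y, X ≤ R.im WF ∧ (Ee V (R.im WF)).index ≤ Nat.card X ∧
      X ≤ normalizer ((MulAut.conj (R.ac p) • R.im WF : Subgroup Y) : Set Y) ∧
      ∀ s ∈ X, ∀ v : V, s • v + v ∈ Ee V (MulAut.conj (R.ac p) • R.im WF) := by
  have := R.finite
  have := R.finiteY
  have H := h.hyp
  have hWP := W_le_P h
  have hpV : (p : G) ∈ normalizer (VV : Set G) := P_norm_VV h p.2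
  have H' := H.conj hpV
  have hu1 : R.el w ≠ 1 := fun h1 => hw0 (R.el_eq_one.1 h1)
  have huV : R.el w ∈ VV := V1_le_VV h (R.mem w)
  have huF : R.el w ∈ F := by
    rw [fx_im h R] at hwB
    exact hwB.2
  have huF' : R.el w ∈ MulAut.conj (p : G) • F := by
    rw [mem_fx_conj, fx_im h R] at hwA
    have h1 : R.el ((R.ac p)⁻¹ • w) ∈ F := hwA.2
    rw [← map_inv, R.smul] at h1
    rw [AB.mem_conj]
    simpa using h1
  obtain ⟨U, hU, -, -, -⟩ := H.exists_qu_elem huF hu1 (Alpha.hc_elem h _ huV hu1)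
  have hD : zpowers (R.el w) ≠ ⊥ := by rwa [Ne, zpowers_eq_bot]
  have hUP : U ≤ P := hU.le_W.trans hWP
  refine ⟨R.im U, im_mono R hU.le_W, ?_, ?_, ?_⟩
  · -- `|S| ≥ |V : E|`
    obtain ⟨x, hx, hxF⟩ : ∃ x ∈ NOne.Flat.EE VV (zpowers (R.el w)), x ∉ F := by
      by_contra hcon
      push Not at hcon
      have h1 := hU.two_le
      have h2 : F.relIndex (NOne.Flat.EE VV (zpowers (R.el w))) = 1 := relIndex_eq_one.2 hcon
      omega
    have hxV : x ∈ VV := hx.1
    have hsel : ∀ v : V, v ∉ Ee V (R.im WF) → ∃ s : G, ∃ hs : s ∈ U, c (R.el v) s * x⁻¹ ∈ F := by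
      intro v hv
      rw [Ee_im h R] at hv
      obtain ⟨s, hs, h1⟩ := hU.surj (R.el v) (V1_le_VV h (R.mem v)) (fun h2 => hv ⟨R.mem v, h2⟩) x
        (mem_sup_left hx)
      exact ⟨s, hs, h1⟩
    choose! sel hselU hselF using hsel
    classical
    let f : V ⧸ Ee V (R.im WF) → R.im U := fun q =>
      if hq : q.out ∈ Ee V (R.im WF) then 1
      else ⟨R.ac ⟨sel q.out, hUP (hselU _ hq)⟩, R.mem_im.2 ⟨_, _, hselU _ hq, rfl⟩⟩
    have hfinj : Function.Injective f := by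
      have htriv : ∀ (v : V) (hv : v ∉ Ee V (R.im WF)), R.ac ⟨sel v, hUP (hselU _ hv)⟩ ≠ 1 := by
        intro v hv h1
        rw [R.ac_eq_one] at h1
        apply hxF
        have h2 : c (R.el v) (sel v) = 1 := by
          rw [c_def, mem_centralizer_iff.1 h1 _ (R.mem v)]; group
        have h3 := hselF v hv
        rw [h2, one_mul] at h3
        simpa using F.inv_mem h3
      intro q q' hqq
      by_cases hq : q.out ∈ Ee V (R.im WF) <;> by_cases hq' : q'.out ∈ Ee V (R.im WF)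
      · have e1 : q = 0 := by
          rw [← QuotientAddGroup.out_eq' q]
          exact (QuotientAddGroup.eq_zero_iff _).2 hq
        have e2 : q' = 0 := by
          rw [← QuotientAddGroup.out_eq' q']
          exact (QuotientAddGroup.eq_zero_iff _).2 hq'
        rw [e1, e2]
      · exfalso
        have h1 : f q = 1 := dif_pos hq
        have h2 : f q' = ⟨R.ac ⟨sel q'.out, hUP (hselU _ hq')⟩, R.mem_im.2 ⟨_, _, hselU _ hq', rfl⟩⟩ := dif_neg hq'
        rw [h1, h2] at hqq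
        exact htriv _ hq' (congrArg Subtype.val hqq).symm
      · exfalso
        have h1 : f q' = 1 := dif_pos hq'
        have h2 : f q = ⟨R.ac ⟨sel q.out, hUP (hselU _ hq)⟩, R.mem_im.2 ⟨_, _, hselU _ hq, rfl⟩⟩ := dif_neg hq
        rw [h1, h2] at hqq
        exact htriv _ hq (congrArg Subtype.val hqq)
      · have h1 : f q' = ⟨R.ac ⟨sel q'.out, hUP (hselU _ hq')⟩, R.mem_im.2 ⟨_, _, hselU _ hq', rfl⟩⟩ := dif_neg hq'
        have h2 : f q = ⟨R.ac ⟨sel q.out, hUP (hselU _ hq)⟩, R.mem_im.2 ⟨_, _, hselU _ hq, rfl⟩⟩ := dif_neg hq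
        rw [h1, h2] at hqq
        have h3 : R.ac ⟨sel q.out, hUP (hselU _ hq)⟩ = R.ac ⟨sel q'.out, hUP (hselU _ hq')⟩ :=
          congrArg Subtype.val hqq
        by_contra hne
        -- `v + v' ∉ E`
        have h4 : q.out + q'.out ∉ Ee V (R.im WF) := by
          intro h5
          apply hne
          have h6 : -q.out + q'.out ∈ Ee V (R.im WF) := by
            have e1 : -q.out = q.out := neg_eq_of_add_eq_zero_left (R.two _)
            rwa [e1]
          have h7 := QuotientAddGroup.eq.2 h6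
          rw [← QuotientAddGroup.out_eq' q, ← QuotientAddGroup.out_eq' q']
          exact h7
        have h5 := hselF _ hq
        have h6 := hselF _ hq'
        have e1 : c (R.el q'.out) (sel q'.out) = c (R.el q'.out) (sel q.out) := by
          rw [← el_dl R (hUP (hselU _ hq')), ← el_dl R (hUP (hselU _ hq)), h3]
        rw [e1] at h6
        have h7 : c (R.el (q.out + q'.out)) (sel q.out) ∈ F := by
          rw [← el_dl R (hUP (hselU _ hq)), map_add, R.add, el_dl, el_dl]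
          have h8 := F.mul_mem h5 (F.inv_mem h6)
          have h9 : c (R.el q'.out) (sel q.out) * c (R.el q'.out) (sel q.out) = 1 := by
            rw [← el_dl R (hUP (hselU _ hq)), ← R.add, R.two, R.el_zero]
          have e2 : c (R.el q.out) (sel q.out) * x⁻¹ * (c (R.el q'.out) (sel q.out) * x⁻¹)⁻¹ =
              c (R.el q.out) (sel q.out) * c (R.el q'.out) (sel q.out) := by
            rw [mul_inv_rev, inv_inv, inv_eq_of_mul_eq_one_right h9]
            group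
          rwa [e2] at h8
        have h8 := hU.inj _ (V1_le_VV h (R.mem _)) (fun h9 => h4
          ((Ee_im h R).ge ⟨R.mem _, h9⟩)) _ (hselU _ hq) h7
        apply htriv _ hq
        rw [R.ac_eq_one]
        exact (H.F_le_V.trans (H.comm.trans (centralizer_le (V1_le_VV h)))) h8
    have h1 := Nat.card_le_card_of_injective f hfinj
    exact h1
  · -- normalises
    rw [im_conj R p, NOne.Flat.WW_conj hpV]
    intro y hy
    obtain ⟨s, hs, hsU, rfl⟩ := R.mem_im.1 hy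
    exact ac_mem_normalizer R hs (H'.QD_norm_W hD (zpowers_le.2 huF') (hU.le_Q hsU))
  · -- centralises `V / E`
    intro y hy v
    obtain ⟨s, hs, hsU, rfl⟩ := R.mem_im.1 hy
    have h1 : c (R.el v) s ∈ NOne.Flat.EE VV (MulAut.conj (p : G) • F) :=
      NOne.Flat.Hyp.EE_le H' (zpowers_le.2 huF') (hU.comm_V _ (V1_le_VV h (R.mem v)) s hsU)
    rw [← NOne.Flat.EE_conj hpV, AB.mem_conj] at h1
    rw [mem_Ee_conj, Ee_im h R]
    have h2 : R.el ((R.ac p)⁻¹ • (R.ac ⟨s, hs⟩ • v + v)) = (p : G)⁻¹ * c (R.el v) s * p := by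
      rw [← map_inv, R.smul]
      change (p : G)⁻¹ * R.el (dl (R.ac ⟨s, hs⟩) v) * ((p : G)⁻¹)⁻¹ = _
      rw [el_dl, inv_inv]
    refine ⟨R.mem _, ?_⟩
    rw [h2]
    exact h1

/-- **(SOC-N)** -/
theorem socN_of : SocN V (mb M F R) := by
  have := R.finite
  rintro _ ⟨y, rfl⟩ _ ⟨z, rfl⟩ w hw0 hwA hwB
  obtain ⟨p, hp⟩ := R.acs (z⁻¹ * y)
  obtain ⟨X, hX1, hX2, hX3, hX4⟩ := socN_core h R p (w := z⁻¹ • w) (fun h1 => hw0 ((smul_eq_zero_iff_eq z⁻¹).1 h1))
    (mem_fx_conj.1 hwB) (by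
      rw [hp, mem_fx_conj, mul_inv_rev, inv_inv, mul_smul, smul_inv_smul]
      exact mem_fx_conj.1 hwA)
  rw [hp] at hX3 hX4
  refine ⟨MulAut.conj z • X, conj_le_conj z hX1, ?_, ?_, ?_⟩
  · rw [conj_card, Ee_conj, index_smul_as]
    exact hX2
  · intro s hs
    obtain ⟨b, hb, rfl⟩ := Alpha.mem_conj'.1 hs
    have h1 := hX3 hb
    have e : MulAut.conj (z⁻¹ * y) • R.im WF = MulAut.conj z⁻¹ • MulAut.conj y • R.im WF := by
      rw [map_mul, mul_smul]
    rw [e] at h1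
    rw [← Alpha.conj_eq_iff] at h1 ⊢
    have h2 := congrArg (fun K : Subgroup Y => MulAut.conj z • K) h1
    simp only [← mul_smul, ← map_mul] at h2
    rw [← mul_smul, ← map_mul]
    have e1 : z * (b * (z⁻¹ * y)) = z * b * z⁻¹ * y := by group
    have e2 : z * (z⁻¹ * y) = y := by group
    rwa [e1, e2] at h2
  · intro s hs v
    obtain ⟨b, hb, rfl⟩ := Alpha.mem_conj'.1 hs
    have h1 := hX4 b hb (z⁻¹ • v)
    rw [mem_Ee_conj] at h1 ⊢
    have e : (z⁻¹ * y)⁻¹ • (b • z⁻¹ • v + z⁻¹ • v) = y⁻¹ • ((z * b * z⁻¹) • v + v) := by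
      rw [mul_inv_rev, inv_inv, mul_smul, smul_add, smul_inv_smul, mul_smul, mul_smul]
    rwa [e] at h1

end

end Cfsg.Agent.Omega.NO1.TH
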