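import Cfsg.Agent.Omega.NO1.TH.FrOut
import Cfsg.Agent.Omega.NO1.B0.End

/-!
# N1, one component: the socket `SockBeta` (THEOREM B0)
-/

set_option autoImplicit false

namespace Cfsg.Agent.Omega.NO1.TH

universe u

/-- **FIN-BETA is impossible at the top.** -/
theorem sockBeta : SockBeta.{u} := by
  intro Y V _ _ _ _ _ U T M a w ha _ one h5 L A Q R hA hAL _ hLM hRT h0 hC hne
  exact false_of_beta w ha one h5 hA hAL hLM hRT h0 hC hne

end Cfsg.Agent.Omega.NO1.TH
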