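import Cfsg.Agent.Omega.NO1.TH.Chain
import Cfsg.Agent.Omega.NO1.TH.EndTwoK
import Cfsg.Agent.Omega.NO1.TH.KOneOf

/-!
# N1, the amalgam: natural type with `k = 1`, `a = 2` (`(STAR2)`)
-/

set_option autoImplicit false

namespace Cfsg.Agent.Omega.NO1.TH

open Subgroup Cfsg.Agent.Omega.NO1.AB Cfsg.Agent.Omega.FFBr
open scoped Pointwise

universe u

/-- **natural, `k = 1`, `a = 2`** -/
theorem star2_of_nat_one {Y V : Type u} [Group Y] [Finite Y] [AddCommGroup V] [Finite V] [DistribMulAction Y V]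
    {U : Set (Subgroup Y)} {T : Sylow 2 Y} {M : Subgroup Y} (w : World V U T M 2) {H R : Subgroup Y} {t : Y}
    (am : Amal U T M H R t) (we : WE V U H R) {P : Sylow 2 (XH V H R)} {M₁ : Subgroup (XH V H R)}
    (hA : Abs (XH V H R) (Wm V H R) P M₁)
    (hP : ∀ x : XH V H R, x ∈ P ↔ ∃ r : H, (r : Y) ∈ R ∧ pr V H R r = x) (hno : ANoOver (XH V H R) (Wm V H R))
    {F : Type} [Field F] [Finite F] (N : AbsNat F (P : Subgroup (XH V H R)) (Wm V H R) 1) : Star2 V U T M := by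
  have K := K.KNat.of_abs w.toAmb am hA hP hno N
  obtain ⟨P', D, W₁, k⟩ := KOne.of_KNat w.toAmb am we K
  exact ET.star2_of_kOne w am k we

end Cfsg.Agent.Omega.NO1.TH
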